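import Cfsg.Agent.Lib.H9.HN.TCHN.Chk
set_option Elab.async false
set_option autoImplicit false
set_option maxRecDepth 100000
set_option linter.all false
namespace H9.HN.TCHN
open H35.TC
theorem l_0 : cntB liveP 15 0 = 27598 := by
  have h : Nat.beq (cntB liveP 15 0) 27598 = true := by decide +kernel
  exact eqOfBeq h
theorem l_1 : cntB liveP 15 32768 = 29867 := by
  have h : Nat.beq (cntB liveP 15 32768) 29867 = true := by decide +kernel
  exact eqOfBeq h
theorem l_2 : cntB liveP 15 65536 = 30397 := by
  have h : Nat.beq (cntB liveP 15 65536) 30397 = true := by decide +kernel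
  exact eqOfBeq h
theorem l_3 : cntB liveP 15 98304 = 30605 := by
  have h : Nat.beq (cntB liveP 15 98304) 30605 = true := by decide +kernel
  exact eqOfBeq h
theorem l_4 : cntB liveP 15 131072 = 30283 := by
  have h : Nat.beq (cntB liveP 15 131072) 30283 = true := by decide +kernel
  exact eqOfBeq h
theorem l_5 : cntB liveP 15 163840 = 29304 := by
  have h : Nat.beq (cntB liveP 15 163840) 29304 = true := by decide +kernel
  exact eqOfBeq h
theorem l_6 : cntB liveP 15 196608 = 28912 := by
  have h : Nat.beq (cntB liveP 15 196608) 28912 = true := by decide +kernel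
  exact eqOfBeq h
end H9.HN.TCHN
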