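import Cfsg.Agent.Lib.H9.HN.TCHN.Chk
set_option Elab.async false
set_option autoImplicit false
set_option maxRecDepth 100000
set_option linter.all false
namespace H9.HN.TCHN
open H35.TC
theorem l_7 : cntB liveP 15 229376 = 29451 := by
  have h : Nat.beq (cntB liveP 15 229376) 29451 = true := by decide +kernel
  exact eqOfBeq h
theorem l_8 : cntB liveP 15 262144 = 29227 := by
  have h : Nat.beq (cntB liveP 15 262144) 29227 = true := by decide +kernel
  exact eqOfBeq h
theorem l_9 : cntB liveP 15 294912 = 29781 := by
  have h : Nat.beq (cntB liveP 15 294912) 29781 = true := by decide +kernel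
  exact eqOfBeq h
theorem l_10 : cntB liveP 15 327680 = 29534 := by
  have h : Nat.beq (cntB liveP 15 327680) 29534 = true := by decide +kernel
  exact eqOfBeq h
theorem l_11 : cntB liveP 15 360448 = 30139 := by
  have h : Nat.beq (cntB liveP 15 360448) 30139 = true := by decide +kernel
  exact eqOfBeq h
theorem l_12 : cntB liveP 15 393216 = 30271 := by
  have h : Nat.beq (cntB liveP 15 393216) 30271 = true := by decide +kernel
  exact eqOfBeq h
theorem l_13 : cntB liveP 15 425984 = 30129 := by
  have h : Nat.beq (cntB liveP 15 425984) 30129 = true := by decide +kernel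
  exact eqOfBeq h
end H9.HN.TCHN
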