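import Cfsg.Agent.Lib.H9.HN.TCHN.Chk
set_option Elab.async false
set_option autoImplicit false
set_option maxRecDepth 100000
set_option linter.all false
namespace H9.HN.TCHN
open H35.TC
theorem l_14 : cntB liveP 15 458752 = 29863 := by
  have h : Nat.beq (cntB liveP 15 458752) 29863 = true := by decide +kernel
  exact eqOfBeq h
theorem l_15 : cntB liveP 15 491520 = 29724 := by
  have h : Nat.beq (cntB liveP 15 491520) 29724 = true := by decide +kernel
  exact eqOfBeq h
theorem l_16 : cntB liveP 15 524288 = 29718 := by
  have h : Nat.beq (cntB liveP 15 524288) 29718 = true := by decide +kernel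
  exact eqOfBeq h
theorem l_17 : cntB liveP 15 557056 = 29733 := by
  have h : Nat.beq (cntB liveP 15 557056) 29733 = true := by decide +kernel
  exact eqOfBeq h
theorem l_18 : cntB liveP 15 589824 = 29784 := by
  have h : Nat.beq (cntB liveP 15 589824) 29784 = true := by decide +kernel
  exact eqOfBeq h
theorem l_19 : cntB liveP 15 622592 = 29749 := by
  have h : Nat.beq (cntB liveP 15 622592) 29749 = true := by decide +kernel
  exact eqOfBeq h
theorem l_20 : cntB liveP 15 655360 = 29721 := by
  have h : Nat.beq (cntB liveP 15 655360) 29721 = true := by decide +kernel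
  exact eqOfBeq h
end H9.HN.TCHN
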