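import Cfsg.Agent.Lib.H9.HN.TCHN.Chk
set_option Elab.async false
set_option autoImplicit false
set_option maxRecDepth 100000
set_option linter.all false
namespace H9.HN.TCHN
open H35.TC
theorem l_21 : cntB liveP 15 688128 = 30153 := by
  have h : Nat.beq (cntB liveP 15 688128) 30153 = true := by decide +kernel
  exact eqOfBeq h
theorem l_22 : cntB liveP 15 720896 = 30229 := by
  have h : Nat.beq (cntB liveP 15 720896) 30229 = true := by decide +kernel
  exact eqOfBeq h
theorem l_23 : cntB liveP 15 753664 = 30175 := by
  have h : Nat.beq (cntB liveP 15 753664) 30175 = true := by decide +kernel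
  exact eqOfBeq h
theorem l_24 : cntB liveP 15 786432 = 30298 := by
  have h : Nat.beq (cntB liveP 15 786432) 30298 = true := by decide +kernel
  exact eqOfBeq h
theorem l_25 : cntB liveP 15 819200 = 30574 := by
  have h : Nat.beq (cntB liveP 15 819200) 30574 = true := by decide +kernel
  exact eqOfBeq h
theorem l_26 : cntB liveP 15 851968 = 30672 := by
  have h : Nat.beq (cntB liveP 15 851968) 30672 = true := by decide +kernel
  exact eqOfBeq h
theorem l_27 : cntB liveP 15 884736 = 30557 := by
  have h : Nat.beq (cntB liveP 15 884736) 30557 = true := by decide +kernel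
  exact eqOfBeq h
end H9.HN.TCHN
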