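import Cfsg.Agent.Lib.H9.HN.TCHN.Chk
set_option Elab.async false
set_option autoImplicit false
set_option maxRecDepth 100000
set_option linter.all false
namespace H9.HN.TCHN
open H35.TC
theorem l_28 : cntB liveP 15 917504 = 30721 := by
  have h : Nat.beq (cntB liveP 15 917504) 30721 = true := by decide +kernel
  exact eqOfBeq h
theorem l_29 : cntB liveP 15 950272 = 31204 := by
  have h : Nat.beq (cntB liveP 15 950272) 31204 = true := by decide +kernel
  exact eqOfBeq h
theorem l_30 : cntB liveP 15 983040 = 31219 := by
  have h : Nat.beq (cntB liveP 15 983040) 31219 = true := by decide +kernel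
  exact eqOfBeq h
theorem l_31 : cntB liveP 15 1015808 = 31185 := by
  have h : Nat.beq (cntB liveP 15 1015808) 31185 = true := by decide +kernel
  exact eqOfBeq h
theorem l_32 : cntB liveP 15 1048576 = 31466 := by
  have h : Nat.beq (cntB liveP 15 1048576) 31466 = true := by decide +kernel
  exact eqOfBeq h
theorem l_33 : cntB liveP 15 1081344 = 31578 := by
  have h : Nat.beq (cntB liveP 15 1081344) 31578 = true := by decide +kernel
  exact eqOfBeq h
theorem l_34 : cntB liveP 15 1114112 = 31942 := by
  have h : Nat.beq (cntB liveP 15 1114112) 31942 = true := by decide +kernel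
  exact eqOfBeq h
end H9.HN.TCHN
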