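import Cfsg.Agent.Lib.H9.HN.TCHN.Chk
set_option Elab.async false
set_option autoImplicit false
set_option maxRecDepth 100000
set_option linter.all false
namespace H9.HN.TCHN
open H35.TC
theorem l_35 : cntB liveP 15 1146880 = 31943 := by
  have h : Nat.beq (cntB liveP 15 1146880) 31943 = true := by decide +kernel
  exact eqOfBeq h
theorem l_36 : cntB liveP 15 1179648 = 32263 := by
  have h : Nat.beq (cntB liveP 15 1179648) 32263 = true := by decide +kernel
  exact eqOfBeq h
theorem l_37 : cntB liveP 15 1212416 = 32197 := by
  have h : Nat.beq (cntB liveP 15 1212416) 32197 = true := by decide +kernel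
  exact eqOfBeq h
theorem l_38 : cntB liveP 15 1245184 = 32366 := by
  have h : Nat.beq (cntB liveP 15 1245184) 32366 = true := by decide +kernel
  exact eqOfBeq h
theorem l_39 : cntB liveP 15 1277952 = 32485 := by
  have h : Nat.beq (cntB liveP 15 1277952) 32485 = true := by decide +kernel
  exact eqOfBeq h
theorem l_40 : cntB liveP 15 1310720 = 32555 := by
  have h : Nat.beq (cntB liveP 15 1310720) 32555 = true := by decide +kernel
  exact eqOfBeq h
theorem l_41 : cntB liveP 15 1343488 = 32625 := by
  have h : Nat.beq (cntB liveP 15 1343488) 32625 = true := by decide +kernel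
  exact eqOfBeq h
end H9.HN.TCHN
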