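import Cfsg.Agent.Lib.H9.HN.TCHN.Chk
set_option Elab.async false
set_option autoImplicit false
set_option maxRecDepth 100000
set_option linter.all false
namespace H9.HN.TCHN
open H35.TC
theorem r_48 : allB chkP 10 49152 = true := by decide +kernel
theorem r_49 : allB chkP 10 50176 = true := by decide +kernel
theorem r_50 : allB chkP 10 51200 = true := by decide +kernel
theorem r_51 : allB chkP 10 52224 = true := by decide +kernel
theorem r_52 : allB chkP 10 53248 = true := by decide +kernel
theorem r_53 : allB chkP 10 54272 = true := by decide +kernel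
theorem r_54 : allB chkP 10 55296 = true := by decide +kernel
theorem r_55 : allB chkP 10 56320 = true := by decide +kernel
theorem r_56 : allB chkP 10 57344 = true := by decide +kernel
theorem r_57 : allB chkP 10 58368 = true := by decide +kernel
theorem r_58 : allB chkP 10 59392 = true := by decide +kernel
theorem r_59 : allB chkP 10 60416 = true := by decide +kernel
theorem r_60 : allB chkP 10 61440 = true := by decide +kernel
theorem r_61 : allB chkP 10 62464 = true := by decide +kernel
theorem r_62 : allB chkP 10 63488 = true := by decide +kernel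
theorem r_63 : allB chkP 10 64512 = true := by decide +kernel
theorem r_64 : allB chkP 10 65536 = true := by decide +kernel
theorem r_65 : allB chkP 10 66560 = true := by decide +kernel
theorem r_66 : allB chkP 10 67584 = true := by decide +kernel
theorem r_67 : allB chkP 10 68608 = true := by decide +kernel
theorem r_68 : allB chkP 10 69632 = true := by decide +kernel
theorem r_69 : allB chkP 10 70656 = true := by decide +kernel
theorem r_70 : allB chkP 10 71680 = true := by decide +kernel
theorem r_71 : allB chkP 10 72704 = true := by decide +kernel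
theorem r_72 : allB chkP 10 73728 = true := by decide +kernel
theorem r_73 : allB chkP 10 74752 = true := by decide +kernel
theorem r_74 : allB chkP 10 75776 = true := by decide +kernel
theorem r_75 : allB chkP 10 76800 = true := by decide +kernel
theorem r_76 : allB chkP 10 77824 = true := by decide +kernel
theorem r_77 : allB chkP 10 78848 = true := by decide +kernel
theorem r_78 : allB chkP 10 79872 = true := by decide +kernel
theorem r_79 : allB chkP 10 80896 = true := by decide +kernel
theorem r_80 : allB chkP 10 81920 = true := by decide +kernel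
theorem r_81 : allB chkP 10 82944 = true := by decide +kernel
theorem r_82 : allB chkP 10 83968 = true := by decide +kernel
theorem r_83 : allB chkP 10 84992 = true := by decide +kernel
theorem r_84 : allB chkP 10 86016 = true := by decide +kernel
theorem r_85 : allB chkP 10 87040 = true := by decide +kernel
theorem r_86 : allB chkP 10 88064 = true := by decide +kernel
theorem r_87 : allB chkP 10 89088 = true := by decide +kernel
theorem r_88 : allB chkP 10 90112 = true := by decide +kernel
theorem r_89 : allB chkP 10 91136 = true := by decide +kernel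
theorem r_90 : allB chkP 10 92160 = true := by decide +kernel
theorem r_91 : allB chkP 10 93184 = true := by decide +kernel
theorem r_92 : allB chkP 10 94208 = true := by decide +kernel
theorem r_93 : allB chkP 10 95232 = true := by decide +kernel
theorem r_94 : allB chkP 10 96256 = true := by decide +kernel
theorem r_95 : allB chkP 10 97280 = true := by decide +kernel
theorem blk_1 : ∀ u, 49152 ≤ u → u < 98304 → chkP u = true := by
  intro u h0 hu
  rcases Nat.lt_or_ge u 50176 with h | h
  · exact allB_spec _ _ _ r_48 u (by omega) (by omega)
  clear h0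
  rename' h => h0
  rcases Nat.lt_or_ge u 51200 with h | h
  · exact allB_spec _ _ _ r_49 u (by omega) (by omega)
  clear h0
  rename' h => h0
  rcases Nat.lt_or_ge u 52224 with h | h
  · exact allB_spec _ _ _ r_50 u (by omega) (by omega)
  clear h0
  rename' h => h0
  rcases Nat.lt_or_ge u 53248 with h | h
  · exact allB_spec _ _ _ r_51 u (by omega) (by omega)
  clear h0
  rename' h => h0
  rcases Nat.lt_or_ge u 54272 with h | h
  · exact allB_spec _ _ _ r_52 u (by omega) (by omega)
  clear h0
  rename' h => h0
  rcases Nat.lt_or_ge u 55296 with h | h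
  · exact allB_spec _ _ _ r_53 u (by omega) (by omega)
  clear h0
  rename' h => h0
  rcases Nat.lt_or_ge u 56320 with h | h
  · exact allB_spec _ _ _ r_54 u (by omega) (by omega)
  clear h0
  rename' h => h0
  rcases Nat.lt_or_ge u 57344 with h | h
  · exact allB_spec _ _ _ r_55 u (by omega) (by omega)
  clear h0
  rename' h => h0
  rcases Nat.lt_or_ge u 58368 with h | h
  · exact allB_spec _ _ _ r_56 u (by omega) (by omega)
  clear h0
  rename' h => h0
  rcases Nat.lt_or_ge u 59392 with h | h
  · exact allB_spec _ _ _ r_57 u (by omega) (by omega)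
  clear h0
  rename' h => h0
  rcases Nat.lt_or_ge u 60416 with h | h
  · exact allB_spec _ _ _ r_58 u (by omega) (by omega)
  clear h0
  rename' h => h0
  rcases Nat.lt_or_ge u 61440 with h | h
  · exact allB_spec _ _ _ r_59 u (by omega) (by omega)
  clear h0
  rename' h => h0
  rcases Nat.lt_or_ge u 62464 with h | h
  · exact allB_spec _ _ _ r_60 u (by omega) (by omega)
  clear h0
  rename' h => h0
  rcases Nat.lt_or_ge u 63488 with h | h
  · exact allB_spec _ _ _ r_61 u (by omega) (by omega)
  clear h0
  rename' h => h0
  rcases Nat.lt_or_ge u 64512 with h | h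
  · exact allB_spec _ _ _ r_62 u (by omega) (by omega)
  clear h0
  rename' h => h0
  rcases Nat.lt_or_ge u 65536 with h | h
  · exact allB_spec _ _ _ r_63 u (by omega) (by omega)
  clear h0
  rename' h => h0
  rcases Nat.lt_or_ge u 66560 with h | h
  · exact allB_spec _ _ _ r_64 u (by omega) (by omega)
  clear h0
  rename' h => h0
  rcases Nat.lt_or_ge u 67584 with h | h
  · exact allB_spec _ _ _ r_65 u (by omega) (by omega)
  clear h0
  rename' h => h0
  rcases Nat.lt_or_ge u 68608 with h | h
  · exact allB_spec _ _ _ r_66 u (by omega) (by omega)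
  clear h0
  rename' h => h0
  rcases Nat.lt_or_ge u 69632 with h | h
  · exact allB_spec _ _ _ r_67 u (by omega) (by omega)
  clear h0
  rename' h => h0
  rcases Nat.lt_or_ge u 70656 with h | h
  · exact allB_spec _ _ _ r_68 u (by omega) (by omega)
  clear h0
  rename' h => h0
  rcases Nat.lt_or_ge u 71680 with h | h
  · exact allB_spec _ _ _ r_69 u (by omega) (by omega)
  clear h0
  rename' h => h0
  rcases Nat.lt_or_ge u 72704 with h | h
  · exact allB_spec _ _ _ r_70 u (by omega) (by omega)
  clear h0
  rename' h => h0
  rcases Nat.lt_or_ge u 73728 with h | h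
  · exact allB_spec _ _ _ r_71 u (by omega) (by omega)
  clear h0
  rename' h => h0
  rcases Nat.lt_or_ge u 74752 with h | h
  · exact allB_spec _ _ _ r_72 u (by omega) (by omega)
  clear h0
  rename' h => h0
  rcases Nat.lt_or_ge u 75776 with h | h
  · exact allB_spec _ _ _ r_73 u (by omega) (by omega)
  clear h0
  rename' h => h0
  rcases Nat.lt_or_ge u 76800 with h | h
  · exact allB_spec _ _ _ r_74 u (by omega) (by omega)
  clear h0
  rename' h => h0
  rcases Nat.lt_or_ge u 77824 with h | h
  · exact allB_spec _ _ _ r_75 u (by omega) (by omega)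
  clear h0
  rename' h => h0
  rcases Nat.lt_or_ge u 78848 with h | h
  · exact allB_spec _ _ _ r_76 u (by omega) (by omega)
  clear h0
  rename' h => h0
  rcases Nat.lt_or_ge u 79872 with h | h
  · exact allB_spec _ _ _ r_77 u (by omega) (by omega)
  clear h0
  rename' h => h0
  rcases Nat.lt_or_ge u 80896 with h | h
  · exact allB_spec _ _ _ r_78 u (by omega) (by omega)
  clear h0
  rename' h => h0
  rcases Nat.lt_or_ge u 81920 with h | h
  · exact allB_spec _ _ _ r_79 u (by omega) (by omega)
  clear h0
  rename' h => h0
  rcases Nat.lt_or_ge u 82944 with h | h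
  · exact allB_spec _ _ _ r_80 u (by omega) (by omega)
  clear h0
  rename' h => h0
  rcases Nat.lt_or_ge u 83968 with h | h
  · exact allB_spec _ _ _ r_81 u (by omega) (by omega)
  clear h0
  rename' h => h0
  rcases Nat.lt_or_ge u 84992 with h | h
  · exact allB_spec _ _ _ r_82 u (by omega) (by omega)
  clear h0
  rename' h => h0
  rcases Nat.lt_or_ge u 86016 with h | h
  · exact allB_spec _ _ _ r_83 u (by omega) (by omega)
  clear h0
  rename' h => h0
  rcases Nat.lt_or_ge u 87040 with h | h
  · exact allB_spec _ _ _ r_84 u (by omega) (by omega)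
  clear h0
  rename' h => h0
  rcases Nat.lt_or_ge u 88064 with h | h
  · exact allB_spec _ _ _ r_85 u (by omega) (by omega)
  clear h0
  rename' h => h0
  rcases Nat.lt_or_ge u 89088 with h | h
  · exact allB_spec _ _ _ r_86 u (by omega) (by omega)
  clear h0
  rename' h => h0
  rcases Nat.lt_or_ge u 90112 with h | h
  · exact allB_spec _ _ _ r_87 u (by omega) (by omega)
  clear h0
  rename' h => h0
  rcases Nat.lt_or_ge u 91136 with h | h
  · exact allB_spec _ _ _ r_88 u (by omega) (by omega)
  clear h0
  rename' h => h0
  rcases Nat.lt_or_ge u 92160 with h | h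
  · exact allB_spec _ _ _ r_89 u (by omega) (by omega)
  clear h0
  rename' h => h0
  rcases Nat.lt_or_ge u 93184 with h | h
  · exact allB_spec _ _ _ r_90 u (by omega) (by omega)
  clear h0
  rename' h => h0
  rcases Nat.lt_or_ge u 94208 with h | h
  · exact allB_spec _ _ _ r_91 u (by omega) (by omega)
  clear h0
  rename' h => h0
  rcases Nat.lt_or_ge u 95232 with h | h
  · exact allB_spec _ _ _ r_92 u (by omega) (by omega)
  clear h0
  rename' h => h0
  rcases Nat.lt_or_ge u 96256 with h | h
  · exact allB_spec _ _ _ r_93 u (by omega) (by omega)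
  clear h0
  rename' h => h0
  rcases Nat.lt_or_ge u 97280 with h | h
  · exact allB_spec _ _ _ r_94 u (by omega) (by omega)
  clear h0
  rename' h => h0
  rcases Nat.lt_or_ge u 98304 with h | h
  · exact allB_spec _ _ _ r_95 u (by omega) (by omega)
  clear h0
  rename' h => h0
  omega
end H9.HN.TCHN
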