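import Cfsg.Agent.Lib.H9.HN.TCHN.Chk
set_option Elab.async false
set_option autoImplicit false
set_option maxRecDepth 100000
set_option linter.all false
namespace H9.HN.TCHN
open H35.TC
theorem r_480 : allB chkP 10 491520 = true := by decide +kernel
theorem r_481 : allB chkP 10 492544 = true := by decide +kernel
theorem r_482 : allB chkP 10 493568 = true := by decide +kernel
theorem r_483 : allB chkP 10 494592 = true := by decide +kernel
theorem r_484 : allB chkP 10 495616 = true := by decide +kernel
theorem r_485 : allB chkP 10 496640 = true := by decide +kernel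
theorem r_486 : allB chkP 10 497664 = true := by decide +kernel
theorem r_487 : allB chkP 10 498688 = true := by decide +kernel
theorem r_488 : allB chkP 10 499712 = true := by decide +kernel
theorem r_489 : allB chkP 10 500736 = true := by decide +kernel
theorem r_490 : allB chkP 10 501760 = true := by decide +kernel
theorem r_491 : allB chkP 10 502784 = true := by decide +kernel
theorem r_492 : allB chkP 10 503808 = true := by decide +kernel
theorem r_493 : allB chkP 10 504832 = true := by decide +kernel
theorem r_494 : allB chkP 10 505856 = true := by decide +kernel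
theorem r_495 : allB chkP 10 506880 = true := by decide +kernel
theorem r_496 : allB chkP 10 507904 = true := by decide +kernel
theorem r_497 : allB chkP 10 508928 = true := by decide +kernel
theorem r_498 : allB chkP 10 509952 = true := by decide +kernel
theorem r_499 : allB chkP 10 510976 = true := by decide +kernel
theorem r_500 : allB chkP 10 512000 = true := by decide +kernel
theorem r_501 : allB chkP 10 513024 = true := by decide +kernel
theorem r_502 : allB chkP 10 514048 = true := by decide +kernel
theorem r_503 : allB chkP 10 515072 = true := by decide +kernel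
theorem r_504 : allB chkP 10 516096 = true := by decide +kernel
theorem r_505 : allB chkP 10 517120 = true := by decide +kernel
theorem r_506 : allB chkP 10 518144 = true := by decide +kernel
theorem r_507 : allB chkP 10 519168 = true := by decide +kernel
theorem r_508 : allB chkP 10 520192 = true := by decide +kernel
theorem r_509 : allB chkP 10 521216 = true := by decide +kernel
theorem r_510 : allB chkP 10 522240 = true := by decide +kernel
theorem r_511 : allB chkP 10 523264 = true := by decide +kernel
theorem r_512 : allB chkP 10 524288 = true := by decide +kernel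
theorem r_513 : allB chkP 10 525312 = true := by decide +kernel
theorem r_514 : allB chkP 10 526336 = true := by decide +kernel
theorem r_515 : allB chkP 10 527360 = true := by decide +kernel
theorem r_516 : allB chkP 10 528384 = true := by decide +kernel
theorem r_517 : allB chkP 10 529408 = true := by decide +kernel
theorem r_518 : allB chkP 10 530432 = true := by decide +kernel
theorem r_519 : allB chkP 10 531456 = true := by decide +kernel
theorem r_520 : allB chkP 10 532480 = true := by decide +kernel
theorem r_521 : allB chkP 10 533504 = true := by decide +kernel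
theorem r_522 : allB chkP 10 534528 = true := by decide +kernel
theorem r_523 : allB chkP 10 535552 = true := by decide +kernel
theorem r_524 : allB chkP 10 536576 = true := by decide +kernel
theorem r_525 : allB chkP 10 537600 = true := by decide +kernel
theorem r_526 : allB chkP 10 538624 = true := by decide +kernel
theorem r_527 : allB chkP 10 539648 = true := by decide +kernel
theorem blk_10 : ∀ u, 491520 ≤ u → u < 540672 → chkP u = true := by
  intro u h0 hu
  rcases Nat.lt_or_ge u 492544 with h | h
  · exact allB_spec _ _ _ r_480 u (by omega) (by omega)
  clear h0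
  rename' h => h0
  rcases Nat.lt_or_ge u 493568 with h | h
  · exact allB_spec _ _ _ r_481 u (by omega) (by omega)
  clear h0
  rename' h => h0
  rcases Nat.lt_or_ge u 494592 with h | h
  · exact allB_spec _ _ _ r_482 u (by omega) (by omega)
  clear h0
  rename' h => h0
  rcases Nat.lt_or_ge u 495616 with h | h
  · exact allB_spec _ _ _ r_483 u (by omega) (by omega)
  clear h0
  rename' h => h0
  rcases Nat.lt_or_ge u 496640 with h | h
  · exact allB_spec _ _ _ r_484 u (by omega) (by omega)
  clear h0
  rename' h => h0
  rcases Nat.lt_or_ge u 497664 with h | h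
  · exact allB_spec _ _ _ r_485 u (by omega) (by omega)
  clear h0
  rename' h => h0
  rcases Nat.lt_or_ge u 498688 with h | h
  · exact allB_spec _ _ _ r_486 u (by omega) (by omega)
  clear h0
  rename' h => h0
  rcases Nat.lt_or_ge u 499712 with h | h
  · exact allB_spec _ _ _ r_487 u (by omega) (by omega)
  clear h0
  rename' h => h0
  rcases Nat.lt_or_ge u 500736 with h | h
  · exact allB_spec _ _ _ r_488 u (by omega) (by omega)
  clear h0
  rename' h => h0
  rcases Nat.lt_or_ge u 501760 with h | h
  · exact allB_spec _ _ _ r_489 u (by omega) (by omega)
  clear h0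
  rename' h => h0
  rcases Nat.lt_or_ge u 502784 with h | h
  · exact allB_spec _ _ _ r_490 u (by omega) (by omega)
  clear h0
  rename' h => h0
  rcases Nat.lt_or_ge u 503808 with h | h
  · exact allB_spec _ _ _ r_491 u (by omega) (by omega)
  clear h0
  rename' h => h0
  rcases Nat.lt_or_ge u 504832 with h | h
  · exact allB_spec _ _ _ r_492 u (by omega) (by omega)
  clear h0
  rename' h => h0
  rcases Nat.lt_or_ge u 505856 with h | h
  · exact allB_spec _ _ _ r_493 u (by omega) (by omega)
  clear h0
  rename' h => h0
  rcases Nat.lt_or_ge u 506880 with h | h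
  · exact allB_spec _ _ _ r_494 u (by omega) (by omega)
  clear h0
  rename' h => h0
  rcases Nat.lt_or_ge u 507904 with h | h
  · exact allB_spec _ _ _ r_495 u (by omega) (by omega)
  clear h0
  rename' h => h0
  rcases Nat.lt_or_ge u 508928 with h | h
  · exact allB_spec _ _ _ r_496 u (by omega) (by omega)
  clear h0
  rename' h => h0
  rcases Nat.lt_or_ge u 509952 with h | h
  · exact allB_spec _ _ _ r_497 u (by omega) (by omega)
  clear h0
  rename' h => h0
  rcases Nat.lt_or_ge u 510976 with h | h
  · exact allB_spec _ _ _ r_498 u (by omega) (by omega)
  clear h0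
  rename' h => h0
  rcases Nat.lt_or_ge u 512000 with h | h
  · exact allB_spec _ _ _ r_499 u (by omega) (by omega)
  clear h0
  rename' h => h0
  rcases Nat.lt_or_ge u 513024 with h | h
  · exact allB_spec _ _ _ r_500 u (by omega) (by omega)
  clear h0
  rename' h => h0
  rcases Nat.lt_or_ge u 514048 with h | h
  · exact allB_spec _ _ _ r_501 u (by omega) (by omega)
  clear h0
  rename' h => h0
  rcases Nat.lt_or_ge u 515072 with h | h
  · exact allB_spec _ _ _ r_502 u (by omega) (by omega)
  clear h0
  rename' h => h0
  rcases Nat.lt_or_ge u 516096 with h | h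
  · exact allB_spec _ _ _ r_503 u (by omega) (by omega)
  clear h0
  rename' h => h0
  rcases Nat.lt_or_ge u 517120 with h | h
  · exact allB_spec _ _ _ r_504 u (by omega) (by omega)
  clear h0
  rename' h => h0
  rcases Nat.lt_or_ge u 518144 with h | h
  · exact allB_spec _ _ _ r_505 u (by omega) (by omega)
  clear h0
  rename' h => h0
  rcases Nat.lt_or_ge u 519168 with h | h
  · exact allB_spec _ _ _ r_506 u (by omega) (by omega)
  clear h0
  rename' h => h0
  rcases Nat.lt_or_ge u 520192 with h | h
  · exact allB_spec _ _ _ r_507 u (by omega) (by omega)
  clear h0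
  rename' h => h0
  rcases Nat.lt_or_ge u 521216 with h | h
  · exact allB_spec _ _ _ r_508 u (by omega) (by omega)
  clear h0
  rename' h => h0
  rcases Nat.lt_or_ge u 522240 with h | h
  · exact allB_spec _ _ _ r_509 u (by omega) (by omega)
  clear h0
  rename' h => h0
  rcases Nat.lt_or_ge u 523264 with h | h
  · exact allB_spec _ _ _ r_510 u (by omega) (by omega)
  clear h0
  rename' h => h0
  rcases Nat.lt_or_ge u 524288 with h | h
  · exact allB_spec _ _ _ r_511 u (by omega) (by omega)
  clear h0
  rename' h => h0
  rcases Nat.lt_or_ge u 525312 with h | h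
  · exact allB_spec _ _ _ r_512 u (by omega) (by omega)
  clear h0
  rename' h => h0
  rcases Nat.lt_or_ge u 526336 with h | h
  · exact allB_spec _ _ _ r_513 u (by omega) (by omega)
  clear h0
  rename' h => h0
  rcases Nat.lt_or_ge u 527360 with h | h
  · exact allB_spec _ _ _ r_514 u (by omega) (by omega)
  clear h0
  rename' h => h0
  rcases Nat.lt_or_ge u 528384 with h | h
  · exact allB_spec _ _ _ r_515 u (by omega) (by omega)
  clear h0
  rename' h => h0
  rcases Nat.lt_or_ge u 529408 with h | h
  · exact allB_spec _ _ _ r_516 u (by omega) (by omega)
  clear h0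
  rename' h => h0
  rcases Nat.lt_or_ge u 530432 with h | h
  · exact allB_spec _ _ _ r_517 u (by omega) (by omega)
  clear h0
  rename' h => h0
  rcases Nat.lt_or_ge u 531456 with h | h
  · exact allB_spec _ _ _ r_518 u (by omega) (by omega)
  clear h0
  rename' h => h0
  rcases Nat.lt_or_ge u 532480 with h | h
  · exact allB_spec _ _ _ r_519 u (by omega) (by omega)
  clear h0
  rename' h => h0
  rcases Nat.lt_or_ge u 533504 with h | h
  · exact allB_spec _ _ _ r_520 u (by omega) (by omega)
  clear h0
  rename' h => h0
  rcases Nat.lt_or_ge u 534528 with h | h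
  · exact allB_spec _ _ _ r_521 u (by omega) (by omega)
  clear h0
  rename' h => h0
  rcases Nat.lt_or_ge u 535552 with h | h
  · exact allB_spec _ _ _ r_522 u (by omega) (by omega)
  clear h0
  rename' h => h0
  rcases Nat.lt_or_ge u 536576 with h | h
  · exact allB_spec _ _ _ r_523 u (by omega) (by omega)
  clear h0
  rename' h => h0
  rcases Nat.lt_or_ge u 537600 with h | h
  · exact allB_spec _ _ _ r_524 u (by omega) (by omega)
  clear h0
  rename' h => h0
  rcases Nat.lt_or_ge u 538624 with h | h
  · exact allB_spec _ _ _ r_525 u (by omega) (by omega)
  clear h0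
  rename' h => h0
  rcases Nat.lt_or_ge u 539648 with h | h
  · exact allB_spec _ _ _ r_526 u (by omega) (by omega)
  clear h0
  rename' h => h0
  rcases Nat.lt_or_ge u 540672 with h | h
  · exact allB_spec _ _ _ r_527 u (by omega) (by omega)
  clear h0
  rename' h => h0
  omega
end H9.HN.TCHN
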