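import Cfsg.Agent.Lib.H9.HN.TCHN.Chk
set_option Elab.async false
set_option autoImplicit false
set_option maxRecDepth 100000
set_option linter.all false
namespace H9.HN.TCHN
open H35.TC
theorem r_528 : allB chkP 10 540672 = true := by decide +kernel
theorem r_529 : allB chkP 10 541696 = true := by decide +kernel
theorem r_530 : allB chkP 10 542720 = true := by decide +kernel
theorem r_531 : allB chkP 10 543744 = true := by decide +kernel
theorem r_532 : allB chkP 10 544768 = true := by decide +kernel
theorem r_533 : allB chkP 10 545792 = true := by decide +kernel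
theorem r_534 : allB chkP 10 546816 = true := by decide +kernel
theorem r_535 : allB chkP 10 547840 = true := by decide +kernel
theorem r_536 : allB chkP 10 548864 = true := by decide +kernel
theorem r_537 : allB chkP 10 549888 = true := by decide +kernel
theorem r_538 : allB chkP 10 550912 = true := by decide +kernel
theorem r_539 : allB chkP 10 551936 = true := by decide +kernel
theorem r_540 : allB chkP 10 552960 = true := by decide +kernel
theorem r_541 : allB chkP 10 553984 = true := by decide +kernel
theorem r_542 : allB chkP 10 555008 = true := by decide +kernel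
theorem r_543 : allB chkP 10 556032 = true := by decide +kernel
theorem r_544 : allB chkP 10 557056 = true := by decide +kernel
theorem r_545 : allB chkP 10 558080 = true := by decide +kernel
theorem r_546 : allB chkP 10 559104 = true := by decide +kernel
theorem r_547 : allB chkP 10 560128 = true := by decide +kernel
theorem r_548 : allB chkP 10 561152 = true := by decide +kernel
theorem r_549 : allB chkP 10 562176 = true := by decide +kernel
theorem r_550 : allB chkP 10 563200 = true := by decide +kernel
theorem r_551 : allB chkP 10 564224 = true := by decide +kernel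
theorem r_552 : allB chkP 10 565248 = true := by decide +kernel
theorem r_553 : allB chkP 10 566272 = true := by decide +kernel
theorem r_554 : allB chkP 10 567296 = true := by decide +kernel
theorem r_555 : allB chkP 10 568320 = true := by decide +kernel
theorem r_556 : allB chkP 10 569344 = true := by decide +kernel
theorem r_557 : allB chkP 10 570368 = true := by decide +kernel
theorem r_558 : allB chkP 10 571392 = true := by decide +kernel
theorem r_559 : allB chkP 10 572416 = true := by decide +kernel
theorem r_560 : allB chkP 10 573440 = true := by decide +kernel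
theorem r_561 : allB chkP 10 574464 = true := by decide +kernel
theorem r_562 : allB chkP 10 575488 = true := by decide +kernel
theorem r_563 : allB chkP 10 576512 = true := by decide +kernel
theorem r_564 : allB chkP 10 577536 = true := by decide +kernel
theorem r_565 : allB chkP 10 578560 = true := by decide +kernel
theorem r_566 : allB chkP 10 579584 = true := by decide +kernel
theorem r_567 : allB chkP 10 580608 = true := by decide +kernel
theorem r_568 : allB chkP 10 581632 = true := by decide +kernel
theorem r_569 : allB chkP 10 582656 = true := by decide +kernel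
theorem r_570 : allB chkP 10 583680 = true := by decide +kernel
theorem r_571 : allB chkP 10 584704 = true := by decide +kernel
theorem r_572 : allB chkP 10 585728 = true := by decide +kernel
theorem r_573 : allB chkP 10 586752 = true := by decide +kernel
theorem r_574 : allB chkP 10 587776 = true := by decide +kernel
theorem r_575 : allB chkP 10 588800 = true := by decide +kernel
theorem blk_11 : ∀ u, 540672 ≤ u → u < 589824 → chkP u = true := by
  intro u h0 hu
  rcases Nat.lt_or_ge u 541696 with h | h
  · exact allB_spec _ _ _ r_528 u (by omega) (by omega)
  clear h0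
  rename' h => h0
  rcases Nat.lt_or_ge u 542720 with h | h
  · exact allB_spec _ _ _ r_529 u (by omega) (by omega)
  clear h0
  rename' h => h0
  rcases Nat.lt_or_ge u 543744 with h | h
  · exact allB_spec _ _ _ r_530 u (by omega) (by omega)
  clear h0
  rename' h => h0
  rcases Nat.lt_or_ge u 544768 with h | h
  · exact allB_spec _ _ _ r_531 u (by omega) (by omega)
  clear h0
  rename' h => h0
  rcases Nat.lt_or_ge u 545792 with h | h
  · exact allB_spec _ _ _ r_532 u (by omega) (by omega)
  clear h0
  rename' h => h0
  rcases Nat.lt_or_ge u 546816 with h | h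
  · exact allB_spec _ _ _ r_533 u (by omega) (by omega)
  clear h0
  rename' h => h0
  rcases Nat.lt_or_ge u 547840 with h | h
  · exact allB_spec _ _ _ r_534 u (by omega) (by omega)
  clear h0
  rename' h => h0
  rcases Nat.lt_or_ge u 548864 with h | h
  · exact allB_spec _ _ _ r_535 u (by omega) (by omega)
  clear h0
  rename' h => h0
  rcases Nat.lt_or_ge u 549888 with h | h
  · exact allB_spec _ _ _ r_536 u (by omega) (by omega)
  clear h0
  rename' h => h0
  rcases Nat.lt_or_ge u 550912 with h | h
  · exact allB_spec _ _ _ r_537 u (by omega) (by omega)
  clear h0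
  rename' h => h0
  rcases Nat.lt_or_ge u 551936 with h | h
  · exact allB_spec _ _ _ r_538 u (by omega) (by omega)
  clear h0
  rename' h => h0
  rcases Nat.lt_or_ge u 552960 with h | h
  · exact allB_spec _ _ _ r_539 u (by omega) (by omega)
  clear h0
  rename' h => h0
  rcases Nat.lt_or_ge u 553984 with h | h
  · exact allB_spec _ _ _ r_540 u (by omega) (by omega)
  clear h0
  rename' h => h0
  rcases Nat.lt_or_ge u 555008 with h | h
  · exact allB_spec _ _ _ r_541 u (by omega) (by omega)
  clear h0
  rename' h => h0
  rcases Nat.lt_or_ge u 556032 with h | h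
  · exact allB_spec _ _ _ r_542 u (by omega) (by omega)
  clear h0
  rename' h => h0
  rcases Nat.lt_or_ge u 557056 with h | h
  · exact allB_spec _ _ _ r_543 u (by omega) (by omega)
  clear h0
  rename' h => h0
  rcases Nat.lt_or_ge u 558080 with h | h
  · exact allB_spec _ _ _ r_544 u (by omega) (by omega)
  clear h0
  rename' h => h0
  rcases Nat.lt_or_ge u 559104 with h | h
  · exact allB_spec _ _ _ r_545 u (by omega) (by omega)
  clear h0
  rename' h => h0
  rcases Nat.lt_or_ge u 560128 with h | h
  · exact allB_spec _ _ _ r_546 u (by omega) (by omega)
  clear h0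
  rename' h => h0
  rcases Nat.lt_or_ge u 561152 with h | h
  · exact allB_spec _ _ _ r_547 u (by omega) (by omega)
  clear h0
  rename' h => h0
  rcases Nat.lt_or_ge u 562176 with h | h
  · exact allB_spec _ _ _ r_548 u (by omega) (by omega)
  clear h0
  rename' h => h0
  rcases Nat.lt_or_ge u 563200 with h | h
  · exact allB_spec _ _ _ r_549 u (by omega) (by omega)
  clear h0
  rename' h => h0
  rcases Nat.lt_or_ge u 564224 with h | h
  · exact allB_spec _ _ _ r_550 u (by omega) (by omega)
  clear h0
  rename' h => h0
  rcases Nat.lt_or_ge u 565248 with h | h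
  · exact allB_spec _ _ _ r_551 u (by omega) (by omega)
  clear h0
  rename' h => h0
  rcases Nat.lt_or_ge u 566272 with h | h
  · exact allB_spec _ _ _ r_552 u (by omega) (by omega)
  clear h0
  rename' h => h0
  rcases Nat.lt_or_ge u 567296 with h | h
  · exact allB_spec _ _ _ r_553 u (by omega) (by omega)
  clear h0
  rename' h => h0
  rcases Nat.lt_or_ge u 568320 with h | h
  · exact allB_spec _ _ _ r_554 u (by omega) (by omega)
  clear h0
  rename' h => h0
  rcases Nat.lt_or_ge u 569344 with h | h
  · exact allB_spec _ _ _ r_555 u (by omega) (by omega)
  clear h0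
  rename' h => h0
  rcases Nat.lt_or_ge u 570368 with h | h
  · exact allB_spec _ _ _ r_556 u (by omega) (by omega)
  clear h0
  rename' h => h0
  rcases Nat.lt_or_ge u 571392 with h | h
  · exact allB_spec _ _ _ r_557 u (by omega) (by omega)
  clear h0
  rename' h => h0
  rcases Nat.lt_or_ge u 572416 with h | h
  · exact allB_spec _ _ _ r_558 u (by omega) (by omega)
  clear h0
  rename' h => h0
  rcases Nat.lt_or_ge u 573440 with h | h
  · exact allB_spec _ _ _ r_559 u (by omega) (by omega)
  clear h0
  rename' h => h0
  rcases Nat.lt_or_ge u 574464 with h | h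
  · exact allB_spec _ _ _ r_560 u (by omega) (by omega)
  clear h0
  rename' h => h0
  rcases Nat.lt_or_ge u 575488 with h | h
  · exact allB_spec _ _ _ r_561 u (by omega) (by omega)
  clear h0
  rename' h => h0
  rcases Nat.lt_or_ge u 576512 with h | h
  · exact allB_spec _ _ _ r_562 u (by omega) (by omega)
  clear h0
  rename' h => h0
  rcases Nat.lt_or_ge u 577536 with h | h
  · exact allB_spec _ _ _ r_563 u (by omega) (by omega)
  clear h0
  rename' h => h0
  rcases Nat.lt_or_ge u 578560 with h | h
  · exact allB_spec _ _ _ r_564 u (by omega) (by omega)
  clear h0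
  rename' h => h0
  rcases Nat.lt_or_ge u 579584 with h | h
  · exact allB_spec _ _ _ r_565 u (by omega) (by omega)
  clear h0
  rename' h => h0
  rcases Nat.lt_or_ge u 580608 with h | h
  · exact allB_spec _ _ _ r_566 u (by omega) (by omega)
  clear h0
  rename' h => h0
  rcases Nat.lt_or_ge u 581632 with h | h
  · exact allB_spec _ _ _ r_567 u (by omega) (by omega)
  clear h0
  rename' h => h0
  rcases Nat.lt_or_ge u 582656 with h | h
  · exact allB_spec _ _ _ r_568 u (by omega) (by omega)
  clear h0
  rename' h => h0
  rcases Nat.lt_or_ge u 583680 with h | h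
  · exact allB_spec _ _ _ r_569 u (by omega) (by omega)
  clear h0
  rename' h => h0
  rcases Nat.lt_or_ge u 584704 with h | h
  · exact allB_spec _ _ _ r_570 u (by omega) (by omega)
  clear h0
  rename' h => h0
  rcases Nat.lt_or_ge u 585728 with h | h
  · exact allB_spec _ _ _ r_571 u (by omega) (by omega)
  clear h0
  rename' h => h0
  rcases Nat.lt_or_ge u 586752 with h | h
  · exact allB_spec _ _ _ r_572 u (by omega) (by omega)
  clear h0
  rename' h => h0
  rcases Nat.lt_or_ge u 587776 with h | h
  · exact allB_spec _ _ _ r_573 u (by omega) (by omega)
  clear h0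
  rename' h => h0
  rcases Nat.lt_or_ge u 588800 with h | h
  · exact allB_spec _ _ _ r_574 u (by omega) (by omega)
  clear h0
  rename' h => h0
  rcases Nat.lt_or_ge u 589824 with h | h
  · exact allB_spec _ _ _ r_575 u (by omega) (by omega)
  clear h0
  rename' h => h0
  omega
end H9.HN.TCHN
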