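import Cfsg.Agent.Lib.H9.HN.TCHN.Chk
set_option Elab.async false
set_option autoImplicit false
set_option maxRecDepth 100000
set_option linter.all false
namespace H9.HN.TCHN
open H35.TC
theorem r_624 : allB chkP 10 638976 = true := by decide +kernel
theorem r_625 : allB chkP 10 640000 = true := by decide +kernel
theorem r_626 : allB chkP 10 641024 = true := by decide +kernel
theorem r_627 : allB chkP 10 642048 = true := by decide +kernel
theorem r_628 : allB chkP 10 643072 = true := by decide +kernel
theorem r_629 : allB chkP 10 644096 = true := by decide +kernel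
theorem r_630 : allB chkP 10 645120 = true := by decide +kernel
theorem r_631 : allB chkP 10 646144 = true := by decide +kernel
theorem r_632 : allB chkP 10 647168 = true := by decide +kernel
theorem r_633 : allB chkP 10 648192 = true := by decide +kernel
theorem r_634 : allB chkP 10 649216 = true := by decide +kernel
theorem r_635 : allB chkP 10 650240 = true := by decide +kernel
theorem r_636 : allB chkP 10 651264 = true := by decide +kernel
theorem r_637 : allB chkP 10 652288 = true := by decide +kernel
theorem r_638 : allB chkP 10 653312 = true := by decide +kernel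
theorem r_639 : allB chkP 10 654336 = true := by decide +kernel
theorem r_640 : allB chkP 10 655360 = true := by decide +kernel
theorem r_641 : allB chkP 10 656384 = true := by decide +kernel
theorem r_642 : allB chkP 10 657408 = true := by decide +kernel
theorem r_643 : allB chkP 10 658432 = true := by decide +kernel
theorem r_644 : allB chkP 10 659456 = true := by decide +kernel
theorem r_645 : allB chkP 10 660480 = true := by decide +kernel
theorem r_646 : allB chkP 10 661504 = true := by decide +kernel
theorem r_647 : allB chkP 10 662528 = true := by decide +kernel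
theorem r_648 : allB chkP 10 663552 = true := by decide +kernel
theorem r_649 : allB chkP 10 664576 = true := by decide +kernel
theorem r_650 : allB chkP 10 665600 = true := by decide +kernel
theorem r_651 : allB chkP 10 666624 = true := by decide +kernel
theorem r_652 : allB chkP 10 667648 = true := by decide +kernel
theorem r_653 : allB chkP 10 668672 = true := by decide +kernel
theorem r_654 : allB chkP 10 669696 = true := by decide +kernel
theorem r_655 : allB chkP 10 670720 = true := by decide +kernel
theorem r_656 : allB chkP 10 671744 = true := by decide +kernel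
theorem r_657 : allB chkP 10 672768 = true := by decide +kernel
theorem r_658 : allB chkP 10 673792 = true := by decide +kernel
theorem r_659 : allB chkP 10 674816 = true := by decide +kernel
theorem r_660 : allB chkP 10 675840 = true := by decide +kernel
theorem r_661 : allB chkP 10 676864 = true := by decide +kernel
theorem r_662 : allB chkP 10 677888 = true := by decide +kernel
theorem r_663 : allB chkP 10 678912 = true := by decide +kernel
theorem r_664 : allB chkP 10 679936 = true := by decide +kernel
theorem r_665 : allB chkP 10 680960 = true := by decide +kernel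
theorem r_666 : allB chkP 10 681984 = true := by decide +kernel
theorem r_667 : allB chkP 10 683008 = true := by decide +kernel
theorem r_668 : allB chkP 10 684032 = true := by decide +kernel
theorem r_669 : allB chkP 10 685056 = true := by decide +kernel
theorem r_670 : allB chkP 10 686080 = true := by decide +kernel
theorem r_671 : allB chkP 10 687104 = true := by decide +kernel
theorem blk_13 : ∀ u, 638976 ≤ u → u < 688128 → chkP u = true := by
  intro u h0 hu
  rcases Nat.lt_or_ge u 640000 with h | h
  · exact allB_spec _ _ _ r_624 u (by omega) (by omega)
  clear h0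
  rename' h => h0
  rcases Nat.lt_or_ge u 641024 with h | h
  · exact allB_spec _ _ _ r_625 u (by omega) (by omega)
  clear h0
  rename' h => h0
  rcases Nat.lt_or_ge u 642048 with h | h
  · exact allB_spec _ _ _ r_626 u (by omega) (by omega)
  clear h0
  rename' h => h0
  rcases Nat.lt_or_ge u 643072 with h | h
  · exact allB_spec _ _ _ r_627 u (by omega) (by omega)
  clear h0
  rename' h => h0
  rcases Nat.lt_or_ge u 644096 with h | h
  · exact allB_spec _ _ _ r_628 u (by omega) (by omega)
  clear h0
  rename' h => h0
  rcases Nat.lt_or_ge u 645120 with h | h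
  · exact allB_spec _ _ _ r_629 u (by omega) (by omega)
  clear h0
  rename' h => h0
  rcases Nat.lt_or_ge u 646144 with h | h
  · exact allB_spec _ _ _ r_630 u (by omega) (by omega)
  clear h0
  rename' h => h0
  rcases Nat.lt_or_ge u 647168 with h | h
  · exact allB_spec _ _ _ r_631 u (by omega) (by omega)
  clear h0
  rename' h => h0
  rcases Nat.lt_or_ge u 648192 with h | h
  · exact allB_spec _ _ _ r_632 u (by omega) (by omega)
  clear h0
  rename' h => h0
  rcases Nat.lt_or_ge u 649216 with h | h
  · exact allB_spec _ _ _ r_633 u (by omega) (by omega)
  clear h0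
  rename' h => h0
  rcases Nat.lt_or_ge u 650240 with h | h
  · exact allB_spec _ _ _ r_634 u (by omega) (by omega)
  clear h0
  rename' h => h0
  rcases Nat.lt_or_ge u 651264 with h | h
  · exact allB_spec _ _ _ r_635 u (by omega) (by omega)
  clear h0
  rename' h => h0
  rcases Nat.lt_or_ge u 652288 with h | h
  · exact allB_spec _ _ _ r_636 u (by omega) (by omega)
  clear h0
  rename' h => h0
  rcases Nat.lt_or_ge u 653312 with h | h
  · exact allB_spec _ _ _ r_637 u (by omega) (by omega)
  clear h0
  rename' h => h0
  rcases Nat.lt_or_ge u 654336 with h | h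
  · exact allB_spec _ _ _ r_638 u (by omega) (by omega)
  clear h0
  rename' h => h0
  rcases Nat.lt_or_ge u 655360 with h | h
  · exact allB_spec _ _ _ r_639 u (by omega) (by omega)
  clear h0
  rename' h => h0
  rcases Nat.lt_or_ge u 656384 with h | h
  · exact allB_spec _ _ _ r_640 u (by omega) (by omega)
  clear h0
  rename' h => h0
  rcases Nat.lt_or_ge u 657408 with h | h
  · exact allB_spec _ _ _ r_641 u (by omega) (by omega)
  clear h0
  rename' h => h0
  rcases Nat.lt_or_ge u 658432 with h | h
  · exact allB_spec _ _ _ r_642 u (by omega) (by omega)
  clear h0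
  rename' h => h0
  rcases Nat.lt_or_ge u 659456 with h | h
  · exact allB_spec _ _ _ r_643 u (by omega) (by omega)
  clear h0
  rename' h => h0
  rcases Nat.lt_or_ge u 660480 with h | h
  · exact allB_spec _ _ _ r_644 u (by omega) (by omega)
  clear h0
  rename' h => h0
  rcases Nat.lt_or_ge u 661504 with h | h
  · exact allB_spec _ _ _ r_645 u (by omega) (by omega)
  clear h0
  rename' h => h0
  rcases Nat.lt_or_ge u 662528 with h | h
  · exact allB_spec _ _ _ r_646 u (by omega) (by omega)
  clear h0
  rename' h => h0
  rcases Nat.lt_or_ge u 663552 with h | h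
  · exact allB_spec _ _ _ r_647 u (by omega) (by omega)
  clear h0
  rename' h => h0
  rcases Nat.lt_or_ge u 664576 with h | h
  · exact allB_spec _ _ _ r_648 u (by omega) (by omega)
  clear h0
  rename' h => h0
  rcases Nat.lt_or_ge u 665600 with h | h
  · exact allB_spec _ _ _ r_649 u (by omega) (by omega)
  clear h0
  rename' h => h0
  rcases Nat.lt_or_ge u 666624 with h | h
  · exact allB_spec _ _ _ r_650 u (by omega) (by omega)
  clear h0
  rename' h => h0
  rcases Nat.lt_or_ge u 667648 with h | h
  · exact allB_spec _ _ _ r_651 u (by omega) (by omega)
  clear h0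
  rename' h => h0
  rcases Nat.lt_or_ge u 668672 with h | h
  · exact allB_spec _ _ _ r_652 u (by omega) (by omega)
  clear h0
  rename' h => h0
  rcases Nat.lt_or_ge u 669696 with h | h
  · exact allB_spec _ _ _ r_653 u (by omega) (by omega)
  clear h0
  rename' h => h0
  rcases Nat.lt_or_ge u 670720 with h | h
  · exact allB_spec _ _ _ r_654 u (by omega) (by omega)
  clear h0
  rename' h => h0
  rcases Nat.lt_or_ge u 671744 with h | h
  · exact allB_spec _ _ _ r_655 u (by omega) (by omega)
  clear h0
  rename' h => h0
  rcases Nat.lt_or_ge u 672768 with h | h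
  · exact allB_spec _ _ _ r_656 u (by omega) (by omega)
  clear h0
  rename' h => h0
  rcases Nat.lt_or_ge u 673792 with h | h
  · exact allB_spec _ _ _ r_657 u (by omega) (by omega)
  clear h0
  rename' h => h0
  rcases Nat.lt_or_ge u 674816 with h | h
  · exact allB_spec _ _ _ r_658 u (by omega) (by omega)
  clear h0
  rename' h => h0
  rcases Nat.lt_or_ge u 675840 with h | h
  · exact allB_spec _ _ _ r_659 u (by omega) (by omega)
  clear h0
  rename' h => h0
  rcases Nat.lt_or_ge u 676864 with h | h
  · exact allB_spec _ _ _ r_660 u (by omega) (by omega)
  clear h0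
  rename' h => h0
  rcases Nat.lt_or_ge u 677888 with h | h
  · exact allB_spec _ _ _ r_661 u (by omega) (by omega)
  clear h0
  rename' h => h0
  rcases Nat.lt_or_ge u 678912 with h | h
  · exact allB_spec _ _ _ r_662 u (by omega) (by omega)
  clear h0
  rename' h => h0
  rcases Nat.lt_or_ge u 679936 with h | h
  · exact allB_spec _ _ _ r_663 u (by omega) (by omega)
  clear h0
  rename' h => h0
  rcases Nat.lt_or_ge u 680960 with h | h
  · exact allB_spec _ _ _ r_664 u (by omega) (by omega)
  clear h0
  rename' h => h0
  rcases Nat.lt_or_ge u 681984 with h | h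
  · exact allB_spec _ _ _ r_665 u (by omega) (by omega)
  clear h0
  rename' h => h0
  rcases Nat.lt_or_ge u 683008 with h | h
  · exact allB_spec _ _ _ r_666 u (by omega) (by omega)
  clear h0
  rename' h => h0
  rcases Nat.lt_or_ge u 684032 with h | h
  · exact allB_spec _ _ _ r_667 u (by omega) (by omega)
  clear h0
  rename' h => h0
  rcases Nat.lt_or_ge u 685056 with h | h
  · exact allB_spec _ _ _ r_668 u (by omega) (by omega)
  clear h0
  rename' h => h0
  rcases Nat.lt_or_ge u 686080 with h | h
  · exact allB_spec _ _ _ r_669 u (by omega) (by omega)
  clear h0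
  rename' h => h0
  rcases Nat.lt_or_ge u 687104 with h | h
  · exact allB_spec _ _ _ r_670 u (by omega) (by omega)
  clear h0
  rename' h => h0
  rcases Nat.lt_or_ge u 688128 with h | h
  · exact allB_spec _ _ _ r_671 u (by omega) (by omega)
  clear h0
  rename' h => h0
  omega
end H9.HN.TCHN
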