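import Cfsg.Agent.Lib.H9.HN.TCHN.Chk
set_option Elab.async false
set_option autoImplicit false
set_option maxRecDepth 100000
set_option linter.all false
namespace H9.HN.TCHN
open H35.TC
theorem r_672 : allB chkP 10 688128 = true := by decide +kernel
theorem r_673 : allB chkP 10 689152 = true := by decide +kernel
theorem r_674 : allB chkP 10 690176 = true := by decide +kernel
theorem r_675 : allB chkP 10 691200 = true := by decide +kernel
theorem r_676 : allB chkP 10 692224 = true := by decide +kernel
theorem r_677 : allB chkP 10 693248 = true := by decide +kernel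
theorem r_678 : allB chkP 10 694272 = true := by decide +kernel
theorem r_679 : allB chkP 10 695296 = true := by decide +kernel
theorem r_680 : allB chkP 10 696320 = true := by decide +kernel
theorem r_681 : allB chkP 10 697344 = true := by decide +kernel
theorem r_682 : allB chkP 10 698368 = true := by decide +kernel
theorem r_683 : allB chkP 10 699392 = true := by decide +kernel
theorem r_684 : allB chkP 10 700416 = true := by decide +kernel
theorem r_685 : allB chkP 10 701440 = true := by decide +kernel
theorem r_686 : allB chkP 10 702464 = true := by decide +kernel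
theorem r_687 : allB chkP 10 703488 = true := by decide +kernel
theorem r_688 : allB chkP 10 704512 = true := by decide +kernel
theorem r_689 : allB chkP 10 705536 = true := by decide +kernel
theorem r_690 : allB chkP 10 706560 = true := by decide +kernel
theorem r_691 : allB chkP 10 707584 = true := by decide +kernel
theorem r_692 : allB chkP 10 708608 = true := by decide +kernel
theorem r_693 : allB chkP 10 709632 = true := by decide +kernel
theorem r_694 : allB chkP 10 710656 = true := by decide +kernel
theorem r_695 : allB chkP 10 711680 = true := by decide +kernel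
theorem r_696 : allB chkP 10 712704 = true := by decide +kernel
theorem r_697 : allB chkP 10 713728 = true := by decide +kernel
theorem r_698 : allB chkP 10 714752 = true := by decide +kernel
theorem r_699 : allB chkP 10 715776 = true := by decide +kernel
theorem r_700 : allB chkP 10 716800 = true := by decide +kernel
theorem r_701 : allB chkP 10 717824 = true := by decide +kernel
theorem r_702 : allB chkP 10 718848 = true := by decide +kernel
theorem r_703 : allB chkP 10 719872 = true := by decide +kernel
theorem r_704 : allB chkP 10 720896 = true := by decide +kernel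
theorem r_705 : allB chkP 10 721920 = true := by decide +kernel
theorem r_706 : allB chkP 10 722944 = true := by decide +kernel
theorem r_707 : allB chkP 10 723968 = true := by decide +kernel
theorem r_708 : allB chkP 10 724992 = true := by decide +kernel
theorem r_709 : allB chkP 10 726016 = true := by decide +kernel
theorem r_710 : allB chkP 10 727040 = true := by decide +kernel
theorem r_711 : allB chkP 10 728064 = true := by decide +kernel
theorem r_712 : allB chkP 10 729088 = true := by decide +kernel
theorem r_713 : allB chkP 10 730112 = true := by decide +kernel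
theorem r_714 : allB chkP 10 731136 = true := by decide +kernel
theorem r_715 : allB chkP 10 732160 = true := by decide +kernel
theorem r_716 : allB chkP 10 733184 = true := by decide +kernel
theorem r_717 : allB chkP 10 734208 = true := by decide +kernel
theorem r_718 : allB chkP 10 735232 = true := by decide +kernel
theorem r_719 : allB chkP 10 736256 = true := by decide +kernel
theorem blk_14 : ∀ u, 688128 ≤ u → u < 737280 → chkP u = true := by
  intro u h0 hu
  rcases Nat.lt_or_ge u 689152 with h | h
  · exact allB_spec _ _ _ r_672 u (by omega) (by omega)
  clear h0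
  rename' h => h0
  rcases Nat.lt_or_ge u 690176 with h | h
  · exact allB_spec _ _ _ r_673 u (by omega) (by omega)
  clear h0
  rename' h => h0
  rcases Nat.lt_or_ge u 691200 with h | h
  · exact allB_spec _ _ _ r_674 u (by omega) (by omega)
  clear h0
  rename' h => h0
  rcases Nat.lt_or_ge u 692224 with h | h
  · exact allB_spec _ _ _ r_675 u (by omega) (by omega)
  clear h0
  rename' h => h0
  rcases Nat.lt_or_ge u 693248 with h | h
  · exact allB_spec _ _ _ r_676 u (by omega) (by omega)
  clear h0
  rename' h => h0
  rcases Nat.lt_or_ge u 694272 with h | h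
  · exact allB_spec _ _ _ r_677 u (by omega) (by omega)
  clear h0
  rename' h => h0
  rcases Nat.lt_or_ge u 695296 with h | h
  · exact allB_spec _ _ _ r_678 u (by omega) (by omega)
  clear h0
  rename' h => h0
  rcases Nat.lt_or_ge u 696320 with h | h
  · exact allB_spec _ _ _ r_679 u (by omega) (by omega)
  clear h0
  rename' h => h0
  rcases Nat.lt_or_ge u 697344 with h | h
  · exact allB_spec _ _ _ r_680 u (by omega) (by omega)
  clear h0
  rename' h => h0
  rcases Nat.lt_or_ge u 698368 with h | h
  · exact allB_spec _ _ _ r_681 u (by omega) (by omega)
  clear h0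
  rename' h => h0
  rcases Nat.lt_or_ge u 699392 with h | h
  · exact allB_spec _ _ _ r_682 u (by omega) (by omega)
  clear h0
  rename' h => h0
  rcases Nat.lt_or_ge u 700416 with h | h
  · exact allB_spec _ _ _ r_683 u (by omega) (by omega)
  clear h0
  rename' h => h0
  rcases Nat.lt_or_ge u 701440 with h | h
  · exact allB_spec _ _ _ r_684 u (by omega) (by omega)
  clear h0
  rename' h => h0
  rcases Nat.lt_or_ge u 702464 with h | h
  · exact allB_spec _ _ _ r_685 u (by omega) (by omega)
  clear h0
  rename' h => h0
  rcases Nat.lt_or_ge u 703488 with h | h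
  · exact allB_spec _ _ _ r_686 u (by omega) (by omega)
  clear h0
  rename' h => h0
  rcases Nat.lt_or_ge u 704512 with h | h
  · exact allB_spec _ _ _ r_687 u (by omega) (by omega)
  clear h0
  rename' h => h0
  rcases Nat.lt_or_ge u 705536 with h | h
  · exact allB_spec _ _ _ r_688 u (by omega) (by omega)
  clear h0
  rename' h => h0
  rcases Nat.lt_or_ge u 706560 with h | h
  · exact allB_spec _ _ _ r_689 u (by omega) (by omega)
  clear h0
  rename' h => h0
  rcases Nat.lt_or_ge u 707584 with h | h
  · exact allB_spec _ _ _ r_690 u (by omega) (by omega)
  clear h0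
  rename' h => h0
  rcases Nat.lt_or_ge u 708608 with h | h
  · exact allB_spec _ _ _ r_691 u (by omega) (by omega)
  clear h0
  rename' h => h0
  rcases Nat.lt_or_ge u 709632 with h | h
  · exact allB_spec _ _ _ r_692 u (by omega) (by omega)
  clear h0
  rename' h => h0
  rcases Nat.lt_or_ge u 710656 with h | h
  · exact allB_spec _ _ _ r_693 u (by omega) (by omega)
  clear h0
  rename' h => h0
  rcases Nat.lt_or_ge u 711680 with h | h
  · exact allB_spec _ _ _ r_694 u (by omega) (by omega)
  clear h0
  rename' h => h0
  rcases Nat.lt_or_ge u 712704 with h | h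
  · exact allB_spec _ _ _ r_695 u (by omega) (by omega)
  clear h0
  rename' h => h0
  rcases Nat.lt_or_ge u 713728 with h | h
  · exact allB_spec _ _ _ r_696 u (by omega) (by omega)
  clear h0
  rename' h => h0
  rcases Nat.lt_or_ge u 714752 with h | h
  · exact allB_spec _ _ _ r_697 u (by omega) (by omega)
  clear h0
  rename' h => h0
  rcases Nat.lt_or_ge u 715776 with h | h
  · exact allB_spec _ _ _ r_698 u (by omega) (by omega)
  clear h0
  rename' h => h0
  rcases Nat.lt_or_ge u 716800 with h | h
  · exact allB_spec _ _ _ r_699 u (by omega) (by omega)
  clear h0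
  rename' h => h0
  rcases Nat.lt_or_ge u 717824 with h | h
  · exact allB_spec _ _ _ r_700 u (by omega) (by omega)
  clear h0
  rename' h => h0
  rcases Nat.lt_or_ge u 718848 with h | h
  · exact allB_spec _ _ _ r_701 u (by omega) (by omega)
  clear h0
  rename' h => h0
  rcases Nat.lt_or_ge u 719872 with h | h
  · exact allB_spec _ _ _ r_702 u (by omega) (by omega)
  clear h0
  rename' h => h0
  rcases Nat.lt_or_ge u 720896 with h | h
  · exact allB_spec _ _ _ r_703 u (by omega) (by omega)
  clear h0
  rename' h => h0
  rcases Nat.lt_or_ge u 721920 with h | h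
  · exact allB_spec _ _ _ r_704 u (by omega) (by omega)
  clear h0
  rename' h => h0
  rcases Nat.lt_or_ge u 722944 with h | h
  · exact allB_spec _ _ _ r_705 u (by omega) (by omega)
  clear h0
  rename' h => h0
  rcases Nat.lt_or_ge u 723968 with h | h
  · exact allB_spec _ _ _ r_706 u (by omega) (by omega)
  clear h0
  rename' h => h0
  rcases Nat.lt_or_ge u 724992 with h | h
  · exact allB_spec _ _ _ r_707 u (by omega) (by omega)
  clear h0
  rename' h => h0
  rcases Nat.lt_or_ge u 726016 with h | h
  · exact allB_spec _ _ _ r_708 u (by omega) (by omega)
  clear h0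
  rename' h => h0
  rcases Nat.lt_or_ge u 727040 with h | h
  · exact allB_spec _ _ _ r_709 u (by omega) (by omega)
  clear h0
  rename' h => h0
  rcases Nat.lt_or_ge u 728064 with h | h
  · exact allB_spec _ _ _ r_710 u (by omega) (by omega)
  clear h0
  rename' h => h0
  rcases Nat.lt_or_ge u 729088 with h | h
  · exact allB_spec _ _ _ r_711 u (by omega) (by omega)
  clear h0
  rename' h => h0
  rcases Nat.lt_or_ge u 730112 with h | h
  · exact allB_spec _ _ _ r_712 u (by omega) (by omega)
  clear h0
  rename' h => h0
  rcases Nat.lt_or_ge u 731136 with h | h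
  · exact allB_spec _ _ _ r_713 u (by omega) (by omega)
  clear h0
  rename' h => h0
  rcases Nat.lt_or_ge u 732160 with h | h
  · exact allB_spec _ _ _ r_714 u (by omega) (by omega)
  clear h0
  rename' h => h0
  rcases Nat.lt_or_ge u 733184 with h | h
  · exact allB_spec _ _ _ r_715 u (by omega) (by omega)
  clear h0
  rename' h => h0
  rcases Nat.lt_or_ge u 734208 with h | h
  · exact allB_spec _ _ _ r_716 u (by omega) (by omega)
  clear h0
  rename' h => h0
  rcases Nat.lt_or_ge u 735232 with h | h
  · exact allB_spec _ _ _ r_717 u (by omega) (by omega)
  clear h0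
  rename' h => h0
  rcases Nat.lt_or_ge u 736256 with h | h
  · exact allB_spec _ _ _ r_718 u (by omega) (by omega)
  clear h0
  rename' h => h0
  rcases Nat.lt_or_ge u 737280 with h | h
  · exact allB_spec _ _ _ r_719 u (by omega) (by omega)
  clear h0
  rename' h => h0
  omega
end H9.HN.TCHN
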