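import Cfsg.Agent.Lib.H9.HN.TCHN.Chk
set_option Elab.async false
set_option autoImplicit false
set_option maxRecDepth 100000
set_option linter.all false
namespace H9.HN.TCHN
open H35.TC
theorem r_720 : allB chkP 10 737280 = true := by decide +kernel
theorem r_721 : allB chkP 10 738304 = true := by decide +kernel
theorem r_722 : allB chkP 10 739328 = true := by decide +kernel
theorem r_723 : allB chkP 10 740352 = true := by decide +kernel
theorem r_724 : allB chkP 10 741376 = true := by decide +kernel
theorem r_725 : allB chkP 10 742400 = true := by decide +kernel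
theorem r_726 : allB chkP 10 743424 = true := by decide +kernel
theorem r_727 : allB chkP 10 744448 = true := by decide +kernel
theorem r_728 : allB chkP 10 745472 = true := by decide +kernel
theorem r_729 : allB chkP 10 746496 = true := by decide +kernel
theorem r_730 : allB chkP 10 747520 = true := by decide +kernel
theorem r_731 : allB chkP 10 748544 = true := by decide +kernel
theorem r_732 : allB chkP 10 749568 = true := by decide +kernel
theorem r_733 : allB chkP 10 750592 = true := by decide +kernel
theorem r_734 : allB chkP 10 751616 = true := by decide +kernel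
theorem r_735 : allB chkP 10 752640 = true := by decide +kernel
theorem r_736 : allB chkP 10 753664 = true := by decide +kernel
theorem r_737 : allB chkP 10 754688 = true := by decide +kernel
theorem r_738 : allB chkP 10 755712 = true := by decide +kernel
theorem r_739 : allB chkP 10 756736 = true := by decide +kernel
theorem r_740 : allB chkP 10 757760 = true := by decide +kernel
theorem r_741 : allB chkP 10 758784 = true := by decide +kernel
theorem r_742 : allB chkP 10 759808 = true := by decide +kernel
theorem r_743 : allB chkP 10 760832 = true := by decide +kernel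
theorem r_744 : allB chkP 10 761856 = true := by decide +kernel
theorem r_745 : allB chkP 10 762880 = true := by decide +kernel
theorem r_746 : allB chkP 10 763904 = true := by decide +kernel
theorem r_747 : allB chkP 10 764928 = true := by decide +kernel
theorem r_748 : allB chkP 10 765952 = true := by decide +kernel
theorem r_749 : allB chkP 10 766976 = true := by decide +kernel
theorem r_750 : allB chkP 10 768000 = true := by decide +kernel
theorem r_751 : allB chkP 10 769024 = true := by decide +kernel
theorem r_752 : allB chkP 10 770048 = true := by decide +kernel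
theorem r_753 : allB chkP 10 771072 = true := by decide +kernel
theorem r_754 : allB chkP 10 772096 = true := by decide +kernel
theorem r_755 : allB chkP 10 773120 = true := by decide +kernel
theorem r_756 : allB chkP 10 774144 = true := by decide +kernel
theorem r_757 : allB chkP 10 775168 = true := by decide +kernel
theorem r_758 : allB chkP 10 776192 = true := by decide +kernel
theorem r_759 : allB chkP 10 777216 = true := by decide +kernel
theorem r_760 : allB chkP 10 778240 = true := by decide +kernel
theorem r_761 : allB chkP 10 779264 = true := by decide +kernel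
theorem r_762 : allB chkP 10 780288 = true := by decide +kernel
theorem r_763 : allB chkP 10 781312 = true := by decide +kernel
theorem r_764 : allB chkP 10 782336 = true := by decide +kernel
theorem r_765 : allB chkP 10 783360 = true := by decide +kernel
theorem r_766 : allB chkP 10 784384 = true := by decide +kernel
theorem r_767 : allB chkP 10 785408 = true := by decide +kernel
theorem blk_15 : ∀ u, 737280 ≤ u → u < 786432 → chkP u = true := by
  intro u h0 hu
  rcases Nat.lt_or_ge u 738304 with h | h
  · exact allB_spec _ _ _ r_720 u (by omega) (by omega)
  clear h0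
  rename' h => h0
  rcases Nat.lt_or_ge u 739328 with h | h
  · exact allB_spec _ _ _ r_721 u (by omega) (by omega)
  clear h0
  rename' h => h0
  rcases Nat.lt_or_ge u 740352 with h | h
  · exact allB_spec _ _ _ r_722 u (by omega) (by omega)
  clear h0
  rename' h => h0
  rcases Nat.lt_or_ge u 741376 with h | h
  · exact allB_spec _ _ _ r_723 u (by omega) (by omega)
  clear h0
  rename' h => h0
  rcases Nat.lt_or_ge u 742400 with h | h
  · exact allB_spec _ _ _ r_724 u (by omega) (by omega)
  clear h0
  rename' h => h0
  rcases Nat.lt_or_ge u 743424 with h | h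
  · exact allB_spec _ _ _ r_725 u (by omega) (by omega)
  clear h0
  rename' h => h0
  rcases Nat.lt_or_ge u 744448 with h | h
  · exact allB_spec _ _ _ r_726 u (by omega) (by omega)
  clear h0
  rename' h => h0
  rcases Nat.lt_or_ge u 745472 with h | h
  · exact allB_spec _ _ _ r_727 u (by omega) (by omega)
  clear h0
  rename' h => h0
  rcases Nat.lt_or_ge u 746496 with h | h
  · exact allB_spec _ _ _ r_728 u (by omega) (by omega)
  clear h0
  rename' h => h0
  rcases Nat.lt_or_ge u 747520 with h | h
  · exact allB_spec _ _ _ r_729 u (by omega) (by omega)
  clear h0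
  rename' h => h0
  rcases Nat.lt_or_ge u 748544 with h | h
  · exact allB_spec _ _ _ r_730 u (by omega) (by omega)
  clear h0
  rename' h => h0
  rcases Nat.lt_or_ge u 749568 with h | h
  · exact allB_spec _ _ _ r_731 u (by omega) (by omega)
  clear h0
  rename' h => h0
  rcases Nat.lt_or_ge u 750592 with h | h
  · exact allB_spec _ _ _ r_732 u (by omega) (by omega)
  clear h0
  rename' h => h0
  rcases Nat.lt_or_ge u 751616 with h | h
  · exact allB_spec _ _ _ r_733 u (by omega) (by omega)
  clear h0
  rename' h => h0
  rcases Nat.lt_or_ge u 752640 with h | h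
  · exact allB_spec _ _ _ r_734 u (by omega) (by omega)
  clear h0
  rename' h => h0
  rcases Nat.lt_or_ge u 753664 with h | h
  · exact allB_spec _ _ _ r_735 u (by omega) (by omega)
  clear h0
  rename' h => h0
  rcases Nat.lt_or_ge u 754688 with h | h
  · exact allB_spec _ _ _ r_736 u (by omega) (by omega)
  clear h0
  rename' h => h0
  rcases Nat.lt_or_ge u 755712 with h | h
  · exact allB_spec _ _ _ r_737 u (by omega) (by omega)
  clear h0
  rename' h => h0
  rcases Nat.lt_or_ge u 756736 with h | h
  · exact allB_spec _ _ _ r_738 u (by omega) (by omega)
  clear h0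
  rename' h => h0
  rcases Nat.lt_or_ge u 757760 with h | h
  · exact allB_spec _ _ _ r_739 u (by omega) (by omega)
  clear h0
  rename' h => h0
  rcases Nat.lt_or_ge u 758784 with h | h
  · exact allB_spec _ _ _ r_740 u (by omega) (by omega)
  clear h0
  rename' h => h0
  rcases Nat.lt_or_ge u 759808 with h | h
  · exact allB_spec _ _ _ r_741 u (by omega) (by omega)
  clear h0
  rename' h => h0
  rcases Nat.lt_or_ge u 760832 with h | h
  · exact allB_spec _ _ _ r_742 u (by omega) (by omega)
  clear h0
  rename' h => h0
  rcases Nat.lt_or_ge u 761856 with h | h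
  · exact allB_spec _ _ _ r_743 u (by omega) (by omega)
  clear h0
  rename' h => h0
  rcases Nat.lt_or_ge u 762880 with h | h
  · exact allB_spec _ _ _ r_744 u (by omega) (by omega)
  clear h0
  rename' h => h0
  rcases Nat.lt_or_ge u 763904 with h | h
  · exact allB_spec _ _ _ r_745 u (by omega) (by omega)
  clear h0
  rename' h => h0
  rcases Nat.lt_or_ge u 764928 with h | h
  · exact allB_spec _ _ _ r_746 u (by omega) (by omega)
  clear h0
  rename' h => h0
  rcases Nat.lt_or_ge u 765952 with h | h
  · exact allB_spec _ _ _ r_747 u (by omega) (by omega)
  clear h0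
  rename' h => h0
  rcases Nat.lt_or_ge u 766976 with h | h
  · exact allB_spec _ _ _ r_748 u (by omega) (by omega)
  clear h0
  rename' h => h0
  rcases Nat.lt_or_ge u 768000 with h | h
  · exact allB_spec _ _ _ r_749 u (by omega) (by omega)
  clear h0
  rename' h => h0
  rcases Nat.lt_or_ge u 769024 with h | h
  · exact allB_spec _ _ _ r_750 u (by omega) (by omega)
  clear h0
  rename' h => h0
  rcases Nat.lt_or_ge u 770048 with h | h
  · exact allB_spec _ _ _ r_751 u (by omega) (by omega)
  clear h0
  rename' h => h0
  rcases Nat.lt_or_ge u 771072 with h | h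
  · exact allB_spec _ _ _ r_752 u (by omega) (by omega)
  clear h0
  rename' h => h0
  rcases Nat.lt_or_ge u 772096 with h | h
  · exact allB_spec _ _ _ r_753 u (by omega) (by omega)
  clear h0
  rename' h => h0
  rcases Nat.lt_or_ge u 773120 with h | h
  · exact allB_spec _ _ _ r_754 u (by omega) (by omega)
  clear h0
  rename' h => h0
  rcases Nat.lt_or_ge u 774144 with h | h
  · exact allB_spec _ _ _ r_755 u (by omega) (by omega)
  clear h0
  rename' h => h0
  rcases Nat.lt_or_ge u 775168 with h | h
  · exact allB_spec _ _ _ r_756 u (by omega) (by omega)
  clear h0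
  rename' h => h0
  rcases Nat.lt_or_ge u 776192 with h | h
  · exact allB_spec _ _ _ r_757 u (by omega) (by omega)
  clear h0
  rename' h => h0
  rcases Nat.lt_or_ge u 777216 with h | h
  · exact allB_spec _ _ _ r_758 u (by omega) (by omega)
  clear h0
  rename' h => h0
  rcases Nat.lt_or_ge u 778240 with h | h
  · exact allB_spec _ _ _ r_759 u (by omega) (by omega)
  clear h0
  rename' h => h0
  rcases Nat.lt_or_ge u 779264 with h | h
  · exact allB_spec _ _ _ r_760 u (by omega) (by omega)
  clear h0
  rename' h => h0
  rcases Nat.lt_or_ge u 780288 with h | h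
  · exact allB_spec _ _ _ r_761 u (by omega) (by omega)
  clear h0
  rename' h => h0
  rcases Nat.lt_or_ge u 781312 with h | h
  · exact allB_spec _ _ _ r_762 u (by omega) (by omega)
  clear h0
  rename' h => h0
  rcases Nat.lt_or_ge u 782336 with h | h
  · exact allB_spec _ _ _ r_763 u (by omega) (by omega)
  clear h0
  rename' h => h0
  rcases Nat.lt_or_ge u 783360 with h | h
  · exact allB_spec _ _ _ r_764 u (by omega) (by omega)
  clear h0
  rename' h => h0
  rcases Nat.lt_or_ge u 784384 with h | h
  · exact allB_spec _ _ _ r_765 u (by omega) (by omega)
  clear h0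
  rename' h => h0
  rcases Nat.lt_or_ge u 785408 with h | h
  · exact allB_spec _ _ _ r_766 u (by omega) (by omega)
  clear h0
  rename' h => h0
  rcases Nat.lt_or_ge u 786432 with h | h
  · exact allB_spec _ _ _ r_767 u (by omega) (by omega)
  clear h0
  rename' h => h0
  omega
end H9.HN.TCHN
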