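import Cfsg.Agent.Lib.H9.HN.TCHN.Chk
set_option Elab.async false
set_option autoImplicit false
set_option maxRecDepth 100000
set_option linter.all false
namespace H9.HN.TCHN
open H35.TC
theorem r_768 : allB chkP 10 786432 = true := by decide +kernel
theorem r_769 : allB chkP 10 787456 = true := by decide +kernel
theorem r_770 : allB chkP 10 788480 = true := by decide +kernel
theorem r_771 : allB chkP 10 789504 = true := by decide +kernel
theorem r_772 : allB chkP 10 790528 = true := by decide +kernel
theorem r_773 : allB chkP 10 791552 = true := by decide +kernel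
theorem r_774 : allB chkP 10 792576 = true := by decide +kernel
theorem r_775 : allB chkP 10 793600 = true := by decide +kernel
theorem r_776 : allB chkP 10 794624 = true := by decide +kernel
theorem r_777 : allB chkP 10 795648 = true := by decide +kernel
theorem r_778 : allB chkP 10 796672 = true := by decide +kernel
theorem r_779 : allB chkP 10 797696 = true := by decide +kernel
theorem r_780 : allB chkP 10 798720 = true := by decide +kernel
theorem r_781 : allB chkP 10 799744 = true := by decide +kernel
theorem r_782 : allB chkP 10 800768 = true := by decide +kernel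
theorem r_783 : allB chkP 10 801792 = true := by decide +kernel
theorem r_784 : allB chkP 10 802816 = true := by decide +kernel
theorem r_785 : allB chkP 10 803840 = true := by decide +kernel
theorem r_786 : allB chkP 10 804864 = true := by decide +kernel
theorem r_787 : allB chkP 10 805888 = true := by decide +kernel
theorem r_788 : allB chkP 10 806912 = true := by decide +kernel
theorem r_789 : allB chkP 10 807936 = true := by decide +kernel
theorem r_790 : allB chkP 10 808960 = true := by decide +kernel
theorem r_791 : allB chkP 10 809984 = true := by decide +kernel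
theorem r_792 : allB chkP 10 811008 = true := by decide +kernel
theorem r_793 : allB chkP 10 812032 = true := by decide +kernel
theorem r_794 : allB chkP 10 813056 = true := by decide +kernel
theorem r_795 : allB chkP 10 814080 = true := by decide +kernel
theorem r_796 : allB chkP 10 815104 = true := by decide +kernel
theorem r_797 : allB chkP 10 816128 = true := by decide +kernel
theorem r_798 : allB chkP 10 817152 = true := by decide +kernel
theorem r_799 : allB chkP 10 818176 = true := by decide +kernel
theorem r_800 : allB chkP 10 819200 = true := by decide +kernel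
theorem r_801 : allB chkP 10 820224 = true := by decide +kernel
theorem r_802 : allB chkP 10 821248 = true := by decide +kernel
theorem r_803 : allB chkP 10 822272 = true := by decide +kernel
theorem r_804 : allB chkP 10 823296 = true := by decide +kernel
theorem r_805 : allB chkP 10 824320 = true := by decide +kernel
theorem r_806 : allB chkP 10 825344 = true := by decide +kernel
theorem r_807 : allB chkP 10 826368 = true := by decide +kernel
theorem r_808 : allB chkP 10 827392 = true := by decide +kernel
theorem r_809 : allB chkP 10 828416 = true := by decide +kernel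
theorem r_810 : allB chkP 10 829440 = true := by decide +kernel
theorem r_811 : allB chkP 10 830464 = true := by decide +kernel
theorem r_812 : allB chkP 10 831488 = true := by decide +kernel
theorem r_813 : allB chkP 10 832512 = true := by decide +kernel
theorem r_814 : allB chkP 10 833536 = true := by decide +kernel
theorem r_815 : allB chkP 10 834560 = true := by decide +kernel
theorem blk_16 : ∀ u, 786432 ≤ u → u < 835584 → chkP u = true := by
  intro u h0 hu
  rcases Nat.lt_or_ge u 787456 with h | h
  · exact allB_spec _ _ _ r_768 u (by omega) (by omega)
  clear h0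
  rename' h => h0
  rcases Nat.lt_or_ge u 788480 with h | h
  · exact allB_spec _ _ _ r_769 u (by omega) (by omega)
  clear h0
  rename' h => h0
  rcases Nat.lt_or_ge u 789504 with h | h
  · exact allB_spec _ _ _ r_770 u (by omega) (by omega)
  clear h0
  rename' h => h0
  rcases Nat.lt_or_ge u 790528 with h | h
  · exact allB_spec _ _ _ r_771 u (by omega) (by omega)
  clear h0
  rename' h => h0
  rcases Nat.lt_or_ge u 791552 with h | h
  · exact allB_spec _ _ _ r_772 u (by omega) (by omega)
  clear h0
  rename' h => h0
  rcases Nat.lt_or_ge u 792576 with h | h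
  · exact allB_spec _ _ _ r_773 u (by omega) (by omega)
  clear h0
  rename' h => h0
  rcases Nat.lt_or_ge u 793600 with h | h
  · exact allB_spec _ _ _ r_774 u (by omega) (by omega)
  clear h0
  rename' h => h0
  rcases Nat.lt_or_ge u 794624 with h | h
  · exact allB_spec _ _ _ r_775 u (by omega) (by omega)
  clear h0
  rename' h => h0
  rcases Nat.lt_or_ge u 795648 with h | h
  · exact allB_spec _ _ _ r_776 u (by omega) (by omega)
  clear h0
  rename' h => h0
  rcases Nat.lt_or_ge u 796672 with h | h
  · exact allB_spec _ _ _ r_777 u (by omega) (by omega)
  clear h0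
  rename' h => h0
  rcases Nat.lt_or_ge u 797696 with h | h
  · exact allB_spec _ _ _ r_778 u (by omega) (by omega)
  clear h0
  rename' h => h0
  rcases Nat.lt_or_ge u 798720 with h | h
  · exact allB_spec _ _ _ r_779 u (by omega) (by omega)
  clear h0
  rename' h => h0
  rcases Nat.lt_or_ge u 799744 with h | h
  · exact allB_spec _ _ _ r_780 u (by omega) (by omega)
  clear h0
  rename' h => h0
  rcases Nat.lt_or_ge u 800768 with h | h
  · exact allB_spec _ _ _ r_781 u (by omega) (by omega)
  clear h0
  rename' h => h0
  rcases Nat.lt_or_ge u 801792 with h | h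
  · exact allB_spec _ _ _ r_782 u (by omega) (by omega)
  clear h0
  rename' h => h0
  rcases Nat.lt_or_ge u 802816 with h | h
  · exact allB_spec _ _ _ r_783 u (by omega) (by omega)
  clear h0
  rename' h => h0
  rcases Nat.lt_or_ge u 803840 with h | h
  · exact allB_spec _ _ _ r_784 u (by omega) (by omega)
  clear h0
  rename' h => h0
  rcases Nat.lt_or_ge u 804864 with h | h
  · exact allB_spec _ _ _ r_785 u (by omega) (by omega)
  clear h0
  rename' h => h0
  rcases Nat.lt_or_ge u 805888 with h | h
  · exact allB_spec _ _ _ r_786 u (by omega) (by omega)
  clear h0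
  rename' h => h0
  rcases Nat.lt_or_ge u 806912 with h | h
  · exact allB_spec _ _ _ r_787 u (by omega) (by omega)
  clear h0
  rename' h => h0
  rcases Nat.lt_or_ge u 807936 with h | h
  · exact allB_spec _ _ _ r_788 u (by omega) (by omega)
  clear h0
  rename' h => h0
  rcases Nat.lt_or_ge u 808960 with h | h
  · exact allB_spec _ _ _ r_789 u (by omega) (by omega)
  clear h0
  rename' h => h0
  rcases Nat.lt_or_ge u 809984 with h | h
  · exact allB_spec _ _ _ r_790 u (by omega) (by omega)
  clear h0
  rename' h => h0
  rcases Nat.lt_or_ge u 811008 with h | h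
  · exact allB_spec _ _ _ r_791 u (by omega) (by omega)
  clear h0
  rename' h => h0
  rcases Nat.lt_or_ge u 812032 with h | h
  · exact allB_spec _ _ _ r_792 u (by omega) (by omega)
  clear h0
  rename' h => h0
  rcases Nat.lt_or_ge u 813056 with h | h
  · exact allB_spec _ _ _ r_793 u (by omega) (by omega)
  clear h0
  rename' h => h0
  rcases Nat.lt_or_ge u 814080 with h | h
  · exact allB_spec _ _ _ r_794 u (by omega) (by omega)
  clear h0
  rename' h => h0
  rcases Nat.lt_or_ge u 815104 with h | h
  · exact allB_spec _ _ _ r_795 u (by omega) (by omega)
  clear h0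
  rename' h => h0
  rcases Nat.lt_or_ge u 816128 with h | h
  · exact allB_spec _ _ _ r_796 u (by omega) (by omega)
  clear h0
  rename' h => h0
  rcases Nat.lt_or_ge u 817152 with h | h
  · exact allB_spec _ _ _ r_797 u (by omega) (by omega)
  clear h0
  rename' h => h0
  rcases Nat.lt_or_ge u 818176 with h | h
  · exact allB_spec _ _ _ r_798 u (by omega) (by omega)
  clear h0
  rename' h => h0
  rcases Nat.lt_or_ge u 819200 with h | h
  · exact allB_spec _ _ _ r_799 u (by omega) (by omega)
  clear h0
  rename' h => h0
  rcases Nat.lt_or_ge u 820224 with h | h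
  · exact allB_spec _ _ _ r_800 u (by omega) (by omega)
  clear h0
  rename' h => h0
  rcases Nat.lt_or_ge u 821248 with h | h
  · exact allB_spec _ _ _ r_801 u (by omega) (by omega)
  clear h0
  rename' h => h0
  rcases Nat.lt_or_ge u 822272 with h | h
  · exact allB_spec _ _ _ r_802 u (by omega) (by omega)
  clear h0
  rename' h => h0
  rcases Nat.lt_or_ge u 823296 with h | h
  · exact allB_spec _ _ _ r_803 u (by omega) (by omega)
  clear h0
  rename' h => h0
  rcases Nat.lt_or_ge u 824320 with h | h
  · exact allB_spec _ _ _ r_804 u (by omega) (by omega)
  clear h0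
  rename' h => h0
  rcases Nat.lt_or_ge u 825344 with h | h
  · exact allB_spec _ _ _ r_805 u (by omega) (by omega)
  clear h0
  rename' h => h0
  rcases Nat.lt_or_ge u 826368 with h | h
  · exact allB_spec _ _ _ r_806 u (by omega) (by omega)
  clear h0
  rename' h => h0
  rcases Nat.lt_or_ge u 827392 with h | h
  · exact allB_spec _ _ _ r_807 u (by omega) (by omega)
  clear h0
  rename' h => h0
  rcases Nat.lt_or_ge u 828416 with h | h
  · exact allB_spec _ _ _ r_808 u (by omega) (by omega)
  clear h0
  rename' h => h0
  rcases Nat.lt_or_ge u 829440 with h | h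
  · exact allB_spec _ _ _ r_809 u (by omega) (by omega)
  clear h0
  rename' h => h0
  rcases Nat.lt_or_ge u 830464 with h | h
  · exact allB_spec _ _ _ r_810 u (by omega) (by omega)
  clear h0
  rename' h => h0
  rcases Nat.lt_or_ge u 831488 with h | h
  · exact allB_spec _ _ _ r_811 u (by omega) (by omega)
  clear h0
  rename' h => h0
  rcases Nat.lt_or_ge u 832512 with h | h
  · exact allB_spec _ _ _ r_812 u (by omega) (by omega)
  clear h0
  rename' h => h0
  rcases Nat.lt_or_ge u 833536 with h | h
  · exact allB_spec _ _ _ r_813 u (by omega) (by omega)
  clear h0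
  rename' h => h0
  rcases Nat.lt_or_ge u 834560 with h | h
  · exact allB_spec _ _ _ r_814 u (by omega) (by omega)
  clear h0
  rename' h => h0
  rcases Nat.lt_or_ge u 835584 with h | h
  · exact allB_spec _ _ _ r_815 u (by omega) (by omega)
  clear h0
  rename' h => h0
  omega
end H9.HN.TCHN
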