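import Cfsg.Agent.Lib.H9.HN.TCHN.Chk
set_option Elab.async false
set_option autoImplicit false
set_option maxRecDepth 100000
set_option linter.all false
namespace H9.HN.TCHN
open H35.TC
theorem r_816 : allB chkP 10 835584 = true := by decide +kernel
theorem r_817 : allB chkP 10 836608 = true := by decide +kernel
theorem r_818 : allB chkP 10 837632 = true := by decide +kernel
theorem r_819 : allB chkP 10 838656 = true := by decide +kernel
theorem r_820 : allB chkP 10 839680 = true := by decide +kernel
theorem r_821 : allB chkP 10 840704 = true := by decide +kernel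
theorem r_822 : allB chkP 10 841728 = true := by decide +kernel
theorem r_823 : allB chkP 10 842752 = true := by decide +kernel
theorem r_824 : allB chkP 10 843776 = true := by decide +kernel
theorem r_825 : allB chkP 10 844800 = true := by decide +kernel
theorem r_826 : allB chkP 10 845824 = true := by decide +kernel
theorem r_827 : allB chkP 10 846848 = true := by decide +kernel
theorem r_828 : allB chkP 10 847872 = true := by decide +kernel
theorem r_829 : allB chkP 10 848896 = true := by decide +kernel
theorem r_830 : allB chkP 10 849920 = true := by decide +kernel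
theorem r_831 : allB chkP 10 850944 = true := by decide +kernel
theorem r_832 : allB chkP 10 851968 = true := by decide +kernel
theorem r_833 : allB chkP 10 852992 = true := by decide +kernel
theorem r_834 : allB chkP 10 854016 = true := by decide +kernel
theorem r_835 : allB chkP 10 855040 = true := by decide +kernel
theorem r_836 : allB chkP 10 856064 = true := by decide +kernel
theorem r_837 : allB chkP 10 857088 = true := by decide +kernel
theorem r_838 : allB chkP 10 858112 = true := by decide +kernel
theorem r_839 : allB chkP 10 859136 = true := by decide +kernel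
theorem r_840 : allB chkP 10 860160 = true := by decide +kernel
theorem r_841 : allB chkP 10 861184 = true := by decide +kernel
theorem r_842 : allB chkP 10 862208 = true := by decide +kernel
theorem r_843 : allB chkP 10 863232 = true := by decide +kernel
theorem r_844 : allB chkP 10 864256 = true := by decide +kernel
theorem r_845 : allB chkP 10 865280 = true := by decide +kernel
theorem r_846 : allB chkP 10 866304 = true := by decide +kernel
theorem r_847 : allB chkP 10 867328 = true := by decide +kernel
theorem r_848 : allB chkP 10 868352 = true := by decide +kernel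
theorem r_849 : allB chkP 10 869376 = true := by decide +kernel
theorem r_850 : allB chkP 10 870400 = true := by decide +kernel
theorem r_851 : allB chkP 10 871424 = true := by decide +kernel
theorem r_852 : allB chkP 10 872448 = true := by decide +kernel
theorem r_853 : allB chkP 10 873472 = true := by decide +kernel
theorem r_854 : allB chkP 10 874496 = true := by decide +kernel
theorem r_855 : allB chkP 10 875520 = true := by decide +kernel
theorem r_856 : allB chkP 10 876544 = true := by decide +kernel
theorem r_857 : allB chkP 10 877568 = true := by decide +kernel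
theorem r_858 : allB chkP 10 878592 = true := by decide +kernel
theorem r_859 : allB chkP 10 879616 = true := by decide +kernel
theorem r_860 : allB chkP 10 880640 = true := by decide +kernel
theorem r_861 : allB chkP 10 881664 = true := by decide +kernel
theorem r_862 : allB chkP 10 882688 = true := by decide +kernel
theorem r_863 : allB chkP 10 883712 = true := by decide +kernel
theorem blk_17 : ∀ u, 835584 ≤ u → u < 884736 → chkP u = true := by
  intro u h0 hu
  rcases Nat.lt_or_ge u 836608 with h | h
  · exact allB_spec _ _ _ r_816 u (by omega) (by omega)
  clear h0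
  rename' h => h0
  rcases Nat.lt_or_ge u 837632 with h | h
  · exact allB_spec _ _ _ r_817 u (by omega) (by omega)
  clear h0
  rename' h => h0
  rcases Nat.lt_or_ge u 838656 with h | h
  · exact allB_spec _ _ _ r_818 u (by omega) (by omega)
  clear h0
  rename' h => h0
  rcases Nat.lt_or_ge u 839680 with h | h
  · exact allB_spec _ _ _ r_819 u (by omega) (by omega)
  clear h0
  rename' h => h0
  rcases Nat.lt_or_ge u 840704 with h | h
  · exact allB_spec _ _ _ r_820 u (by omega) (by omega)
  clear h0
  rename' h => h0
  rcases Nat.lt_or_ge u 841728 with h | h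
  · exact allB_spec _ _ _ r_821 u (by omega) (by omega)
  clear h0
  rename' h => h0
  rcases Nat.lt_or_ge u 842752 with h | h
  · exact allB_spec _ _ _ r_822 u (by omega) (by omega)
  clear h0
  rename' h => h0
  rcases Nat.lt_or_ge u 843776 with h | h
  · exact allB_spec _ _ _ r_823 u (by omega) (by omega)
  clear h0
  rename' h => h0
  rcases Nat.lt_or_ge u 844800 with h | h
  · exact allB_spec _ _ _ r_824 u (by omega) (by omega)
  clear h0
  rename' h => h0
  rcases Nat.lt_or_ge u 845824 with h | h
  · exact allB_spec _ _ _ r_825 u (by omega) (by omega)
  clear h0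
  rename' h => h0
  rcases Nat.lt_or_ge u 846848 with h | h
  · exact allB_spec _ _ _ r_826 u (by omega) (by omega)
  clear h0
  rename' h => h0
  rcases Nat.lt_or_ge u 847872 with h | h
  · exact allB_spec _ _ _ r_827 u (by omega) (by omega)
  clear h0
  rename' h => h0
  rcases Nat.lt_or_ge u 848896 with h | h
  · exact allB_spec _ _ _ r_828 u (by omega) (by omega)
  clear h0
  rename' h => h0
  rcases Nat.lt_or_ge u 849920 with h | h
  · exact allB_spec _ _ _ r_829 u (by omega) (by omega)
  clear h0
  rename' h => h0
  rcases Nat.lt_or_ge u 850944 with h | h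
  · exact allB_spec _ _ _ r_830 u (by omega) (by omega)
  clear h0
  rename' h => h0
  rcases Nat.lt_or_ge u 851968 with h | h
  · exact allB_spec _ _ _ r_831 u (by omega) (by omega)
  clear h0
  rename' h => h0
  rcases Nat.lt_or_ge u 852992 with h | h
  · exact allB_spec _ _ _ r_832 u (by omega) (by omega)
  clear h0
  rename' h => h0
  rcases Nat.lt_or_ge u 854016 with h | h
  · exact allB_spec _ _ _ r_833 u (by omega) (by omega)
  clear h0
  rename' h => h0
  rcases Nat.lt_or_ge u 855040 with h | h
  · exact allB_spec _ _ _ r_834 u (by omega) (by omega)
  clear h0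
  rename' h => h0
  rcases Nat.lt_or_ge u 856064 with h | h
  · exact allB_spec _ _ _ r_835 u (by omega) (by omega)
  clear h0
  rename' h => h0
  rcases Nat.lt_or_ge u 857088 with h | h
  · exact allB_spec _ _ _ r_836 u (by omega) (by omega)
  clear h0
  rename' h => h0
  rcases Nat.lt_or_ge u 858112 with h | h
  · exact allB_spec _ _ _ r_837 u (by omega) (by omega)
  clear h0
  rename' h => h0
  rcases Nat.lt_or_ge u 859136 with h | h
  · exact allB_spec _ _ _ r_838 u (by omega) (by omega)
  clear h0
  rename' h => h0
  rcases Nat.lt_or_ge u 860160 with h | h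
  · exact allB_spec _ _ _ r_839 u (by omega) (by omega)
  clear h0
  rename' h => h0
  rcases Nat.lt_or_ge u 861184 with h | h
  · exact allB_spec _ _ _ r_840 u (by omega) (by omega)
  clear h0
  rename' h => h0
  rcases Nat.lt_or_ge u 862208 with h | h
  · exact allB_spec _ _ _ r_841 u (by omega) (by omega)
  clear h0
  rename' h => h0
  rcases Nat.lt_or_ge u 863232 with h | h
  · exact allB_spec _ _ _ r_842 u (by omega) (by omega)
  clear h0
  rename' h => h0
  rcases Nat.lt_or_ge u 864256 with h | h
  · exact allB_spec _ _ _ r_843 u (by omega) (by omega)
  clear h0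
  rename' h => h0
  rcases Nat.lt_or_ge u 865280 with h | h
  · exact allB_spec _ _ _ r_844 u (by omega) (by omega)
  clear h0
  rename' h => h0
  rcases Nat.lt_or_ge u 866304 with h | h
  · exact allB_spec _ _ _ r_845 u (by omega) (by omega)
  clear h0
  rename' h => h0
  rcases Nat.lt_or_ge u 867328 with h | h
  · exact allB_spec _ _ _ r_846 u (by omega) (by omega)
  clear h0
  rename' h => h0
  rcases Nat.lt_or_ge u 868352 with h | h
  · exact allB_spec _ _ _ r_847 u (by omega) (by omega)
  clear h0
  rename' h => h0
  rcases Nat.lt_or_ge u 869376 with h | h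
  · exact allB_spec _ _ _ r_848 u (by omega) (by omega)
  clear h0
  rename' h => h0
  rcases Nat.lt_or_ge u 870400 with h | h
  · exact allB_spec _ _ _ r_849 u (by omega) (by omega)
  clear h0
  rename' h => h0
  rcases Nat.lt_or_ge u 871424 with h | h
  · exact allB_spec _ _ _ r_850 u (by omega) (by omega)
  clear h0
  rename' h => h0
  rcases Nat.lt_or_ge u 872448 with h | h
  · exact allB_spec _ _ _ r_851 u (by omega) (by omega)
  clear h0
  rename' h => h0
  rcases Nat.lt_or_ge u 873472 with h | h
  · exact allB_spec _ _ _ r_852 u (by omega) (by omega)
  clear h0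
  rename' h => h0
  rcases Nat.lt_or_ge u 874496 with h | h
  · exact allB_spec _ _ _ r_853 u (by omega) (by omega)
  clear h0
  rename' h => h0
  rcases Nat.lt_or_ge u 875520 with h | h
  · exact allB_spec _ _ _ r_854 u (by omega) (by omega)
  clear h0
  rename' h => h0
  rcases Nat.lt_or_ge u 876544 with h | h
  · exact allB_spec _ _ _ r_855 u (by omega) (by omega)
  clear h0
  rename' h => h0
  rcases Nat.lt_or_ge u 877568 with h | h
  · exact allB_spec _ _ _ r_856 u (by omega) (by omega)
  clear h0
  rename' h => h0
  rcases Nat.lt_or_ge u 878592 with h | h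
  · exact allB_spec _ _ _ r_857 u (by omega) (by omega)
  clear h0
  rename' h => h0
  rcases Nat.lt_or_ge u 879616 with h | h
  · exact allB_spec _ _ _ r_858 u (by omega) (by omega)
  clear h0
  rename' h => h0
  rcases Nat.lt_or_ge u 880640 with h | h
  · exact allB_spec _ _ _ r_859 u (by omega) (by omega)
  clear h0
  rename' h => h0
  rcases Nat.lt_or_ge u 881664 with h | h
  · exact allB_spec _ _ _ r_860 u (by omega) (by omega)
  clear h0
  rename' h => h0
  rcases Nat.lt_or_ge u 882688 with h | h
  · exact allB_spec _ _ _ r_861 u (by omega) (by omega)
  clear h0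
  rename' h => h0
  rcases Nat.lt_or_ge u 883712 with h | h
  · exact allB_spec _ _ _ r_862 u (by omega) (by omega)
  clear h0
  rename' h => h0
  rcases Nat.lt_or_ge u 884736 with h | h
  · exact allB_spec _ _ _ r_863 u (by omega) (by omega)
  clear h0
  rename' h => h0
  omega
end H9.HN.TCHN
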