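import Cfsg.Agent.Lib.H9.HN.TCHN.Chk
set_option Elab.async false
set_option autoImplicit false
set_option maxRecDepth 100000
set_option linter.all false
namespace H9.HN.TCHN
open H35.TC
theorem r_864 : allB chkP 10 884736 = true := by decide +kernel
theorem r_865 : allB chkP 10 885760 = true := by decide +kernel
theorem r_866 : allB chkP 10 886784 = true := by decide +kernel
theorem r_867 : allB chkP 10 887808 = true := by decide +kernel
theorem r_868 : allB chkP 10 888832 = true := by decide +kernel
theorem r_869 : allB chkP 10 889856 = true := by decide +kernel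
theorem r_870 : allB chkP 10 890880 = true := by decide +kernel
theorem r_871 : allB chkP 10 891904 = true := by decide +kernel
theorem r_872 : allB chkP 10 892928 = true := by decide +kernel
theorem r_873 : allB chkP 10 893952 = true := by decide +kernel
theorem r_874 : allB chkP 10 894976 = true := by decide +kernel
theorem r_875 : allB chkP 10 896000 = true := by decide +kernel
theorem r_876 : allB chkP 10 897024 = true := by decide +kernel
theorem r_877 : allB chkP 10 898048 = true := by decide +kernel
theorem r_878 : allB chkP 10 899072 = true := by decide +kernel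
theorem r_879 : allB chkP 10 900096 = true := by decide +kernel
theorem r_880 : allB chkP 10 901120 = true := by decide +kernel
theorem r_881 : allB chkP 10 902144 = true := by decide +kernel
theorem r_882 : allB chkP 10 903168 = true := by decide +kernel
theorem r_883 : allB chkP 10 904192 = true := by decide +kernel
theorem r_884 : allB chkP 10 905216 = true := by decide +kernel
theorem r_885 : allB chkP 10 906240 = true := by decide +kernel
theorem r_886 : allB chkP 10 907264 = true := by decide +kernel
theorem r_887 : allB chkP 10 908288 = true := by decide +kernel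
theorem r_888 : allB chkP 10 909312 = true := by decide +kernel
theorem r_889 : allB chkP 10 910336 = true := by decide +kernel
theorem r_890 : allB chkP 10 911360 = true := by decide +kernel
theorem r_891 : allB chkP 10 912384 = true := by decide +kernel
theorem r_892 : allB chkP 10 913408 = true := by decide +kernel
theorem r_893 : allB chkP 10 914432 = true := by decide +kernel
theorem r_894 : allB chkP 10 915456 = true := by decide +kernel
theorem r_895 : allB chkP 10 916480 = true := by decide +kernel
theorem r_896 : allB chkP 10 917504 = true := by decide +kernel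
theorem r_897 : allB chkP 10 918528 = true := by decide +kernel
theorem r_898 : allB chkP 10 919552 = true := by decide +kernel
theorem r_899 : allB chkP 10 920576 = true := by decide +kernel
theorem r_900 : allB chkP 10 921600 = true := by decide +kernel
theorem r_901 : allB chkP 10 922624 = true := by decide +kernel
theorem r_902 : allB chkP 10 923648 = true := by decide +kernel
theorem r_903 : allB chkP 10 924672 = true := by decide +kernel
theorem r_904 : allB chkP 10 925696 = true := by decide +kernel
theorem r_905 : allB chkP 10 926720 = true := by decide +kernel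
theorem r_906 : allB chkP 10 927744 = true := by decide +kernel
theorem r_907 : allB chkP 10 928768 = true := by decide +kernel
theorem r_908 : allB chkP 10 929792 = true := by decide +kernel
theorem r_909 : allB chkP 10 930816 = true := by decide +kernel
theorem r_910 : allB chkP 10 931840 = true := by decide +kernel
theorem r_911 : allB chkP 10 932864 = true := by decide +kernel
theorem blk_18 : ∀ u, 884736 ≤ u → u < 933888 → chkP u = true := by
  intro u h0 hu
  rcases Nat.lt_or_ge u 885760 with h | h
  · exact allB_spec _ _ _ r_864 u (by omega) (by omega)
  clear h0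
  rename' h => h0
  rcases Nat.lt_or_ge u 886784 with h | h
  · exact allB_spec _ _ _ r_865 u (by omega) (by omega)
  clear h0
  rename' h => h0
  rcases Nat.lt_or_ge u 887808 with h | h
  · exact allB_spec _ _ _ r_866 u (by omega) (by omega)
  clear h0
  rename' h => h0
  rcases Nat.lt_or_ge u 888832 with h | h
  · exact allB_spec _ _ _ r_867 u (by omega) (by omega)
  clear h0
  rename' h => h0
  rcases Nat.lt_or_ge u 889856 with h | h
  · exact allB_spec _ _ _ r_868 u (by omega) (by omega)
  clear h0
  rename' h => h0
  rcases Nat.lt_or_ge u 890880 with h | h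
  · exact allB_spec _ _ _ r_869 u (by omega) (by omega)
  clear h0
  rename' h => h0
  rcases Nat.lt_or_ge u 891904 with h | h
  · exact allB_spec _ _ _ r_870 u (by omega) (by omega)
  clear h0
  rename' h => h0
  rcases Nat.lt_or_ge u 892928 with h | h
  · exact allB_spec _ _ _ r_871 u (by omega) (by omega)
  clear h0
  rename' h => h0
  rcases Nat.lt_or_ge u 893952 with h | h
  · exact allB_spec _ _ _ r_872 u (by omega) (by omega)
  clear h0
  rename' h => h0
  rcases Nat.lt_or_ge u 894976 with h | h
  · exact allB_spec _ _ _ r_873 u (by omega) (by omega)
  clear h0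
  rename' h => h0
  rcases Nat.lt_or_ge u 896000 with h | h
  · exact allB_spec _ _ _ r_874 u (by omega) (by omega)
  clear h0
  rename' h => h0
  rcases Nat.lt_or_ge u 897024 with h | h
  · exact allB_spec _ _ _ r_875 u (by omega) (by omega)
  clear h0
  rename' h => h0
  rcases Nat.lt_or_ge u 898048 with h | h
  · exact allB_spec _ _ _ r_876 u (by omega) (by omega)
  clear h0
  rename' h => h0
  rcases Nat.lt_or_ge u 899072 with h | h
  · exact allB_spec _ _ _ r_877 u (by omega) (by omega)
  clear h0
  rename' h => h0
  rcases Nat.lt_or_ge u 900096 with h | h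
  · exact allB_spec _ _ _ r_878 u (by omega) (by omega)
  clear h0
  rename' h => h0
  rcases Nat.lt_or_ge u 901120 with h | h
  · exact allB_spec _ _ _ r_879 u (by omega) (by omega)
  clear h0
  rename' h => h0
  rcases Nat.lt_or_ge u 902144 with h | h
  · exact allB_spec _ _ _ r_880 u (by omega) (by omega)
  clear h0
  rename' h => h0
  rcases Nat.lt_or_ge u 903168 with h | h
  · exact allB_spec _ _ _ r_881 u (by omega) (by omega)
  clear h0
  rename' h => h0
  rcases Nat.lt_or_ge u 904192 with h | h
  · exact allB_spec _ _ _ r_882 u (by omega) (by omega)
  clear h0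
  rename' h => h0
  rcases Nat.lt_or_ge u 905216 with h | h
  · exact allB_spec _ _ _ r_883 u (by omega) (by omega)
  clear h0
  rename' h => h0
  rcases Nat.lt_or_ge u 906240 with h | h
  · exact allB_spec _ _ _ r_884 u (by omega) (by omega)
  clear h0
  rename' h => h0
  rcases Nat.lt_or_ge u 907264 with h | h
  · exact allB_spec _ _ _ r_885 u (by omega) (by omega)
  clear h0
  rename' h => h0
  rcases Nat.lt_or_ge u 908288 with h | h
  · exact allB_spec _ _ _ r_886 u (by omega) (by omega)
  clear h0
  rename' h => h0
  rcases Nat.lt_or_ge u 909312 with h | h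
  · exact allB_spec _ _ _ r_887 u (by omega) (by omega)
  clear h0
  rename' h => h0
  rcases Nat.lt_or_ge u 910336 with h | h
  · exact allB_spec _ _ _ r_888 u (by omega) (by omega)
  clear h0
  rename' h => h0
  rcases Nat.lt_or_ge u 911360 with h | h
  · exact allB_spec _ _ _ r_889 u (by omega) (by omega)
  clear h0
  rename' h => h0
  rcases Nat.lt_or_ge u 912384 with h | h
  · exact allB_spec _ _ _ r_890 u (by omega) (by omega)
  clear h0
  rename' h => h0
  rcases Nat.lt_or_ge u 913408 with h | h
  · exact allB_spec _ _ _ r_891 u (by omega) (by omega)
  clear h0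
  rename' h => h0
  rcases Nat.lt_or_ge u 914432 with h | h
  · exact allB_spec _ _ _ r_892 u (by omega) (by omega)
  clear h0
  rename' h => h0
  rcases Nat.lt_or_ge u 915456 with h | h
  · exact allB_spec _ _ _ r_893 u (by omega) (by omega)
  clear h0
  rename' h => h0
  rcases Nat.lt_or_ge u 916480 with h | h
  · exact allB_spec _ _ _ r_894 u (by omega) (by omega)
  clear h0
  rename' h => h0
  rcases Nat.lt_or_ge u 917504 with h | h
  · exact allB_spec _ _ _ r_895 u (by omega) (by omega)
  clear h0
  rename' h => h0
  rcases Nat.lt_or_ge u 918528 with h | h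
  · exact allB_spec _ _ _ r_896 u (by omega) (by omega)
  clear h0
  rename' h => h0
  rcases Nat.lt_or_ge u 919552 with h | h
  · exact allB_spec _ _ _ r_897 u (by omega) (by omega)
  clear h0
  rename' h => h0
  rcases Nat.lt_or_ge u 920576 with h | h
  · exact allB_spec _ _ _ r_898 u (by omega) (by omega)
  clear h0
  rename' h => h0
  rcases Nat.lt_or_ge u 921600 with h | h
  · exact allB_spec _ _ _ r_899 u (by omega) (by omega)
  clear h0
  rename' h => h0
  rcases Nat.lt_or_ge u 922624 with h | h
  · exact allB_spec _ _ _ r_900 u (by omega) (by omega)
  clear h0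
  rename' h => h0
  rcases Nat.lt_or_ge u 923648 with h | h
  · exact allB_spec _ _ _ r_901 u (by omega) (by omega)
  clear h0
  rename' h => h0
  rcases Nat.lt_or_ge u 924672 with h | h
  · exact allB_spec _ _ _ r_902 u (by omega) (by omega)
  clear h0
  rename' h => h0
  rcases Nat.lt_or_ge u 925696 with h | h
  · exact allB_spec _ _ _ r_903 u (by omega) (by omega)
  clear h0
  rename' h => h0
  rcases Nat.lt_or_ge u 926720 with h | h
  · exact allB_spec _ _ _ r_904 u (by omega) (by omega)
  clear h0
  rename' h => h0
  rcases Nat.lt_or_ge u 927744 with h | h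
  · exact allB_spec _ _ _ r_905 u (by omega) (by omega)
  clear h0
  rename' h => h0
  rcases Nat.lt_or_ge u 928768 with h | h
  · exact allB_spec _ _ _ r_906 u (by omega) (by omega)
  clear h0
  rename' h => h0
  rcases Nat.lt_or_ge u 929792 with h | h
  · exact allB_spec _ _ _ r_907 u (by omega) (by omega)
  clear h0
  rename' h => h0
  rcases Nat.lt_or_ge u 930816 with h | h
  · exact allB_spec _ _ _ r_908 u (by omega) (by omega)
  clear h0
  rename' h => h0
  rcases Nat.lt_or_ge u 931840 with h | h
  · exact allB_spec _ _ _ r_909 u (by omega) (by omega)
  clear h0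
  rename' h => h0
  rcases Nat.lt_or_ge u 932864 with h | h
  · exact allB_spec _ _ _ r_910 u (by omega) (by omega)
  clear h0
  rename' h => h0
  rcases Nat.lt_or_ge u 933888 with h | h
  · exact allB_spec _ _ _ r_911 u (by omega) (by omega)
  clear h0
  rename' h => h0
  omega
end H9.HN.TCHN
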