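import Cfsg.Agent.Lib.H9.HN.TCHN.Chk
set_option Elab.async false
set_option autoImplicit false
set_option maxRecDepth 100000
set_option linter.all false
namespace H9.HN.TCHN
open H35.TC
theorem r_912 : allB chkP 10 933888 = true := by decide +kernel
theorem r_913 : allB chkP 10 934912 = true := by decide +kernel
theorem r_914 : allB chkP 10 935936 = true := by decide +kernel
theorem r_915 : allB chkP 10 936960 = true := by decide +kernel
theorem r_916 : allB chkP 10 937984 = true := by decide +kernel
theorem r_917 : allB chkP 10 939008 = true := by decide +kernel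
theorem r_918 : allB chkP 10 940032 = true := by decide +kernel
theorem r_919 : allB chkP 10 941056 = true := by decide +kernel
theorem r_920 : allB chkP 10 942080 = true := by decide +kernel
theorem r_921 : allB chkP 10 943104 = true := by decide +kernel
theorem r_922 : allB chkP 10 944128 = true := by decide +kernel
theorem r_923 : allB chkP 10 945152 = true := by decide +kernel
theorem r_924 : allB chkP 10 946176 = true := by decide +kernel
theorem r_925 : allB chkP 10 947200 = true := by decide +kernel
theorem r_926 : allB chkP 10 948224 = true := by decide +kernel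
theorem r_927 : allB chkP 10 949248 = true := by decide +kernel
theorem r_928 : allB chkP 10 950272 = true := by decide +kernel
theorem r_929 : allB chkP 10 951296 = true := by decide +kernel
theorem r_930 : allB chkP 10 952320 = true := by decide +kernel
theorem r_931 : allB chkP 10 953344 = true := by decide +kernel
theorem r_932 : allB chkP 10 954368 = true := by decide +kernel
theorem r_933 : allB chkP 10 955392 = true := by decide +kernel
theorem r_934 : allB chkP 10 956416 = true := by decide +kernel
theorem r_935 : allB chkP 10 957440 = true := by decide +kernel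
theorem r_936 : allB chkP 10 958464 = true := by decide +kernel
theorem r_937 : allB chkP 10 959488 = true := by decide +kernel
theorem r_938 : allB chkP 10 960512 = true := by decide +kernel
theorem r_939 : allB chkP 10 961536 = true := by decide +kernel
theorem r_940 : allB chkP 10 962560 = true := by decide +kernel
theorem r_941 : allB chkP 10 963584 = true := by decide +kernel
theorem r_942 : allB chkP 10 964608 = true := by decide +kernel
theorem r_943 : allB chkP 10 965632 = true := by decide +kernel
theorem r_944 : allB chkP 10 966656 = true := by decide +kernel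
theorem r_945 : allB chkP 10 967680 = true := by decide +kernel
theorem r_946 : allB chkP 10 968704 = true := by decide +kernel
theorem r_947 : allB chkP 10 969728 = true := by decide +kernel
theorem r_948 : allB chkP 10 970752 = true := by decide +kernel
theorem r_949 : allB chkP 10 971776 = true := by decide +kernel
theorem r_950 : allB chkP 10 972800 = true := by decide +kernel
theorem r_951 : allB chkP 10 973824 = true := by decide +kernel
theorem r_952 : allB chkP 10 974848 = true := by decide +kernel
theorem r_953 : allB chkP 10 975872 = true := by decide +kernel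
theorem r_954 : allB chkP 10 976896 = true := by decide +kernel
theorem r_955 : allB chkP 10 977920 = true := by decide +kernel
theorem r_956 : allB chkP 10 978944 = true := by decide +kernel
theorem r_957 : allB chkP 10 979968 = true := by decide +kernel
theorem r_958 : allB chkP 10 980992 = true := by decide +kernel
theorem r_959 : allB chkP 10 982016 = true := by decide +kernel
theorem blk_19 : ∀ u, 933888 ≤ u → u < 983040 → chkP u = true := by
  intro u h0 hu
  rcases Nat.lt_or_ge u 934912 with h | h
  · exact allB_spec _ _ _ r_912 u (by omega) (by omega)
  clear h0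
  rename' h => h0
  rcases Nat.lt_or_ge u 935936 with h | h
  · exact allB_spec _ _ _ r_913 u (by omega) (by omega)
  clear h0
  rename' h => h0
  rcases Nat.lt_or_ge u 936960 with h | h
  · exact allB_spec _ _ _ r_914 u (by omega) (by omega)
  clear h0
  rename' h => h0
  rcases Nat.lt_or_ge u 937984 with h | h
  · exact allB_spec _ _ _ r_915 u (by omega) (by omega)
  clear h0
  rename' h => h0
  rcases Nat.lt_or_ge u 939008 with h | h
  · exact allB_spec _ _ _ r_916 u (by omega) (by omega)
  clear h0
  rename' h => h0
  rcases Nat.lt_or_ge u 940032 with h | h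
  · exact allB_spec _ _ _ r_917 u (by omega) (by omega)
  clear h0
  rename' h => h0
  rcases Nat.lt_or_ge u 941056 with h | h
  · exact allB_spec _ _ _ r_918 u (by omega) (by omega)
  clear h0
  rename' h => h0
  rcases Nat.lt_or_ge u 942080 with h | h
  · exact allB_spec _ _ _ r_919 u (by omega) (by omega)
  clear h0
  rename' h => h0
  rcases Nat.lt_or_ge u 943104 with h | h
  · exact allB_spec _ _ _ r_920 u (by omega) (by omega)
  clear h0
  rename' h => h0
  rcases Nat.lt_or_ge u 944128 with h | h
  · exact allB_spec _ _ _ r_921 u (by omega) (by omega)
  clear h0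
  rename' h => h0
  rcases Nat.lt_or_ge u 945152 with h | h
  · exact allB_spec _ _ _ r_922 u (by omega) (by omega)
  clear h0
  rename' h => h0
  rcases Nat.lt_or_ge u 946176 with h | h
  · exact allB_spec _ _ _ r_923 u (by omega) (by omega)
  clear h0
  rename' h => h0
  rcases Nat.lt_or_ge u 947200 with h | h
  · exact allB_spec _ _ _ r_924 u (by omega) (by omega)
  clear h0
  rename' h => h0
  rcases Nat.lt_or_ge u 948224 with h | h
  · exact allB_spec _ _ _ r_925 u (by omega) (by omega)
  clear h0
  rename' h => h0
  rcases Nat.lt_or_ge u 949248 with h | h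
  · exact allB_spec _ _ _ r_926 u (by omega) (by omega)
  clear h0
  rename' h => h0
  rcases Nat.lt_or_ge u 950272 with h | h
  · exact allB_spec _ _ _ r_927 u (by omega) (by omega)
  clear h0
  rename' h => h0
  rcases Nat.lt_or_ge u 951296 with h | h
  · exact allB_spec _ _ _ r_928 u (by omega) (by omega)
  clear h0
  rename' h => h0
  rcases Nat.lt_or_ge u 952320 with h | h
  · exact allB_spec _ _ _ r_929 u (by omega) (by omega)
  clear h0
  rename' h => h0
  rcases Nat.lt_or_ge u 953344 with h | h
  · exact allB_spec _ _ _ r_930 u (by omega) (by omega)
  clear h0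
  rename' h => h0
  rcases Nat.lt_or_ge u 954368 with h | h
  · exact allB_spec _ _ _ r_931 u (by omega) (by omega)
  clear h0
  rename' h => h0
  rcases Nat.lt_or_ge u 955392 with h | h
  · exact allB_spec _ _ _ r_932 u (by omega) (by omega)
  clear h0
  rename' h => h0
  rcases Nat.lt_or_ge u 956416 with h | h
  · exact allB_spec _ _ _ r_933 u (by omega) (by omega)
  clear h0
  rename' h => h0
  rcases Nat.lt_or_ge u 957440 with h | h
  · exact allB_spec _ _ _ r_934 u (by omega) (by omega)
  clear h0
  rename' h => h0
  rcases Nat.lt_or_ge u 958464 with h | h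
  · exact allB_spec _ _ _ r_935 u (by omega) (by omega)
  clear h0
  rename' h => h0
  rcases Nat.lt_or_ge u 959488 with h | h
  · exact allB_spec _ _ _ r_936 u (by omega) (by omega)
  clear h0
  rename' h => h0
  rcases Nat.lt_or_ge u 960512 with h | h
  · exact allB_spec _ _ _ r_937 u (by omega) (by omega)
  clear h0
  rename' h => h0
  rcases Nat.lt_or_ge u 961536 with h | h
  · exact allB_spec _ _ _ r_938 u (by omega) (by omega)
  clear h0
  rename' h => h0
  rcases Nat.lt_or_ge u 962560 with h | h
  · exact allB_spec _ _ _ r_939 u (by omega) (by omega)
  clear h0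
  rename' h => h0
  rcases Nat.lt_or_ge u 963584 with h | h
  · exact allB_spec _ _ _ r_940 u (by omega) (by omega)
  clear h0
  rename' h => h0
  rcases Nat.lt_or_ge u 964608 with h | h
  · exact allB_spec _ _ _ r_941 u (by omega) (by omega)
  clear h0
  rename' h => h0
  rcases Nat.lt_or_ge u 965632 with h | h
  · exact allB_spec _ _ _ r_942 u (by omega) (by omega)
  clear h0
  rename' h => h0
  rcases Nat.lt_or_ge u 966656 with h | h
  · exact allB_spec _ _ _ r_943 u (by omega) (by omega)
  clear h0
  rename' h => h0
  rcases Nat.lt_or_ge u 967680 with h | h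
  · exact allB_spec _ _ _ r_944 u (by omega) (by omega)
  clear h0
  rename' h => h0
  rcases Nat.lt_or_ge u 968704 with h | h
  · exact allB_spec _ _ _ r_945 u (by omega) (by omega)
  clear h0
  rename' h => h0
  rcases Nat.lt_or_ge u 969728 with h | h
  · exact allB_spec _ _ _ r_946 u (by omega) (by omega)
  clear h0
  rename' h => h0
  rcases Nat.lt_or_ge u 970752 with h | h
  · exact allB_spec _ _ _ r_947 u (by omega) (by omega)
  clear h0
  rename' h => h0
  rcases Nat.lt_or_ge u 971776 with h | h
  · exact allB_spec _ _ _ r_948 u (by omega) (by omega)
  clear h0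
  rename' h => h0
  rcases Nat.lt_or_ge u 972800 with h | h
  · exact allB_spec _ _ _ r_949 u (by omega) (by omega)
  clear h0
  rename' h => h0
  rcases Nat.lt_or_ge u 973824 with h | h
  · exact allB_spec _ _ _ r_950 u (by omega) (by omega)
  clear h0
  rename' h => h0
  rcases Nat.lt_or_ge u 974848 with h | h
  · exact allB_spec _ _ _ r_951 u (by omega) (by omega)
  clear h0
  rename' h => h0
  rcases Nat.lt_or_ge u 975872 with h | h
  · exact allB_spec _ _ _ r_952 u (by omega) (by omega)
  clear h0
  rename' h => h0
  rcases Nat.lt_or_ge u 976896 with h | h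
  · exact allB_spec _ _ _ r_953 u (by omega) (by omega)
  clear h0
  rename' h => h0
  rcases Nat.lt_or_ge u 977920 with h | h
  · exact allB_spec _ _ _ r_954 u (by omega) (by omega)
  clear h0
  rename' h => h0
  rcases Nat.lt_or_ge u 978944 with h | h
  · exact allB_spec _ _ _ r_955 u (by omega) (by omega)
  clear h0
  rename' h => h0
  rcases Nat.lt_or_ge u 979968 with h | h
  · exact allB_spec _ _ _ r_956 u (by omega) (by omega)
  clear h0
  rename' h => h0
  rcases Nat.lt_or_ge u 980992 with h | h
  · exact allB_spec _ _ _ r_957 u (by omega) (by omega)
  clear h0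
  rename' h => h0
  rcases Nat.lt_or_ge u 982016 with h | h
  · exact allB_spec _ _ _ r_958 u (by omega) (by omega)
  clear h0
  rename' h => h0
  rcases Nat.lt_or_ge u 983040 with h | h
  · exact allB_spec _ _ _ r_959 u (by omega) (by omega)
  clear h0
  rename' h => h0
  omega
end H9.HN.TCHN
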