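import Cfsg.Agent.Lib.H9.HN.TCHN.Chk
set_option Elab.async false
set_option autoImplicit false
set_option maxRecDepth 100000
set_option linter.all false
namespace H9.HN.TCHN
open H35.TC
theorem r_96 : allB chkP 10 98304 = true := by decide +kernel
theorem r_97 : allB chkP 10 99328 = true := by decide +kernel
theorem r_98 : allB chkP 10 100352 = true := by decide +kernel
theorem r_99 : allB chkP 10 101376 = true := by decide +kernel
theorem r_100 : allB chkP 10 102400 = true := by decide +kernel
theorem r_101 : allB chkP 10 103424 = true := by decide +kernel
theorem r_102 : allB chkP 10 104448 = true := by decide +kernel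
theorem r_103 : allB chkP 10 105472 = true := by decide +kernel
theorem r_104 : allB chkP 10 106496 = true := by decide +kernel
theorem r_105 : allB chkP 10 107520 = true := by decide +kernel
theorem r_106 : allB chkP 10 108544 = true := by decide +kernel
theorem r_107 : allB chkP 10 109568 = true := by decide +kernel
theorem r_108 : allB chkP 10 110592 = true := by decide +kernel
theorem r_109 : allB chkP 10 111616 = true := by decide +kernel
theorem r_110 : allB chkP 10 112640 = true := by decide +kernel
theorem r_111 : allB chkP 10 113664 = true := by decide +kernel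
theorem r_112 : allB chkP 10 114688 = true := by decide +kernel
theorem r_113 : allB chkP 10 115712 = true := by decide +kernel
theorem r_114 : allB chkP 10 116736 = true := by decide +kernel
theorem r_115 : allB chkP 10 117760 = true := by decide +kernel
theorem r_116 : allB chkP 10 118784 = true := by decide +kernel
theorem r_117 : allB chkP 10 119808 = true := by decide +kernel
theorem r_118 : allB chkP 10 120832 = true := by decide +kernel
theorem r_119 : allB chkP 10 121856 = true := by decide +kernel
theorem r_120 : allB chkP 10 122880 = true := by decide +kernel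
theorem r_121 : allB chkP 10 123904 = true := by decide +kernel
theorem r_122 : allB chkP 10 124928 = true := by decide +kernel
theorem r_123 : allB chkP 10 125952 = true := by decide +kernel
theorem r_124 : allB chkP 10 126976 = true := by decide +kernel
theorem r_125 : allB chkP 10 128000 = true := by decide +kernel
theorem r_126 : allB chkP 10 129024 = true := by decide +kernel
theorem r_127 : allB chkP 10 130048 = true := by decide +kernel
theorem r_128 : allB chkP 10 131072 = true := by decide +kernel
theorem r_129 : allB chkP 10 132096 = true := by decide +kernel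
theorem r_130 : allB chkP 10 133120 = true := by decide +kernel
theorem r_131 : allB chkP 10 134144 = true := by decide +kernel
theorem r_132 : allB chkP 10 135168 = true := by decide +kernel
theorem r_133 : allB chkP 10 136192 = true := by decide +kernel
theorem r_134 : allB chkP 10 137216 = true := by decide +kernel
theorem r_135 : allB chkP 10 138240 = true := by decide +kernel
theorem r_136 : allB chkP 10 139264 = true := by decide +kernel
theorem r_137 : allB chkP 10 140288 = true := by decide +kernel
theorem r_138 : allB chkP 10 141312 = true := by decide +kernel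
theorem r_139 : allB chkP 10 142336 = true := by decide +kernel
theorem r_140 : allB chkP 10 143360 = true := by decide +kernel
theorem r_141 : allB chkP 10 144384 = true := by decide +kernel
theorem r_142 : allB chkP 10 145408 = true := by decide +kernel
theorem r_143 : allB chkP 10 146432 = true := by decide +kernel
theorem blk_2 : ∀ u, 98304 ≤ u → u < 147456 → chkP u = true := by
  intro u h0 hu
  rcases Nat.lt_or_ge u 99328 with h | h
  · exact allB_spec _ _ _ r_96 u (by omega) (by omega)
  clear h0
  rename' h => h0
  rcases Nat.lt_or_ge u 100352 with h | h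
  · exact allB_spec _ _ _ r_97 u (by omega) (by omega)
  clear h0
  rename' h => h0
  rcases Nat.lt_or_ge u 101376 with h | h
  · exact allB_spec _ _ _ r_98 u (by omega) (by omega)
  clear h0
  rename' h => h0
  rcases Nat.lt_or_ge u 102400 with h | h
  · exact allB_spec _ _ _ r_99 u (by omega) (by omega)
  clear h0
  rename' h => h0
  rcases Nat.lt_or_ge u 103424 with h | h
  · exact allB_spec _ _ _ r_100 u (by omega) (by omega)
  clear h0
  rename' h => h0
  rcases Nat.lt_or_ge u 104448 with h | h
  · exact allB_spec _ _ _ r_101 u (by omega) (by omega)
  clear h0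
  rename' h => h0
  rcases Nat.lt_or_ge u 105472 with h | h
  · exact allB_spec _ _ _ r_102 u (by omega) (by omega)
  clear h0
  rename' h => h0
  rcases Nat.lt_or_ge u 106496 with h | h
  · exact allB_spec _ _ _ r_103 u (by omega) (by omega)
  clear h0
  rename' h => h0
  rcases Nat.lt_or_ge u 107520 with h | h
  · exact allB_spec _ _ _ r_104 u (by omega) (by omega)
  clear h0
  rename' h => h0
  rcases Nat.lt_or_ge u 108544 with h | h
  · exact allB_spec _ _ _ r_105 u (by omega) (by omega)
  clear h0
  rename' h => h0
  rcases Nat.lt_or_ge u 109568 with h | h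
  · exact allB_spec _ _ _ r_106 u (by omega) (by omega)
  clear h0
  rename' h => h0
  rcases Nat.lt_or_ge u 110592 with h | h
  · exact allB_spec _ _ _ r_107 u (by omega) (by omega)
  clear h0
  rename' h => h0
  rcases Nat.lt_or_ge u 111616 with h | h
  · exact allB_spec _ _ _ r_108 u (by omega) (by omega)
  clear h0
  rename' h => h0
  rcases Nat.lt_or_ge u 112640 with h | h
  · exact allB_spec _ _ _ r_109 u (by omega) (by omega)
  clear h0
  rename' h => h0
  rcases Nat.lt_or_ge u 113664 with h | h
  · exact allB_spec _ _ _ r_110 u (by omega) (by omega)
  clear h0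
  rename' h => h0
  rcases Nat.lt_or_ge u 114688 with h | h
  · exact allB_spec _ _ _ r_111 u (by omega) (by omega)
  clear h0
  rename' h => h0
  rcases Nat.lt_or_ge u 115712 with h | h
  · exact allB_spec _ _ _ r_112 u (by omega) (by omega)
  clear h0
  rename' h => h0
  rcases Nat.lt_or_ge u 116736 with h | h
  · exact allB_spec _ _ _ r_113 u (by omega) (by omega)
  clear h0
  rename' h => h0
  rcases Nat.lt_or_ge u 117760 with h | h
  · exact allB_spec _ _ _ r_114 u (by omega) (by omega)
  clear h0
  rename' h => h0
  rcases Nat.lt_or_ge u 118784 with h | h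
  · exact allB_spec _ _ _ r_115 u (by omega) (by omega)
  clear h0
  rename' h => h0
  rcases Nat.lt_or_ge u 119808 with h | h
  · exact allB_spec _ _ _ r_116 u (by omega) (by omega)
  clear h0
  rename' h => h0
  rcases Nat.lt_or_ge u 120832 with h | h
  · exact allB_spec _ _ _ r_117 u (by omega) (by omega)
  clear h0
  rename' h => h0
  rcases Nat.lt_or_ge u 121856 with h | h
  · exact allB_spec _ _ _ r_118 u (by omega) (by omega)
  clear h0
  rename' h => h0
  rcases Nat.lt_or_ge u 122880 with h | h
  · exact allB_spec _ _ _ r_119 u (by omega) (by omega)
  clear h0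
  rename' h => h0
  rcases Nat.lt_or_ge u 123904 with h | h
  · exact allB_spec _ _ _ r_120 u (by omega) (by omega)
  clear h0
  rename' h => h0
  rcases Nat.lt_or_ge u 124928 with h | h
  · exact allB_spec _ _ _ r_121 u (by omega) (by omega)
  clear h0
  rename' h => h0
  rcases Nat.lt_or_ge u 125952 with h | h
  · exact allB_spec _ _ _ r_122 u (by omega) (by omega)
  clear h0
  rename' h => h0
  rcases Nat.lt_or_ge u 126976 with h | h
  · exact allB_spec _ _ _ r_123 u (by omega) (by omega)
  clear h0
  rename' h => h0
  rcases Nat.lt_or_ge u 128000 with h | h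
  · exact allB_spec _ _ _ r_124 u (by omega) (by omega)
  clear h0
  rename' h => h0
  rcases Nat.lt_or_ge u 129024 with h | h
  · exact allB_spec _ _ _ r_125 u (by omega) (by omega)
  clear h0
  rename' h => h0
  rcases Nat.lt_or_ge u 130048 with h | h
  · exact allB_spec _ _ _ r_126 u (by omega) (by omega)
  clear h0
  rename' h => h0
  rcases Nat.lt_or_ge u 131072 with h | h
  · exact allB_spec _ _ _ r_127 u (by omega) (by omega)
  clear h0
  rename' h => h0
  rcases Nat.lt_or_ge u 132096 with h | h
  · exact allB_spec _ _ _ r_128 u (by omega) (by omega)
  clear h0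
  rename' h => h0
  rcases Nat.lt_or_ge u 133120 with h | h
  · exact allB_spec _ _ _ r_129 u (by omega) (by omega)
  clear h0
  rename' h => h0
  rcases Nat.lt_or_ge u 134144 with h | h
  · exact allB_spec _ _ _ r_130 u (by omega) (by omega)
  clear h0
  rename' h => h0
  rcases Nat.lt_or_ge u 135168 with h | h
  · exact allB_spec _ _ _ r_131 u (by omega) (by omega)
  clear h0
  rename' h => h0
  rcases Nat.lt_or_ge u 136192 with h | h
  · exact allB_spec _ _ _ r_132 u (by omega) (by omega)
  clear h0
  rename' h => h0
  rcases Nat.lt_or_ge u 137216 with h | h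
  · exact allB_spec _ _ _ r_133 u (by omega) (by omega)
  clear h0
  rename' h => h0
  rcases Nat.lt_or_ge u 138240 with h | h
  · exact allB_spec _ _ _ r_134 u (by omega) (by omega)
  clear h0
  rename' h => h0
  rcases Nat.lt_or_ge u 139264 with h | h
  · exact allB_spec _ _ _ r_135 u (by omega) (by omega)
  clear h0
  rename' h => h0
  rcases Nat.lt_or_ge u 140288 with h | h
  · exact allB_spec _ _ _ r_136 u (by omega) (by omega)
  clear h0
  rename' h => h0
  rcases Nat.lt_or_ge u 141312 with h | h
  · exact allB_spec _ _ _ r_137 u (by omega) (by omega)
  clear h0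
  rename' h => h0
  rcases Nat.lt_or_ge u 142336 with h | h
  · exact allB_spec _ _ _ r_138 u (by omega) (by omega)
  clear h0
  rename' h => h0
  rcases Nat.lt_or_ge u 143360 with h | h
  · exact allB_spec _ _ _ r_139 u (by omega) (by omega)
  clear h0
  rename' h => h0
  rcases Nat.lt_or_ge u 144384 with h | h
  · exact allB_spec _ _ _ r_140 u (by omega) (by omega)
  clear h0
  rename' h => h0
  rcases Nat.lt_or_ge u 145408 with h | h
  · exact allB_spec _ _ _ r_141 u (by omega) (by omega)
  clear h0
  rename' h => h0
  rcases Nat.lt_or_ge u 146432 with h | h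
  · exact allB_spec _ _ _ r_142 u (by omega) (by omega)
  clear h0
  rename' h => h0
  rcases Nat.lt_or_ge u 147456 with h | h
  · exact allB_spec _ _ _ r_143 u (by omega) (by omega)
  clear h0
  rename' h => h0
  omega
end H9.HN.TCHN
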