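import Cfsg.Agent.Lib.H9.HN.TCHN.Chk
set_option Elab.async false
set_option autoImplicit false
set_option maxRecDepth 100000
set_option linter.all false
namespace H9.HN.TCHN
open H35.TC
theorem r_960 : allB chkP 10 983040 = true := by decide +kernel
theorem r_961 : allB chkP 10 984064 = true := by decide +kernel
theorem r_962 : allB chkP 10 985088 = true := by decide +kernel
theorem r_963 : allB chkP 10 986112 = true := by decide +kernel
theorem r_964 : allB chkP 10 987136 = true := by decide +kernel
theorem r_965 : allB chkP 10 988160 = true := by decide +kernel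
theorem r_966 : allB chkP 10 989184 = true := by decide +kernel
theorem r_967 : allB chkP 10 990208 = true := by decide +kernel
theorem r_968 : allB chkP 10 991232 = true := by decide +kernel
theorem r_969 : allB chkP 10 992256 = true := by decide +kernel
theorem r_970 : allB chkP 10 993280 = true := by decide +kernel
theorem r_971 : allB chkP 10 994304 = true := by decide +kernel
theorem r_972 : allB chkP 10 995328 = true := by decide +kernel
theorem r_973 : allB chkP 10 996352 = true := by decide +kernel
theorem r_974 : allB chkP 10 997376 = true := by decide +kernel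
theorem r_975 : allB chkP 10 998400 = true := by decide +kernel
theorem r_976 : allB chkP 10 999424 = true := by decide +kernel
theorem r_977 : allB chkP 10 1000448 = true := by decide +kernel
theorem r_978 : allB chkP 10 1001472 = true := by decide +kernel
theorem r_979 : allB chkP 10 1002496 = true := by decide +kernel
theorem r_980 : allB chkP 10 1003520 = true := by decide +kernel
theorem r_981 : allB chkP 10 1004544 = true := by decide +kernel
theorem r_982 : allB chkP 10 1005568 = true := by decide +kernel
theorem r_983 : allB chkP 10 1006592 = true := by decide +kernel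
theorem r_984 : allB chkP 10 1007616 = true := by decide +kernel
theorem r_985 : allB chkP 10 1008640 = true := by decide +kernel
theorem r_986 : allB chkP 10 1009664 = true := by decide +kernel
theorem r_987 : allB chkP 10 1010688 = true := by decide +kernel
theorem r_988 : allB chkP 10 1011712 = true := by decide +kernel
theorem r_989 : allB chkP 10 1012736 = true := by decide +kernel
theorem r_990 : allB chkP 10 1013760 = true := by decide +kernel
theorem r_991 : allB chkP 10 1014784 = true := by decide +kernel
theorem r_992 : allB chkP 10 1015808 = true := by decide +kernel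
theorem r_993 : allB chkP 10 1016832 = true := by decide +kernel
theorem r_994 : allB chkP 10 1017856 = true := by decide +kernel
theorem r_995 : allB chkP 10 1018880 = true := by decide +kernel
theorem r_996 : allB chkP 10 1019904 = true := by decide +kernel
theorem r_997 : allB chkP 10 1020928 = true := by decide +kernel
theorem r_998 : allB chkP 10 1021952 = true := by decide +kernel
theorem r_999 : allB chkP 10 1022976 = true := by decide +kernel
theorem r_1000 : allB chkP 10 1024000 = true := by decide +kernel
theorem r_1001 : allB chkP 10 1025024 = true := by decide +kernel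
theorem r_1002 : allB chkP 10 1026048 = true := by decide +kernel
theorem r_1003 : allB chkP 10 1027072 = true := by decide +kernel
theorem r_1004 : allB chkP 10 1028096 = true := by decide +kernel
theorem r_1005 : allB chkP 10 1029120 = true := by decide +kernel
theorem r_1006 : allB chkP 10 1030144 = true := by decide +kernel
theorem r_1007 : allB chkP 10 1031168 = true := by decide +kernel
theorem blk_20 : ∀ u, 983040 ≤ u → u < 1032192 → chkP u = true := by
  intro u h0 hu
  rcases Nat.lt_or_ge u 984064 with h | h
  · exact allB_spec _ _ _ r_960 u (by omega) (by omega)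
  clear h0
  rename' h => h0
  rcases Nat.lt_or_ge u 985088 with h | h
  · exact allB_spec _ _ _ r_961 u (by omega) (by omega)
  clear h0
  rename' h => h0
  rcases Nat.lt_or_ge u 986112 with h | h
  · exact allB_spec _ _ _ r_962 u (by omega) (by omega)
  clear h0
  rename' h => h0
  rcases Nat.lt_or_ge u 987136 with h | h
  · exact allB_spec _ _ _ r_963 u (by omega) (by omega)
  clear h0
  rename' h => h0
  rcases Nat.lt_or_ge u 988160 with h | h
  · exact allB_spec _ _ _ r_964 u (by omega) (by omega)
  clear h0
  rename' h => h0
  rcases Nat.lt_or_ge u 989184 with h | h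
  · exact allB_spec _ _ _ r_965 u (by omega) (by omega)
  clear h0
  rename' h => h0
  rcases Nat.lt_or_ge u 990208 with h | h
  · exact allB_spec _ _ _ r_966 u (by omega) (by omega)
  clear h0
  rename' h => h0
  rcases Nat.lt_or_ge u 991232 with h | h
  · exact allB_spec _ _ _ r_967 u (by omega) (by omega)
  clear h0
  rename' h => h0
  rcases Nat.lt_or_ge u 992256 with h | h
  · exact allB_spec _ _ _ r_968 u (by omega) (by omega)
  clear h0
  rename' h => h0
  rcases Nat.lt_or_ge u 993280 with h | h
  · exact allB_spec _ _ _ r_969 u (by omega) (by omega)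
  clear h0
  rename' h => h0
  rcases Nat.lt_or_ge u 994304 with h | h
  · exact allB_spec _ _ _ r_970 u (by omega) (by omega)
  clear h0
  rename' h => h0
  rcases Nat.lt_or_ge u 995328 with h | h
  · exact allB_spec _ _ _ r_971 u (by omega) (by omega)
  clear h0
  rename' h => h0
  rcases Nat.lt_or_ge u 996352 with h | h
  · exact allB_spec _ _ _ r_972 u (by omega) (by omega)
  clear h0
  rename' h => h0
  rcases Nat.lt_or_ge u 997376 with h | h
  · exact allB_spec _ _ _ r_973 u (by omega) (by omega)
  clear h0
  rename' h => h0
  rcases Nat.lt_or_ge u 998400 with h | h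
  · exact allB_spec _ _ _ r_974 u (by omega) (by omega)
  clear h0
  rename' h => h0
  rcases Nat.lt_or_ge u 999424 with h | h
  · exact allB_spec _ _ _ r_975 u (by omega) (by omega)
  clear h0
  rename' h => h0
  rcases Nat.lt_or_ge u 1000448 with h | h
  · exact allB_spec _ _ _ r_976 u (by omega) (by omega)
  clear h0
  rename' h => h0
  rcases Nat.lt_or_ge u 1001472 with h | h
  · exact allB_spec _ _ _ r_977 u (by omega) (by omega)
  clear h0
  rename' h => h0
  rcases Nat.lt_or_ge u 1002496 with h | h
  · exact allB_spec _ _ _ r_978 u (by omega) (by omega)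
  clear h0
  rename' h => h0
  rcases Nat.lt_or_ge u 1003520 with h | h
  · exact allB_spec _ _ _ r_979 u (by omega) (by omega)
  clear h0
  rename' h => h0
  rcases Nat.lt_or_ge u 1004544 with h | h
  · exact allB_spec _ _ _ r_980 u (by omega) (by omega)
  clear h0
  rename' h => h0
  rcases Nat.lt_or_ge u 1005568 with h | h
  · exact allB_spec _ _ _ r_981 u (by omega) (by omega)
  clear h0
  rename' h => h0
  rcases Nat.lt_or_ge u 1006592 with h | h
  · exact allB_spec _ _ _ r_982 u (by omega) (by omega)
  clear h0
  rename' h => h0
  rcases Nat.lt_or_ge u 1007616 with h | h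
  · exact allB_spec _ _ _ r_983 u (by omega) (by omega)
  clear h0
  rename' h => h0
  rcases Nat.lt_or_ge u 1008640 with h | h
  · exact allB_spec _ _ _ r_984 u (by omega) (by omega)
  clear h0
  rename' h => h0
  rcases Nat.lt_or_ge u 1009664 with h | h
  · exact allB_spec _ _ _ r_985 u (by omega) (by omega)
  clear h0
  rename' h => h0
  rcases Nat.lt_or_ge u 1010688 with h | h
  · exact allB_spec _ _ _ r_986 u (by omega) (by omega)
  clear h0
  rename' h => h0
  rcases Nat.lt_or_ge u 1011712 with h | h
  · exact allB_spec _ _ _ r_987 u (by omega) (by omega)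
  clear h0
  rename' h => h0
  rcases Nat.lt_or_ge u 1012736 with h | h
  · exact allB_spec _ _ _ r_988 u (by omega) (by omega)
  clear h0
  rename' h => h0
  rcases Nat.lt_or_ge u 1013760 with h | h
  · exact allB_spec _ _ _ r_989 u (by omega) (by omega)
  clear h0
  rename' h => h0
  rcases Nat.lt_or_ge u 1014784 with h | h
  · exact allB_spec _ _ _ r_990 u (by omega) (by omega)
  clear h0
  rename' h => h0
  rcases Nat.lt_or_ge u 1015808 with h | h
  · exact allB_spec _ _ _ r_991 u (by omega) (by omega)
  clear h0
  rename' h => h0
  rcases Nat.lt_or_ge u 1016832 with h | h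
  · exact allB_spec _ _ _ r_992 u (by omega) (by omega)
  clear h0
  rename' h => h0
  rcases Nat.lt_or_ge u 1017856 with h | h
  · exact allB_spec _ _ _ r_993 u (by omega) (by omega)
  clear h0
  rename' h => h0
  rcases Nat.lt_or_ge u 1018880 with h | h
  · exact allB_spec _ _ _ r_994 u (by omega) (by omega)
  clear h0
  rename' h => h0
  rcases Nat.lt_or_ge u 1019904 with h | h
  · exact allB_spec _ _ _ r_995 u (by omega) (by omega)
  clear h0
  rename' h => h0
  rcases Nat.lt_or_ge u 1020928 with h | h
  · exact allB_spec _ _ _ r_996 u (by omega) (by omega)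
  clear h0
  rename' h => h0
  rcases Nat.lt_or_ge u 1021952 with h | h
  · exact allB_spec _ _ _ r_997 u (by omega) (by omega)
  clear h0
  rename' h => h0
  rcases Nat.lt_or_ge u 1022976 with h | h
  · exact allB_spec _ _ _ r_998 u (by omega) (by omega)
  clear h0
  rename' h => h0
  rcases Nat.lt_or_ge u 1024000 with h | h
  · exact allB_spec _ _ _ r_999 u (by omega) (by omega)
  clear h0
  rename' h => h0
  rcases Nat.lt_or_ge u 1025024 with h | h
  · exact allB_spec _ _ _ r_1000 u (by omega) (by omega)
  clear h0
  rename' h => h0
  rcases Nat.lt_or_ge u 1026048 with h | h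
  · exact allB_spec _ _ _ r_1001 u (by omega) (by omega)
  clear h0
  rename' h => h0
  rcases Nat.lt_or_ge u 1027072 with h | h
  · exact allB_spec _ _ _ r_1002 u (by omega) (by omega)
  clear h0
  rename' h => h0
  rcases Nat.lt_or_ge u 1028096 with h | h
  · exact allB_spec _ _ _ r_1003 u (by omega) (by omega)
  clear h0
  rename' h => h0
  rcases Nat.lt_or_ge u 1029120 with h | h
  · exact allB_spec _ _ _ r_1004 u (by omega) (by omega)
  clear h0
  rename' h => h0
  rcases Nat.lt_or_ge u 1030144 with h | h
  · exact allB_spec _ _ _ r_1005 u (by omega) (by omega)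
  clear h0
  rename' h => h0
  rcases Nat.lt_or_ge u 1031168 with h | h
  · exact allB_spec _ _ _ r_1006 u (by omega) (by omega)
  clear h0
  rename' h => h0
  rcases Nat.lt_or_ge u 1032192 with h | h
  · exact allB_spec _ _ _ r_1007 u (by omega) (by omega)
  clear h0
  rename' h => h0
  omega
end H9.HN.TCHN
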