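import Cfsg.Agent.Lib.H9.HN.TCHN.Chk
set_option Elab.async false
set_option autoImplicit false
set_option maxRecDepth 100000
set_option linter.all false
namespace H9.HN.TCHN
open H35.TC
theorem r_1008 : allB chkP 10 1032192 = true := by decide +kernel
theorem r_1009 : allB chkP 10 1033216 = true := by decide +kernel
theorem r_1010 : allB chkP 10 1034240 = true := by decide +kernel
theorem r_1011 : allB chkP 10 1035264 = true := by decide +kernel
theorem r_1012 : allB chkP 10 1036288 = true := by decide +kernel
theorem r_1013 : allB chkP 10 1037312 = true := by decide +kernel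
theorem r_1014 : allB chkP 10 1038336 = true := by decide +kernel
theorem r_1015 : allB chkP 10 1039360 = true := by decide +kernel
theorem r_1016 : allB chkP 10 1040384 = true := by decide +kernel
theorem r_1017 : allB chkP 10 1041408 = true := by decide +kernel
theorem r_1018 : allB chkP 10 1042432 = true := by decide +kernel
theorem r_1019 : allB chkP 10 1043456 = true := by decide +kernel
theorem r_1020 : allB chkP 10 1044480 = true := by decide +kernel
theorem r_1021 : allB chkP 10 1045504 = true := by decide +kernel
theorem r_1022 : allB chkP 10 1046528 = true := by decide +kernel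
theorem r_1023 : allB chkP 10 1047552 = true := by decide +kernel
theorem r_1024 : allB chkP 10 1048576 = true := by decide +kernel
theorem r_1025 : allB chkP 10 1049600 = true := by decide +kernel
theorem r_1026 : allB chkP 10 1050624 = true := by decide +kernel
theorem r_1027 : allB chkP 10 1051648 = true := by decide +kernel
theorem r_1028 : allB chkP 10 1052672 = true := by decide +kernel
theorem r_1029 : allB chkP 10 1053696 = true := by decide +kernel
theorem r_1030 : allB chkP 10 1054720 = true := by decide +kernel
theorem r_1031 : allB chkP 10 1055744 = true := by decide +kernel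
theorem r_1032 : allB chkP 10 1056768 = true := by decide +kernel
theorem r_1033 : allB chkP 10 1057792 = true := by decide +kernel
theorem r_1034 : allB chkP 10 1058816 = true := by decide +kernel
theorem r_1035 : allB chkP 10 1059840 = true := by decide +kernel
theorem r_1036 : allB chkP 10 1060864 = true := by decide +kernel
theorem r_1037 : allB chkP 10 1061888 = true := by decide +kernel
theorem r_1038 : allB chkP 10 1062912 = true := by decide +kernel
theorem r_1039 : allB chkP 10 1063936 = true := by decide +kernel
theorem r_1040 : allB chkP 10 1064960 = true := by decide +kernel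
theorem r_1041 : allB chkP 10 1065984 = true := by decide +kernel
theorem r_1042 : allB chkP 10 1067008 = true := by decide +kernel
theorem r_1043 : allB chkP 10 1068032 = true := by decide +kernel
theorem r_1044 : allB chkP 10 1069056 = true := by decide +kernel
theorem r_1045 : allB chkP 10 1070080 = true := by decide +kernel
theorem r_1046 : allB chkP 10 1071104 = true := by decide +kernel
theorem r_1047 : allB chkP 10 1072128 = true := by decide +kernel
theorem r_1048 : allB chkP 10 1073152 = true := by decide +kernel
theorem r_1049 : allB chkP 10 1074176 = true := by decide +kernel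
theorem r_1050 : allB chkP 10 1075200 = true := by decide +kernel
theorem r_1051 : allB chkP 10 1076224 = true := by decide +kernel
theorem r_1052 : allB chkP 10 1077248 = true := by decide +kernel
theorem r_1053 : allB chkP 10 1078272 = true := by decide +kernel
theorem r_1054 : allB chkP 10 1079296 = true := by decide +kernel
theorem r_1055 : allB chkP 10 1080320 = true := by decide +kernel
theorem blk_21 : ∀ u, 1032192 ≤ u → u < 1081344 → chkP u = true := by
  intro u h0 hu
  rcases Nat.lt_or_ge u 1033216 with h | h
  · exact allB_spec _ _ _ r_1008 u (by omega) (by omega)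
  clear h0
  rename' h => h0
  rcases Nat.lt_or_ge u 1034240 with h | h
  · exact allB_spec _ _ _ r_1009 u (by omega) (by omega)
  clear h0
  rename' h => h0
  rcases Nat.lt_or_ge u 1035264 with h | h
  · exact allB_spec _ _ _ r_1010 u (by omega) (by omega)
  clear h0
  rename' h => h0
  rcases Nat.lt_or_ge u 1036288 with h | h
  · exact allB_spec _ _ _ r_1011 u (by omega) (by omega)
  clear h0
  rename' h => h0
  rcases Nat.lt_or_ge u 1037312 with h | h
  · exact allB_spec _ _ _ r_1012 u (by omega) (by omega)
  clear h0
  rename' h => h0
  rcases Nat.lt_or_ge u 1038336 with h | h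
  · exact allB_spec _ _ _ r_1013 u (by omega) (by omega)
  clear h0
  rename' h => h0
  rcases Nat.lt_or_ge u 1039360 with h | h
  · exact allB_spec _ _ _ r_1014 u (by omega) (by omega)
  clear h0
  rename' h => h0
  rcases Nat.lt_or_ge u 1040384 with h | h
  · exact allB_spec _ _ _ r_1015 u (by omega) (by omega)
  clear h0
  rename' h => h0
  rcases Nat.lt_or_ge u 1041408 with h | h
  · exact allB_spec _ _ _ r_1016 u (by omega) (by omega)
  clear h0
  rename' h => h0
  rcases Nat.lt_or_ge u 1042432 with h | h
  · exact allB_spec _ _ _ r_1017 u (by omega) (by omega)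
  clear h0
  rename' h => h0
  rcases Nat.lt_or_ge u 1043456 with h | h
  · exact allB_spec _ _ _ r_1018 u (by omega) (by omega)
  clear h0
  rename' h => h0
  rcases Nat.lt_or_ge u 1044480 with h | h
  · exact allB_spec _ _ _ r_1019 u (by omega) (by omega)
  clear h0
  rename' h => h0
  rcases Nat.lt_or_ge u 1045504 with h | h
  · exact allB_spec _ _ _ r_1020 u (by omega) (by omega)
  clear h0
  rename' h => h0
  rcases Nat.lt_or_ge u 1046528 with h | h
  · exact allB_spec _ _ _ r_1021 u (by omega) (by omega)
  clear h0
  rename' h => h0
  rcases Nat.lt_or_ge u 1047552 with h | h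
  · exact allB_spec _ _ _ r_1022 u (by omega) (by omega)
  clear h0
  rename' h => h0
  rcases Nat.lt_or_ge u 1048576 with h | h
  · exact allB_spec _ _ _ r_1023 u (by omega) (by omega)
  clear h0
  rename' h => h0
  rcases Nat.lt_or_ge u 1049600 with h | h
  · exact allB_spec _ _ _ r_1024 u (by omega) (by omega)
  clear h0
  rename' h => h0
  rcases Nat.lt_or_ge u 1050624 with h | h
  · exact allB_spec _ _ _ r_1025 u (by omega) (by omega)
  clear h0
  rename' h => h0
  rcases Nat.lt_or_ge u 1051648 with h | h
  · exact allB_spec _ _ _ r_1026 u (by omega) (by omega)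
  clear h0
  rename' h => h0
  rcases Nat.lt_or_ge u 1052672 with h | h
  · exact allB_spec _ _ _ r_1027 u (by omega) (by omega)
  clear h0
  rename' h => h0
  rcases Nat.lt_or_ge u 1053696 with h | h
  · exact allB_spec _ _ _ r_1028 u (by omega) (by omega)
  clear h0
  rename' h => h0
  rcases Nat.lt_or_ge u 1054720 with h | h
  · exact allB_spec _ _ _ r_1029 u (by omega) (by omega)
  clear h0
  rename' h => h0
  rcases Nat.lt_or_ge u 1055744 with h | h
  · exact allB_spec _ _ _ r_1030 u (by omega) (by omega)
  clear h0
  rename' h => h0
  rcases Nat.lt_or_ge u 1056768 with h | h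
  · exact allB_spec _ _ _ r_1031 u (by omega) (by omega)
  clear h0
  rename' h => h0
  rcases Nat.lt_or_ge u 1057792 with h | h
  · exact allB_spec _ _ _ r_1032 u (by omega) (by omega)
  clear h0
  rename' h => h0
  rcases Nat.lt_or_ge u 1058816 with h | h
  · exact allB_spec _ _ _ r_1033 u (by omega) (by omega)
  clear h0
  rename' h => h0
  rcases Nat.lt_or_ge u 1059840 with h | h
  · exact allB_spec _ _ _ r_1034 u (by omega) (by omega)
  clear h0
  rename' h => h0
  rcases Nat.lt_or_ge u 1060864 with h | h
  · exact allB_spec _ _ _ r_1035 u (by omega) (by omega)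
  clear h0
  rename' h => h0
  rcases Nat.lt_or_ge u 1061888 with h | h
  · exact allB_spec _ _ _ r_1036 u (by omega) (by omega)
  clear h0
  rename' h => h0
  rcases Nat.lt_or_ge u 1062912 with h | h
  · exact allB_spec _ _ _ r_1037 u (by omega) (by omega)
  clear h0
  rename' h => h0
  rcases Nat.lt_or_ge u 1063936 with h | h
  · exact allB_spec _ _ _ r_1038 u (by omega) (by omega)
  clear h0
  rename' h => h0
  rcases Nat.lt_or_ge u 1064960 with h | h
  · exact allB_spec _ _ _ r_1039 u (by omega) (by omega)
  clear h0
  rename' h => h0
  rcases Nat.lt_or_ge u 1065984 with h | h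
  · exact allB_spec _ _ _ r_1040 u (by omega) (by omega)
  clear h0
  rename' h => h0
  rcases Nat.lt_or_ge u 1067008 with h | h
  · exact allB_spec _ _ _ r_1041 u (by omega) (by omega)
  clear h0
  rename' h => h0
  rcases Nat.lt_or_ge u 1068032 with h | h
  · exact allB_spec _ _ _ r_1042 u (by omega) (by omega)
  clear h0
  rename' h => h0
  rcases Nat.lt_or_ge u 1069056 with h | h
  · exact allB_spec _ _ _ r_1043 u (by omega) (by omega)
  clear h0
  rename' h => h0
  rcases Nat.lt_or_ge u 1070080 with h | h
  · exact allB_spec _ _ _ r_1044 u (by omega) (by omega)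
  clear h0
  rename' h => h0
  rcases Nat.lt_or_ge u 1071104 with h | h
  · exact allB_spec _ _ _ r_1045 u (by omega) (by omega)
  clear h0
  rename' h => h0
  rcases Nat.lt_or_ge u 1072128 with h | h
  · exact allB_spec _ _ _ r_1046 u (by omega) (by omega)
  clear h0
  rename' h => h0
  rcases Nat.lt_or_ge u 1073152 with h | h
  · exact allB_spec _ _ _ r_1047 u (by omega) (by omega)
  clear h0
  rename' h => h0
  rcases Nat.lt_or_ge u 1074176 with h | h
  · exact allB_spec _ _ _ r_1048 u (by omega) (by omega)
  clear h0
  rename' h => h0
  rcases Nat.lt_or_ge u 1075200 with h | h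
  · exact allB_spec _ _ _ r_1049 u (by omega) (by omega)
  clear h0
  rename' h => h0
  rcases Nat.lt_or_ge u 1076224 with h | h
  · exact allB_spec _ _ _ r_1050 u (by omega) (by omega)
  clear h0
  rename' h => h0
  rcases Nat.lt_or_ge u 1077248 with h | h
  · exact allB_spec _ _ _ r_1051 u (by omega) (by omega)
  clear h0
  rename' h => h0
  rcases Nat.lt_or_ge u 1078272 with h | h
  · exact allB_spec _ _ _ r_1052 u (by omega) (by omega)
  clear h0
  rename' h => h0
  rcases Nat.lt_or_ge u 1079296 with h | h
  · exact allB_spec _ _ _ r_1053 u (by omega) (by omega)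
  clear h0
  rename' h => h0
  rcases Nat.lt_or_ge u 1080320 with h | h
  · exact allB_spec _ _ _ r_1054 u (by omega) (by omega)
  clear h0
  rename' h => h0
  rcases Nat.lt_or_ge u 1081344 with h | h
  · exact allB_spec _ _ _ r_1055 u (by omega) (by omega)
  clear h0
  rename' h => h0
  omega
end H9.HN.TCHN
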