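import Cfsg.Agent.Lib.H9.HN.TCHN.Chk
set_option Elab.async false
set_option autoImplicit false
set_option maxRecDepth 100000
set_option linter.all false
namespace H9.HN.TCHN
open H35.TC
theorem r_1056 : allB chkP 10 1081344 = true := by decide +kernel
theorem r_1057 : allB chkP 10 1082368 = true := by decide +kernel
theorem r_1058 : allB chkP 10 1083392 = true := by decide +kernel
theorem r_1059 : allB chkP 10 1084416 = true := by decide +kernel
theorem r_1060 : allB chkP 10 1085440 = true := by decide +kernel
theorem r_1061 : allB chkP 10 1086464 = true := by decide +kernel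
theorem r_1062 : allB chkP 10 1087488 = true := by decide +kernel
theorem r_1063 : allB chkP 10 1088512 = true := by decide +kernel
theorem r_1064 : allB chkP 10 1089536 = true := by decide +kernel
theorem r_1065 : allB chkP 10 1090560 = true := by decide +kernel
theorem r_1066 : allB chkP 10 1091584 = true := by decide +kernel
theorem r_1067 : allB chkP 10 1092608 = true := by decide +kernel
theorem r_1068 : allB chkP 10 1093632 = true := by decide +kernel
theorem r_1069 : allB chkP 10 1094656 = true := by decide +kernel
theorem r_1070 : allB chkP 10 1095680 = true := by decide +kernel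
theorem r_1071 : allB chkP 10 1096704 = true := by decide +kernel
theorem r_1072 : allB chkP 10 1097728 = true := by decide +kernel
theorem r_1073 : allB chkP 10 1098752 = true := by decide +kernel
theorem r_1074 : allB chkP 10 1099776 = true := by decide +kernel
theorem r_1075 : allB chkP 10 1100800 = true := by decide +kernel
theorem r_1076 : allB chkP 10 1101824 = true := by decide +kernel
theorem r_1077 : allB chkP 10 1102848 = true := by decide +kernel
theorem r_1078 : allB chkP 10 1103872 = true := by decide +kernel
theorem r_1079 : allB chkP 10 1104896 = true := by decide +kernel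
theorem r_1080 : allB chkP 10 1105920 = true := by decide +kernel
theorem r_1081 : allB chkP 10 1106944 = true := by decide +kernel
theorem r_1082 : allB chkP 10 1107968 = true := by decide +kernel
theorem r_1083 : allB chkP 10 1108992 = true := by decide +kernel
theorem r_1084 : allB chkP 10 1110016 = true := by decide +kernel
theorem r_1085 : allB chkP 10 1111040 = true := by decide +kernel
theorem r_1086 : allB chkP 10 1112064 = true := by decide +kernel
theorem r_1087 : allB chkP 10 1113088 = true := by decide +kernel
theorem r_1088 : allB chkP 10 1114112 = true := by decide +kernel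
theorem r_1089 : allB chkP 10 1115136 = true := by decide +kernel
theorem r_1090 : allB chkP 10 1116160 = true := by decide +kernel
theorem r_1091 : allB chkP 10 1117184 = true := by decide +kernel
theorem r_1092 : allB chkP 10 1118208 = true := by decide +kernel
theorem r_1093 : allB chkP 10 1119232 = true := by decide +kernel
theorem r_1094 : allB chkP 10 1120256 = true := by decide +kernel
theorem r_1095 : allB chkP 10 1121280 = true := by decide +kernel
theorem r_1096 : allB chkP 10 1122304 = true := by decide +kernel
theorem r_1097 : allB chkP 10 1123328 = true := by decide +kernel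
theorem r_1098 : allB chkP 10 1124352 = true := by decide +kernel
theorem r_1099 : allB chkP 10 1125376 = true := by decide +kernel
theorem r_1100 : allB chkP 10 1126400 = true := by decide +kernel
theorem r_1101 : allB chkP 10 1127424 = true := by decide +kernel
theorem r_1102 : allB chkP 10 1128448 = true := by decide +kernel
theorem r_1103 : allB chkP 10 1129472 = true := by decide +kernel
theorem blk_22 : ∀ u, 1081344 ≤ u → u < 1130496 → chkP u = true := by
  intro u h0 hu
  rcases Nat.lt_or_ge u 1082368 with h | h
  · exact allB_spec _ _ _ r_1056 u (by omega) (by omega)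
  clear h0
  rename' h => h0
  rcases Nat.lt_or_ge u 1083392 with h | h
  · exact allB_spec _ _ _ r_1057 u (by omega) (by omega)
  clear h0
  rename' h => h0
  rcases Nat.lt_or_ge u 1084416 with h | h
  · exact allB_spec _ _ _ r_1058 u (by omega) (by omega)
  clear h0
  rename' h => h0
  rcases Nat.lt_or_ge u 1085440 with h | h
  · exact allB_spec _ _ _ r_1059 u (by omega) (by omega)
  clear h0
  rename' h => h0
  rcases Nat.lt_or_ge u 1086464 with h | h
  · exact allB_spec _ _ _ r_1060 u (by omega) (by omega)
  clear h0
  rename' h => h0
  rcases Nat.lt_or_ge u 1087488 with h | h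
  · exact allB_spec _ _ _ r_1061 u (by omega) (by omega)
  clear h0
  rename' h => h0
  rcases Nat.lt_or_ge u 1088512 with h | h
  · exact allB_spec _ _ _ r_1062 u (by omega) (by omega)
  clear h0
  rename' h => h0
  rcases Nat.lt_or_ge u 1089536 with h | h
  · exact allB_spec _ _ _ r_1063 u (by omega) (by omega)
  clear h0
  rename' h => h0
  rcases Nat.lt_or_ge u 1090560 with h | h
  · exact allB_spec _ _ _ r_1064 u (by omega) (by omega)
  clear h0
  rename' h => h0
  rcases Nat.lt_or_ge u 1091584 with h | h
  · exact allB_spec _ _ _ r_1065 u (by omega) (by omega)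
  clear h0
  rename' h => h0
  rcases Nat.lt_or_ge u 1092608 with h | h
  · exact allB_spec _ _ _ r_1066 u (by omega) (by omega)
  clear h0
  rename' h => h0
  rcases Nat.lt_or_ge u 1093632 with h | h
  · exact allB_spec _ _ _ r_1067 u (by omega) (by omega)
  clear h0
  rename' h => h0
  rcases Nat.lt_or_ge u 1094656 with h | h
  · exact allB_spec _ _ _ r_1068 u (by omega) (by omega)
  clear h0
  rename' h => h0
  rcases Nat.lt_or_ge u 1095680 with h | h
  · exact allB_spec _ _ _ r_1069 u (by omega) (by omega)
  clear h0
  rename' h => h0
  rcases Nat.lt_or_ge u 1096704 with h | h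
  · exact allB_spec _ _ _ r_1070 u (by omega) (by omega)
  clear h0
  rename' h => h0
  rcases Nat.lt_or_ge u 1097728 with h | h
  · exact allB_spec _ _ _ r_1071 u (by omega) (by omega)
  clear h0
  rename' h => h0
  rcases Nat.lt_or_ge u 1098752 with h | h
  · exact allB_spec _ _ _ r_1072 u (by omega) (by omega)
  clear h0
  rename' h => h0
  rcases Nat.lt_or_ge u 1099776 with h | h
  · exact allB_spec _ _ _ r_1073 u (by omega) (by omega)
  clear h0
  rename' h => h0
  rcases Nat.lt_or_ge u 1100800 with h | h
  · exact allB_spec _ _ _ r_1074 u (by omega) (by omega)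
  clear h0
  rename' h => h0
  rcases Nat.lt_or_ge u 1101824 with h | h
  · exact allB_spec _ _ _ r_1075 u (by omega) (by omega)
  clear h0
  rename' h => h0
  rcases Nat.lt_or_ge u 1102848 with h | h
  · exact allB_spec _ _ _ r_1076 u (by omega) (by omega)
  clear h0
  rename' h => h0
  rcases Nat.lt_or_ge u 1103872 with h | h
  · exact allB_spec _ _ _ r_1077 u (by omega) (by omega)
  clear h0
  rename' h => h0
  rcases Nat.lt_or_ge u 1104896 with h | h
  · exact allB_spec _ _ _ r_1078 u (by omega) (by omega)
  clear h0
  rename' h => h0
  rcases Nat.lt_or_ge u 1105920 with h | h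
  · exact allB_spec _ _ _ r_1079 u (by omega) (by omega)
  clear h0
  rename' h => h0
  rcases Nat.lt_or_ge u 1106944 with h | h
  · exact allB_spec _ _ _ r_1080 u (by omega) (by omega)
  clear h0
  rename' h => h0
  rcases Nat.lt_or_ge u 1107968 with h | h
  · exact allB_spec _ _ _ r_1081 u (by omega) (by omega)
  clear h0
  rename' h => h0
  rcases Nat.lt_or_ge u 1108992 with h | h
  · exact allB_spec _ _ _ r_1082 u (by omega) (by omega)
  clear h0
  rename' h => h0
  rcases Nat.lt_or_ge u 1110016 with h | h
  · exact allB_spec _ _ _ r_1083 u (by omega) (by omega)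
  clear h0
  rename' h => h0
  rcases Nat.lt_or_ge u 1111040 with h | h
  · exact allB_spec _ _ _ r_1084 u (by omega) (by omega)
  clear h0
  rename' h => h0
  rcases Nat.lt_or_ge u 1112064 with h | h
  · exact allB_spec _ _ _ r_1085 u (by omega) (by omega)
  clear h0
  rename' h => h0
  rcases Nat.lt_or_ge u 1113088 with h | h
  · exact allB_spec _ _ _ r_1086 u (by omega) (by omega)
  clear h0
  rename' h => h0
  rcases Nat.lt_or_ge u 1114112 with h | h
  · exact allB_spec _ _ _ r_1087 u (by omega) (by omega)
  clear h0
  rename' h => h0
  rcases Nat.lt_or_ge u 1115136 with h | h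
  · exact allB_spec _ _ _ r_1088 u (by omega) (by omega)
  clear h0
  rename' h => h0
  rcases Nat.lt_or_ge u 1116160 with h | h
  · exact allB_spec _ _ _ r_1089 u (by omega) (by omega)
  clear h0
  rename' h => h0
  rcases Nat.lt_or_ge u 1117184 with h | h
  · exact allB_spec _ _ _ r_1090 u (by omega) (by omega)
  clear h0
  rename' h => h0
  rcases Nat.lt_or_ge u 1118208 with h | h
  · exact allB_spec _ _ _ r_1091 u (by omega) (by omega)
  clear h0
  rename' h => h0
  rcases Nat.lt_or_ge u 1119232 with h | h
  · exact allB_spec _ _ _ r_1092 u (by omega) (by omega)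
  clear h0
  rename' h => h0
  rcases Nat.lt_or_ge u 1120256 with h | h
  · exact allB_spec _ _ _ r_1093 u (by omega) (by omega)
  clear h0
  rename' h => h0
  rcases Nat.lt_or_ge u 1121280 with h | h
  · exact allB_spec _ _ _ r_1094 u (by omega) (by omega)
  clear h0
  rename' h => h0
  rcases Nat.lt_or_ge u 1122304 with h | h
  · exact allB_spec _ _ _ r_1095 u (by omega) (by omega)
  clear h0
  rename' h => h0
  rcases Nat.lt_or_ge u 1123328 with h | h
  · exact allB_spec _ _ _ r_1096 u (by omega) (by omega)
  clear h0
  rename' h => h0
  rcases Nat.lt_or_ge u 1124352 with h | h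
  · exact allB_spec _ _ _ r_1097 u (by omega) (by omega)
  clear h0
  rename' h => h0
  rcases Nat.lt_or_ge u 1125376 with h | h
  · exact allB_spec _ _ _ r_1098 u (by omega) (by omega)
  clear h0
  rename' h => h0
  rcases Nat.lt_or_ge u 1126400 with h | h
  · exact allB_spec _ _ _ r_1099 u (by omega) (by omega)
  clear h0
  rename' h => h0
  rcases Nat.lt_or_ge u 1127424 with h | h
  · exact allB_spec _ _ _ r_1100 u (by omega) (by omega)
  clear h0
  rename' h => h0
  rcases Nat.lt_or_ge u 1128448 with h | h
  · exact allB_spec _ _ _ r_1101 u (by omega) (by omega)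
  clear h0
  rename' h => h0
  rcases Nat.lt_or_ge u 1129472 with h | h
  · exact allB_spec _ _ _ r_1102 u (by omega) (by omega)
  clear h0
  rename' h => h0
  rcases Nat.lt_or_ge u 1130496 with h | h
  · exact allB_spec _ _ _ r_1103 u (by omega) (by omega)
  clear h0
  rename' h => h0
  omega
end H9.HN.TCHN
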