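import Cfsg.Agent.Lib.H9.HN.TCHN.Chk
set_option Elab.async false
set_option autoImplicit false
set_option maxRecDepth 100000
set_option linter.all false
namespace H9.HN.TCHN
open H35.TC
theorem r_1104 : allB chkP 10 1130496 = true := by decide +kernel
theorem r_1105 : allB chkP 10 1131520 = true := by decide +kernel
theorem r_1106 : allB chkP 10 1132544 = true := by decide +kernel
theorem r_1107 : allB chkP 10 1133568 = true := by decide +kernel
theorem r_1108 : allB chkP 10 1134592 = true := by decide +kernel
theorem r_1109 : allB chkP 10 1135616 = true := by decide +kernel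
theorem r_1110 : allB chkP 10 1136640 = true := by decide +kernel
theorem r_1111 : allB chkP 10 1137664 = true := by decide +kernel
theorem r_1112 : allB chkP 10 1138688 = true := by decide +kernel
theorem r_1113 : allB chkP 10 1139712 = true := by decide +kernel
theorem r_1114 : allB chkP 10 1140736 = true := by decide +kernel
theorem r_1115 : allB chkP 10 1141760 = true := by decide +kernel
theorem r_1116 : allB chkP 10 1142784 = true := by decide +kernel
theorem r_1117 : allB chkP 10 1143808 = true := by decide +kernel
theorem r_1118 : allB chkP 10 1144832 = true := by decide +kernel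
theorem r_1119 : allB chkP 10 1145856 = true := by decide +kernel
theorem r_1120 : allB chkP 10 1146880 = true := by decide +kernel
theorem r_1121 : allB chkP 10 1147904 = true := by decide +kernel
theorem r_1122 : allB chkP 10 1148928 = true := by decide +kernel
theorem r_1123 : allB chkP 10 1149952 = true := by decide +kernel
theorem r_1124 : allB chkP 10 1150976 = true := by decide +kernel
theorem r_1125 : allB chkP 10 1152000 = true := by decide +kernel
theorem r_1126 : allB chkP 10 1153024 = true := by decide +kernel
theorem r_1127 : allB chkP 10 1154048 = true := by decide +kernel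
theorem r_1128 : allB chkP 10 1155072 = true := by decide +kernel
theorem r_1129 : allB chkP 10 1156096 = true := by decide +kernel
theorem r_1130 : allB chkP 10 1157120 = true := by decide +kernel
theorem r_1131 : allB chkP 10 1158144 = true := by decide +kernel
theorem r_1132 : allB chkP 10 1159168 = true := by decide +kernel
theorem r_1133 : allB chkP 10 1160192 = true := by decide +kernel
theorem r_1134 : allB chkP 10 1161216 = true := by decide +kernel
theorem r_1135 : allB chkP 10 1162240 = true := by decide +kernel
theorem r_1136 : allB chkP 10 1163264 = true := by decide +kernel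
theorem r_1137 : allB chkP 10 1164288 = true := by decide +kernel
theorem r_1138 : allB chkP 10 1165312 = true := by decide +kernel
theorem r_1139 : allB chkP 10 1166336 = true := by decide +kernel
theorem r_1140 : allB chkP 10 1167360 = true := by decide +kernel
theorem r_1141 : allB chkP 10 1168384 = true := by decide +kernel
theorem r_1142 : allB chkP 10 1169408 = true := by decide +kernel
theorem r_1143 : allB chkP 10 1170432 = true := by decide +kernel
theorem r_1144 : allB chkP 10 1171456 = true := by decide +kernel
theorem r_1145 : allB chkP 10 1172480 = true := by decide +kernel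
theorem r_1146 : allB chkP 10 1173504 = true := by decide +kernel
theorem r_1147 : allB chkP 10 1174528 = true := by decide +kernel
theorem r_1148 : allB chkP 10 1175552 = true := by decide +kernel
theorem r_1149 : allB chkP 10 1176576 = true := by decide +kernel
theorem r_1150 : allB chkP 10 1177600 = true := by decide +kernel
theorem r_1151 : allB chkP 10 1178624 = true := by decide +kernel
theorem blk_23 : ∀ u, 1130496 ≤ u → u < 1179648 → chkP u = true := by
  intro u h0 hu
  rcases Nat.lt_or_ge u 1131520 with h | h
  · exact allB_spec _ _ _ r_1104 u (by omega) (by omega)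
  clear h0
  rename' h => h0
  rcases Nat.lt_or_ge u 1132544 with h | h
  · exact allB_spec _ _ _ r_1105 u (by omega) (by omega)
  clear h0
  rename' h => h0
  rcases Nat.lt_or_ge u 1133568 with h | h
  · exact allB_spec _ _ _ r_1106 u (by omega) (by omega)
  clear h0
  rename' h => h0
  rcases Nat.lt_or_ge u 1134592 with h | h
  · exact allB_spec _ _ _ r_1107 u (by omega) (by omega)
  clear h0
  rename' h => h0
  rcases Nat.lt_or_ge u 1135616 with h | h
  · exact allB_spec _ _ _ r_1108 u (by omega) (by omega)
  clear h0
  rename' h => h0
  rcases Nat.lt_or_ge u 1136640 with h | h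
  · exact allB_spec _ _ _ r_1109 u (by omega) (by omega)
  clear h0
  rename' h => h0
  rcases Nat.lt_or_ge u 1137664 with h | h
  · exact allB_spec _ _ _ r_1110 u (by omega) (by omega)
  clear h0
  rename' h => h0
  rcases Nat.lt_or_ge u 1138688 with h | h
  · exact allB_spec _ _ _ r_1111 u (by omega) (by omega)
  clear h0
  rename' h => h0
  rcases Nat.lt_or_ge u 1139712 with h | h
  · exact allB_spec _ _ _ r_1112 u (by omega) (by omega)
  clear h0
  rename' h => h0
  rcases Nat.lt_or_ge u 1140736 with h | h
  · exact allB_spec _ _ _ r_1113 u (by omega) (by omega)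
  clear h0
  rename' h => h0
  rcases Nat.lt_or_ge u 1141760 with h | h
  · exact allB_spec _ _ _ r_1114 u (by omega) (by omega)
  clear h0
  rename' h => h0
  rcases Nat.lt_or_ge u 1142784 with h | h
  · exact allB_spec _ _ _ r_1115 u (by omega) (by omega)
  clear h0
  rename' h => h0
  rcases Nat.lt_or_ge u 1143808 with h | h
  · exact allB_spec _ _ _ r_1116 u (by omega) (by omega)
  clear h0
  rename' h => h0
  rcases Nat.lt_or_ge u 1144832 with h | h
  · exact allB_spec _ _ _ r_1117 u (by omega) (by omega)
  clear h0
  rename' h => h0
  rcases Nat.lt_or_ge u 1145856 with h | h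
  · exact allB_spec _ _ _ r_1118 u (by omega) (by omega)
  clear h0
  rename' h => h0
  rcases Nat.lt_or_ge u 1146880 with h | h
  · exact allB_spec _ _ _ r_1119 u (by omega) (by omega)
  clear h0
  rename' h => h0
  rcases Nat.lt_or_ge u 1147904 with h | h
  · exact allB_spec _ _ _ r_1120 u (by omega) (by omega)
  clear h0
  rename' h => h0
  rcases Nat.lt_or_ge u 1148928 with h | h
  · exact allB_spec _ _ _ r_1121 u (by omega) (by omega)
  clear h0
  rename' h => h0
  rcases Nat.lt_or_ge u 1149952 with h | h
  · exact allB_spec _ _ _ r_1122 u (by omega) (by omega)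
  clear h0
  rename' h => h0
  rcases Nat.lt_or_ge u 1150976 with h | h
  · exact allB_spec _ _ _ r_1123 u (by omega) (by omega)
  clear h0
  rename' h => h0
  rcases Nat.lt_or_ge u 1152000 with h | h
  · exact allB_spec _ _ _ r_1124 u (by omega) (by omega)
  clear h0
  rename' h => h0
  rcases Nat.lt_or_ge u 1153024 with h | h
  · exact allB_spec _ _ _ r_1125 u (by omega) (by omega)
  clear h0
  rename' h => h0
  rcases Nat.lt_or_ge u 1154048 with h | h
  · exact allB_spec _ _ _ r_1126 u (by omega) (by omega)
  clear h0
  rename' h => h0
  rcases Nat.lt_or_ge u 1155072 with h | h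
  · exact allB_spec _ _ _ r_1127 u (by omega) (by omega)
  clear h0
  rename' h => h0
  rcases Nat.lt_or_ge u 1156096 with h | h
  · exact allB_spec _ _ _ r_1128 u (by omega) (by omega)
  clear h0
  rename' h => h0
  rcases Nat.lt_or_ge u 1157120 with h | h
  · exact allB_spec _ _ _ r_1129 u (by omega) (by omega)
  clear h0
  rename' h => h0
  rcases Nat.lt_or_ge u 1158144 with h | h
  · exact allB_spec _ _ _ r_1130 u (by omega) (by omega)
  clear h0
  rename' h => h0
  rcases Nat.lt_or_ge u 1159168 with h | h
  · exact allB_spec _ _ _ r_1131 u (by omega) (by omega)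
  clear h0
  rename' h => h0
  rcases Nat.lt_or_ge u 1160192 with h | h
  · exact allB_spec _ _ _ r_1132 u (by omega) (by omega)
  clear h0
  rename' h => h0
  rcases Nat.lt_or_ge u 1161216 with h | h
  · exact allB_spec _ _ _ r_1133 u (by omega) (by omega)
  clear h0
  rename' h => h0
  rcases Nat.lt_or_ge u 1162240 with h | h
  · exact allB_spec _ _ _ r_1134 u (by omega) (by omega)
  clear h0
  rename' h => h0
  rcases Nat.lt_or_ge u 1163264 with h | h
  · exact allB_spec _ _ _ r_1135 u (by omega) (by omega)
  clear h0
  rename' h => h0
  rcases Nat.lt_or_ge u 1164288 with h | h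
  · exact allB_spec _ _ _ r_1136 u (by omega) (by omega)
  clear h0
  rename' h => h0
  rcases Nat.lt_or_ge u 1165312 with h | h
  · exact allB_spec _ _ _ r_1137 u (by omega) (by omega)
  clear h0
  rename' h => h0
  rcases Nat.lt_or_ge u 1166336 with h | h
  · exact allB_spec _ _ _ r_1138 u (by omega) (by omega)
  clear h0
  rename' h => h0
  rcases Nat.lt_or_ge u 1167360 with h | h
  · exact allB_spec _ _ _ r_1139 u (by omega) (by omega)
  clear h0
  rename' h => h0
  rcases Nat.lt_or_ge u 1168384 with h | h
  · exact allB_spec _ _ _ r_1140 u (by omega) (by omega)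
  clear h0
  rename' h => h0
  rcases Nat.lt_or_ge u 1169408 with h | h
  · exact allB_spec _ _ _ r_1141 u (by omega) (by omega)
  clear h0
  rename' h => h0
  rcases Nat.lt_or_ge u 1170432 with h | h
  · exact allB_spec _ _ _ r_1142 u (by omega) (by omega)
  clear h0
  rename' h => h0
  rcases Nat.lt_or_ge u 1171456 with h | h
  · exact allB_spec _ _ _ r_1143 u (by omega) (by omega)
  clear h0
  rename' h => h0
  rcases Nat.lt_or_ge u 1172480 with h | h
  · exact allB_spec _ _ _ r_1144 u (by omega) (by omega)
  clear h0
  rename' h => h0
  rcases Nat.lt_or_ge u 1173504 with h | h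
  · exact allB_spec _ _ _ r_1145 u (by omega) (by omega)
  clear h0
  rename' h => h0
  rcases Nat.lt_or_ge u 1174528 with h | h
  · exact allB_spec _ _ _ r_1146 u (by omega) (by omega)
  clear h0
  rename' h => h0
  rcases Nat.lt_or_ge u 1175552 with h | h
  · exact allB_spec _ _ _ r_1147 u (by omega) (by omega)
  clear h0
  rename' h => h0
  rcases Nat.lt_or_ge u 1176576 with h | h
  · exact allB_spec _ _ _ r_1148 u (by omega) (by omega)
  clear h0
  rename' h => h0
  rcases Nat.lt_or_ge u 1177600 with h | h
  · exact allB_spec _ _ _ r_1149 u (by omega) (by omega)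
  clear h0
  rename' h => h0
  rcases Nat.lt_or_ge u 1178624 with h | h
  · exact allB_spec _ _ _ r_1150 u (by omega) (by omega)
  clear h0
  rename' h => h0
  rcases Nat.lt_or_ge u 1179648 with h | h
  · exact allB_spec _ _ _ r_1151 u (by omega) (by omega)
  clear h0
  rename' h => h0
  omega
end H9.HN.TCHN
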