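import Cfsg.Agent.Lib.H9.HN.TCHN.Chk
set_option Elab.async false
set_option autoImplicit false
set_option maxRecDepth 100000
set_option linter.all false
namespace H9.HN.TCHN
open H35.TC
theorem r_1152 : allB chkP 10 1179648 = true := by decide +kernel
theorem r_1153 : allB chkP 10 1180672 = true := by decide +kernel
theorem r_1154 : allB chkP 10 1181696 = true := by decide +kernel
theorem r_1155 : allB chkP 10 1182720 = true := by decide +kernel
theorem r_1156 : allB chkP 10 1183744 = true := by decide +kernel
theorem r_1157 : allB chkP 10 1184768 = true := by decide +kernel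
theorem r_1158 : allB chkP 10 1185792 = true := by decide +kernel
theorem r_1159 : allB chkP 10 1186816 = true := by decide +kernel
theorem r_1160 : allB chkP 10 1187840 = true := by decide +kernel
theorem r_1161 : allB chkP 10 1188864 = true := by decide +kernel
theorem r_1162 : allB chkP 10 1189888 = true := by decide +kernel
theorem r_1163 : allB chkP 10 1190912 = true := by decide +kernel
theorem r_1164 : allB chkP 10 1191936 = true := by decide +kernel
theorem r_1165 : allB chkP 10 1192960 = true := by decide +kernel
theorem r_1166 : allB chkP 10 1193984 = true := by decide +kernel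
theorem r_1167 : allB chkP 10 1195008 = true := by decide +kernel
theorem r_1168 : allB chkP 10 1196032 = true := by decide +kernel
theorem r_1169 : allB chkP 10 1197056 = true := by decide +kernel
theorem r_1170 : allB chkP 10 1198080 = true := by decide +kernel
theorem r_1171 : allB chkP 10 1199104 = true := by decide +kernel
theorem r_1172 : allB chkP 10 1200128 = true := by decide +kernel
theorem r_1173 : allB chkP 10 1201152 = true := by decide +kernel
theorem r_1174 : allB chkP 10 1202176 = true := by decide +kernel
theorem r_1175 : allB chkP 10 1203200 = true := by decide +kernel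
theorem r_1176 : allB chkP 10 1204224 = true := by decide +kernel
theorem r_1177 : allB chkP 10 1205248 = true := by decide +kernel
theorem r_1178 : allB chkP 10 1206272 = true := by decide +kernel
theorem r_1179 : allB chkP 10 1207296 = true := by decide +kernel
theorem r_1180 : allB chkP 10 1208320 = true := by decide +kernel
theorem r_1181 : allB chkP 10 1209344 = true := by decide +kernel
theorem r_1182 : allB chkP 10 1210368 = true := by decide +kernel
theorem r_1183 : allB chkP 10 1211392 = true := by decide +kernel
theorem r_1184 : allB chkP 10 1212416 = true := by decide +kernel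
theorem r_1185 : allB chkP 10 1213440 = true := by decide +kernel
theorem r_1186 : allB chkP 10 1214464 = true := by decide +kernel
theorem r_1187 : allB chkP 10 1215488 = true := by decide +kernel
theorem r_1188 : allB chkP 10 1216512 = true := by decide +kernel
theorem r_1189 : allB chkP 10 1217536 = true := by decide +kernel
theorem r_1190 : allB chkP 10 1218560 = true := by decide +kernel
theorem r_1191 : allB chkP 10 1219584 = true := by decide +kernel
theorem r_1192 : allB chkP 10 1220608 = true := by decide +kernel
theorem r_1193 : allB chkP 10 1221632 = true := by decide +kernel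
theorem r_1194 : allB chkP 10 1222656 = true := by decide +kernel
theorem r_1195 : allB chkP 10 1223680 = true := by decide +kernel
theorem r_1196 : allB chkP 10 1224704 = true := by decide +kernel
theorem r_1197 : allB chkP 10 1225728 = true := by decide +kernel
theorem r_1198 : allB chkP 10 1226752 = true := by decide +kernel
theorem r_1199 : allB chkP 10 1227776 = true := by decide +kernel
theorem blk_24 : ∀ u, 1179648 ≤ u → u < 1228800 → chkP u = true := by
  intro u h0 hu
  rcases Nat.lt_or_ge u 1180672 with h | h
  · exact allB_spec _ _ _ r_1152 u (by omega) (by omega)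
  clear h0
  rename' h => h0
  rcases Nat.lt_or_ge u 1181696 with h | h
  · exact allB_spec _ _ _ r_1153 u (by omega) (by omega)
  clear h0
  rename' h => h0
  rcases Nat.lt_or_ge u 1182720 with h | h
  · exact allB_spec _ _ _ r_1154 u (by omega) (by omega)
  clear h0
  rename' h => h0
  rcases Nat.lt_or_ge u 1183744 with h | h
  · exact allB_spec _ _ _ r_1155 u (by omega) (by omega)
  clear h0
  rename' h => h0
  rcases Nat.lt_or_ge u 1184768 with h | h
  · exact allB_spec _ _ _ r_1156 u (by omega) (by omega)
  clear h0
  rename' h => h0
  rcases Nat.lt_or_ge u 1185792 with h | h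
  · exact allB_spec _ _ _ r_1157 u (by omega) (by omega)
  clear h0
  rename' h => h0
  rcases Nat.lt_or_ge u 1186816 with h | h
  · exact allB_spec _ _ _ r_1158 u (by omega) (by omega)
  clear h0
  rename' h => h0
  rcases Nat.lt_or_ge u 1187840 with h | h
  · exact allB_spec _ _ _ r_1159 u (by omega) (by omega)
  clear h0
  rename' h => h0
  rcases Nat.lt_or_ge u 1188864 with h | h
  · exact allB_spec _ _ _ r_1160 u (by omega) (by omega)
  clear h0
  rename' h => h0
  rcases Nat.lt_or_ge u 1189888 with h | h
  · exact allB_spec _ _ _ r_1161 u (by omega) (by omega)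
  clear h0
  rename' h => h0
  rcases Nat.lt_or_ge u 1190912 with h | h
  · exact allB_spec _ _ _ r_1162 u (by omega) (by omega)
  clear h0
  rename' h => h0
  rcases Nat.lt_or_ge u 1191936 with h | h
  · exact allB_spec _ _ _ r_1163 u (by omega) (by omega)
  clear h0
  rename' h => h0
  rcases Nat.lt_or_ge u 1192960 with h | h
  · exact allB_spec _ _ _ r_1164 u (by omega) (by omega)
  clear h0
  rename' h => h0
  rcases Nat.lt_or_ge u 1193984 with h | h
  · exact allB_spec _ _ _ r_1165 u (by omega) (by omega)
  clear h0
  rename' h => h0
  rcases Nat.lt_or_ge u 1195008 with h | h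
  · exact allB_spec _ _ _ r_1166 u (by omega) (by omega)
  clear h0
  rename' h => h0
  rcases Nat.lt_or_ge u 1196032 with h | h
  · exact allB_spec _ _ _ r_1167 u (by omega) (by omega)
  clear h0
  rename' h => h0
  rcases Nat.lt_or_ge u 1197056 with h | h
  · exact allB_spec _ _ _ r_1168 u (by omega) (by omega)
  clear h0
  rename' h => h0
  rcases Nat.lt_or_ge u 1198080 with h | h
  · exact allB_spec _ _ _ r_1169 u (by omega) (by omega)
  clear h0
  rename' h => h0
  rcases Nat.lt_or_ge u 1199104 with h | h
  · exact allB_spec _ _ _ r_1170 u (by omega) (by omega)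
  clear h0
  rename' h => h0
  rcases Nat.lt_or_ge u 1200128 with h | h
  · exact allB_spec _ _ _ r_1171 u (by omega) (by omega)
  clear h0
  rename' h => h0
  rcases Nat.lt_or_ge u 1201152 with h | h
  · exact allB_spec _ _ _ r_1172 u (by omega) (by omega)
  clear h0
  rename' h => h0
  rcases Nat.lt_or_ge u 1202176 with h | h
  · exact allB_spec _ _ _ r_1173 u (by omega) (by omega)
  clear h0
  rename' h => h0
  rcases Nat.lt_or_ge u 1203200 with h | h
  · exact allB_spec _ _ _ r_1174 u (by omega) (by omega)
  clear h0
  rename' h => h0
  rcases Nat.lt_or_ge u 1204224 with h | h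
  · exact allB_spec _ _ _ r_1175 u (by omega) (by omega)
  clear h0
  rename' h => h0
  rcases Nat.lt_or_ge u 1205248 with h | h
  · exact allB_spec _ _ _ r_1176 u (by omega) (by omega)
  clear h0
  rename' h => h0
  rcases Nat.lt_or_ge u 1206272 with h | h
  · exact allB_spec _ _ _ r_1177 u (by omega) (by omega)
  clear h0
  rename' h => h0
  rcases Nat.lt_or_ge u 1207296 with h | h
  · exact allB_spec _ _ _ r_1178 u (by omega) (by omega)
  clear h0
  rename' h => h0
  rcases Nat.lt_or_ge u 1208320 with h | h
  · exact allB_spec _ _ _ r_1179 u (by omega) (by omega)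
  clear h0
  rename' h => h0
  rcases Nat.lt_or_ge u 1209344 with h | h
  · exact allB_spec _ _ _ r_1180 u (by omega) (by omega)
  clear h0
  rename' h => h0
  rcases Nat.lt_or_ge u 1210368 with h | h
  · exact allB_spec _ _ _ r_1181 u (by omega) (by omega)
  clear h0
  rename' h => h0
  rcases Nat.lt_or_ge u 1211392 with h | h
  · exact allB_spec _ _ _ r_1182 u (by omega) (by omega)
  clear h0
  rename' h => h0
  rcases Nat.lt_or_ge u 1212416 with h | h
  · exact allB_spec _ _ _ r_1183 u (by omega) (by omega)
  clear h0
  rename' h => h0
  rcases Nat.lt_or_ge u 1213440 with h | h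
  · exact allB_spec _ _ _ r_1184 u (by omega) (by omega)
  clear h0
  rename' h => h0
  rcases Nat.lt_or_ge u 1214464 with h | h
  · exact allB_spec _ _ _ r_1185 u (by omega) (by omega)
  clear h0
  rename' h => h0
  rcases Nat.lt_or_ge u 1215488 with h | h
  · exact allB_spec _ _ _ r_1186 u (by omega) (by omega)
  clear h0
  rename' h => h0
  rcases Nat.lt_or_ge u 1216512 with h | h
  · exact allB_spec _ _ _ r_1187 u (by omega) (by omega)
  clear h0
  rename' h => h0
  rcases Nat.lt_or_ge u 1217536 with h | h
  · exact allB_spec _ _ _ r_1188 u (by omega) (by omega)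
  clear h0
  rename' h => h0
  rcases Nat.lt_or_ge u 1218560 with h | h
  · exact allB_spec _ _ _ r_1189 u (by omega) (by omega)
  clear h0
  rename' h => h0
  rcases Nat.lt_or_ge u 1219584 with h | h
  · exact allB_spec _ _ _ r_1190 u (by omega) (by omega)
  clear h0
  rename' h => h0
  rcases Nat.lt_or_ge u 1220608 with h | h
  · exact allB_spec _ _ _ r_1191 u (by omega) (by omega)
  clear h0
  rename' h => h0
  rcases Nat.lt_or_ge u 1221632 with h | h
  · exact allB_spec _ _ _ r_1192 u (by omega) (by omega)
  clear h0
  rename' h => h0
  rcases Nat.lt_or_ge u 1222656 with h | h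
  · exact allB_spec _ _ _ r_1193 u (by omega) (by omega)
  clear h0
  rename' h => h0
  rcases Nat.lt_or_ge u 1223680 with h | h
  · exact allB_spec _ _ _ r_1194 u (by omega) (by omega)
  clear h0
  rename' h => h0
  rcases Nat.lt_or_ge u 1224704 with h | h
  · exact allB_spec _ _ _ r_1195 u (by omega) (by omega)
  clear h0
  rename' h => h0
  rcases Nat.lt_or_ge u 1225728 with h | h
  · exact allB_spec _ _ _ r_1196 u (by omega) (by omega)
  clear h0
  rename' h => h0
  rcases Nat.lt_or_ge u 1226752 with h | h
  · exact allB_spec _ _ _ r_1197 u (by omega) (by omega)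
  clear h0
  rename' h => h0
  rcases Nat.lt_or_ge u 1227776 with h | h
  · exact allB_spec _ _ _ r_1198 u (by omega) (by omega)
  clear h0
  rename' h => h0
  rcases Nat.lt_or_ge u 1228800 with h | h
  · exact allB_spec _ _ _ r_1199 u (by omega) (by omega)
  clear h0
  rename' h => h0
  omega
end H9.HN.TCHN
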