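import Cfsg.Agent.Lib.H9.HN.TCHN.Chk
set_option Elab.async false
set_option autoImplicit false
set_option maxRecDepth 100000
set_option linter.all false
namespace H9.HN.TCHN
open H35.TC
theorem r_1200 : allB chkP 10 1228800 = true := by decide +kernel
theorem r_1201 : allB chkP 10 1229824 = true := by decide +kernel
theorem r_1202 : allB chkP 10 1230848 = true := by decide +kernel
theorem r_1203 : allB chkP 10 1231872 = true := by decide +kernel
theorem r_1204 : allB chkP 10 1232896 = true := by decide +kernel
theorem r_1205 : allB chkP 10 1233920 = true := by decide +kernel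
theorem r_1206 : allB chkP 10 1234944 = true := by decide +kernel
theorem r_1207 : allB chkP 10 1235968 = true := by decide +kernel
theorem r_1208 : allB chkP 10 1236992 = true := by decide +kernel
theorem r_1209 : allB chkP 10 1238016 = true := by decide +kernel
theorem r_1210 : allB chkP 10 1239040 = true := by decide +kernel
theorem r_1211 : allB chkP 10 1240064 = true := by decide +kernel
theorem r_1212 : allB chkP 10 1241088 = true := by decide +kernel
theorem r_1213 : allB chkP 10 1242112 = true := by decide +kernel
theorem r_1214 : allB chkP 10 1243136 = true := by decide +kernel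
theorem r_1215 : allB chkP 10 1244160 = true := by decide +kernel
theorem r_1216 : allB chkP 10 1245184 = true := by decide +kernel
theorem r_1217 : allB chkP 10 1246208 = true := by decide +kernel
theorem r_1218 : allB chkP 10 1247232 = true := by decide +kernel
theorem r_1219 : allB chkP 10 1248256 = true := by decide +kernel
theorem r_1220 : allB chkP 10 1249280 = true := by decide +kernel
theorem r_1221 : allB chkP 10 1250304 = true := by decide +kernel
theorem r_1222 : allB chkP 10 1251328 = true := by decide +kernel
theorem r_1223 : allB chkP 10 1252352 = true := by decide +kernel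
theorem r_1224 : allB chkP 10 1253376 = true := by decide +kernel
theorem r_1225 : allB chkP 10 1254400 = true := by decide +kernel
theorem r_1226 : allB chkP 10 1255424 = true := by decide +kernel
theorem r_1227 : allB chkP 10 1256448 = true := by decide +kernel
theorem r_1228 : allB chkP 10 1257472 = true := by decide +kernel
theorem r_1229 : allB chkP 10 1258496 = true := by decide +kernel
theorem r_1230 : allB chkP 10 1259520 = true := by decide +kernel
theorem r_1231 : allB chkP 10 1260544 = true := by decide +kernel
theorem r_1232 : allB chkP 10 1261568 = true := by decide +kernel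
theorem r_1233 : allB chkP 10 1262592 = true := by decide +kernel
theorem r_1234 : allB chkP 10 1263616 = true := by decide +kernel
theorem r_1235 : allB chkP 10 1264640 = true := by decide +kernel
theorem r_1236 : allB chkP 10 1265664 = true := by decide +kernel
theorem r_1237 : allB chkP 10 1266688 = true := by decide +kernel
theorem r_1238 : allB chkP 10 1267712 = true := by decide +kernel
theorem r_1239 : allB chkP 10 1268736 = true := by decide +kernel
theorem r_1240 : allB chkP 10 1269760 = true := by decide +kernel
theorem r_1241 : allB chkP 10 1270784 = true := by decide +kernel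
theorem r_1242 : allB chkP 10 1271808 = true := by decide +kernel
theorem r_1243 : allB chkP 10 1272832 = true := by decide +kernel
theorem r_1244 : allB chkP 10 1273856 = true := by decide +kernel
theorem r_1245 : allB chkP 10 1274880 = true := by decide +kernel
theorem r_1246 : allB chkP 10 1275904 = true := by decide +kernel
theorem r_1247 : allB chkP 10 1276928 = true := by decide +kernel
theorem blk_25 : ∀ u, 1228800 ≤ u → u < 1277952 → chkP u = true := by
  intro u h0 hu
  rcases Nat.lt_or_ge u 1229824 with h | h
  · exact allB_spec _ _ _ r_1200 u (by omega) (by omega)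
  clear h0
  rename' h => h0
  rcases Nat.lt_or_ge u 1230848 with h | h
  · exact allB_spec _ _ _ r_1201 u (by omega) (by omega)
  clear h0
  rename' h => h0
  rcases Nat.lt_or_ge u 1231872 with h | h
  · exact allB_spec _ _ _ r_1202 u (by omega) (by omega)
  clear h0
  rename' h => h0
  rcases Nat.lt_or_ge u 1232896 with h | h
  · exact allB_spec _ _ _ r_1203 u (by omega) (by omega)
  clear h0
  rename' h => h0
  rcases Nat.lt_or_ge u 1233920 with h | h
  · exact allB_spec _ _ _ r_1204 u (by omega) (by omega)
  clear h0
  rename' h => h0
  rcases Nat.lt_or_ge u 1234944 with h | h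
  · exact allB_spec _ _ _ r_1205 u (by omega) (by omega)
  clear h0
  rename' h => h0
  rcases Nat.lt_or_ge u 1235968 with h | h
  · exact allB_spec _ _ _ r_1206 u (by omega) (by omega)
  clear h0
  rename' h => h0
  rcases Nat.lt_or_ge u 1236992 with h | h
  · exact allB_spec _ _ _ r_1207 u (by omega) (by omega)
  clear h0
  rename' h => h0
  rcases Nat.lt_or_ge u 1238016 with h | h
  · exact allB_spec _ _ _ r_1208 u (by omega) (by omega)
  clear h0
  rename' h => h0
  rcases Nat.lt_or_ge u 1239040 with h | h
  · exact allB_spec _ _ _ r_1209 u (by omega) (by omega)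
  clear h0
  rename' h => h0
  rcases Nat.lt_or_ge u 1240064 with h | h
  · exact allB_spec _ _ _ r_1210 u (by omega) (by omega)
  clear h0
  rename' h => h0
  rcases Nat.lt_or_ge u 1241088 with h | h
  · exact allB_spec _ _ _ r_1211 u (by omega) (by omega)
  clear h0
  rename' h => h0
  rcases Nat.lt_or_ge u 1242112 with h | h
  · exact allB_spec _ _ _ r_1212 u (by omega) (by omega)
  clear h0
  rename' h => h0
  rcases Nat.lt_or_ge u 1243136 with h | h
  · exact allB_spec _ _ _ r_1213 u (by omega) (by omega)
  clear h0
  rename' h => h0
  rcases Nat.lt_or_ge u 1244160 with h | h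
  · exact allB_spec _ _ _ r_1214 u (by omega) (by omega)
  clear h0
  rename' h => h0
  rcases Nat.lt_or_ge u 1245184 with h | h
  · exact allB_spec _ _ _ r_1215 u (by omega) (by omega)
  clear h0
  rename' h => h0
  rcases Nat.lt_or_ge u 1246208 with h | h
  · exact allB_spec _ _ _ r_1216 u (by omega) (by omega)
  clear h0
  rename' h => h0
  rcases Nat.lt_or_ge u 1247232 with h | h
  · exact allB_spec _ _ _ r_1217 u (by omega) (by omega)
  clear h0
  rename' h => h0
  rcases Nat.lt_or_ge u 1248256 with h | h
  · exact allB_spec _ _ _ r_1218 u (by omega) (by omega)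
  clear h0
  rename' h => h0
  rcases Nat.lt_or_ge u 1249280 with h | h
  · exact allB_spec _ _ _ r_1219 u (by omega) (by omega)
  clear h0
  rename' h => h0
  rcases Nat.lt_or_ge u 1250304 with h | h
  · exact allB_spec _ _ _ r_1220 u (by omega) (by omega)
  clear h0
  rename' h => h0
  rcases Nat.lt_or_ge u 1251328 with h | h
  · exact allB_spec _ _ _ r_1221 u (by omega) (by omega)
  clear h0
  rename' h => h0
  rcases Nat.lt_or_ge u 1252352 with h | h
  · exact allB_spec _ _ _ r_1222 u (by omega) (by omega)
  clear h0
  rename' h => h0
  rcases Nat.lt_or_ge u 1253376 with h | h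
  · exact allB_spec _ _ _ r_1223 u (by omega) (by omega)
  clear h0
  rename' h => h0
  rcases Nat.lt_or_ge u 1254400 with h | h
  · exact allB_spec _ _ _ r_1224 u (by omega) (by omega)
  clear h0
  rename' h => h0
  rcases Nat.lt_or_ge u 1255424 with h | h
  · exact allB_spec _ _ _ r_1225 u (by omega) (by omega)
  clear h0
  rename' h => h0
  rcases Nat.lt_or_ge u 1256448 with h | h
  · exact allB_spec _ _ _ r_1226 u (by omega) (by omega)
  clear h0
  rename' h => h0
  rcases Nat.lt_or_ge u 1257472 with h | h
  · exact allB_spec _ _ _ r_1227 u (by omega) (by omega)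
  clear h0
  rename' h => h0
  rcases Nat.lt_or_ge u 1258496 with h | h
  · exact allB_spec _ _ _ r_1228 u (by omega) (by omega)
  clear h0
  rename' h => h0
  rcases Nat.lt_or_ge u 1259520 with h | h
  · exact allB_spec _ _ _ r_1229 u (by omega) (by omega)
  clear h0
  rename' h => h0
  rcases Nat.lt_or_ge u 1260544 with h | h
  · exact allB_spec _ _ _ r_1230 u (by omega) (by omega)
  clear h0
  rename' h => h0
  rcases Nat.lt_or_ge u 1261568 with h | h
  · exact allB_spec _ _ _ r_1231 u (by omega) (by omega)
  clear h0
  rename' h => h0
  rcases Nat.lt_or_ge u 1262592 with h | h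
  · exact allB_spec _ _ _ r_1232 u (by omega) (by omega)
  clear h0
  rename' h => h0
  rcases Nat.lt_or_ge u 1263616 with h | h
  · exact allB_spec _ _ _ r_1233 u (by omega) (by omega)
  clear h0
  rename' h => h0
  rcases Nat.lt_or_ge u 1264640 with h | h
  · exact allB_spec _ _ _ r_1234 u (by omega) (by omega)
  clear h0
  rename' h => h0
  rcases Nat.lt_or_ge u 1265664 with h | h
  · exact allB_spec _ _ _ r_1235 u (by omega) (by omega)
  clear h0
  rename' h => h0
  rcases Nat.lt_or_ge u 1266688 with h | h
  · exact allB_spec _ _ _ r_1236 u (by omega) (by omega)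
  clear h0
  rename' h => h0
  rcases Nat.lt_or_ge u 1267712 with h | h
  · exact allB_spec _ _ _ r_1237 u (by omega) (by omega)
  clear h0
  rename' h => h0
  rcases Nat.lt_or_ge u 1268736 with h | h
  · exact allB_spec _ _ _ r_1238 u (by omega) (by omega)
  clear h0
  rename' h => h0
  rcases Nat.lt_or_ge u 1269760 with h | h
  · exact allB_spec _ _ _ r_1239 u (by omega) (by omega)
  clear h0
  rename' h => h0
  rcases Nat.lt_or_ge u 1270784 with h | h
  · exact allB_spec _ _ _ r_1240 u (by omega) (by omega)
  clear h0
  rename' h => h0
  rcases Nat.lt_or_ge u 1271808 with h | h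
  · exact allB_spec _ _ _ r_1241 u (by omega) (by omega)
  clear h0
  rename' h => h0
  rcases Nat.lt_or_ge u 1272832 with h | h
  · exact allB_spec _ _ _ r_1242 u (by omega) (by omega)
  clear h0
  rename' h => h0
  rcases Nat.lt_or_ge u 1273856 with h | h
  · exact allB_spec _ _ _ r_1243 u (by omega) (by omega)
  clear h0
  rename' h => h0
  rcases Nat.lt_or_ge u 1274880 with h | h
  · exact allB_spec _ _ _ r_1244 u (by omega) (by omega)
  clear h0
  rename' h => h0
  rcases Nat.lt_or_ge u 1275904 with h | h
  · exact allB_spec _ _ _ r_1245 u (by omega) (by omega)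
  clear h0
  rename' h => h0
  rcases Nat.lt_or_ge u 1276928 with h | h
  · exact allB_spec _ _ _ r_1246 u (by omega) (by omega)
  clear h0
  rename' h => h0
  rcases Nat.lt_or_ge u 1277952 with h | h
  · exact allB_spec _ _ _ r_1247 u (by omega) (by omega)
  clear h0
  rename' h => h0
  omega
end H9.HN.TCHN
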