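import Cfsg.Agent.Lib.H9.HN.TCHN.Chk
set_option Elab.async false
set_option autoImplicit false
set_option maxRecDepth 100000
set_option linter.all false
namespace H9.HN.TCHN
open H35.TC
theorem r_1296 : allB chkP 10 1327104 = true := by decide +kernel
theorem r_1297 : allB chkP 10 1328128 = true := by decide +kernel
theorem r_1298 : allB chkP 10 1329152 = true := by decide +kernel
theorem r_1299 : allB chkP 10 1330176 = true := by decide +kernel
theorem r_1300 : allB chkP 10 1331200 = true := by decide +kernel
theorem r_1301 : allB chkP 10 1332224 = true := by decide +kernel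
theorem r_1302 : allB chkP 10 1333248 = true := by decide +kernel
theorem r_1303 : allB chkP 10 1334272 = true := by decide +kernel
theorem r_1304 : allB chkP 10 1335296 = true := by decide +kernel
theorem r_1305 : allB chkP 10 1336320 = true := by decide +kernel
theorem r_1306 : allB chkP 10 1337344 = true := by decide +kernel
theorem r_1307 : allB chkP 10 1338368 = true := by decide +kernel
theorem r_1308 : allB chkP 10 1339392 = true := by decide +kernel
theorem r_1309 : allB chkP 10 1340416 = true := by decide +kernel
theorem r_1310 : allB chkP 10 1341440 = true := by decide +kernel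
theorem r_1311 : allB chkP 10 1342464 = true := by decide +kernel
theorem r_1312 : allB chkP 10 1343488 = true := by decide +kernel
theorem r_1313 : allB chkP 10 1344512 = true := by decide +kernel
theorem r_1314 : allB chkP 10 1345536 = true := by decide +kernel
theorem r_1315 : allB chkP 10 1346560 = true := by decide +kernel
theorem r_1316 : allB chkP 10 1347584 = true := by decide +kernel
theorem r_1317 : allB chkP 10 1348608 = true := by decide +kernel
theorem r_1318 : allB chkP 10 1349632 = true := by decide +kernel
theorem r_1319 : allB chkP 10 1350656 = true := by decide +kernel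
theorem r_1320 : allB chkP 10 1351680 = true := by decide +kernel
theorem r_1321 : allB chkP 10 1352704 = true := by decide +kernel
theorem r_1322 : allB chkP 10 1353728 = true := by decide +kernel
theorem r_1323 : allB chkP 10 1354752 = true := by decide +kernel
theorem r_1324 : allB chkP 10 1355776 = true := by decide +kernel
theorem r_1325 : allB chkP 10 1356800 = true := by decide +kernel
theorem r_1326 : allB chkP 10 1357824 = true := by decide +kernel
theorem r_1327 : allB chkP 10 1358848 = true := by decide +kernel
theorem r_1328 : allB chkP 10 1359872 = true := by decide +kernel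
theorem r_1329 : allB chkP 10 1360896 = true := by decide +kernel
theorem r_1330 : allB chkP 10 1361920 = true := by decide +kernel
theorem r_1331 : allB chkP 10 1362944 = true := by decide +kernel
theorem r_1332 : allB chkP 10 1363968 = true := by decide +kernel
theorem r_1333 : allB chkP 10 1364992 = true := by decide +kernel
theorem r_1334 : allB chkP 10 1366016 = true := by decide +kernel
theorem r_1335 : allB chkP 10 1367040 = true := by decide +kernel
theorem r_1336 : allB chkP 10 1368064 = true := by decide +kernel
theorem r_1337 : allB chkP 10 1369088 = true := by decide +kernel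
theorem r_1338 : allB chkP 10 1370112 = true := by decide +kernel
theorem r_1339 : allB chkP 10 1371136 = true := by decide +kernel
theorem r_1340 : allB chkP 10 1372160 = true := by decide +kernel
theorem r_1341 : allB chkP 10 1373184 = true := by decide +kernel
theorem r_1342 : allB chkP 10 1374208 = true := by decide +kernel
theorem r_1343 : allB chkP 10 1375232 = true := by decide +kernel
theorem blk_27 : ∀ u, 1327104 ≤ u → u < 1376256 → chkP u = true := by
  intro u h0 hu
  rcases Nat.lt_or_ge u 1328128 with h | h
  · exact allB_spec _ _ _ r_1296 u (by omega) (by omega)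
  clear h0
  rename' h => h0
  rcases Nat.lt_or_ge u 1329152 with h | h
  · exact allB_spec _ _ _ r_1297 u (by omega) (by omega)
  clear h0
  rename' h => h0
  rcases Nat.lt_or_ge u 1330176 with h | h
  · exact allB_spec _ _ _ r_1298 u (by omega) (by omega)
  clear h0
  rename' h => h0
  rcases Nat.lt_or_ge u 1331200 with h | h
  · exact allB_spec _ _ _ r_1299 u (by omega) (by omega)
  clear h0
  rename' h => h0
  rcases Nat.lt_or_ge u 1332224 with h | h
  · exact allB_spec _ _ _ r_1300 u (by omega) (by omega)
  clear h0
  rename' h => h0
  rcases Nat.lt_or_ge u 1333248 with h | h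
  · exact allB_spec _ _ _ r_1301 u (by omega) (by omega)
  clear h0
  rename' h => h0
  rcases Nat.lt_or_ge u 1334272 with h | h
  · exact allB_spec _ _ _ r_1302 u (by omega) (by omega)
  clear h0
  rename' h => h0
  rcases Nat.lt_or_ge u 1335296 with h | h
  · exact allB_spec _ _ _ r_1303 u (by omega) (by omega)
  clear h0
  rename' h => h0
  rcases Nat.lt_or_ge u 1336320 with h | h
  · exact allB_spec _ _ _ r_1304 u (by omega) (by omega)
  clear h0
  rename' h => h0
  rcases Nat.lt_or_ge u 1337344 with h | h
  · exact allB_spec _ _ _ r_1305 u (by omega) (by omega)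
  clear h0
  rename' h => h0
  rcases Nat.lt_or_ge u 1338368 with h | h
  · exact allB_spec _ _ _ r_1306 u (by omega) (by omega)
  clear h0
  rename' h => h0
  rcases Nat.lt_or_ge u 1339392 with h | h
  · exact allB_spec _ _ _ r_1307 u (by omega) (by omega)
  clear h0
  rename' h => h0
  rcases Nat.lt_or_ge u 1340416 with h | h
  · exact allB_spec _ _ _ r_1308 u (by omega) (by omega)
  clear h0
  rename' h => h0
  rcases Nat.lt_or_ge u 1341440 with h | h
  · exact allB_spec _ _ _ r_1309 u (by omega) (by omega)
  clear h0
  rename' h => h0
  rcases Nat.lt_or_ge u 1342464 with h | h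
  · exact allB_spec _ _ _ r_1310 u (by omega) (by omega)
  clear h0
  rename' h => h0
  rcases Nat.lt_or_ge u 1343488 with h | h
  · exact allB_spec _ _ _ r_1311 u (by omega) (by omega)
  clear h0
  rename' h => h0
  rcases Nat.lt_or_ge u 1344512 with h | h
  · exact allB_spec _ _ _ r_1312 u (by omega) (by omega)
  clear h0
  rename' h => h0
  rcases Nat.lt_or_ge u 1345536 with h | h
  · exact allB_spec _ _ _ r_1313 u (by omega) (by omega)
  clear h0
  rename' h => h0
  rcases Nat.lt_or_ge u 1346560 with h | h
  · exact allB_spec _ _ _ r_1314 u (by omega) (by omega)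
  clear h0
  rename' h => h0
  rcases Nat.lt_or_ge u 1347584 with h | h
  · exact allB_spec _ _ _ r_1315 u (by omega) (by omega)
  clear h0
  rename' h => h0
  rcases Nat.lt_or_ge u 1348608 with h | h
  · exact allB_spec _ _ _ r_1316 u (by omega) (by omega)
  clear h0
  rename' h => h0
  rcases Nat.lt_or_ge u 1349632 with h | h
  · exact allB_spec _ _ _ r_1317 u (by omega) (by omega)
  clear h0
  rename' h => h0
  rcases Nat.lt_or_ge u 1350656 with h | h
  · exact allB_spec _ _ _ r_1318 u (by omega) (by omega)
  clear h0
  rename' h => h0
  rcases Nat.lt_or_ge u 1351680 with h | h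
  · exact allB_spec _ _ _ r_1319 u (by omega) (by omega)
  clear h0
  rename' h => h0
  rcases Nat.lt_or_ge u 1352704 with h | h
  · exact allB_spec _ _ _ r_1320 u (by omega) (by omega)
  clear h0
  rename' h => h0
  rcases Nat.lt_or_ge u 1353728 with h | h
  · exact allB_spec _ _ _ r_1321 u (by omega) (by omega)
  clear h0
  rename' h => h0
  rcases Nat.lt_or_ge u 1354752 with h | h
  · exact allB_spec _ _ _ r_1322 u (by omega) (by omega)
  clear h0
  rename' h => h0
  rcases Nat.lt_or_ge u 1355776 with h | h
  · exact allB_spec _ _ _ r_1323 u (by omega) (by omega)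
  clear h0
  rename' h => h0
  rcases Nat.lt_or_ge u 1356800 with h | h
  · exact allB_spec _ _ _ r_1324 u (by omega) (by omega)
  clear h0
  rename' h => h0
  rcases Nat.lt_or_ge u 1357824 with h | h
  · exact allB_spec _ _ _ r_1325 u (by omega) (by omega)
  clear h0
  rename' h => h0
  rcases Nat.lt_or_ge u 1358848 with h | h
  · exact allB_spec _ _ _ r_1326 u (by omega) (by omega)
  clear h0
  rename' h => h0
  rcases Nat.lt_or_ge u 1359872 with h | h
  · exact allB_spec _ _ _ r_1327 u (by omega) (by omega)
  clear h0
  rename' h => h0
  rcases Nat.lt_or_ge u 1360896 with h | h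
  · exact allB_spec _ _ _ r_1328 u (by omega) (by omega)
  clear h0
  rename' h => h0
  rcases Nat.lt_or_ge u 1361920 with h | h
  · exact allB_spec _ _ _ r_1329 u (by omega) (by omega)
  clear h0
  rename' h => h0
  rcases Nat.lt_or_ge u 1362944 with h | h
  · exact allB_spec _ _ _ r_1330 u (by omega) (by omega)
  clear h0
  rename' h => h0
  rcases Nat.lt_or_ge u 1363968 with h | h
  · exact allB_spec _ _ _ r_1331 u (by omega) (by omega)
  clear h0
  rename' h => h0
  rcases Nat.lt_or_ge u 1364992 with h | h
  · exact allB_spec _ _ _ r_1332 u (by omega) (by omega)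
  clear h0
  rename' h => h0
  rcases Nat.lt_or_ge u 1366016 with h | h
  · exact allB_spec _ _ _ r_1333 u (by omega) (by omega)
  clear h0
  rename' h => h0
  rcases Nat.lt_or_ge u 1367040 with h | h
  · exact allB_spec _ _ _ r_1334 u (by omega) (by omega)
  clear h0
  rename' h => h0
  rcases Nat.lt_or_ge u 1368064 with h | h
  · exact allB_spec _ _ _ r_1335 u (by omega) (by omega)
  clear h0
  rename' h => h0
  rcases Nat.lt_or_ge u 1369088 with h | h
  · exact allB_spec _ _ _ r_1336 u (by omega) (by omega)
  clear h0
  rename' h => h0
  rcases Nat.lt_or_ge u 1370112 with h | h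
  · exact allB_spec _ _ _ r_1337 u (by omega) (by omega)
  clear h0
  rename' h => h0
  rcases Nat.lt_or_ge u 1371136 with h | h
  · exact allB_spec _ _ _ r_1338 u (by omega) (by omega)
  clear h0
  rename' h => h0
  rcases Nat.lt_or_ge u 1372160 with h | h
  · exact allB_spec _ _ _ r_1339 u (by omega) (by omega)
  clear h0
  rename' h => h0
  rcases Nat.lt_or_ge u 1373184 with h | h
  · exact allB_spec _ _ _ r_1340 u (by omega) (by omega)
  clear h0
  rename' h => h0
  rcases Nat.lt_or_ge u 1374208 with h | h
  · exact allB_spec _ _ _ r_1341 u (by omega) (by omega)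
  clear h0
  rename' h => h0
  rcases Nat.lt_or_ge u 1375232 with h | h
  · exact allB_spec _ _ _ r_1342 u (by omega) (by omega)
  clear h0
  rename' h => h0
  rcases Nat.lt_or_ge u 1376256 with h | h
  · exact allB_spec _ _ _ r_1343 u (by omega) (by omega)
  clear h0
  rename' h => h0
  omega
end H9.HN.TCHN
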