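import Cfsg.Agent.Lib.H9.HN.TCHN.Chk
set_option Elab.async false
set_option autoImplicit false
set_option maxRecDepth 100000
set_option linter.all false
namespace H9.HN.TCHN
open H35.TC
theorem r_1344 : allB chkP 10 1376256 = true := by decide +kernel
theorem r_1345 : allB chkP 10 1377280 = true := by decide +kernel
theorem r_1346 : allB chkP 10 1378304 = true := by decide +kernel
theorem r_1347 : allB chkP 10 1379328 = true := by decide +kernel
theorem r_1348 : allB chkP 10 1380352 = true := by decide +kernel
theorem r_1349 : allB chkP 10 1381376 = true := by decide +kernel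
theorem r_1350 : allB chkP 10 1382400 = true := by decide +kernel
theorem r_1351 : allB chkP 10 1383424 = true := by decide +kernel
theorem r_1352 : allB chkP 10 1384448 = true := by decide +kernel
theorem r_1353 : allB chkP 10 1385472 = true := by decide +kernel
theorem r_1354 : allB chkP 10 1386496 = true := by decide +kernel
theorem r_1355 : allB chkP 10 1387520 = true := by decide +kernel
theorem r_1356 : allB chkP 10 1388544 = true := by decide +kernel
theorem r_1357 : allB chkP 10 1389568 = true := by decide +kernel
theorem r_1358 : allB chkP 10 1390592 = true := by decide +kernel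
theorem r_1359 : allB chkP 10 1391616 = true := by decide +kernel
theorem r_1360 : allB chkP 10 1392640 = true := by decide +kernel
theorem r_1361 : allB chkP 10 1393664 = true := by decide +kernel
theorem r_1362 : allB chkP 10 1394688 = true := by decide +kernel
theorem r_1363 : allB chkP 10 1395712 = true := by decide +kernel
theorem r_1364 : allB chkP 10 1396736 = true := by decide +kernel
theorem r_1365 : allB chkP 10 1397760 = true := by decide +kernel
theorem r_1366 : allB chkP 10 1398784 = true := by decide +kernel
theorem r_1367 : allB chkP 10 1399808 = true := by decide +kernel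
theorem r_1368 : allB chkP 10 1400832 = true := by decide +kernel
theorem r_1369 : allB chkP 10 1401856 = true := by decide +kernel
theorem r_1370 : allB chkP 10 1402880 = true := by decide +kernel
theorem r_1371 : allB chkP 10 1403904 = true := by decide +kernel
theorem r_1372 : allB chkP 10 1404928 = true := by decide +kernel
theorem r_1373 : allB chkP 10 1405952 = true := by decide +kernel
theorem r_1374 : allB chkP 10 1406976 = true := by decide +kernel
theorem r_1375 : allB chkP 10 1408000 = true := by decide +kernel
theorem r_1376 : allB chkP 10 1409024 = true := by decide +kernel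
theorem r_1377 : allB chkP 10 1410048 = true := by decide +kernel
theorem r_1378 : allB chkP 10 1411072 = true := by decide +kernel
theorem r_1379 : allB chkP 10 1412096 = true := by decide +kernel
theorem r_1380 : allB chkP 10 1413120 = true := by decide +kernel
theorem r_1381 : allB chkP 10 1414144 = true := by decide +kernel
theorem r_1382 : allB chkP 10 1415168 = true := by decide +kernel
theorem r_1383 : allB chkP 10 1416192 = true := by decide +kernel
theorem r_1384 : allB chkP 10 1417216 = true := by decide +kernel
theorem r_1385 : allB chkP 10 1418240 = true := by decide +kernel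
theorem r_1386 : allB chkP 10 1419264 = true := by decide +kernel
theorem r_1387 : allB chkP 10 1420288 = true := by decide +kernel
theorem r_1388 : allB chkP 10 1421312 = true := by decide +kernel
theorem r_1389 : allB chkP 10 1422336 = true := by decide +kernel
theorem r_1390 : allB chkP 10 1423360 = true := by decide +kernel
theorem r_1391 : allB chkP 10 1424384 = true := by decide +kernel
theorem blk_28 : ∀ u, 1376256 ≤ u → u < 1425408 → chkP u = true := by
  intro u h0 hu
  rcases Nat.lt_or_ge u 1377280 with h | h
  · exact allB_spec _ _ _ r_1344 u (by omega) (by omega)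
  clear h0
  rename' h => h0
  rcases Nat.lt_or_ge u 1378304 with h | h
  · exact allB_spec _ _ _ r_1345 u (by omega) (by omega)
  clear h0
  rename' h => h0
  rcases Nat.lt_or_ge u 1379328 with h | h
  · exact allB_spec _ _ _ r_1346 u (by omega) (by omega)
  clear h0
  rename' h => h0
  rcases Nat.lt_or_ge u 1380352 with h | h
  · exact allB_spec _ _ _ r_1347 u (by omega) (by omega)
  clear h0
  rename' h => h0
  rcases Nat.lt_or_ge u 1381376 with h | h
  · exact allB_spec _ _ _ r_1348 u (by omega) (by omega)
  clear h0
  rename' h => h0
  rcases Nat.lt_or_ge u 1382400 with h | h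
  · exact allB_spec _ _ _ r_1349 u (by omega) (by omega)
  clear h0
  rename' h => h0
  rcases Nat.lt_or_ge u 1383424 with h | h
  · exact allB_spec _ _ _ r_1350 u (by omega) (by omega)
  clear h0
  rename' h => h0
  rcases Nat.lt_or_ge u 1384448 with h | h
  · exact allB_spec _ _ _ r_1351 u (by omega) (by omega)
  clear h0
  rename' h => h0
  rcases Nat.lt_or_ge u 1385472 with h | h
  · exact allB_spec _ _ _ r_1352 u (by omega) (by omega)
  clear h0
  rename' h => h0
  rcases Nat.lt_or_ge u 1386496 with h | h
  · exact allB_spec _ _ _ r_1353 u (by omega) (by omega)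
  clear h0
  rename' h => h0
  rcases Nat.lt_or_ge u 1387520 with h | h
  · exact allB_spec _ _ _ r_1354 u (by omega) (by omega)
  clear h0
  rename' h => h0
  rcases Nat.lt_or_ge u 1388544 with h | h
  · exact allB_spec _ _ _ r_1355 u (by omega) (by omega)
  clear h0
  rename' h => h0
  rcases Nat.lt_or_ge u 1389568 with h | h
  · exact allB_spec _ _ _ r_1356 u (by omega) (by omega)
  clear h0
  rename' h => h0
  rcases Nat.lt_or_ge u 1390592 with h | h
  · exact allB_spec _ _ _ r_1357 u (by omega) (by omega)
  clear h0
  rename' h => h0
  rcases Nat.lt_or_ge u 1391616 with h | h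
  · exact allB_spec _ _ _ r_1358 u (by omega) (by omega)
  clear h0
  rename' h => h0
  rcases Nat.lt_or_ge u 1392640 with h | h
  · exact allB_spec _ _ _ r_1359 u (by omega) (by omega)
  clear h0
  rename' h => h0
  rcases Nat.lt_or_ge u 1393664 with h | h
  · exact allB_spec _ _ _ r_1360 u (by omega) (by omega)
  clear h0
  rename' h => h0
  rcases Nat.lt_or_ge u 1394688 with h | h
  · exact allB_spec _ _ _ r_1361 u (by omega) (by omega)
  clear h0
  rename' h => h0
  rcases Nat.lt_or_ge u 1395712 with h | h
  · exact allB_spec _ _ _ r_1362 u (by omega) (by omega)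
  clear h0
  rename' h => h0
  rcases Nat.lt_or_ge u 1396736 with h | h
  · exact allB_spec _ _ _ r_1363 u (by omega) (by omega)
  clear h0
  rename' h => h0
  rcases Nat.lt_or_ge u 1397760 with h | h
  · exact allB_spec _ _ _ r_1364 u (by omega) (by omega)
  clear h0
  rename' h => h0
  rcases Nat.lt_or_ge u 1398784 with h | h
  · exact allB_spec _ _ _ r_1365 u (by omega) (by omega)
  clear h0
  rename' h => h0
  rcases Nat.lt_or_ge u 1399808 with h | h
  · exact allB_spec _ _ _ r_1366 u (by omega) (by omega)
  clear h0
  rename' h => h0
  rcases Nat.lt_or_ge u 1400832 with h | h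
  · exact allB_spec _ _ _ r_1367 u (by omega) (by omega)
  clear h0
  rename' h => h0
  rcases Nat.lt_or_ge u 1401856 with h | h
  · exact allB_spec _ _ _ r_1368 u (by omega) (by omega)
  clear h0
  rename' h => h0
  rcases Nat.lt_or_ge u 1402880 with h | h
  · exact allB_spec _ _ _ r_1369 u (by omega) (by omega)
  clear h0
  rename' h => h0
  rcases Nat.lt_or_ge u 1403904 with h | h
  · exact allB_spec _ _ _ r_1370 u (by omega) (by omega)
  clear h0
  rename' h => h0
  rcases Nat.lt_or_ge u 1404928 with h | h
  · exact allB_spec _ _ _ r_1371 u (by omega) (by omega)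
  clear h0
  rename' h => h0
  rcases Nat.lt_or_ge u 1405952 with h | h
  · exact allB_spec _ _ _ r_1372 u (by omega) (by omega)
  clear h0
  rename' h => h0
  rcases Nat.lt_or_ge u 1406976 with h | h
  · exact allB_spec _ _ _ r_1373 u (by omega) (by omega)
  clear h0
  rename' h => h0
  rcases Nat.lt_or_ge u 1408000 with h | h
  · exact allB_spec _ _ _ r_1374 u (by omega) (by omega)
  clear h0
  rename' h => h0
  rcases Nat.lt_or_ge u 1409024 with h | h
  · exact allB_spec _ _ _ r_1375 u (by omega) (by omega)
  clear h0
  rename' h => h0
  rcases Nat.lt_or_ge u 1410048 with h | h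
  · exact allB_spec _ _ _ r_1376 u (by omega) (by omega)
  clear h0
  rename' h => h0
  rcases Nat.lt_or_ge u 1411072 with h | h
  · exact allB_spec _ _ _ r_1377 u (by omega) (by omega)
  clear h0
  rename' h => h0
  rcases Nat.lt_or_ge u 1412096 with h | h
  · exact allB_spec _ _ _ r_1378 u (by omega) (by omega)
  clear h0
  rename' h => h0
  rcases Nat.lt_or_ge u 1413120 with h | h
  · exact allB_spec _ _ _ r_1379 u (by omega) (by omega)
  clear h0
  rename' h => h0
  rcases Nat.lt_or_ge u 1414144 with h | h
  · exact allB_spec _ _ _ r_1380 u (by omega) (by omega)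
  clear h0
  rename' h => h0
  rcases Nat.lt_or_ge u 1415168 with h | h
  · exact allB_spec _ _ _ r_1381 u (by omega) (by omega)
  clear h0
  rename' h => h0
  rcases Nat.lt_or_ge u 1416192 with h | h
  · exact allB_spec _ _ _ r_1382 u (by omega) (by omega)
  clear h0
  rename' h => h0
  rcases Nat.lt_or_ge u 1417216 with h | h
  · exact allB_spec _ _ _ r_1383 u (by omega) (by omega)
  clear h0
  rename' h => h0
  rcases Nat.lt_or_ge u 1418240 with h | h
  · exact allB_spec _ _ _ r_1384 u (by omega) (by omega)
  clear h0
  rename' h => h0
  rcases Nat.lt_or_ge u 1419264 with h | h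
  · exact allB_spec _ _ _ r_1385 u (by omega) (by omega)
  clear h0
  rename' h => h0
  rcases Nat.lt_or_ge u 1420288 with h | h
  · exact allB_spec _ _ _ r_1386 u (by omega) (by omega)
  clear h0
  rename' h => h0
  rcases Nat.lt_or_ge u 1421312 with h | h
  · exact allB_spec _ _ _ r_1387 u (by omega) (by omega)
  clear h0
  rename' h => h0
  rcases Nat.lt_or_ge u 1422336 with h | h
  · exact allB_spec _ _ _ r_1388 u (by omega) (by omega)
  clear h0
  rename' h => h0
  rcases Nat.lt_or_ge u 1423360 with h | h
  · exact allB_spec _ _ _ r_1389 u (by omega) (by omega)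
  clear h0
  rename' h => h0
  rcases Nat.lt_or_ge u 1424384 with h | h
  · exact allB_spec _ _ _ r_1390 u (by omega) (by omega)
  clear h0
  rename' h => h0
  rcases Nat.lt_or_ge u 1425408 with h | h
  · exact allB_spec _ _ _ r_1391 u (by omega) (by omega)
  clear h0
  rename' h => h0
  omega
end H9.HN.TCHN
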