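import Cfsg.Agent.Lib.H9.HN.TCHN.Chk
set_option Elab.async false
set_option autoImplicit false
set_option maxRecDepth 100000
set_option linter.all false
namespace H9.HN.TCHN
open H35.TC
theorem r_1392 : allB chkP 10 1425408 = true := by decide +kernel
theorem r_1393 : allB chkP 10 1426432 = true := by decide +kernel
theorem r_1394 : allB chkP 10 1427456 = true := by decide +kernel
theorem r_1395 : allB chkP 10 1428480 = true := by decide +kernel
theorem r_1396 : allB chkP 10 1429504 = true := by decide +kernel
theorem r_1397 : allB chkP 10 1430528 = true := by decide +kernel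
theorem r_1398 : allB chkP 10 1431552 = true := by decide +kernel
theorem r_1399 : allB chkP 10 1432576 = true := by decide +kernel
theorem r_1400 : allB chkP 10 1433600 = true := by decide +kernel
theorem r_1401 : allB chkP 10 1434624 = true := by decide +kernel
theorem r_1402 : allB chkP 10 1435648 = true := by decide +kernel
theorem r_1403 : allB chkP 10 1436672 = true := by decide +kernel
theorem r_1404 : allB chkP 10 1437696 = true := by decide +kernel
theorem r_1405 : allB chkP 10 1438720 = true := by decide +kernel
theorem r_1406 : allB chkP 10 1439744 = true := by decide +kernel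
theorem r_1407 : allB chkP 10 1440768 = true := by decide +kernel
theorem r_1408 : allB chkP 10 1441792 = true := by decide +kernel
theorem r_1409 : allB chkP 10 1442816 = true := by decide +kernel
theorem r_1410 : allB chkP 10 1443840 = true := by decide +kernel
theorem r_1411 : allB chkP 10 1444864 = true := by decide +kernel
theorem r_1412 : allB chkP 10 1445888 = true := by decide +kernel
theorem r_1413 : allB chkP 10 1446912 = true := by decide +kernel
theorem r_1414 : allB chkP 10 1447936 = true := by decide +kernel
theorem r_1415 : allB chkP 10 1448960 = true := by decide +kernel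
theorem r_1416 : allB chkP 10 1449984 = true := by decide +kernel
theorem r_1417 : allB chkP 10 1451008 = true := by decide +kernel
theorem r_1418 : allB chkP 10 1452032 = true := by decide +kernel
theorem r_1419 : allB chkP 10 1453056 = true := by decide +kernel
theorem r_1420 : allB chkP 10 1454080 = true := by decide +kernel
theorem r_1421 : allB chkP 10 1455104 = true := by decide +kernel
theorem r_1422 : allB chkP 10 1456128 = true := by decide +kernel
theorem r_1423 : allB chkP 10 1457152 = true := by decide +kernel
theorem r_1424 : allB chkP 10 1458176 = true := by decide +kernel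
theorem r_1425 : allB chkP 10 1459200 = true := by decide +kernel
theorem r_1426 : allB chkP 10 1460224 = true := by decide +kernel
theorem r_1427 : allB chkP 10 1461248 = true := by decide +kernel
theorem r_1428 : allB chkP 10 1462272 = true := by decide +kernel
theorem r_1429 : allB chkP 10 1463296 = true := by decide +kernel
theorem r_1430 : allB chkP 10 1464320 = true := by decide +kernel
theorem r_1431 : allB chkP 10 1465344 = true := by decide +kernel
theorem r_1432 : allB chkP 10 1466368 = true := by decide +kernel
theorem r_1433 : allB chkP 10 1467392 = true := by decide +kernel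
theorem r_1434 : allB chkP 10 1468416 = true := by decide +kernel
theorem r_1435 : allB chkP 10 1469440 = true := by decide +kernel
theorem r_1436 : allB chkP 10 1470464 = true := by decide +kernel
theorem r_1437 : allB chkP 10 1471488 = true := by decide +kernel
theorem r_1438 : allB chkP 10 1472512 = true := by decide +kernel
theorem r_1439 : allB chkP 10 1473536 = true := by decide +kernel
theorem blk_29 : ∀ u, 1425408 ≤ u → u < 1474560 → chkP u = true := by
  intro u h0 hu
  rcases Nat.lt_or_ge u 1426432 with h | h
  · exact allB_spec _ _ _ r_1392 u (by omega) (by omega)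
  clear h0
  rename' h => h0
  rcases Nat.lt_or_ge u 1427456 with h | h
  · exact allB_spec _ _ _ r_1393 u (by omega) (by omega)
  clear h0
  rename' h => h0
  rcases Nat.lt_or_ge u 1428480 with h | h
  · exact allB_spec _ _ _ r_1394 u (by omega) (by omega)
  clear h0
  rename' h => h0
  rcases Nat.lt_or_ge u 1429504 with h | h
  · exact allB_spec _ _ _ r_1395 u (by omega) (by omega)
  clear h0
  rename' h => h0
  rcases Nat.lt_or_ge u 1430528 with h | h
  · exact allB_spec _ _ _ r_1396 u (by omega) (by omega)
  clear h0
  rename' h => h0
  rcases Nat.lt_or_ge u 1431552 with h | h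
  · exact allB_spec _ _ _ r_1397 u (by omega) (by omega)
  clear h0
  rename' h => h0
  rcases Nat.lt_or_ge u 1432576 with h | h
  · exact allB_spec _ _ _ r_1398 u (by omega) (by omega)
  clear h0
  rename' h => h0
  rcases Nat.lt_or_ge u 1433600 with h | h
  · exact allB_spec _ _ _ r_1399 u (by omega) (by omega)
  clear h0
  rename' h => h0
  rcases Nat.lt_or_ge u 1434624 with h | h
  · exact allB_spec _ _ _ r_1400 u (by omega) (by omega)
  clear h0
  rename' h => h0
  rcases Nat.lt_or_ge u 1435648 with h | h
  · exact allB_spec _ _ _ r_1401 u (by omega) (by omega)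
  clear h0
  rename' h => h0
  rcases Nat.lt_or_ge u 1436672 with h | h
  · exact allB_spec _ _ _ r_1402 u (by omega) (by omega)
  clear h0
  rename' h => h0
  rcases Nat.lt_or_ge u 1437696 with h | h
  · exact allB_spec _ _ _ r_1403 u (by omega) (by omega)
  clear h0
  rename' h => h0
  rcases Nat.lt_or_ge u 1438720 with h | h
  · exact allB_spec _ _ _ r_1404 u (by omega) (by omega)
  clear h0
  rename' h => h0
  rcases Nat.lt_or_ge u 1439744 with h | h
  · exact allB_spec _ _ _ r_1405 u (by omega) (by omega)
  clear h0
  rename' h => h0
  rcases Nat.lt_or_ge u 1440768 with h | h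
  · exact allB_spec _ _ _ r_1406 u (by omega) (by omega)
  clear h0
  rename' h => h0
  rcases Nat.lt_or_ge u 1441792 with h | h
  · exact allB_spec _ _ _ r_1407 u (by omega) (by omega)
  clear h0
  rename' h => h0
  rcases Nat.lt_or_ge u 1442816 with h | h
  · exact allB_spec _ _ _ r_1408 u (by omega) (by omega)
  clear h0
  rename' h => h0
  rcases Nat.lt_or_ge u 1443840 with h | h
  · exact allB_spec _ _ _ r_1409 u (by omega) (by omega)
  clear h0
  rename' h => h0
  rcases Nat.lt_or_ge u 1444864 with h | h
  · exact allB_spec _ _ _ r_1410 u (by omega) (by omega)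
  clear h0
  rename' h => h0
  rcases Nat.lt_or_ge u 1445888 with h | h
  · exact allB_spec _ _ _ r_1411 u (by omega) (by omega)
  clear h0
  rename' h => h0
  rcases Nat.lt_or_ge u 1446912 with h | h
  · exact allB_spec _ _ _ r_1412 u (by omega) (by omega)
  clear h0
  rename' h => h0
  rcases Nat.lt_or_ge u 1447936 with h | h
  · exact allB_spec _ _ _ r_1413 u (by omega) (by omega)
  clear h0
  rename' h => h0
  rcases Nat.lt_or_ge u 1448960 with h | h
  · exact allB_spec _ _ _ r_1414 u (by omega) (by omega)
  clear h0
  rename' h => h0
  rcases Nat.lt_or_ge u 1449984 with h | h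
  · exact allB_spec _ _ _ r_1415 u (by omega) (by omega)
  clear h0
  rename' h => h0
  rcases Nat.lt_or_ge u 1451008 with h | h
  · exact allB_spec _ _ _ r_1416 u (by omega) (by omega)
  clear h0
  rename' h => h0
  rcases Nat.lt_or_ge u 1452032 with h | h
  · exact allB_spec _ _ _ r_1417 u (by omega) (by omega)
  clear h0
  rename' h => h0
  rcases Nat.lt_or_ge u 1453056 with h | h
  · exact allB_spec _ _ _ r_1418 u (by omega) (by omega)
  clear h0
  rename' h => h0
  rcases Nat.lt_or_ge u 1454080 with h | h
  · exact allB_spec _ _ _ r_1419 u (by omega) (by omega)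
  clear h0
  rename' h => h0
  rcases Nat.lt_or_ge u 1455104 with h | h
  · exact allB_spec _ _ _ r_1420 u (by omega) (by omega)
  clear h0
  rename' h => h0
  rcases Nat.lt_or_ge u 1456128 with h | h
  · exact allB_spec _ _ _ r_1421 u (by omega) (by omega)
  clear h0
  rename' h => h0
  rcases Nat.lt_or_ge u 1457152 with h | h
  · exact allB_spec _ _ _ r_1422 u (by omega) (by omega)
  clear h0
  rename' h => h0
  rcases Nat.lt_or_ge u 1458176 with h | h
  · exact allB_spec _ _ _ r_1423 u (by omega) (by omega)
  clear h0
  rename' h => h0
  rcases Nat.lt_or_ge u 1459200 with h | h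
  · exact allB_spec _ _ _ r_1424 u (by omega) (by omega)
  clear h0
  rename' h => h0
  rcases Nat.lt_or_ge u 1460224 with h | h
  · exact allB_spec _ _ _ r_1425 u (by omega) (by omega)
  clear h0
  rename' h => h0
  rcases Nat.lt_or_ge u 1461248 with h | h
  · exact allB_spec _ _ _ r_1426 u (by omega) (by omega)
  clear h0
  rename' h => h0
  rcases Nat.lt_or_ge u 1462272 with h | h
  · exact allB_spec _ _ _ r_1427 u (by omega) (by omega)
  clear h0
  rename' h => h0
  rcases Nat.lt_or_ge u 1463296 with h | h
  · exact allB_spec _ _ _ r_1428 u (by omega) (by omega)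
  clear h0
  rename' h => h0
  rcases Nat.lt_or_ge u 1464320 with h | h
  · exact allB_spec _ _ _ r_1429 u (by omega) (by omega)
  clear h0
  rename' h => h0
  rcases Nat.lt_or_ge u 1465344 with h | h
  · exact allB_spec _ _ _ r_1430 u (by omega) (by omega)
  clear h0
  rename' h => h0
  rcases Nat.lt_or_ge u 1466368 with h | h
  · exact allB_spec _ _ _ r_1431 u (by omega) (by omega)
  clear h0
  rename' h => h0
  rcases Nat.lt_or_ge u 1467392 with h | h
  · exact allB_spec _ _ _ r_1432 u (by omega) (by omega)
  clear h0
  rename' h => h0
  rcases Nat.lt_or_ge u 1468416 with h | h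
  · exact allB_spec _ _ _ r_1433 u (by omega) (by omega)
  clear h0
  rename' h => h0
  rcases Nat.lt_or_ge u 1469440 with h | h
  · exact allB_spec _ _ _ r_1434 u (by omega) (by omega)
  clear h0
  rename' h => h0
  rcases Nat.lt_or_ge u 1470464 with h | h
  · exact allB_spec _ _ _ r_1435 u (by omega) (by omega)
  clear h0
  rename' h => h0
  rcases Nat.lt_or_ge u 1471488 with h | h
  · exact allB_spec _ _ _ r_1436 u (by omega) (by omega)
  clear h0
  rename' h => h0
  rcases Nat.lt_or_ge u 1472512 with h | h
  · exact allB_spec _ _ _ r_1437 u (by omega) (by omega)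
  clear h0
  rename' h => h0
  rcases Nat.lt_or_ge u 1473536 with h | h
  · exact allB_spec _ _ _ r_1438 u (by omega) (by omega)
  clear h0
  rename' h => h0
  rcases Nat.lt_or_ge u 1474560 with h | h
  · exact allB_spec _ _ _ r_1439 u (by omega) (by omega)
  clear h0
  rename' h => h0
  omega
end H9.HN.TCHN
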