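import Cfsg.Agent.Lib.H9.HN.TCHN.Chk
set_option Elab.async false
set_option autoImplicit false
set_option maxRecDepth 100000
set_option linter.all false
namespace H9.HN.TCHN
open H35.TC
theorem r_144 : allB chkP 10 147456 = true := by decide +kernel
theorem r_145 : allB chkP 10 148480 = true := by decide +kernel
theorem r_146 : allB chkP 10 149504 = true := by decide +kernel
theorem r_147 : allB chkP 10 150528 = true := by decide +kernel
theorem r_148 : allB chkP 10 151552 = true := by decide +kernel
theorem r_149 : allB chkP 10 152576 = true := by decide +kernel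
theorem r_150 : allB chkP 10 153600 = true := by decide +kernel
theorem r_151 : allB chkP 10 154624 = true := by decide +kernel
theorem r_152 : allB chkP 10 155648 = true := by decide +kernel
theorem r_153 : allB chkP 10 156672 = true := by decide +kernel
theorem r_154 : allB chkP 10 157696 = true := by decide +kernel
theorem r_155 : allB chkP 10 158720 = true := by decide +kernel
theorem r_156 : allB chkP 10 159744 = true := by decide +kernel
theorem r_157 : allB chkP 10 160768 = true := by decide +kernel
theorem r_158 : allB chkP 10 161792 = true := by decide +kernel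
theorem r_159 : allB chkP 10 162816 = true := by decide +kernel
theorem r_160 : allB chkP 10 163840 = true := by decide +kernel
theorem r_161 : allB chkP 10 164864 = true := by decide +kernel
theorem r_162 : allB chkP 10 165888 = true := by decide +kernel
theorem r_163 : allB chkP 10 166912 = true := by decide +kernel
theorem r_164 : allB chkP 10 167936 = true := by decide +kernel
theorem r_165 : allB chkP 10 168960 = true := by decide +kernel
theorem r_166 : allB chkP 10 169984 = true := by decide +kernel
theorem r_167 : allB chkP 10 171008 = true := by decide +kernel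
theorem r_168 : allB chkP 10 172032 = true := by decide +kernel
theorem r_169 : allB chkP 10 173056 = true := by decide +kernel
theorem r_170 : allB chkP 10 174080 = true := by decide +kernel
theorem r_171 : allB chkP 10 175104 = true := by decide +kernel
theorem r_172 : allB chkP 10 176128 = true := by decide +kernel
theorem r_173 : allB chkP 10 177152 = true := by decide +kernel
theorem r_174 : allB chkP 10 178176 = true := by decide +kernel
theorem r_175 : allB chkP 10 179200 = true := by decide +kernel
theorem r_176 : allB chkP 10 180224 = true := by decide +kernel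
theorem r_177 : allB chkP 10 181248 = true := by decide +kernel
theorem r_178 : allB chkP 10 182272 = true := by decide +kernel
theorem r_179 : allB chkP 10 183296 = true := by decide +kernel
theorem r_180 : allB chkP 10 184320 = true := by decide +kernel
theorem r_181 : allB chkP 10 185344 = true := by decide +kernel
theorem r_182 : allB chkP 10 186368 = true := by decide +kernel
theorem r_183 : allB chkP 10 187392 = true := by decide +kernel
theorem r_184 : allB chkP 10 188416 = true := by decide +kernel
theorem r_185 : allB chkP 10 189440 = true := by decide +kernel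
theorem r_186 : allB chkP 10 190464 = true := by decide +kernel
theorem r_187 : allB chkP 10 191488 = true := by decide +kernel
theorem r_188 : allB chkP 10 192512 = true := by decide +kernel
theorem r_189 : allB chkP 10 193536 = true := by decide +kernel
theorem r_190 : allB chkP 10 194560 = true := by decide +kernel
theorem r_191 : allB chkP 10 195584 = true := by decide +kernel
theorem blk_3 : ∀ u, 147456 ≤ u → u < 196608 → chkP u = true := by
  intro u h0 hu
  rcases Nat.lt_or_ge u 148480 with h | h
  · exact allB_spec _ _ _ r_144 u (by omega) (by omega)
  clear h0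
  rename' h => h0
  rcases Nat.lt_or_ge u 149504 with h | h
  · exact allB_spec _ _ _ r_145 u (by omega) (by omega)
  clear h0
  rename' h => h0
  rcases Nat.lt_or_ge u 150528 with h | h
  · exact allB_spec _ _ _ r_146 u (by omega) (by omega)
  clear h0
  rename' h => h0
  rcases Nat.lt_or_ge u 151552 with h | h
  · exact allB_spec _ _ _ r_147 u (by omega) (by omega)
  clear h0
  rename' h => h0
  rcases Nat.lt_or_ge u 152576 with h | h
  · exact allB_spec _ _ _ r_148 u (by omega) (by omega)
  clear h0
  rename' h => h0
  rcases Nat.lt_or_ge u 153600 with h | h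
  · exact allB_spec _ _ _ r_149 u (by omega) (by omega)
  clear h0
  rename' h => h0
  rcases Nat.lt_or_ge u 154624 with h | h
  · exact allB_spec _ _ _ r_150 u (by omega) (by omega)
  clear h0
  rename' h => h0
  rcases Nat.lt_or_ge u 155648 with h | h
  · exact allB_spec _ _ _ r_151 u (by omega) (by omega)
  clear h0
  rename' h => h0
  rcases Nat.lt_or_ge u 156672 with h | h
  · exact allB_spec _ _ _ r_152 u (by omega) (by omega)
  clear h0
  rename' h => h0
  rcases Nat.lt_or_ge u 157696 with h | h
  · exact allB_spec _ _ _ r_153 u (by omega) (by omega)
  clear h0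
  rename' h => h0
  rcases Nat.lt_or_ge u 158720 with h | h
  · exact allB_spec _ _ _ r_154 u (by omega) (by omega)
  clear h0
  rename' h => h0
  rcases Nat.lt_or_ge u 159744 with h | h
  · exact allB_spec _ _ _ r_155 u (by omega) (by omega)
  clear h0
  rename' h => h0
  rcases Nat.lt_or_ge u 160768 with h | h
  · exact allB_spec _ _ _ r_156 u (by omega) (by omega)
  clear h0
  rename' h => h0
  rcases Nat.lt_or_ge u 161792 with h | h
  · exact allB_spec _ _ _ r_157 u (by omega) (by omega)
  clear h0
  rename' h => h0
  rcases Nat.lt_or_ge u 162816 with h | h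
  · exact allB_spec _ _ _ r_158 u (by omega) (by omega)
  clear h0
  rename' h => h0
  rcases Nat.lt_or_ge u 163840 with h | h
  · exact allB_spec _ _ _ r_159 u (by omega) (by omega)
  clear h0
  rename' h => h0
  rcases Nat.lt_or_ge u 164864 with h | h
  · exact allB_spec _ _ _ r_160 u (by omega) (by omega)
  clear h0
  rename' h => h0
  rcases Nat.lt_or_ge u 165888 with h | h
  · exact allB_spec _ _ _ r_161 u (by omega) (by omega)
  clear h0
  rename' h => h0
  rcases Nat.lt_or_ge u 166912 with h | h
  · exact allB_spec _ _ _ r_162 u (by omega) (by omega)
  clear h0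
  rename' h => h0
  rcases Nat.lt_or_ge u 167936 with h | h
  · exact allB_spec _ _ _ r_163 u (by omega) (by omega)
  clear h0
  rename' h => h0
  rcases Nat.lt_or_ge u 168960 with h | h
  · exact allB_spec _ _ _ r_164 u (by omega) (by omega)
  clear h0
  rename' h => h0
  rcases Nat.lt_or_ge u 169984 with h | h
  · exact allB_spec _ _ _ r_165 u (by omega) (by omega)
  clear h0
  rename' h => h0
  rcases Nat.lt_or_ge u 171008 with h | h
  · exact allB_spec _ _ _ r_166 u (by omega) (by omega)
  clear h0
  rename' h => h0
  rcases Nat.lt_or_ge u 172032 with h | h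
  · exact allB_spec _ _ _ r_167 u (by omega) (by omega)
  clear h0
  rename' h => h0
  rcases Nat.lt_or_ge u 173056 with h | h
  · exact allB_spec _ _ _ r_168 u (by omega) (by omega)
  clear h0
  rename' h => h0
  rcases Nat.lt_or_ge u 174080 with h | h
  · exact allB_spec _ _ _ r_169 u (by omega) (by omega)
  clear h0
  rename' h => h0
  rcases Nat.lt_or_ge u 175104 with h | h
  · exact allB_spec _ _ _ r_170 u (by omega) (by omega)
  clear h0
  rename' h => h0
  rcases Nat.lt_or_ge u 176128 with h | h
  · exact allB_spec _ _ _ r_171 u (by omega) (by omega)
  clear h0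
  rename' h => h0
  rcases Nat.lt_or_ge u 177152 with h | h
  · exact allB_spec _ _ _ r_172 u (by omega) (by omega)
  clear h0
  rename' h => h0
  rcases Nat.lt_or_ge u 178176 with h | h
  · exact allB_spec _ _ _ r_173 u (by omega) (by omega)
  clear h0
  rename' h => h0
  rcases Nat.lt_or_ge u 179200 with h | h
  · exact allB_spec _ _ _ r_174 u (by omega) (by omega)
  clear h0
  rename' h => h0
  rcases Nat.lt_or_ge u 180224 with h | h
  · exact allB_spec _ _ _ r_175 u (by omega) (by omega)
  clear h0
  rename' h => h0
  rcases Nat.lt_or_ge u 181248 with h | h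
  · exact allB_spec _ _ _ r_176 u (by omega) (by omega)
  clear h0
  rename' h => h0
  rcases Nat.lt_or_ge u 182272 with h | h
  · exact allB_spec _ _ _ r_177 u (by omega) (by omega)
  clear h0
  rename' h => h0
  rcases Nat.lt_or_ge u 183296 with h | h
  · exact allB_spec _ _ _ r_178 u (by omega) (by omega)
  clear h0
  rename' h => h0
  rcases Nat.lt_or_ge u 184320 with h | h
  · exact allB_spec _ _ _ r_179 u (by omega) (by omega)
  clear h0
  rename' h => h0
  rcases Nat.lt_or_ge u 185344 with h | h
  · exact allB_spec _ _ _ r_180 u (by omega) (by omega)
  clear h0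
  rename' h => h0
  rcases Nat.lt_or_ge u 186368 with h | h
  · exact allB_spec _ _ _ r_181 u (by omega) (by omega)
  clear h0
  rename' h => h0
  rcases Nat.lt_or_ge u 187392 with h | h
  · exact allB_spec _ _ _ r_182 u (by omega) (by omega)
  clear h0
  rename' h => h0
  rcases Nat.lt_or_ge u 188416 with h | h
  · exact allB_spec _ _ _ r_183 u (by omega) (by omega)
  clear h0
  rename' h => h0
  rcases Nat.lt_or_ge u 189440 with h | h
  · exact allB_spec _ _ _ r_184 u (by omega) (by omega)
  clear h0
  rename' h => h0
  rcases Nat.lt_or_ge u 190464 with h | h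
  · exact allB_spec _ _ _ r_185 u (by omega) (by omega)
  clear h0
  rename' h => h0
  rcases Nat.lt_or_ge u 191488 with h | h
  · exact allB_spec _ _ _ r_186 u (by omega) (by omega)
  clear h0
  rename' h => h0
  rcases Nat.lt_or_ge u 192512 with h | h
  · exact allB_spec _ _ _ r_187 u (by omega) (by omega)
  clear h0
  rename' h => h0
  rcases Nat.lt_or_ge u 193536 with h | h
  · exact allB_spec _ _ _ r_188 u (by omega) (by omega)
  clear h0
  rename' h => h0
  rcases Nat.lt_or_ge u 194560 with h | h
  · exact allB_spec _ _ _ r_189 u (by omega) (by omega)
  clear h0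
  rename' h => h0
  rcases Nat.lt_or_ge u 195584 with h | h
  · exact allB_spec _ _ _ r_190 u (by omega) (by omega)
  clear h0
  rename' h => h0
  rcases Nat.lt_or_ge u 196608 with h | h
  · exact allB_spec _ _ _ r_191 u (by omega) (by omega)
  clear h0
  rename' h => h0
  omega
end H9.HN.TCHN
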