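import Cfsg.Agent.Lib.H9.HN.TCHN.Chk
set_option Elab.async false
set_option autoImplicit false
set_option maxRecDepth 100000
set_option linter.all false
namespace H9.HN.TCHN
open H35.TC
theorem r_1440 : allB chkP 10 1474560 = true := by decide +kernel
theorem r_1441 : allB chkP 10 1475584 = true := by decide +kernel
theorem r_1442 : allB chkP 10 1476608 = true := by decide +kernel
theorem r_1443 : allB chkP 10 1477632 = true := by decide +kernel
theorem r_1444 : allB chkP 10 1478656 = true := by decide +kernel
theorem r_1445 : allB chkP 10 1479680 = true := by decide +kernel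
theorem r_1446 : allB chkP 10 1480704 = true := by decide +kernel
theorem r_1447 : allB chkP 10 1481728 = true := by decide +kernel
theorem r_1448 : allB chkP 10 1482752 = true := by decide +kernel
theorem r_1449 : allB chkP 10 1483776 = true := by decide +kernel
theorem r_1450 : allB chkP 10 1484800 = true := by decide +kernel
theorem r_1451 : allB chkP 10 1485824 = true := by decide +kernel
theorem r_1452 : allB chkP 10 1486848 = true := by decide +kernel
theorem r_1453 : allB chkP 10 1487872 = true := by decide +kernel
theorem r_1454 : allB chkP 10 1488896 = true := by decide +kernel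
theorem r_1455 : allB chkP 10 1489920 = true := by decide +kernel
theorem r_1456 : allB chkP 10 1490944 = true := by decide +kernel
theorem r_1457 : allB chkP 10 1491968 = true := by decide +kernel
theorem r_1458 : allB chkP 10 1492992 = true := by decide +kernel
theorem r_1459 : allB chkP 10 1494016 = true := by decide +kernel
theorem r_1460 : allB chkP 10 1495040 = true := by decide +kernel
theorem r_1461 : allB chkP 10 1496064 = true := by decide +kernel
theorem r_1462 : allB chkP 10 1497088 = true := by decide +kernel
theorem r_1463 : allB chkP 10 1498112 = true := by decide +kernel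
theorem r_1464 : allB chkP 10 1499136 = true := by decide +kernel
theorem r_1465 : allB chkP 10 1500160 = true := by decide +kernel
theorem r_1466 : allB chkP 10 1501184 = true := by decide +kernel
theorem r_1467 : allB chkP 10 1502208 = true := by decide +kernel
theorem r_1468 : allB chkP 10 1503232 = true := by decide +kernel
theorem r_1469 : allB chkP 10 1504256 = true := by decide +kernel
theorem r_1470 : allB chkP 10 1505280 = true := by decide +kernel
theorem r_1471 : allB chkP 10 1506304 = true := by decide +kernel
theorem r_1472 : allB chkP 10 1507328 = true := by decide +kernel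
theorem r_1473 : allB chkP 10 1508352 = true := by decide +kernel
theorem r_1474 : allB chkP 10 1509376 = true := by decide +kernel
theorem r_1475 : allB chkP 10 1510400 = true := by decide +kernel
theorem r_1476 : allB chkP 10 1511424 = true := by decide +kernel
theorem r_1477 : allB chkP 10 1512448 = true := by decide +kernel
theorem r_1478 : allB chkP 10 1513472 = true := by decide +kernel
theorem r_1479 : allB chkP 10 1514496 = true := by decide +kernel
theorem r_1480 : allB chkP 10 1515520 = true := by decide +kernel
theorem r_1481 : allB chkP 10 1516544 = true := by decide +kernel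
theorem r_1482 : allB chkP 10 1517568 = true := by decide +kernel
theorem r_1483 : allB chkP 10 1518592 = true := by decide +kernel
theorem r_1484 : allB chkP 10 1519616 = true := by decide +kernel
theorem r_1485 : allB chkP 10 1520640 = true := by decide +kernel
theorem r_1486 : allB chkP 10 1521664 = true := by decide +kernel
theorem r_1487 : allB chkP 10 1522688 = true := by decide +kernel
theorem blk_30 : ∀ u, 1474560 ≤ u → u < 1523712 → chkP u = true := by
  intro u h0 hu
  rcases Nat.lt_or_ge u 1475584 with h | h
  · exact allB_spec _ _ _ r_1440 u (by omega) (by omega)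
  clear h0
  rename' h => h0
  rcases Nat.lt_or_ge u 1476608 with h | h
  · exact allB_spec _ _ _ r_1441 u (by omega) (by omega)
  clear h0
  rename' h => h0
  rcases Nat.lt_or_ge u 1477632 with h | h
  · exact allB_spec _ _ _ r_1442 u (by omega) (by omega)
  clear h0
  rename' h => h0
  rcases Nat.lt_or_ge u 1478656 with h | h
  · exact allB_spec _ _ _ r_1443 u (by omega) (by omega)
  clear h0
  rename' h => h0
  rcases Nat.lt_or_ge u 1479680 with h | h
  · exact allB_spec _ _ _ r_1444 u (by omega) (by omega)
  clear h0
  rename' h => h0
  rcases Nat.lt_or_ge u 1480704 with h | h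
  · exact allB_spec _ _ _ r_1445 u (by omega) (by omega)
  clear h0
  rename' h => h0
  rcases Nat.lt_or_ge u 1481728 with h | h
  · exact allB_spec _ _ _ r_1446 u (by omega) (by omega)
  clear h0
  rename' h => h0
  rcases Nat.lt_or_ge u 1482752 with h | h
  · exact allB_spec _ _ _ r_1447 u (by omega) (by omega)
  clear h0
  rename' h => h0
  rcases Nat.lt_or_ge u 1483776 with h | h
  · exact allB_spec _ _ _ r_1448 u (by omega) (by omega)
  clear h0
  rename' h => h0
  rcases Nat.lt_or_ge u 1484800 with h | h
  · exact allB_spec _ _ _ r_1449 u (by omega) (by omega)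
  clear h0
  rename' h => h0
  rcases Nat.lt_or_ge u 1485824 with h | h
  · exact allB_spec _ _ _ r_1450 u (by omega) (by omega)
  clear h0
  rename' h => h0
  rcases Nat.lt_or_ge u 1486848 with h | h
  · exact allB_spec _ _ _ r_1451 u (by omega) (by omega)
  clear h0
  rename' h => h0
  rcases Nat.lt_or_ge u 1487872 with h | h
  · exact allB_spec _ _ _ r_1452 u (by omega) (by omega)
  clear h0
  rename' h => h0
  rcases Nat.lt_or_ge u 1488896 with h | h
  · exact allB_spec _ _ _ r_1453 u (by omega) (by omega)
  clear h0
  rename' h => h0
  rcases Nat.lt_or_ge u 1489920 with h | h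
  · exact allB_spec _ _ _ r_1454 u (by omega) (by omega)
  clear h0
  rename' h => h0
  rcases Nat.lt_or_ge u 1490944 with h | h
  · exact allB_spec _ _ _ r_1455 u (by omega) (by omega)
  clear h0
  rename' h => h0
  rcases Nat.lt_or_ge u 1491968 with h | h
  · exact allB_spec _ _ _ r_1456 u (by omega) (by omega)
  clear h0
  rename' h => h0
  rcases Nat.lt_or_ge u 1492992 with h | h
  · exact allB_spec _ _ _ r_1457 u (by omega) (by omega)
  clear h0
  rename' h => h0
  rcases Nat.lt_or_ge u 1494016 with h | h
  · exact allB_spec _ _ _ r_1458 u (by omega) (by omega)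
  clear h0
  rename' h => h0
  rcases Nat.lt_or_ge u 1495040 with h | h
  · exact allB_spec _ _ _ r_1459 u (by omega) (by omega)
  clear h0
  rename' h => h0
  rcases Nat.lt_or_ge u 1496064 with h | h
  · exact allB_spec _ _ _ r_1460 u (by omega) (by omega)
  clear h0
  rename' h => h0
  rcases Nat.lt_or_ge u 1497088 with h | h
  · exact allB_spec _ _ _ r_1461 u (by omega) (by omega)
  clear h0
  rename' h => h0
  rcases Nat.lt_or_ge u 1498112 with h | h
  · exact allB_spec _ _ _ r_1462 u (by omega) (by omega)
  clear h0
  rename' h => h0
  rcases Nat.lt_or_ge u 1499136 with h | h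
  · exact allB_spec _ _ _ r_1463 u (by omega) (by omega)
  clear h0
  rename' h => h0
  rcases Nat.lt_or_ge u 1500160 with h | h
  · exact allB_spec _ _ _ r_1464 u (by omega) (by omega)
  clear h0
  rename' h => h0
  rcases Nat.lt_or_ge u 1501184 with h | h
  · exact allB_spec _ _ _ r_1465 u (by omega) (by omega)
  clear h0
  rename' h => h0
  rcases Nat.lt_or_ge u 1502208 with h | h
  · exact allB_spec _ _ _ r_1466 u (by omega) (by omega)
  clear h0
  rename' h => h0
  rcases Nat.lt_or_ge u 1503232 with h | h
  · exact allB_spec _ _ _ r_1467 u (by omega) (by omega)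
  clear h0
  rename' h => h0
  rcases Nat.lt_or_ge u 1504256 with h | h
  · exact allB_spec _ _ _ r_1468 u (by omega) (by omega)
  clear h0
  rename' h => h0
  rcases Nat.lt_or_ge u 1505280 with h | h
  · exact allB_spec _ _ _ r_1469 u (by omega) (by omega)
  clear h0
  rename' h => h0
  rcases Nat.lt_or_ge u 1506304 with h | h
  · exact allB_spec _ _ _ r_1470 u (by omega) (by omega)
  clear h0
  rename' h => h0
  rcases Nat.lt_or_ge u 1507328 with h | h
  · exact allB_spec _ _ _ r_1471 u (by omega) (by omega)
  clear h0
  rename' h => h0
  rcases Nat.lt_or_ge u 1508352 with h | h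
  · exact allB_spec _ _ _ r_1472 u (by omega) (by omega)
  clear h0
  rename' h => h0
  rcases Nat.lt_or_ge u 1509376 with h | h
  · exact allB_spec _ _ _ r_1473 u (by omega) (by omega)
  clear h0
  rename' h => h0
  rcases Nat.lt_or_ge u 1510400 with h | h
  · exact allB_spec _ _ _ r_1474 u (by omega) (by omega)
  clear h0
  rename' h => h0
  rcases Nat.lt_or_ge u 1511424 with h | h
  · exact allB_spec _ _ _ r_1475 u (by omega) (by omega)
  clear h0
  rename' h => h0
  rcases Nat.lt_or_ge u 1512448 with h | h
  · exact allB_spec _ _ _ r_1476 u (by omega) (by omega)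
  clear h0
  rename' h => h0
  rcases Nat.lt_or_ge u 1513472 with h | h
  · exact allB_spec _ _ _ r_1477 u (by omega) (by omega)
  clear h0
  rename' h => h0
  rcases Nat.lt_or_ge u 1514496 with h | h
  · exact allB_spec _ _ _ r_1478 u (by omega) (by omega)
  clear h0
  rename' h => h0
  rcases Nat.lt_or_ge u 1515520 with h | h
  · exact allB_spec _ _ _ r_1479 u (by omega) (by omega)
  clear h0
  rename' h => h0
  rcases Nat.lt_or_ge u 1516544 with h | h
  · exact allB_spec _ _ _ r_1480 u (by omega) (by omega)
  clear h0
  rename' h => h0
  rcases Nat.lt_or_ge u 1517568 with h | h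
  · exact allB_spec _ _ _ r_1481 u (by omega) (by omega)
  clear h0
  rename' h => h0
  rcases Nat.lt_or_ge u 1518592 with h | h
  · exact allB_spec _ _ _ r_1482 u (by omega) (by omega)
  clear h0
  rename' h => h0
  rcases Nat.lt_or_ge u 1519616 with h | h
  · exact allB_spec _ _ _ r_1483 u (by omega) (by omega)
  clear h0
  rename' h => h0
  rcases Nat.lt_or_ge u 1520640 with h | h
  · exact allB_spec _ _ _ r_1484 u (by omega) (by omega)
  clear h0
  rename' h => h0
  rcases Nat.lt_or_ge u 1521664 with h | h
  · exact allB_spec _ _ _ r_1485 u (by omega) (by omega)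
  clear h0
  rename' h => h0
  rcases Nat.lt_or_ge u 1522688 with h | h
  · exact allB_spec _ _ _ r_1486 u (by omega) (by omega)
  clear h0
  rename' h => h0
  rcases Nat.lt_or_ge u 1523712 with h | h
  · exact allB_spec _ _ _ r_1487 u (by omega) (by omega)
  clear h0
  rename' h => h0
  omega
end H9.HN.TCHN
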