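import Cfsg.Agent.Lib.H9.HN.TCHN.Chk
set_option Elab.async false
set_option autoImplicit false
set_option maxRecDepth 100000
set_option linter.all false
namespace H9.HN.TCHN
open H35.TC
theorem r_1488 : allB chkP 10 1523712 = true := by decide +kernel
theorem r_1489 : allB chkP 10 1524736 = true := by decide +kernel
theorem r_1490 : allB chkP 10 1525760 = true := by decide +kernel
theorem r_1491 : allB chkP 10 1526784 = true := by decide +kernel
theorem r_1492 : allB chkP 10 1527808 = true := by decide +kernel
theorem r_1493 : allB chkP 10 1528832 = true := by decide +kernel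
theorem r_1494 : allB chkP 10 1529856 = true := by decide +kernel
theorem r_1495 : allB chkP 10 1530880 = true := by decide +kernel
theorem r_1496 : allB chkP 10 1531904 = true := by decide +kernel
theorem r_1497 : allB chkP 10 1532928 = true := by decide +kernel
theorem r_1498 : allB chkP 10 1533952 = true := by decide +kernel
theorem r_1499 : allB chkP 10 1534976 = true := by decide +kernel
theorem r_1500 : allB chkP 10 1536000 = true := by decide +kernel
theorem r_1501 : allB chkP 10 1537024 = true := by decide +kernel
theorem r_1502 : allB chkP 10 1538048 = true := by decide +kernel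
theorem r_1503 : allB chkP 10 1539072 = true := by decide +kernel
theorem r_1504 : allB chkP 10 1540096 = true := by decide +kernel
theorem r_1505 : allB chkP 10 1541120 = true := by decide +kernel
theorem r_1506 : allB chkP 10 1542144 = true := by decide +kernel
theorem r_1507 : allB chkP 10 1543168 = true := by decide +kernel
theorem r_1508 : allB chkP 10 1544192 = true := by decide +kernel
theorem r_1509 : allB chkP 10 1545216 = true := by decide +kernel
theorem r_1510 : allB chkP 10 1546240 = true := by decide +kernel
theorem r_1511 : allB chkP 10 1547264 = true := by decide +kernel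
theorem r_1512 : allB chkP 10 1548288 = true := by decide +kernel
theorem r_1513 : allB chkP 10 1549312 = true := by decide +kernel
theorem r_1514 : allB chkP 10 1550336 = true := by decide +kernel
theorem r_1515 : allB chkP 10 1551360 = true := by decide +kernel
theorem r_1516 : allB chkP 10 1552384 = true := by decide +kernel
theorem r_1517 : allB chkP 10 1553408 = true := by decide +kernel
theorem r_1518 : allB chkP 10 1554432 = true := by decide +kernel
theorem r_1519 : allB chkP 10 1555456 = true := by decide +kernel
theorem r_1520 : allB chkP 10 1556480 = true := by decide +kernel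
theorem r_1521 : allB chkP 10 1557504 = true := by decide +kernel
theorem r_1522 : allB chkP 10 1558528 = true := by decide +kernel
theorem r_1523 : allB chkP 10 1559552 = true := by decide +kernel
theorem r_1524 : allB chkP 10 1560576 = true := by decide +kernel
theorem r_1525 : allB chkP 10 1561600 = true := by decide +kernel
theorem r_1526 : allB chkP 10 1562624 = true := by decide +kernel
theorem r_1527 : allB chkP 10 1563648 = true := by decide +kernel
theorem r_1528 : allB chkP 10 1564672 = true := by decide +kernel
theorem r_1529 : allB chkP 10 1565696 = true := by decide +kernel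
theorem r_1530 : allB chkP 10 1566720 = true := by decide +kernel
theorem r_1531 : allB chkP 10 1567744 = true := by decide +kernel
theorem r_1532 : allB chkP 10 1568768 = true := by decide +kernel
theorem r_1533 : allB chkP 10 1569792 = true := by decide +kernel
theorem r_1534 : allB chkP 10 1570816 = true := by decide +kernel
theorem r_1535 : allB chkP 10 1571840 = true := by decide +kernel
theorem blk_31 : ∀ u, 1523712 ≤ u → u < 1572864 → chkP u = true := by
  intro u h0 hu
  rcases Nat.lt_or_ge u 1524736 with h | h
  · exact allB_spec _ _ _ r_1488 u (by omega) (by omega)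
  clear h0
  rename' h => h0
  rcases Nat.lt_or_ge u 1525760 with h | h
  · exact allB_spec _ _ _ r_1489 u (by omega) (by omega)
  clear h0
  rename' h => h0
  rcases Nat.lt_or_ge u 1526784 with h | h
  · exact allB_spec _ _ _ r_1490 u (by omega) (by omega)
  clear h0
  rename' h => h0
  rcases Nat.lt_or_ge u 1527808 with h | h
  · exact allB_spec _ _ _ r_1491 u (by omega) (by omega)
  clear h0
  rename' h => h0
  rcases Nat.lt_or_ge u 1528832 with h | h
  · exact allB_spec _ _ _ r_1492 u (by omega) (by omega)
  clear h0
  rename' h => h0
  rcases Nat.lt_or_ge u 1529856 with h | h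
  · exact allB_spec _ _ _ r_1493 u (by omega) (by omega)
  clear h0
  rename' h => h0
  rcases Nat.lt_or_ge u 1530880 with h | h
  · exact allB_spec _ _ _ r_1494 u (by omega) (by omega)
  clear h0
  rename' h => h0
  rcases Nat.lt_or_ge u 1531904 with h | h
  · exact allB_spec _ _ _ r_1495 u (by omega) (by omega)
  clear h0
  rename' h => h0
  rcases Nat.lt_or_ge u 1532928 with h | h
  · exact allB_spec _ _ _ r_1496 u (by omega) (by omega)
  clear h0
  rename' h => h0
  rcases Nat.lt_or_ge u 1533952 with h | h
  · exact allB_spec _ _ _ r_1497 u (by omega) (by omega)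
  clear h0
  rename' h => h0
  rcases Nat.lt_or_ge u 1534976 with h | h
  · exact allB_spec _ _ _ r_1498 u (by omega) (by omega)
  clear h0
  rename' h => h0
  rcases Nat.lt_or_ge u 1536000 with h | h
  · exact allB_spec _ _ _ r_1499 u (by omega) (by omega)
  clear h0
  rename' h => h0
  rcases Nat.lt_or_ge u 1537024 with h | h
  · exact allB_spec _ _ _ r_1500 u (by omega) (by omega)
  clear h0
  rename' h => h0
  rcases Nat.lt_or_ge u 1538048 with h | h
  · exact allB_spec _ _ _ r_1501 u (by omega) (by omega)
  clear h0
  rename' h => h0
  rcases Nat.lt_or_ge u 1539072 with h | h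
  · exact allB_spec _ _ _ r_1502 u (by omega) (by omega)
  clear h0
  rename' h => h0
  rcases Nat.lt_or_ge u 1540096 with h | h
  · exact allB_spec _ _ _ r_1503 u (by omega) (by omega)
  clear h0
  rename' h => h0
  rcases Nat.lt_or_ge u 1541120 with h | h
  · exact allB_spec _ _ _ r_1504 u (by omega) (by omega)
  clear h0
  rename' h => h0
  rcases Nat.lt_or_ge u 1542144 with h | h
  · exact allB_spec _ _ _ r_1505 u (by omega) (by omega)
  clear h0
  rename' h => h0
  rcases Nat.lt_or_ge u 1543168 with h | h
  · exact allB_spec _ _ _ r_1506 u (by omega) (by omega)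
  clear h0
  rename' h => h0
  rcases Nat.lt_or_ge u 1544192 with h | h
  · exact allB_spec _ _ _ r_1507 u (by omega) (by omega)
  clear h0
  rename' h => h0
  rcases Nat.lt_or_ge u 1545216 with h | h
  · exact allB_spec _ _ _ r_1508 u (by omega) (by omega)
  clear h0
  rename' h => h0
  rcases Nat.lt_or_ge u 1546240 with h | h
  · exact allB_spec _ _ _ r_1509 u (by omega) (by omega)
  clear h0
  rename' h => h0
  rcases Nat.lt_or_ge u 1547264 with h | h
  · exact allB_spec _ _ _ r_1510 u (by omega) (by omega)
  clear h0
  rename' h => h0
  rcases Nat.lt_or_ge u 1548288 with h | h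
  · exact allB_spec _ _ _ r_1511 u (by omega) (by omega)
  clear h0
  rename' h => h0
  rcases Nat.lt_or_ge u 1549312 with h | h
  · exact allB_spec _ _ _ r_1512 u (by omega) (by omega)
  clear h0
  rename' h => h0
  rcases Nat.lt_or_ge u 1550336 with h | h
  · exact allB_spec _ _ _ r_1513 u (by omega) (by omega)
  clear h0
  rename' h => h0
  rcases Nat.lt_or_ge u 1551360 with h | h
  · exact allB_spec _ _ _ r_1514 u (by omega) (by omega)
  clear h0
  rename' h => h0
  rcases Nat.lt_or_ge u 1552384 with h | h
  · exact allB_spec _ _ _ r_1515 u (by omega) (by omega)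
  clear h0
  rename' h => h0
  rcases Nat.lt_or_ge u 1553408 with h | h
  · exact allB_spec _ _ _ r_1516 u (by omega) (by omega)
  clear h0
  rename' h => h0
  rcases Nat.lt_or_ge u 1554432 with h | h
  · exact allB_spec _ _ _ r_1517 u (by omega) (by omega)
  clear h0
  rename' h => h0
  rcases Nat.lt_or_ge u 1555456 with h | h
  · exact allB_spec _ _ _ r_1518 u (by omega) (by omega)
  clear h0
  rename' h => h0
  rcases Nat.lt_or_ge u 1556480 with h | h
  · exact allB_spec _ _ _ r_1519 u (by omega) (by omega)
  clear h0
  rename' h => h0
  rcases Nat.lt_or_ge u 1557504 with h | h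
  · exact allB_spec _ _ _ r_1520 u (by omega) (by omega)
  clear h0
  rename' h => h0
  rcases Nat.lt_or_ge u 1558528 with h | h
  · exact allB_spec _ _ _ r_1521 u (by omega) (by omega)
  clear h0
  rename' h => h0
  rcases Nat.lt_or_ge u 1559552 with h | h
  · exact allB_spec _ _ _ r_1522 u (by omega) (by omega)
  clear h0
  rename' h => h0
  rcases Nat.lt_or_ge u 1560576 with h | h
  · exact allB_spec _ _ _ r_1523 u (by omega) (by omega)
  clear h0
  rename' h => h0
  rcases Nat.lt_or_ge u 1561600 with h | h
  · exact allB_spec _ _ _ r_1524 u (by omega) (by omega)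
  clear h0
  rename' h => h0
  rcases Nat.lt_or_ge u 1562624 with h | h
  · exact allB_spec _ _ _ r_1525 u (by omega) (by omega)
  clear h0
  rename' h => h0
  rcases Nat.lt_or_ge u 1563648 with h | h
  · exact allB_spec _ _ _ r_1526 u (by omega) (by omega)
  clear h0
  rename' h => h0
  rcases Nat.lt_or_ge u 1564672 with h | h
  · exact allB_spec _ _ _ r_1527 u (by omega) (by omega)
  clear h0
  rename' h => h0
  rcases Nat.lt_or_ge u 1565696 with h | h
  · exact allB_spec _ _ _ r_1528 u (by omega) (by omega)
  clear h0
  rename' h => h0
  rcases Nat.lt_or_ge u 1566720 with h | h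
  · exact allB_spec _ _ _ r_1529 u (by omega) (by omega)
  clear h0
  rename' h => h0
  rcases Nat.lt_or_ge u 1567744 with h | h
  · exact allB_spec _ _ _ r_1530 u (by omega) (by omega)
  clear h0
  rename' h => h0
  rcases Nat.lt_or_ge u 1568768 with h | h
  · exact allB_spec _ _ _ r_1531 u (by omega) (by omega)
  clear h0
  rename' h => h0
  rcases Nat.lt_or_ge u 1569792 with h | h
  · exact allB_spec _ _ _ r_1532 u (by omega) (by omega)
  clear h0
  rename' h => h0
  rcases Nat.lt_or_ge u 1570816 with h | h
  · exact allB_spec _ _ _ r_1533 u (by omega) (by omega)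
  clear h0
  rename' h => h0
  rcases Nat.lt_or_ge u 1571840 with h | h
  · exact allB_spec _ _ _ r_1534 u (by omega) (by omega)
  clear h0
  rename' h => h0
  rcases Nat.lt_or_ge u 1572864 with h | h
  · exact allB_spec _ _ _ r_1535 u (by omega) (by omega)
  clear h0
  rename' h => h0
  omega
end H9.HN.TCHN
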