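import Cfsg.Agent.Lib.H9.HN.TCHN.Chk
set_option Elab.async false
set_option autoImplicit false
set_option maxRecDepth 100000
set_option linter.all false
namespace H9.HN.TCHN
open H35.TC
theorem r_1536 : allB chkP 10 1572864 = true := by decide +kernel
theorem r_1537 : allB chkP 10 1573888 = true := by decide +kernel
theorem r_1538 : allB chkP 10 1574912 = true := by decide +kernel
theorem r_1539 : allB chkP 10 1575936 = true := by decide +kernel
theorem r_1540 : allB chkP 10 1576960 = true := by decide +kernel
theorem r_1541 : allB chkP 10 1577984 = true := by decide +kernel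
theorem r_1542 : allB chkP 10 1579008 = true := by decide +kernel
theorem r_1543 : allB chkP 10 1580032 = true := by decide +kernel
theorem r_1544 : allB chkP 10 1581056 = true := by decide +kernel
theorem r_1545 : allB chkP 10 1582080 = true := by decide +kernel
theorem r_1546 : allB chkP 10 1583104 = true := by decide +kernel
theorem r_1547 : allB chkP 10 1584128 = true := by decide +kernel
theorem r_1548 : allB chkP 10 1585152 = true := by decide +kernel
theorem r_1549 : allB chkP 10 1586176 = true := by decide +kernel
theorem r_1550 : allB chkP 10 1587200 = true := by decide +kernel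
theorem r_1551 : allB chkP 10 1588224 = true := by decide +kernel
theorem r_1552 : allB chkP 10 1589248 = true := by decide +kernel
theorem r_1553 : allB chkP 10 1590272 = true := by decide +kernel
theorem r_1554 : allB chkP 10 1591296 = true := by decide +kernel
theorem r_1555 : allB chkP 10 1592320 = true := by decide +kernel
theorem r_1556 : allB chkP 10 1593344 = true := by decide +kernel
theorem r_1557 : allB chkP 10 1594368 = true := by decide +kernel
theorem r_1558 : allB chkP 10 1595392 = true := by decide +kernel
theorem r_1559 : allB chkP 10 1596416 = true := by decide +kernel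
theorem r_1560 : allB chkP 10 1597440 = true := by decide +kernel
theorem r_1561 : allB chkP 10 1598464 = true := by decide +kernel
theorem r_1562 : allB chkP 10 1599488 = true := by decide +kernel
theorem r_1563 : allB chkP 10 1600512 = true := by decide +kernel
theorem r_1564 : allB chkP 10 1601536 = true := by decide +kernel
theorem r_1565 : allB chkP 10 1602560 = true := by decide +kernel
theorem r_1566 : allB chkP 10 1603584 = true := by decide +kernel
theorem r_1567 : allB chkP 10 1604608 = true := by decide +kernel
theorem r_1568 : allB chkP 10 1605632 = true := by decide +kernel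
theorem r_1569 : allB chkP 10 1606656 = true := by decide +kernel
theorem r_1570 : allB chkP 10 1607680 = true := by decide +kernel
theorem r_1571 : allB chkP 10 1608704 = true := by decide +kernel
theorem r_1572 : allB chkP 10 1609728 = true := by decide +kernel
theorem r_1573 : allB chkP 10 1610752 = true := by decide +kernel
theorem r_1574 : allB chkP 10 1611776 = true := by decide +kernel
theorem r_1575 : allB chkP 10 1612800 = true := by decide +kernel
theorem r_1576 : allB chkP 10 1613824 = true := by decide +kernel
theorem r_1577 : allB chkP 10 1614848 = true := by decide +kernel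
theorem r_1578 : allB chkP 10 1615872 = true := by decide +kernel
theorem r_1579 : allB chkP 10 1616896 = true := by decide +kernel
theorem r_1580 : allB chkP 10 1617920 = true := by decide +kernel
theorem r_1581 : allB chkP 10 1618944 = true := by decide +kernel
theorem r_1582 : allB chkP 10 1619968 = true := by decide +kernel
theorem r_1583 : allB chkP 10 1620992 = true := by decide +kernel
theorem blk_32 : ∀ u, 1572864 ≤ u → u < 1622016 → chkP u = true := by
  intro u h0 hu
  rcases Nat.lt_or_ge u 1573888 with h | h
  · exact allB_spec _ _ _ r_1536 u (by omega) (by omega)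
  clear h0
  rename' h => h0
  rcases Nat.lt_or_ge u 1574912 with h | h
  · exact allB_spec _ _ _ r_1537 u (by omega) (by omega)
  clear h0
  rename' h => h0
  rcases Nat.lt_or_ge u 1575936 with h | h
  · exact allB_spec _ _ _ r_1538 u (by omega) (by omega)
  clear h0
  rename' h => h0
  rcases Nat.lt_or_ge u 1576960 with h | h
  · exact allB_spec _ _ _ r_1539 u (by omega) (by omega)
  clear h0
  rename' h => h0
  rcases Nat.lt_or_ge u 1577984 with h | h
  · exact allB_spec _ _ _ r_1540 u (by omega) (by omega)
  clear h0
  rename' h => h0
  rcases Nat.lt_or_ge u 1579008 with h | h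
  · exact allB_spec _ _ _ r_1541 u (by omega) (by omega)
  clear h0
  rename' h => h0
  rcases Nat.lt_or_ge u 1580032 with h | h
  · exact allB_spec _ _ _ r_1542 u (by omega) (by omega)
  clear h0
  rename' h => h0
  rcases Nat.lt_or_ge u 1581056 with h | h
  · exact allB_spec _ _ _ r_1543 u (by omega) (by omega)
  clear h0
  rename' h => h0
  rcases Nat.lt_or_ge u 1582080 with h | h
  · exact allB_spec _ _ _ r_1544 u (by omega) (by omega)
  clear h0
  rename' h => h0
  rcases Nat.lt_or_ge u 1583104 with h | h
  · exact allB_spec _ _ _ r_1545 u (by omega) (by omega)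
  clear h0
  rename' h => h0
  rcases Nat.lt_or_ge u 1584128 with h | h
  · exact allB_spec _ _ _ r_1546 u (by omega) (by omega)
  clear h0
  rename' h => h0
  rcases Nat.lt_or_ge u 1585152 with h | h
  · exact allB_spec _ _ _ r_1547 u (by omega) (by omega)
  clear h0
  rename' h => h0
  rcases Nat.lt_or_ge u 1586176 with h | h
  · exact allB_spec _ _ _ r_1548 u (by omega) (by omega)
  clear h0
  rename' h => h0
  rcases Nat.lt_or_ge u 1587200 with h | h
  · exact allB_spec _ _ _ r_1549 u (by omega) (by omega)
  clear h0
  rename' h => h0
  rcases Nat.lt_or_ge u 1588224 with h | h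
  · exact allB_spec _ _ _ r_1550 u (by omega) (by omega)
  clear h0
  rename' h => h0
  rcases Nat.lt_or_ge u 1589248 with h | h
  · exact allB_spec _ _ _ r_1551 u (by omega) (by omega)
  clear h0
  rename' h => h0
  rcases Nat.lt_or_ge u 1590272 with h | h
  · exact allB_spec _ _ _ r_1552 u (by omega) (by omega)
  clear h0
  rename' h => h0
  rcases Nat.lt_or_ge u 1591296 with h | h
  · exact allB_spec _ _ _ r_1553 u (by omega) (by omega)
  clear h0
  rename' h => h0
  rcases Nat.lt_or_ge u 1592320 with h | h
  · exact allB_spec _ _ _ r_1554 u (by omega) (by omega)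
  clear h0
  rename' h => h0
  rcases Nat.lt_or_ge u 1593344 with h | h
  · exact allB_spec _ _ _ r_1555 u (by omega) (by omega)
  clear h0
  rename' h => h0
  rcases Nat.lt_or_ge u 1594368 with h | h
  · exact allB_spec _ _ _ r_1556 u (by omega) (by omega)
  clear h0
  rename' h => h0
  rcases Nat.lt_or_ge u 1595392 with h | h
  · exact allB_spec _ _ _ r_1557 u (by omega) (by omega)
  clear h0
  rename' h => h0
  rcases Nat.lt_or_ge u 1596416 with h | h
  · exact allB_spec _ _ _ r_1558 u (by omega) (by omega)
  clear h0
  rename' h => h0
  rcases Nat.lt_or_ge u 1597440 with h | h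
  · exact allB_spec _ _ _ r_1559 u (by omega) (by omega)
  clear h0
  rename' h => h0
  rcases Nat.lt_or_ge u 1598464 with h | h
  · exact allB_spec _ _ _ r_1560 u (by omega) (by omega)
  clear h0
  rename' h => h0
  rcases Nat.lt_or_ge u 1599488 with h | h
  · exact allB_spec _ _ _ r_1561 u (by omega) (by omega)
  clear h0
  rename' h => h0
  rcases Nat.lt_or_ge u 1600512 with h | h
  · exact allB_spec _ _ _ r_1562 u (by omega) (by omega)
  clear h0
  rename' h => h0
  rcases Nat.lt_or_ge u 1601536 with h | h
  · exact allB_spec _ _ _ r_1563 u (by omega) (by omega)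
  clear h0
  rename' h => h0
  rcases Nat.lt_or_ge u 1602560 with h | h
  · exact allB_spec _ _ _ r_1564 u (by omega) (by omega)
  clear h0
  rename' h => h0
  rcases Nat.lt_or_ge u 1603584 with h | h
  · exact allB_spec _ _ _ r_1565 u (by omega) (by omega)
  clear h0
  rename' h => h0
  rcases Nat.lt_or_ge u 1604608 with h | h
  · exact allB_spec _ _ _ r_1566 u (by omega) (by omega)
  clear h0
  rename' h => h0
  rcases Nat.lt_or_ge u 1605632 with h | h
  · exact allB_spec _ _ _ r_1567 u (by omega) (by omega)
  clear h0
  rename' h => h0
  rcases Nat.lt_or_ge u 1606656 with h | h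
  · exact allB_spec _ _ _ r_1568 u (by omega) (by omega)
  clear h0
  rename' h => h0
  rcases Nat.lt_or_ge u 1607680 with h | h
  · exact allB_spec _ _ _ r_1569 u (by omega) (by omega)
  clear h0
  rename' h => h0
  rcases Nat.lt_or_ge u 1608704 with h | h
  · exact allB_spec _ _ _ r_1570 u (by omega) (by omega)
  clear h0
  rename' h => h0
  rcases Nat.lt_or_ge u 1609728 with h | h
  · exact allB_spec _ _ _ r_1571 u (by omega) (by omega)
  clear h0
  rename' h => h0
  rcases Nat.lt_or_ge u 1610752 with h | h
  · exact allB_spec _ _ _ r_1572 u (by omega) (by omega)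
  clear h0
  rename' h => h0
  rcases Nat.lt_or_ge u 1611776 with h | h
  · exact allB_spec _ _ _ r_1573 u (by omega) (by omega)
  clear h0
  rename' h => h0
  rcases Nat.lt_or_ge u 1612800 with h | h
  · exact allB_spec _ _ _ r_1574 u (by omega) (by omega)
  clear h0
  rename' h => h0
  rcases Nat.lt_or_ge u 1613824 with h | h
  · exact allB_spec _ _ _ r_1575 u (by omega) (by omega)
  clear h0
  rename' h => h0
  rcases Nat.lt_or_ge u 1614848 with h | h
  · exact allB_spec _ _ _ r_1576 u (by omega) (by omega)
  clear h0
  rename' h => h0
  rcases Nat.lt_or_ge u 1615872 with h | h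
  · exact allB_spec _ _ _ r_1577 u (by omega) (by omega)
  clear h0
  rename' h => h0
  rcases Nat.lt_or_ge u 1616896 with h | h
  · exact allB_spec _ _ _ r_1578 u (by omega) (by omega)
  clear h0
  rename' h => h0
  rcases Nat.lt_or_ge u 1617920 with h | h
  · exact allB_spec _ _ _ r_1579 u (by omega) (by omega)
  clear h0
  rename' h => h0
  rcases Nat.lt_or_ge u 1618944 with h | h
  · exact allB_spec _ _ _ r_1580 u (by omega) (by omega)
  clear h0
  rename' h => h0
  rcases Nat.lt_or_ge u 1619968 with h | h
  · exact allB_spec _ _ _ r_1581 u (by omega) (by omega)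
  clear h0
  rename' h => h0
  rcases Nat.lt_or_ge u 1620992 with h | h
  · exact allB_spec _ _ _ r_1582 u (by omega) (by omega)
  clear h0
  rename' h => h0
  rcases Nat.lt_or_ge u 1622016 with h | h
  · exact allB_spec _ _ _ r_1583 u (by omega) (by omega)
  clear h0
  rename' h => h0
  omega
end H9.HN.TCHN
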