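import Cfsg.Agent.Lib.H9.HN.TCHN.Chk
set_option Elab.async false
set_option autoImplicit false
set_option maxRecDepth 100000
set_option linter.all false
namespace H9.HN.TCHN
open H35.TC
theorem r_1584 : allB chkP 10 1622016 = true := by decide +kernel
theorem r_1585 : allB chkP 10 1623040 = true := by decide +kernel
theorem r_1586 : allB chkP 10 1624064 = true := by decide +kernel
theorem r_1587 : allB chkP 10 1625088 = true := by decide +kernel
theorem r_1588 : allB chkP 10 1626112 = true := by decide +kernel
theorem r_1589 : allB chkP 10 1627136 = true := by decide +kernel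
theorem r_1590 : allB chkP 10 1628160 = true := by decide +kernel
theorem r_1591 : allB chkP 10 1629184 = true := by decide +kernel
theorem r_1592 : allB chkP 10 1630208 = true := by decide +kernel
theorem r_1593 : allB chkP 10 1631232 = true := by decide +kernel
theorem r_1594 : allB chkP 10 1632256 = true := by decide +kernel
theorem r_1595 : allB chkP 10 1633280 = true := by decide +kernel
theorem blk_33 : ∀ u, 1622016 ≤ u → u < 1634304 → chkP u = true := by
  intro u h0 hu
  rcases Nat.lt_or_ge u 1623040 with h | h
  · exact allB_spec _ _ _ r_1584 u (by omega) (by omega)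
  clear h0
  rename' h => h0
  rcases Nat.lt_or_ge u 1624064 with h | h
  · exact allB_spec _ _ _ r_1585 u (by omega) (by omega)
  clear h0
  rename' h => h0
  rcases Nat.lt_or_ge u 1625088 with h | h
  · exact allB_spec _ _ _ r_1586 u (by omega) (by omega)
  clear h0
  rename' h => h0
  rcases Nat.lt_or_ge u 1626112 with h | h
  · exact allB_spec _ _ _ r_1587 u (by omega) (by omega)
  clear h0
  rename' h => h0
  rcases Nat.lt_or_ge u 1627136 with h | h
  · exact allB_spec _ _ _ r_1588 u (by omega) (by omega)
  clear h0
  rename' h => h0
  rcases Nat.lt_or_ge u 1628160 with h | h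
  · exact allB_spec _ _ _ r_1589 u (by omega) (by omega)
  clear h0
  rename' h => h0
  rcases Nat.lt_or_ge u 1629184 with h | h
  · exact allB_spec _ _ _ r_1590 u (by omega) (by omega)
  clear h0
  rename' h => h0
  rcases Nat.lt_or_ge u 1630208 with h | h
  · exact allB_spec _ _ _ r_1591 u (by omega) (by omega)
  clear h0
  rename' h => h0
  rcases Nat.lt_or_ge u 1631232 with h | h
  · exact allB_spec _ _ _ r_1592 u (by omega) (by omega)
  clear h0
  rename' h => h0
  rcases Nat.lt_or_ge u 1632256 with h | h
  · exact allB_spec _ _ _ r_1593 u (by omega) (by omega)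
  clear h0
  rename' h => h0
  rcases Nat.lt_or_ge u 1633280 with h | h
  · exact allB_spec _ _ _ r_1594 u (by omega) (by omega)
  clear h0
  rename' h => h0
  rcases Nat.lt_or_ge u 1634304 with h | h
  · exact allB_spec _ _ _ r_1595 u (by omega) (by omega)
  clear h0
  rename' h => h0
  omega
end H9.HN.TCHN
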