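import Cfsg.Agent.Lib.H9.HN.TCHN.Chk
set_option Elab.async false
set_option autoImplicit false
set_option maxRecDepth 100000
set_option linter.all false
namespace H9.HN.TCHN
open H35.TC
theorem r_240 : allB chkP 10 245760 = true := by decide +kernel
theorem r_241 : allB chkP 10 246784 = true := by decide +kernel
theorem r_242 : allB chkP 10 247808 = true := by decide +kernel
theorem r_243 : allB chkP 10 248832 = true := by decide +kernel
theorem r_244 : allB chkP 10 249856 = true := by decide +kernel
theorem r_245 : allB chkP 10 250880 = true := by decide +kernel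
theorem r_246 : allB chkP 10 251904 = true := by decide +kernel
theorem r_247 : allB chkP 10 252928 = true := by decide +kernel
theorem r_248 : allB chkP 10 253952 = true := by decide +kernel
theorem r_249 : allB chkP 10 254976 = true := by decide +kernel
theorem r_250 : allB chkP 10 256000 = true := by decide +kernel
theorem r_251 : allB chkP 10 257024 = true := by decide +kernel
theorem r_252 : allB chkP 10 258048 = true := by decide +kernel
theorem r_253 : allB chkP 10 259072 = true := by decide +kernel
theorem r_254 : allB chkP 10 260096 = true := by decide +kernel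
theorem r_255 : allB chkP 10 261120 = true := by decide +kernel
theorem r_256 : allB chkP 10 262144 = true := by decide +kernel
theorem r_257 : allB chkP 10 263168 = true := by decide +kernel
theorem r_258 : allB chkP 10 264192 = true := by decide +kernel
theorem r_259 : allB chkP 10 265216 = true := by decide +kernel
theorem r_260 : allB chkP 10 266240 = true := by decide +kernel
theorem r_261 : allB chkP 10 267264 = true := by decide +kernel
theorem r_262 : allB chkP 10 268288 = true := by decide +kernel
theorem r_263 : allB chkP 10 269312 = true := by decide +kernel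
theorem r_264 : allB chkP 10 270336 = true := by decide +kernel
theorem r_265 : allB chkP 10 271360 = true := by decide +kernel
theorem r_266 : allB chkP 10 272384 = true := by decide +kernel
theorem r_267 : allB chkP 10 273408 = true := by decide +kernel
theorem r_268 : allB chkP 10 274432 = true := by decide +kernel
theorem r_269 : allB chkP 10 275456 = true := by decide +kernel
theorem r_270 : allB chkP 10 276480 = true := by decide +kernel
theorem r_271 : allB chkP 10 277504 = true := by decide +kernel
theorem r_272 : allB chkP 10 278528 = true := by decide +kernel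
theorem r_273 : allB chkP 10 279552 = true := by decide +kernel
theorem r_274 : allB chkP 10 280576 = true := by decide +kernel
theorem r_275 : allB chkP 10 281600 = true := by decide +kernel
theorem r_276 : allB chkP 10 282624 = true := by decide +kernel
theorem r_277 : allB chkP 10 283648 = true := by decide +kernel
theorem r_278 : allB chkP 10 284672 = true := by decide +kernel
theorem r_279 : allB chkP 10 285696 = true := by decide +kernel
theorem r_280 : allB chkP 10 286720 = true := by decide +kernel
theorem r_281 : allB chkP 10 287744 = true := by decide +kernel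
theorem r_282 : allB chkP 10 288768 = true := by decide +kernel
theorem r_283 : allB chkP 10 289792 = true := by decide +kernel
theorem r_284 : allB chkP 10 290816 = true := by decide +kernel
theorem r_285 : allB chkP 10 291840 = true := by decide +kernel
theorem r_286 : allB chkP 10 292864 = true := by decide +kernel
theorem r_287 : allB chkP 10 293888 = true := by decide +kernel
theorem blk_5 : ∀ u, 245760 ≤ u → u < 294912 → chkP u = true := by
  intro u h0 hu
  rcases Nat.lt_or_ge u 246784 with h | h
  · exact allB_spec _ _ _ r_240 u (by omega) (by omega)
  clear h0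
  rename' h => h0
  rcases Nat.lt_or_ge u 247808 with h | h
  · exact allB_spec _ _ _ r_241 u (by omega) (by omega)
  clear h0
  rename' h => h0
  rcases Nat.lt_or_ge u 248832 with h | h
  · exact allB_spec _ _ _ r_242 u (by omega) (by omega)
  clear h0
  rename' h => h0
  rcases Nat.lt_or_ge u 249856 with h | h
  · exact allB_spec _ _ _ r_243 u (by omega) (by omega)
  clear h0
  rename' h => h0
  rcases Nat.lt_or_ge u 250880 with h | h
  · exact allB_spec _ _ _ r_244 u (by omega) (by omega)
  clear h0
  rename' h => h0
  rcases Nat.lt_or_ge u 251904 with h | h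
  · exact allB_spec _ _ _ r_245 u (by omega) (by omega)
  clear h0
  rename' h => h0
  rcases Nat.lt_or_ge u 252928 with h | h
  · exact allB_spec _ _ _ r_246 u (by omega) (by omega)
  clear h0
  rename' h => h0
  rcases Nat.lt_or_ge u 253952 with h | h
  · exact allB_spec _ _ _ r_247 u (by omega) (by omega)
  clear h0
  rename' h => h0
  rcases Nat.lt_or_ge u 254976 with h | h
  · exact allB_spec _ _ _ r_248 u (by omega) (by omega)
  clear h0
  rename' h => h0
  rcases Nat.lt_or_ge u 256000 with h | h
  · exact allB_spec _ _ _ r_249 u (by omega) (by omega)
  clear h0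
  rename' h => h0
  rcases Nat.lt_or_ge u 257024 with h | h
  · exact allB_spec _ _ _ r_250 u (by omega) (by omega)
  clear h0
  rename' h => h0
  rcases Nat.lt_or_ge u 258048 with h | h
  · exact allB_spec _ _ _ r_251 u (by omega) (by omega)
  clear h0
  rename' h => h0
  rcases Nat.lt_or_ge u 259072 with h | h
  · exact allB_spec _ _ _ r_252 u (by omega) (by omega)
  clear h0
  rename' h => h0
  rcases Nat.lt_or_ge u 260096 with h | h
  · exact allB_spec _ _ _ r_253 u (by omega) (by omega)
  clear h0
  rename' h => h0
  rcases Nat.lt_or_ge u 261120 with h | h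
  · exact allB_spec _ _ _ r_254 u (by omega) (by omega)
  clear h0
  rename' h => h0
  rcases Nat.lt_or_ge u 262144 with h | h
  · exact allB_spec _ _ _ r_255 u (by omega) (by omega)
  clear h0
  rename' h => h0
  rcases Nat.lt_or_ge u 263168 with h | h
  · exact allB_spec _ _ _ r_256 u (by omega) (by omega)
  clear h0
  rename' h => h0
  rcases Nat.lt_or_ge u 264192 with h | h
  · exact allB_spec _ _ _ r_257 u (by omega) (by omega)
  clear h0
  rename' h => h0
  rcases Nat.lt_or_ge u 265216 with h | h
  · exact allB_spec _ _ _ r_258 u (by omega) (by omega)
  clear h0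
  rename' h => h0
  rcases Nat.lt_or_ge u 266240 with h | h
  · exact allB_spec _ _ _ r_259 u (by omega) (by omega)
  clear h0
  rename' h => h0
  rcases Nat.lt_or_ge u 267264 with h | h
  · exact allB_spec _ _ _ r_260 u (by omega) (by omega)
  clear h0
  rename' h => h0
  rcases Nat.lt_or_ge u 268288 with h | h
  · exact allB_spec _ _ _ r_261 u (by omega) (by omega)
  clear h0
  rename' h => h0
  rcases Nat.lt_or_ge u 269312 with h | h
  · exact allB_spec _ _ _ r_262 u (by omega) (by omega)
  clear h0
  rename' h => h0
  rcases Nat.lt_or_ge u 270336 with h | h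
  · exact allB_spec _ _ _ r_263 u (by omega) (by omega)
  clear h0
  rename' h => h0
  rcases Nat.lt_or_ge u 271360 with h | h
  · exact allB_spec _ _ _ r_264 u (by omega) (by omega)
  clear h0
  rename' h => h0
  rcases Nat.lt_or_ge u 272384 with h | h
  · exact allB_spec _ _ _ r_265 u (by omega) (by omega)
  clear h0
  rename' h => h0
  rcases Nat.lt_or_ge u 273408 with h | h
  · exact allB_spec _ _ _ r_266 u (by omega) (by omega)
  clear h0
  rename' h => h0
  rcases Nat.lt_or_ge u 274432 with h | h
  · exact allB_spec _ _ _ r_267 u (by omega) (by omega)
  clear h0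
  rename' h => h0
  rcases Nat.lt_or_ge u 275456 with h | h
  · exact allB_spec _ _ _ r_268 u (by omega) (by omega)
  clear h0
  rename' h => h0
  rcases Nat.lt_or_ge u 276480 with h | h
  · exact allB_spec _ _ _ r_269 u (by omega) (by omega)
  clear h0
  rename' h => h0
  rcases Nat.lt_or_ge u 277504 with h | h
  · exact allB_spec _ _ _ r_270 u (by omega) (by omega)
  clear h0
  rename' h => h0
  rcases Nat.lt_or_ge u 278528 with h | h
  · exact allB_spec _ _ _ r_271 u (by omega) (by omega)
  clear h0
  rename' h => h0
  rcases Nat.lt_or_ge u 279552 with h | h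
  · exact allB_spec _ _ _ r_272 u (by omega) (by omega)
  clear h0
  rename' h => h0
  rcases Nat.lt_or_ge u 280576 with h | h
  · exact allB_spec _ _ _ r_273 u (by omega) (by omega)
  clear h0
  rename' h => h0
  rcases Nat.lt_or_ge u 281600 with h | h
  · exact allB_spec _ _ _ r_274 u (by omega) (by omega)
  clear h0
  rename' h => h0
  rcases Nat.lt_or_ge u 282624 with h | h
  · exact allB_spec _ _ _ r_275 u (by omega) (by omega)
  clear h0
  rename' h => h0
  rcases Nat.lt_or_ge u 283648 with h | h
  · exact allB_spec _ _ _ r_276 u (by omega) (by omega)
  clear h0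
  rename' h => h0
  rcases Nat.lt_or_ge u 284672 with h | h
  · exact allB_spec _ _ _ r_277 u (by omega) (by omega)
  clear h0
  rename' h => h0
  rcases Nat.lt_or_ge u 285696 with h | h
  · exact allB_spec _ _ _ r_278 u (by omega) (by omega)
  clear h0
  rename' h => h0
  rcases Nat.lt_or_ge u 286720 with h | h
  · exact allB_spec _ _ _ r_279 u (by omega) (by omega)
  clear h0
  rename' h => h0
  rcases Nat.lt_or_ge u 287744 with h | h
  · exact allB_spec _ _ _ r_280 u (by omega) (by omega)
  clear h0
  rename' h => h0
  rcases Nat.lt_or_ge u 288768 with h | h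
  · exact allB_spec _ _ _ r_281 u (by omega) (by omega)
  clear h0
  rename' h => h0
  rcases Nat.lt_or_ge u 289792 with h | h
  · exact allB_spec _ _ _ r_282 u (by omega) (by omega)
  clear h0
  rename' h => h0
  rcases Nat.lt_or_ge u 290816 with h | h
  · exact allB_spec _ _ _ r_283 u (by omega) (by omega)
  clear h0
  rename' h => h0
  rcases Nat.lt_or_ge u 291840 with h | h
  · exact allB_spec _ _ _ r_284 u (by omega) (by omega)
  clear h0
  rename' h => h0
  rcases Nat.lt_or_ge u 292864 with h | h
  · exact allB_spec _ _ _ r_285 u (by omega) (by omega)
  clear h0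
  rename' h => h0
  rcases Nat.lt_or_ge u 293888 with h | h
  · exact allB_spec _ _ _ r_286 u (by omega) (by omega)
  clear h0
  rename' h => h0
  rcases Nat.lt_or_ge u 294912 with h | h
  · exact allB_spec _ _ _ r_287 u (by omega) (by omega)
  clear h0
  rename' h => h0
  omega
end H9.HN.TCHN
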