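import Cfsg.Agent.Lib.H9.HN.TCHN.Chk
set_option Elab.async false
set_option autoImplicit false
set_option maxRecDepth 100000
set_option linter.all false
namespace H9.HN.TCHN
open H35.TC
theorem r_288 : allB chkP 10 294912 = true := by decide +kernel
theorem r_289 : allB chkP 10 295936 = true := by decide +kernel
theorem r_290 : allB chkP 10 296960 = true := by decide +kernel
theorem r_291 : allB chkP 10 297984 = true := by decide +kernel
theorem r_292 : allB chkP 10 299008 = true := by decide +kernel
theorem r_293 : allB chkP 10 300032 = true := by decide +kernel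
theorem r_294 : allB chkP 10 301056 = true := by decide +kernel
theorem r_295 : allB chkP 10 302080 = true := by decide +kernel
theorem r_296 : allB chkP 10 303104 = true := by decide +kernel
theorem r_297 : allB chkP 10 304128 = true := by decide +kernel
theorem r_298 : allB chkP 10 305152 = true := by decide +kernel
theorem r_299 : allB chkP 10 306176 = true := by decide +kernel
theorem r_300 : allB chkP 10 307200 = true := by decide +kernel
theorem r_301 : allB chkP 10 308224 = true := by decide +kernel
theorem r_302 : allB chkP 10 309248 = true := by decide +kernel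
theorem r_303 : allB chkP 10 310272 = true := by decide +kernel
theorem r_304 : allB chkP 10 311296 = true := by decide +kernel
theorem r_305 : allB chkP 10 312320 = true := by decide +kernel
theorem r_306 : allB chkP 10 313344 = true := by decide +kernel
theorem r_307 : allB chkP 10 314368 = true := by decide +kernel
theorem r_308 : allB chkP 10 315392 = true := by decide +kernel
theorem r_309 : allB chkP 10 316416 = true := by decide +kernel
theorem r_310 : allB chkP 10 317440 = true := by decide +kernel
theorem r_311 : allB chkP 10 318464 = true := by decide +kernel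
theorem r_312 : allB chkP 10 319488 = true := by decide +kernel
theorem r_313 : allB chkP 10 320512 = true := by decide +kernel
theorem r_314 : allB chkP 10 321536 = true := by decide +kernel
theorem r_315 : allB chkP 10 322560 = true := by decide +kernel
theorem r_316 : allB chkP 10 323584 = true := by decide +kernel
theorem r_317 : allB chkP 10 324608 = true := by decide +kernel
theorem r_318 : allB chkP 10 325632 = true := by decide +kernel
theorem r_319 : allB chkP 10 326656 = true := by decide +kernel
theorem r_320 : allB chkP 10 327680 = true := by decide +kernel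
theorem r_321 : allB chkP 10 328704 = true := by decide +kernel
theorem r_322 : allB chkP 10 329728 = true := by decide +kernel
theorem r_323 : allB chkP 10 330752 = true := by decide +kernel
theorem r_324 : allB chkP 10 331776 = true := by decide +kernel
theorem r_325 : allB chkP 10 332800 = true := by decide +kernel
theorem r_326 : allB chkP 10 333824 = true := by decide +kernel
theorem r_327 : allB chkP 10 334848 = true := by decide +kernel
theorem r_328 : allB chkP 10 335872 = true := by decide +kernel
theorem r_329 : allB chkP 10 336896 = true := by decide +kernel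
theorem r_330 : allB chkP 10 337920 = true := by decide +kernel
theorem r_331 : allB chkP 10 338944 = true := by decide +kernel
theorem r_332 : allB chkP 10 339968 = true := by decide +kernel
theorem r_333 : allB chkP 10 340992 = true := by decide +kernel
theorem r_334 : allB chkP 10 342016 = true := by decide +kernel
theorem r_335 : allB chkP 10 343040 = true := by decide +kernel
theorem blk_6 : ∀ u, 294912 ≤ u → u < 344064 → chkP u = true := by
  intro u h0 hu
  rcases Nat.lt_or_ge u 295936 with h | h
  · exact allB_spec _ _ _ r_288 u (by omega) (by omega)
  clear h0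
  rename' h => h0
  rcases Nat.lt_or_ge u 296960 with h | h
  · exact allB_spec _ _ _ r_289 u (by omega) (by omega)
  clear h0
  rename' h => h0
  rcases Nat.lt_or_ge u 297984 with h | h
  · exact allB_spec _ _ _ r_290 u (by omega) (by omega)
  clear h0
  rename' h => h0
  rcases Nat.lt_or_ge u 299008 with h | h
  · exact allB_spec _ _ _ r_291 u (by omega) (by omega)
  clear h0
  rename' h => h0
  rcases Nat.lt_or_ge u 300032 with h | h
  · exact allB_spec _ _ _ r_292 u (by omega) (by omega)
  clear h0
  rename' h => h0
  rcases Nat.lt_or_ge u 301056 with h | h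
  · exact allB_spec _ _ _ r_293 u (by omega) (by omega)
  clear h0
  rename' h => h0
  rcases Nat.lt_or_ge u 302080 with h | h
  · exact allB_spec _ _ _ r_294 u (by omega) (by omega)
  clear h0
  rename' h => h0
  rcases Nat.lt_or_ge u 303104 with h | h
  · exact allB_spec _ _ _ r_295 u (by omega) (by omega)
  clear h0
  rename' h => h0
  rcases Nat.lt_or_ge u 304128 with h | h
  · exact allB_spec _ _ _ r_296 u (by omega) (by omega)
  clear h0
  rename' h => h0
  rcases Nat.lt_or_ge u 305152 with h | h
  · exact allB_spec _ _ _ r_297 u (by omega) (by omega)
  clear h0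
  rename' h => h0
  rcases Nat.lt_or_ge u 306176 with h | h
  · exact allB_spec _ _ _ r_298 u (by omega) (by omega)
  clear h0
  rename' h => h0
  rcases Nat.lt_or_ge u 307200 with h | h
  · exact allB_spec _ _ _ r_299 u (by omega) (by omega)
  clear h0
  rename' h => h0
  rcases Nat.lt_or_ge u 308224 with h | h
  · exact allB_spec _ _ _ r_300 u (by omega) (by omega)
  clear h0
  rename' h => h0
  rcases Nat.lt_or_ge u 309248 with h | h
  · exact allB_spec _ _ _ r_301 u (by omega) (by omega)
  clear h0
  rename' h => h0
  rcases Nat.lt_or_ge u 310272 with h | h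
  · exact allB_spec _ _ _ r_302 u (by omega) (by omega)
  clear h0
  rename' h => h0
  rcases Nat.lt_or_ge u 311296 with h | h
  · exact allB_spec _ _ _ r_303 u (by omega) (by omega)
  clear h0
  rename' h => h0
  rcases Nat.lt_or_ge u 312320 with h | h
  · exact allB_spec _ _ _ r_304 u (by omega) (by omega)
  clear h0
  rename' h => h0
  rcases Nat.lt_or_ge u 313344 with h | h
  · exact allB_spec _ _ _ r_305 u (by omega) (by omega)
  clear h0
  rename' h => h0
  rcases Nat.lt_or_ge u 314368 with h | h
  · exact allB_spec _ _ _ r_306 u (by omega) (by omega)
  clear h0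
  rename' h => h0
  rcases Nat.lt_or_ge u 315392 with h | h
  · exact allB_spec _ _ _ r_307 u (by omega) (by omega)
  clear h0
  rename' h => h0
  rcases Nat.lt_or_ge u 316416 with h | h
  · exact allB_spec _ _ _ r_308 u (by omega) (by omega)
  clear h0
  rename' h => h0
  rcases Nat.lt_or_ge u 317440 with h | h
  · exact allB_spec _ _ _ r_309 u (by omega) (by omega)
  clear h0
  rename' h => h0
  rcases Nat.lt_or_ge u 318464 with h | h
  · exact allB_spec _ _ _ r_310 u (by omega) (by omega)
  clear h0
  rename' h => h0
  rcases Nat.lt_or_ge u 319488 with h | h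
  · exact allB_spec _ _ _ r_311 u (by omega) (by omega)
  clear h0
  rename' h => h0
  rcases Nat.lt_or_ge u 320512 with h | h
  · exact allB_spec _ _ _ r_312 u (by omega) (by omega)
  clear h0
  rename' h => h0
  rcases Nat.lt_or_ge u 321536 with h | h
  · exact allB_spec _ _ _ r_313 u (by omega) (by omega)
  clear h0
  rename' h => h0
  rcases Nat.lt_or_ge u 322560 with h | h
  · exact allB_spec _ _ _ r_314 u (by omega) (by omega)
  clear h0
  rename' h => h0
  rcases Nat.lt_or_ge u 323584 with h | h
  · exact allB_spec _ _ _ r_315 u (by omega) (by omega)
  clear h0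
  rename' h => h0
  rcases Nat.lt_or_ge u 324608 with h | h
  · exact allB_spec _ _ _ r_316 u (by omega) (by omega)
  clear h0
  rename' h => h0
  rcases Nat.lt_or_ge u 325632 with h | h
  · exact allB_spec _ _ _ r_317 u (by omega) (by omega)
  clear h0
  rename' h => h0
  rcases Nat.lt_or_ge u 326656 with h | h
  · exact allB_spec _ _ _ r_318 u (by omega) (by omega)
  clear h0
  rename' h => h0
  rcases Nat.lt_or_ge u 327680 with h | h
  · exact allB_spec _ _ _ r_319 u (by omega) (by omega)
  clear h0
  rename' h => h0
  rcases Nat.lt_or_ge u 328704 with h | h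
  · exact allB_spec _ _ _ r_320 u (by omega) (by omega)
  clear h0
  rename' h => h0
  rcases Nat.lt_or_ge u 329728 with h | h
  · exact allB_spec _ _ _ r_321 u (by omega) (by omega)
  clear h0
  rename' h => h0
  rcases Nat.lt_or_ge u 330752 with h | h
  · exact allB_spec _ _ _ r_322 u (by omega) (by omega)
  clear h0
  rename' h => h0
  rcases Nat.lt_or_ge u 331776 with h | h
  · exact allB_spec _ _ _ r_323 u (by omega) (by omega)
  clear h0
  rename' h => h0
  rcases Nat.lt_or_ge u 332800 with h | h
  · exact allB_spec _ _ _ r_324 u (by omega) (by omega)
  clear h0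
  rename' h => h0
  rcases Nat.lt_or_ge u 333824 with h | h
  · exact allB_spec _ _ _ r_325 u (by omega) (by omega)
  clear h0
  rename' h => h0
  rcases Nat.lt_or_ge u 334848 with h | h
  · exact allB_spec _ _ _ r_326 u (by omega) (by omega)
  clear h0
  rename' h => h0
  rcases Nat.lt_or_ge u 335872 with h | h
  · exact allB_spec _ _ _ r_327 u (by omega) (by omega)
  clear h0
  rename' h => h0
  rcases Nat.lt_or_ge u 336896 with h | h
  · exact allB_spec _ _ _ r_328 u (by omega) (by omega)
  clear h0
  rename' h => h0
  rcases Nat.lt_or_ge u 337920 with h | h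
  · exact allB_spec _ _ _ r_329 u (by omega) (by omega)
  clear h0
  rename' h => h0
  rcases Nat.lt_or_ge u 338944 with h | h
  · exact allB_spec _ _ _ r_330 u (by omega) (by omega)
  clear h0
  rename' h => h0
  rcases Nat.lt_or_ge u 339968 with h | h
  · exact allB_spec _ _ _ r_331 u (by omega) (by omega)
  clear h0
  rename' h => h0
  rcases Nat.lt_or_ge u 340992 with h | h
  · exact allB_spec _ _ _ r_332 u (by omega) (by omega)
  clear h0
  rename' h => h0
  rcases Nat.lt_or_ge u 342016 with h | h
  · exact allB_spec _ _ _ r_333 u (by omega) (by omega)
  clear h0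
  rename' h => h0
  rcases Nat.lt_or_ge u 343040 with h | h
  · exact allB_spec _ _ _ r_334 u (by omega) (by omega)
  clear h0
  rename' h => h0
  rcases Nat.lt_or_ge u 344064 with h | h
  · exact allB_spec _ _ _ r_335 u (by omega) (by omega)
  clear h0
  rename' h => h0
  omega
end H9.HN.TCHN
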