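import Cfsg.Agent.Lib.H9.HN.TCHN.Chk
set_option Elab.async false
set_option autoImplicit false
set_option maxRecDepth 100000
set_option linter.all false
namespace H9.HN.TCHN
open H35.TC
theorem r_336 : allB chkP 10 344064 = true := by decide +kernel
theorem r_337 : allB chkP 10 345088 = true := by decide +kernel
theorem r_338 : allB chkP 10 346112 = true := by decide +kernel
theorem r_339 : allB chkP 10 347136 = true := by decide +kernel
theorem r_340 : allB chkP 10 348160 = true := by decide +kernel
theorem r_341 : allB chkP 10 349184 = true := by decide +kernel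
theorem r_342 : allB chkP 10 350208 = true := by decide +kernel
theorem r_343 : allB chkP 10 351232 = true := by decide +kernel
theorem r_344 : allB chkP 10 352256 = true := by decide +kernel
theorem r_345 : allB chkP 10 353280 = true := by decide +kernel
theorem r_346 : allB chkP 10 354304 = true := by decide +kernel
theorem r_347 : allB chkP 10 355328 = true := by decide +kernel
theorem r_348 : allB chkP 10 356352 = true := by decide +kernel
theorem r_349 : allB chkP 10 357376 = true := by decide +kernel
theorem r_350 : allB chkP 10 358400 = true := by decide +kernel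
theorem r_351 : allB chkP 10 359424 = true := by decide +kernel
theorem r_352 : allB chkP 10 360448 = true := by decide +kernel
theorem r_353 : allB chkP 10 361472 = true := by decide +kernel
theorem r_354 : allB chkP 10 362496 = true := by decide +kernel
theorem r_355 : allB chkP 10 363520 = true := by decide +kernel
theorem r_356 : allB chkP 10 364544 = true := by decide +kernel
theorem r_357 : allB chkP 10 365568 = true := by decide +kernel
theorem r_358 : allB chkP 10 366592 = true := by decide +kernel
theorem r_359 : allB chkP 10 367616 = true := by decide +kernel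
theorem r_360 : allB chkP 10 368640 = true := by decide +kernel
theorem r_361 : allB chkP 10 369664 = true := by decide +kernel
theorem r_362 : allB chkP 10 370688 = true := by decide +kernel
theorem r_363 : allB chkP 10 371712 = true := by decide +kernel
theorem r_364 : allB chkP 10 372736 = true := by decide +kernel
theorem r_365 : allB chkP 10 373760 = true := by decide +kernel
theorem r_366 : allB chkP 10 374784 = true := by decide +kernel
theorem r_367 : allB chkP 10 375808 = true := by decide +kernel
theorem r_368 : allB chkP 10 376832 = true := by decide +kernel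
theorem r_369 : allB chkP 10 377856 = true := by decide +kernel
theorem r_370 : allB chkP 10 378880 = true := by decide +kernel
theorem r_371 : allB chkP 10 379904 = true := by decide +kernel
theorem r_372 : allB chkP 10 380928 = true := by decide +kernel
theorem r_373 : allB chkP 10 381952 = true := by decide +kernel
theorem r_374 : allB chkP 10 382976 = true := by decide +kernel
theorem r_375 : allB chkP 10 384000 = true := by decide +kernel
theorem r_376 : allB chkP 10 385024 = true := by decide +kernel
theorem r_377 : allB chkP 10 386048 = true := by decide +kernel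
theorem r_378 : allB chkP 10 387072 = true := by decide +kernel
theorem r_379 : allB chkP 10 388096 = true := by decide +kernel
theorem r_380 : allB chkP 10 389120 = true := by decide +kernel
theorem r_381 : allB chkP 10 390144 = true := by decide +kernel
theorem r_382 : allB chkP 10 391168 = true := by decide +kernel
theorem r_383 : allB chkP 10 392192 = true := by decide +kernel
theorem blk_7 : ∀ u, 344064 ≤ u → u < 393216 → chkP u = true := by
  intro u h0 hu
  rcases Nat.lt_or_ge u 345088 with h | h
  · exact allB_spec _ _ _ r_336 u (by omega) (by omega)
  clear h0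
  rename' h => h0
  rcases Nat.lt_or_ge u 346112 with h | h
  · exact allB_spec _ _ _ r_337 u (by omega) (by omega)
  clear h0
  rename' h => h0
  rcases Nat.lt_or_ge u 347136 with h | h
  · exact allB_spec _ _ _ r_338 u (by omega) (by omega)
  clear h0
  rename' h => h0
  rcases Nat.lt_or_ge u 348160 with h | h
  · exact allB_spec _ _ _ r_339 u (by omega) (by omega)
  clear h0
  rename' h => h0
  rcases Nat.lt_or_ge u 349184 with h | h
  · exact allB_spec _ _ _ r_340 u (by omega) (by omega)
  clear h0
  rename' h => h0
  rcases Nat.lt_or_ge u 350208 with h | h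
  · exact allB_spec _ _ _ r_341 u (by omega) (by omega)
  clear h0
  rename' h => h0
  rcases Nat.lt_or_ge u 351232 with h | h
  · exact allB_spec _ _ _ r_342 u (by omega) (by omega)
  clear h0
  rename' h => h0
  rcases Nat.lt_or_ge u 352256 with h | h
  · exact allB_spec _ _ _ r_343 u (by omega) (by omega)
  clear h0
  rename' h => h0
  rcases Nat.lt_or_ge u 353280 with h | h
  · exact allB_spec _ _ _ r_344 u (by omega) (by omega)
  clear h0
  rename' h => h0
  rcases Nat.lt_or_ge u 354304 with h | h
  · exact allB_spec _ _ _ r_345 u (by omega) (by omega)
  clear h0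
  rename' h => h0
  rcases Nat.lt_or_ge u 355328 with h | h
  · exact allB_spec _ _ _ r_346 u (by omega) (by omega)
  clear h0
  rename' h => h0
  rcases Nat.lt_or_ge u 356352 with h | h
  · exact allB_spec _ _ _ r_347 u (by omega) (by omega)
  clear h0
  rename' h => h0
  rcases Nat.lt_or_ge u 357376 with h | h
  · exact allB_spec _ _ _ r_348 u (by omega) (by omega)
  clear h0
  rename' h => h0
  rcases Nat.lt_or_ge u 358400 with h | h
  · exact allB_spec _ _ _ r_349 u (by omega) (by omega)
  clear h0
  rename' h => h0
  rcases Nat.lt_or_ge u 359424 with h | h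
  · exact allB_spec _ _ _ r_350 u (by omega) (by omega)
  clear h0
  rename' h => h0
  rcases Nat.lt_or_ge u 360448 with h | h
  · exact allB_spec _ _ _ r_351 u (by omega) (by omega)
  clear h0
  rename' h => h0
  rcases Nat.lt_or_ge u 361472 with h | h
  · exact allB_spec _ _ _ r_352 u (by omega) (by omega)
  clear h0
  rename' h => h0
  rcases Nat.lt_or_ge u 362496 with h | h
  · exact allB_spec _ _ _ r_353 u (by omega) (by omega)
  clear h0
  rename' h => h0
  rcases Nat.lt_or_ge u 363520 with h | h
  · exact allB_spec _ _ _ r_354 u (by omega) (by omega)
  clear h0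
  rename' h => h0
  rcases Nat.lt_or_ge u 364544 with h | h
  · exact allB_spec _ _ _ r_355 u (by omega) (by omega)
  clear h0
  rename' h => h0
  rcases Nat.lt_or_ge u 365568 with h | h
  · exact allB_spec _ _ _ r_356 u (by omega) (by omega)
  clear h0
  rename' h => h0
  rcases Nat.lt_or_ge u 366592 with h | h
  · exact allB_spec _ _ _ r_357 u (by omega) (by omega)
  clear h0
  rename' h => h0
  rcases Nat.lt_or_ge u 367616 with h | h
  · exact allB_spec _ _ _ r_358 u (by omega) (by omega)
  clear h0
  rename' h => h0
  rcases Nat.lt_or_ge u 368640 with h | h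
  · exact allB_spec _ _ _ r_359 u (by omega) (by omega)
  clear h0
  rename' h => h0
  rcases Nat.lt_or_ge u 369664 with h | h
  · exact allB_spec _ _ _ r_360 u (by omega) (by omega)
  clear h0
  rename' h => h0
  rcases Nat.lt_or_ge u 370688 with h | h
  · exact allB_spec _ _ _ r_361 u (by omega) (by omega)
  clear h0
  rename' h => h0
  rcases Nat.lt_or_ge u 371712 with h | h
  · exact allB_spec _ _ _ r_362 u (by omega) (by omega)
  clear h0
  rename' h => h0
  rcases Nat.lt_or_ge u 372736 with h | h
  · exact allB_spec _ _ _ r_363 u (by omega) (by omega)
  clear h0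
  rename' h => h0
  rcases Nat.lt_or_ge u 373760 with h | h
  · exact allB_spec _ _ _ r_364 u (by omega) (by omega)
  clear h0
  rename' h => h0
  rcases Nat.lt_or_ge u 374784 with h | h
  · exact allB_spec _ _ _ r_365 u (by omega) (by omega)
  clear h0
  rename' h => h0
  rcases Nat.lt_or_ge u 375808 with h | h
  · exact allB_spec _ _ _ r_366 u (by omega) (by omega)
  clear h0
  rename' h => h0
  rcases Nat.lt_or_ge u 376832 with h | h
  · exact allB_spec _ _ _ r_367 u (by omega) (by omega)
  clear h0
  rename' h => h0
  rcases Nat.lt_or_ge u 377856 with h | h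
  · exact allB_spec _ _ _ r_368 u (by omega) (by omega)
  clear h0
  rename' h => h0
  rcases Nat.lt_or_ge u 378880 with h | h
  · exact allB_spec _ _ _ r_369 u (by omega) (by omega)
  clear h0
  rename' h => h0
  rcases Nat.lt_or_ge u 379904 with h | h
  · exact allB_spec _ _ _ r_370 u (by omega) (by omega)
  clear h0
  rename' h => h0
  rcases Nat.lt_or_ge u 380928 with h | h
  · exact allB_spec _ _ _ r_371 u (by omega) (by omega)
  clear h0
  rename' h => h0
  rcases Nat.lt_or_ge u 381952 with h | h
  · exact allB_spec _ _ _ r_372 u (by omega) (by omega)
  clear h0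
  rename' h => h0
  rcases Nat.lt_or_ge u 382976 with h | h
  · exact allB_spec _ _ _ r_373 u (by omega) (by omega)
  clear h0
  rename' h => h0
  rcases Nat.lt_or_ge u 384000 with h | h
  · exact allB_spec _ _ _ r_374 u (by omega) (by omega)
  clear h0
  rename' h => h0
  rcases Nat.lt_or_ge u 385024 with h | h
  · exact allB_spec _ _ _ r_375 u (by omega) (by omega)
  clear h0
  rename' h => h0
  rcases Nat.lt_or_ge u 386048 with h | h
  · exact allB_spec _ _ _ r_376 u (by omega) (by omega)
  clear h0
  rename' h => h0
  rcases Nat.lt_or_ge u 387072 with h | h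
  · exact allB_spec _ _ _ r_377 u (by omega) (by omega)
  clear h0
  rename' h => h0
  rcases Nat.lt_or_ge u 388096 with h | h
  · exact allB_spec _ _ _ r_378 u (by omega) (by omega)
  clear h0
  rename' h => h0
  rcases Nat.lt_or_ge u 389120 with h | h
  · exact allB_spec _ _ _ r_379 u (by omega) (by omega)
  clear h0
  rename' h => h0
  rcases Nat.lt_or_ge u 390144 with h | h
  · exact allB_spec _ _ _ r_380 u (by omega) (by omega)
  clear h0
  rename' h => h0
  rcases Nat.lt_or_ge u 391168 with h | h
  · exact allB_spec _ _ _ r_381 u (by omega) (by omega)
  clear h0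
  rename' h => h0
  rcases Nat.lt_or_ge u 392192 with h | h
  · exact allB_spec _ _ _ r_382 u (by omega) (by omega)
  clear h0
  rename' h => h0
  rcases Nat.lt_or_ge u 393216 with h | h
  · exact allB_spec _ _ _ r_383 u (by omega) (by omega)
  clear h0
  rename' h => h0
  omega
end H9.HN.TCHN
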