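import Cfsg.Agent.Lib.H9.HN.TCHN.Chk
set_option Elab.async false
set_option autoImplicit false
set_option maxRecDepth 100000
set_option linter.all false
namespace H9.HN.TCHN
open H35.TC
theorem r_384 : allB chkP 10 393216 = true := by decide +kernel
theorem r_385 : allB chkP 10 394240 = true := by decide +kernel
theorem r_386 : allB chkP 10 395264 = true := by decide +kernel
theorem r_387 : allB chkP 10 396288 = true := by decide +kernel
theorem r_388 : allB chkP 10 397312 = true := by decide +kernel
theorem r_389 : allB chkP 10 398336 = true := by decide +kernel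
theorem r_390 : allB chkP 10 399360 = true := by decide +kernel
theorem r_391 : allB chkP 10 400384 = true := by decide +kernel
theorem r_392 : allB chkP 10 401408 = true := by decide +kernel
theorem r_393 : allB chkP 10 402432 = true := by decide +kernel
theorem r_394 : allB chkP 10 403456 = true := by decide +kernel
theorem r_395 : allB chkP 10 404480 = true := by decide +kernel
theorem r_396 : allB chkP 10 405504 = true := by decide +kernel
theorem r_397 : allB chkP 10 406528 = true := by decide +kernel
theorem r_398 : allB chkP 10 407552 = true := by decide +kernel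
theorem r_399 : allB chkP 10 408576 = true := by decide +kernel
theorem r_400 : allB chkP 10 409600 = true := by decide +kernel
theorem r_401 : allB chkP 10 410624 = true := by decide +kernel
theorem r_402 : allB chkP 10 411648 = true := by decide +kernel
theorem r_403 : allB chkP 10 412672 = true := by decide +kernel
theorem r_404 : allB chkP 10 413696 = true := by decide +kernel
theorem r_405 : allB chkP 10 414720 = true := by decide +kernel
theorem r_406 : allB chkP 10 415744 = true := by decide +kernel
theorem r_407 : allB chkP 10 416768 = true := by decide +kernel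
theorem r_408 : allB chkP 10 417792 = true := by decide +kernel
theorem r_409 : allB chkP 10 418816 = true := by decide +kernel
theorem r_410 : allB chkP 10 419840 = true := by decide +kernel
theorem r_411 : allB chkP 10 420864 = true := by decide +kernel
theorem r_412 : allB chkP 10 421888 = true := by decide +kernel
theorem r_413 : allB chkP 10 422912 = true := by decide +kernel
theorem r_414 : allB chkP 10 423936 = true := by decide +kernel
theorem r_415 : allB chkP 10 424960 = true := by decide +kernel
theorem r_416 : allB chkP 10 425984 = true := by decide +kernel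
theorem r_417 : allB chkP 10 427008 = true := by decide +kernel
theorem r_418 : allB chkP 10 428032 = true := by decide +kernel
theorem r_419 : allB chkP 10 429056 = true := by decide +kernel
theorem r_420 : allB chkP 10 430080 = true := by decide +kernel
theorem r_421 : allB chkP 10 431104 = true := by decide +kernel
theorem r_422 : allB chkP 10 432128 = true := by decide +kernel
theorem r_423 : allB chkP 10 433152 = true := by decide +kernel
theorem r_424 : allB chkP 10 434176 = true := by decide +kernel
theorem r_425 : allB chkP 10 435200 = true := by decide +kernel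
theorem r_426 : allB chkP 10 436224 = true := by decide +kernel
theorem r_427 : allB chkP 10 437248 = true := by decide +kernel
theorem r_428 : allB chkP 10 438272 = true := by decide +kernel
theorem r_429 : allB chkP 10 439296 = true := by decide +kernel
theorem r_430 : allB chkP 10 440320 = true := by decide +kernel
theorem r_431 : allB chkP 10 441344 = true := by decide +kernel
theorem blk_8 : ∀ u, 393216 ≤ u → u < 442368 → chkP u = true := by
  intro u h0 hu
  rcases Nat.lt_or_ge u 394240 with h | h
  · exact allB_spec _ _ _ r_384 u (by omega) (by omega)
  clear h0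
  rename' h => h0
  rcases Nat.lt_or_ge u 395264 with h | h
  · exact allB_spec _ _ _ r_385 u (by omega) (by omega)
  clear h0
  rename' h => h0
  rcases Nat.lt_or_ge u 396288 with h | h
  · exact allB_spec _ _ _ r_386 u (by omega) (by omega)
  clear h0
  rename' h => h0
  rcases Nat.lt_or_ge u 397312 with h | h
  · exact allB_spec _ _ _ r_387 u (by omega) (by omega)
  clear h0
  rename' h => h0
  rcases Nat.lt_or_ge u 398336 with h | h
  · exact allB_spec _ _ _ r_388 u (by omega) (by omega)
  clear h0
  rename' h => h0
  rcases Nat.lt_or_ge u 399360 with h | h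
  · exact allB_spec _ _ _ r_389 u (by omega) (by omega)
  clear h0
  rename' h => h0
  rcases Nat.lt_or_ge u 400384 with h | h
  · exact allB_spec _ _ _ r_390 u (by omega) (by omega)
  clear h0
  rename' h => h0
  rcases Nat.lt_or_ge u 401408 with h | h
  · exact allB_spec _ _ _ r_391 u (by omega) (by omega)
  clear h0
  rename' h => h0
  rcases Nat.lt_or_ge u 402432 with h | h
  · exact allB_spec _ _ _ r_392 u (by omega) (by omega)
  clear h0
  rename' h => h0
  rcases Nat.lt_or_ge u 403456 with h | h
  · exact allB_spec _ _ _ r_393 u (by omega) (by omega)
  clear h0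
  rename' h => h0
  rcases Nat.lt_or_ge u 404480 with h | h
  · exact allB_spec _ _ _ r_394 u (by omega) (by omega)
  clear h0
  rename' h => h0
  rcases Nat.lt_or_ge u 405504 with h | h
  · exact allB_spec _ _ _ r_395 u (by omega) (by omega)
  clear h0
  rename' h => h0
  rcases Nat.lt_or_ge u 406528 with h | h
  · exact allB_spec _ _ _ r_396 u (by omega) (by omega)
  clear h0
  rename' h => h0
  rcases Nat.lt_or_ge u 407552 with h | h
  · exact allB_spec _ _ _ r_397 u (by omega) (by omega)
  clear h0
  rename' h => h0
  rcases Nat.lt_or_ge u 408576 with h | h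
  · exact allB_spec _ _ _ r_398 u (by omega) (by omega)
  clear h0
  rename' h => h0
  rcases Nat.lt_or_ge u 409600 with h | h
  · exact allB_spec _ _ _ r_399 u (by omega) (by omega)
  clear h0
  rename' h => h0
  rcases Nat.lt_or_ge u 410624 with h | h
  · exact allB_spec _ _ _ r_400 u (by omega) (by omega)
  clear h0
  rename' h => h0
  rcases Nat.lt_or_ge u 411648 with h | h
  · exact allB_spec _ _ _ r_401 u (by omega) (by omega)
  clear h0
  rename' h => h0
  rcases Nat.lt_or_ge u 412672 with h | h
  · exact allB_spec _ _ _ r_402 u (by omega) (by omega)
  clear h0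
  rename' h => h0
  rcases Nat.lt_or_ge u 413696 with h | h
  · exact allB_spec _ _ _ r_403 u (by omega) (by omega)
  clear h0
  rename' h => h0
  rcases Nat.lt_or_ge u 414720 with h | h
  · exact allB_spec _ _ _ r_404 u (by omega) (by omega)
  clear h0
  rename' h => h0
  rcases Nat.lt_or_ge u 415744 with h | h
  · exact allB_spec _ _ _ r_405 u (by omega) (by omega)
  clear h0
  rename' h => h0
  rcases Nat.lt_or_ge u 416768 with h | h
  · exact allB_spec _ _ _ r_406 u (by omega) (by omega)
  clear h0
  rename' h => h0
  rcases Nat.lt_or_ge u 417792 with h | h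
  · exact allB_spec _ _ _ r_407 u (by omega) (by omega)
  clear h0
  rename' h => h0
  rcases Nat.lt_or_ge u 418816 with h | h
  · exact allB_spec _ _ _ r_408 u (by omega) (by omega)
  clear h0
  rename' h => h0
  rcases Nat.lt_or_ge u 419840 with h | h
  · exact allB_spec _ _ _ r_409 u (by omega) (by omega)
  clear h0
  rename' h => h0
  rcases Nat.lt_or_ge u 420864 with h | h
  · exact allB_spec _ _ _ r_410 u (by omega) (by omega)
  clear h0
  rename' h => h0
  rcases Nat.lt_or_ge u 421888 with h | h
  · exact allB_spec _ _ _ r_411 u (by omega) (by omega)
  clear h0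
  rename' h => h0
  rcases Nat.lt_or_ge u 422912 with h | h
  · exact allB_spec _ _ _ r_412 u (by omega) (by omega)
  clear h0
  rename' h => h0
  rcases Nat.lt_or_ge u 423936 with h | h
  · exact allB_spec _ _ _ r_413 u (by omega) (by omega)
  clear h0
  rename' h => h0
  rcases Nat.lt_or_ge u 424960 with h | h
  · exact allB_spec _ _ _ r_414 u (by omega) (by omega)
  clear h0
  rename' h => h0
  rcases Nat.lt_or_ge u 425984 with h | h
  · exact allB_spec _ _ _ r_415 u (by omega) (by omega)
  clear h0
  rename' h => h0
  rcases Nat.lt_or_ge u 427008 with h | h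
  · exact allB_spec _ _ _ r_416 u (by omega) (by omega)
  clear h0
  rename' h => h0
  rcases Nat.lt_or_ge u 428032 with h | h
  · exact allB_spec _ _ _ r_417 u (by omega) (by omega)
  clear h0
  rename' h => h0
  rcases Nat.lt_or_ge u 429056 with h | h
  · exact allB_spec _ _ _ r_418 u (by omega) (by omega)
  clear h0
  rename' h => h0
  rcases Nat.lt_or_ge u 430080 with h | h
  · exact allB_spec _ _ _ r_419 u (by omega) (by omega)
  clear h0
  rename' h => h0
  rcases Nat.lt_or_ge u 431104 with h | h
  · exact allB_spec _ _ _ r_420 u (by omega) (by omega)
  clear h0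
  rename' h => h0
  rcases Nat.lt_or_ge u 432128 with h | h
  · exact allB_spec _ _ _ r_421 u (by omega) (by omega)
  clear h0
  rename' h => h0
  rcases Nat.lt_or_ge u 433152 with h | h
  · exact allB_spec _ _ _ r_422 u (by omega) (by omega)
  clear h0
  rename' h => h0
  rcases Nat.lt_or_ge u 434176 with h | h
  · exact allB_spec _ _ _ r_423 u (by omega) (by omega)
  clear h0
  rename' h => h0
  rcases Nat.lt_or_ge u 435200 with h | h
  · exact allB_spec _ _ _ r_424 u (by omega) (by omega)
  clear h0
  rename' h => h0
  rcases Nat.lt_or_ge u 436224 with h | h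
  · exact allB_spec _ _ _ r_425 u (by omega) (by omega)
  clear h0
  rename' h => h0
  rcases Nat.lt_or_ge u 437248 with h | h
  · exact allB_spec _ _ _ r_426 u (by omega) (by omega)
  clear h0
  rename' h => h0
  rcases Nat.lt_or_ge u 438272 with h | h
  · exact allB_spec _ _ _ r_427 u (by omega) (by omega)
  clear h0
  rename' h => h0
  rcases Nat.lt_or_ge u 439296 with h | h
  · exact allB_spec _ _ _ r_428 u (by omega) (by omega)
  clear h0
  rename' h => h0
  rcases Nat.lt_or_ge u 440320 with h | h
  · exact allB_spec _ _ _ r_429 u (by omega) (by omega)
  clear h0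
  rename' h => h0
  rcases Nat.lt_or_ge u 441344 with h | h
  · exact allB_spec _ _ _ r_430 u (by omega) (by omega)
  clear h0
  rename' h => h0
  rcases Nat.lt_or_ge u 442368 with h | h
  · exact allB_spec _ _ _ r_431 u (by omega) (by omega)
  clear h0
  rename' h => h0
  omega
end H9.HN.TCHN
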