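import Cfsg.Agent.Lib.H9.HN.TCHN.Chk
set_option Elab.async false
set_option autoImplicit false
set_option maxRecDepth 100000
set_option linter.all false
namespace H9.HN.TCHN
open H35.TC
theorem r_432 : allB chkP 10 442368 = true := by decide +kernel
theorem r_433 : allB chkP 10 443392 = true := by decide +kernel
theorem r_434 : allB chkP 10 444416 = true := by decide +kernel
theorem r_435 : allB chkP 10 445440 = true := by decide +kernel
theorem r_436 : allB chkP 10 446464 = true := by decide +kernel
theorem r_437 : allB chkP 10 447488 = true := by decide +kernel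
theorem r_438 : allB chkP 10 448512 = true := by decide +kernel
theorem r_439 : allB chkP 10 449536 = true := by decide +kernel
theorem r_440 : allB chkP 10 450560 = true := by decide +kernel
theorem r_441 : allB chkP 10 451584 = true := by decide +kernel
theorem r_442 : allB chkP 10 452608 = true := by decide +kernel
theorem r_443 : allB chkP 10 453632 = true := by decide +kernel
theorem r_444 : allB chkP 10 454656 = true := by decide +kernel
theorem r_445 : allB chkP 10 455680 = true := by decide +kernel
theorem r_446 : allB chkP 10 456704 = true := by decide +kernel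
theorem r_447 : allB chkP 10 457728 = true := by decide +kernel
theorem r_448 : allB chkP 10 458752 = true := by decide +kernel
theorem r_449 : allB chkP 10 459776 = true := by decide +kernel
theorem r_450 : allB chkP 10 460800 = true := by decide +kernel
theorem r_451 : allB chkP 10 461824 = true := by decide +kernel
theorem r_452 : allB chkP 10 462848 = true := by decide +kernel
theorem r_453 : allB chkP 10 463872 = true := by decide +kernel
theorem r_454 : allB chkP 10 464896 = true := by decide +kernel
theorem r_455 : allB chkP 10 465920 = true := by decide +kernel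
theorem r_456 : allB chkP 10 466944 = true := by decide +kernel
theorem r_457 : allB chkP 10 467968 = true := by decide +kernel
theorem r_458 : allB chkP 10 468992 = true := by decide +kernel
theorem r_459 : allB chkP 10 470016 = true := by decide +kernel
theorem r_460 : allB chkP 10 471040 = true := by decide +kernel
theorem r_461 : allB chkP 10 472064 = true := by decide +kernel
theorem r_462 : allB chkP 10 473088 = true := by decide +kernel
theorem r_463 : allB chkP 10 474112 = true := by decide +kernel
theorem r_464 : allB chkP 10 475136 = true := by decide +kernel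
theorem r_465 : allB chkP 10 476160 = true := by decide +kernel
theorem r_466 : allB chkP 10 477184 = true := by decide +kernel
theorem r_467 : allB chkP 10 478208 = true := by decide +kernel
theorem r_468 : allB chkP 10 479232 = true := by decide +kernel
theorem r_469 : allB chkP 10 480256 = true := by decide +kernel
theorem r_470 : allB chkP 10 481280 = true := by decide +kernel
theorem r_471 : allB chkP 10 482304 = true := by decide +kernel
theorem r_472 : allB chkP 10 483328 = true := by decide +kernel
theorem r_473 : allB chkP 10 484352 = true := by decide +kernel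
theorem r_474 : allB chkP 10 485376 = true := by decide +kernel
theorem r_475 : allB chkP 10 486400 = true := by decide +kernel
theorem r_476 : allB chkP 10 487424 = true := by decide +kernel
theorem r_477 : allB chkP 10 488448 = true := by decide +kernel
theorem r_478 : allB chkP 10 489472 = true := by decide +kernel
theorem r_479 : allB chkP 10 490496 = true := by decide +kernel
theorem blk_9 : ∀ u, 442368 ≤ u → u < 491520 → chkP u = true := by
  intro u h0 hu
  rcases Nat.lt_or_ge u 443392 with h | h
  · exact allB_spec _ _ _ r_432 u (by omega) (by omega)
  clear h0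
  rename' h => h0
  rcases Nat.lt_or_ge u 444416 with h | h
  · exact allB_spec _ _ _ r_433 u (by omega) (by omega)
  clear h0
  rename' h => h0
  rcases Nat.lt_or_ge u 445440 with h | h
  · exact allB_spec _ _ _ r_434 u (by omega) (by omega)
  clear h0
  rename' h => h0
  rcases Nat.lt_or_ge u 446464 with h | h
  · exact allB_spec _ _ _ r_435 u (by omega) (by omega)
  clear h0
  rename' h => h0
  rcases Nat.lt_or_ge u 447488 with h | h
  · exact allB_spec _ _ _ r_436 u (by omega) (by omega)
  clear h0
  rename' h => h0
  rcases Nat.lt_or_ge u 448512 with h | h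
  · exact allB_spec _ _ _ r_437 u (by omega) (by omega)
  clear h0
  rename' h => h0
  rcases Nat.lt_or_ge u 449536 with h | h
  · exact allB_spec _ _ _ r_438 u (by omega) (by omega)
  clear h0
  rename' h => h0
  rcases Nat.lt_or_ge u 450560 with h | h
  · exact allB_spec _ _ _ r_439 u (by omega) (by omega)
  clear h0
  rename' h => h0
  rcases Nat.lt_or_ge u 451584 with h | h
  · exact allB_spec _ _ _ r_440 u (by omega) (by omega)
  clear h0
  rename' h => h0
  rcases Nat.lt_or_ge u 452608 with h | h
  · exact allB_spec _ _ _ r_441 u (by omega) (by omega)
  clear h0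
  rename' h => h0
  rcases Nat.lt_or_ge u 453632 with h | h
  · exact allB_spec _ _ _ r_442 u (by omega) (by omega)
  clear h0
  rename' h => h0
  rcases Nat.lt_or_ge u 454656 with h | h
  · exact allB_spec _ _ _ r_443 u (by omega) (by omega)
  clear h0
  rename' h => h0
  rcases Nat.lt_or_ge u 455680 with h | h
  · exact allB_spec _ _ _ r_444 u (by omega) (by omega)
  clear h0
  rename' h => h0
  rcases Nat.lt_or_ge u 456704 with h | h
  · exact allB_spec _ _ _ r_445 u (by omega) (by omega)
  clear h0
  rename' h => h0
  rcases Nat.lt_or_ge u 457728 with h | h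
  · exact allB_spec _ _ _ r_446 u (by omega) (by omega)
  clear h0
  rename' h => h0
  rcases Nat.lt_or_ge u 458752 with h | h
  · exact allB_spec _ _ _ r_447 u (by omega) (by omega)
  clear h0
  rename' h => h0
  rcases Nat.lt_or_ge u 459776 with h | h
  · exact allB_spec _ _ _ r_448 u (by omega) (by omega)
  clear h0
  rename' h => h0
  rcases Nat.lt_or_ge u 460800 with h | h
  · exact allB_spec _ _ _ r_449 u (by omega) (by omega)
  clear h0
  rename' h => h0
  rcases Nat.lt_or_ge u 461824 with h | h
  · exact allB_spec _ _ _ r_450 u (by omega) (by omega)
  clear h0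
  rename' h => h0
  rcases Nat.lt_or_ge u 462848 with h | h
  · exact allB_spec _ _ _ r_451 u (by omega) (by omega)
  clear h0
  rename' h => h0
  rcases Nat.lt_or_ge u 463872 with h | h
  · exact allB_spec _ _ _ r_452 u (by omega) (by omega)
  clear h0
  rename' h => h0
  rcases Nat.lt_or_ge u 464896 with h | h
  · exact allB_spec _ _ _ r_453 u (by omega) (by omega)
  clear h0
  rename' h => h0
  rcases Nat.lt_or_ge u 465920 with h | h
  · exact allB_spec _ _ _ r_454 u (by omega) (by omega)
  clear h0
  rename' h => h0
  rcases Nat.lt_or_ge u 466944 with h | h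
  · exact allB_spec _ _ _ r_455 u (by omega) (by omega)
  clear h0
  rename' h => h0
  rcases Nat.lt_or_ge u 467968 with h | h
  · exact allB_spec _ _ _ r_456 u (by omega) (by omega)
  clear h0
  rename' h => h0
  rcases Nat.lt_or_ge u 468992 with h | h
  · exact allB_spec _ _ _ r_457 u (by omega) (by omega)
  clear h0
  rename' h => h0
  rcases Nat.lt_or_ge u 470016 with h | h
  · exact allB_spec _ _ _ r_458 u (by omega) (by omega)
  clear h0
  rename' h => h0
  rcases Nat.lt_or_ge u 471040 with h | h
  · exact allB_spec _ _ _ r_459 u (by omega) (by omega)
  clear h0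
  rename' h => h0
  rcases Nat.lt_or_ge u 472064 with h | h
  · exact allB_spec _ _ _ r_460 u (by omega) (by omega)
  clear h0
  rename' h => h0
  rcases Nat.lt_or_ge u 473088 with h | h
  · exact allB_spec _ _ _ r_461 u (by omega) (by omega)
  clear h0
  rename' h => h0
  rcases Nat.lt_or_ge u 474112 with h | h
  · exact allB_spec _ _ _ r_462 u (by omega) (by omega)
  clear h0
  rename' h => h0
  rcases Nat.lt_or_ge u 475136 with h | h
  · exact allB_spec _ _ _ r_463 u (by omega) (by omega)
  clear h0
  rename' h => h0
  rcases Nat.lt_or_ge u 476160 with h | h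
  · exact allB_spec _ _ _ r_464 u (by omega) (by omega)
  clear h0
  rename' h => h0
  rcases Nat.lt_or_ge u 477184 with h | h
  · exact allB_spec _ _ _ r_465 u (by omega) (by omega)
  clear h0
  rename' h => h0
  rcases Nat.lt_or_ge u 478208 with h | h
  · exact allB_spec _ _ _ r_466 u (by omega) (by omega)
  clear h0
  rename' h => h0
  rcases Nat.lt_or_ge u 479232 with h | h
  · exact allB_spec _ _ _ r_467 u (by omega) (by omega)
  clear h0
  rename' h => h0
  rcases Nat.lt_or_ge u 480256 with h | h
  · exact allB_spec _ _ _ r_468 u (by omega) (by omega)
  clear h0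
  rename' h => h0
  rcases Nat.lt_or_ge u 481280 with h | h
  · exact allB_spec _ _ _ r_469 u (by omega) (by omega)
  clear h0
  rename' h => h0
  rcases Nat.lt_or_ge u 482304 with h | h
  · exact allB_spec _ _ _ r_470 u (by omega) (by omega)
  clear h0
  rename' h => h0
  rcases Nat.lt_or_ge u 483328 with h | h
  · exact allB_spec _ _ _ r_471 u (by omega) (by omega)
  clear h0
  rename' h => h0
  rcases Nat.lt_or_ge u 484352 with h | h
  · exact allB_spec _ _ _ r_472 u (by omega) (by omega)
  clear h0
  rename' h => h0
  rcases Nat.lt_or_ge u 485376 with h | h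
  · exact allB_spec _ _ _ r_473 u (by omega) (by omega)
  clear h0
  rename' h => h0
  rcases Nat.lt_or_ge u 486400 with h | h
  · exact allB_spec _ _ _ r_474 u (by omega) (by omega)
  clear h0
  rename' h => h0
  rcases Nat.lt_or_ge u 487424 with h | h
  · exact allB_spec _ _ _ r_475 u (by omega) (by omega)
  clear h0
  rename' h => h0
  rcases Nat.lt_or_ge u 488448 with h | h
  · exact allB_spec _ _ _ r_476 u (by omega) (by omega)
  clear h0
  rename' h => h0
  rcases Nat.lt_or_ge u 489472 with h | h
  · exact allB_spec _ _ _ r_477 u (by omega) (by omega)
  clear h0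
  rename' h => h0
  rcases Nat.lt_or_ge u 490496 with h | h
  · exact allB_spec _ _ _ r_478 u (by omega) (by omega)
  clear h0
  rename' h => h0
  rcases Nat.lt_or_ge u 491520 with h | h
  · exact allB_spec _ _ _ r_479 u (by omega) (by omega)
  clear h0
  rename' h => h0
  omega
end H9.HN.TCHN
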