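import Cfsg.Agent.Lib.H9.HN.TCHN.Data0
import Cfsg.Agent.Lib.H9.HN.TCHN.Data1
import Cfsg.Agent.Lib.H9.HN.TCHN.Data2
import Cfsg.Agent.Lib.H9.HN.TCHN.Data3
import Cfsg.Agent.Lib.H9.HN.TCHN.Data4
import Cfsg.Agent.Lib.H9.HN.TCHN.Data5
import Cfsg.Agent.Lib.H9.HN.TCHN.Data6
import Cfsg.Agent.Lib.H9.HN.TCHN.Data7
import Cfsg.Agent.Lib.H9.HN.TCHN.Data8
import Cfsg.Agent.Lib.H9.HN.TCX
set_option autoImplicit false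
set_option maxRecDepth 100000
set_option linter.all false
namespace H9.HN.TCHN
open H35.TC
/-- letters -/
inductive Lt | y | yi | z | q | v
  deriving DecidableEq
/-- inverse letter -/
def inv : Lt → Lt
  | .y => .yi
  | .yi => .y
  | .z => .z
  | .q => .q
  | .v => .v
/-- table functions -/
noncomputable def T : Lt → ℕ → ℕ
  | .y => T_y
  | .yi => T_yi
  | .z => T_z
  | .q => T_q
  | .v => T_v
/-- decoding of letter codes -/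
def lt : ℕ → Lt
  | 0 => .y
  | 1 => .yi
  | 2 => .z
  | 3 => .q
  | _ => .v
/-- Coxeter matrix (0: no relation) -/
def mm : Lt → Lt → ℕ
  | .z, .z => 1
  | .z, .q => 4
  | .z, .v => 5
  | .q, .z => 4
  | .q, .q => 1
  | .q, .v => 6
  | .v, .z => 5
  | .v, .q => 6
  | .v, .v => 1
  | _, _ => 0
/-- extra relators `w ^ n` -/
def extra : List (List Lt × ℕ) := [
  ([.yi, .v, .y, .v], 1),
  ([.y], 6),
  ([.yi, .q, .y, .q], 2),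
  ([.q, .v, .z, .v], 2),
  ([.yi, .q, .z, .q, .z, .y, .q, .z, .q, .z], 1),
  ([.q, .v, .q, .z, .v, .q, .z, .q, .z, .v, .z], 1),
  ([.yi, .z, .y, .z], 3),
  ([.v, .q, .z, .q, .z, .yi, .z, .q, .z, .q, .v, .y], 1),
  ([.q, .v, .q, .z], 3),
  ([.yi, .z, .q, .z, .y, .q], 2),
  ([.yi, .q, .y, .z, .q, .z], 2),
  ([.yi, .q, .y, .z, .yi, .z, .y, .q, .yi, .z, .y, .z], 1),
  ([.yi, .q], 6),
  ([.yi, .yi, .q, .y, .y, .q], 2),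
  ([.q, .v, .q, .v, .z, .q, .z, .v, .z, .v, .z, .q, .z, .v], 1),
  ([.yi, .yi, .yi, .z, .q, .z, .q], 2),
  ([.z, .q, .v, .z, .q, .z, .q, .z, .q, .v, .z, .q, .z, .q, .v], 1),
  ([.yi, .q, .y, .q, .z, .yi, .z, .q, .y, .q, .yi, .z, .q, .y, .q, .z], 1),
  ([.yi, .q, .y, .q, .z, .q, .yi, .z, .y, .q, .yi, .q, .z, .q, .y, .z], 1),
  ([.yi, .z, .q, .z, .y, .z, .q, .z], 2),
  ([.yi, .z, .yi, .z, .y, .z, .y, .q], 2),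
  ([.yi, .q, .z, .y, .z, .yi, .z, .q, .y, .z, .q, .yi, .z, .y, .q, .z], 1),
  ([.yi, .q, .z, .y, .z, .yi, .q, .z, .y, .z, .q, .yi, .z, .y, .z, .q], 1),
  ([.yi, .q, .y, .z, .y, .z, .yi, .z], 2),
  ([.yi, .yi, .yi, .q, .yi, .yi, .yi, .q, .yi, .yi, .yi, .q, .y, .y, .y, .q], 1),
  ([.yi, .yi, .yi, .q, .yi, .yi, .q, .y, .q, .y, .y, .q, .y, .q, .y, .q], 1),
  ([.yi, .yi, .yi, .q, .y, .q, .y, .q, .y, .y, .q, .y, .q, .yi, .yi, .q], 1),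
  ([.yi, .yi, .q, .y, .y, .z, .q, .z], 2),
  ([.yi, .yi, .z, .q, .z, .y, .y, .q], 2),
  ([.yi, .q, .yi, .q, .yi, .z, .q, .z], 2),
  ([.yi, .q, .z, .y, .q, .z, .yi, .z, .y, .z, .q, .yi, .z, .q, .y, .z], 1),
  ([.yi, .yi, .z, .q, .yi, .z, .y, .q, .z, .y, .y, .z, .q, .y, .z, .yi, .q, .z], 1),
  ([.yi, .yi, .z, .y, .y, .z], 3),
  ([.yi, .yi, .q, .z, .yi, .z, .y, .z, .q, .y, .y, .q, .z, .y, .z, .yi, .z, .q], 1),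
  ([.yi, .yi, .q, .z, .yi, .z, .y, .q, .z, .y, .y, .q, .z, .y, .z, .yi, .q, .z], 1),
  ([.yi, .yi, .q, .yi, .yi, .z, .y, .z, .yi, .z, .yi, .q, .yi, .z, .yi, .z, .y, .z], 1),
  ([.q, .z, .yi, .z, .q, .y], 3),
  ([.z, .q, .z, .q, .z, .q, .z, .q, .v], 2),
  ([.z, .q, .y], 8),
  ([.z, .q, .z, .q, .v], 5),
  ([.y, .q, .z, .yi, .yi, .q, .z, .yi, .q, .z, .yi, .z, .y, .z, .q, .y, .z, .q, .y, .y, .z, .q, .yi, .q, .z, .q], 1),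
  ([.q, .z, .y, .y, .z, .q, .y, .y, .y], 3),
  ([.z, .q, .y, .z, .q, .y, .y, .y], 4),
  ([.z, .yi, .q, .z, .yi, .q, .z, .yi, .yi, .yi, .z, .y, .y, .y, .z, .q, .y, .z, .q, .y, .z, .q, .yi, .q, .z, .yi, .q, .z, .yi, .yi, .yi, .z, .y, .y, .y, .z, .q, .y, .z, .q, .y, .z, .q, .yi, .q, .z, .yi, .q, .z, .yi, .yi, .yi, .z, .y, .y, .y, .z, .q, .y, .z, .q, .y, .z, .q], 1),
  ([.y, .yi], 1),
  ([.yi, .y], 1)]
/-- relators -/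
def rels : List (List Lt) := mkRels [(.q, .z), (.v, .z), (.q, .v), (.z, .z), (.q, .q), (.v, .v)] mm extra
/-- subgroup words -/
def subs : List (List Lt) := [
  [.y],
  [.z],
  [.q]]
noncomputable def dp_y_0 (j u : ℕ) : Bool :=
  Bool.rec (motive := fun _ => Bool) (lF [T_q, T_yi, T_q, T_y, T_q, T_yi, T_q] M (Nat.sub (T_y u) (Nat.mod (T_y u) M)) (Nat.mod (T_y u) M) u) (lF [T_y, T_y, T_y, T_y, T_y] M (Nat.sub (T_y u) (Nat.mod (T_y u) M)) (Nat.mod (T_y u) M) u) (Nat.ble (nat_lit 5) j)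
noncomputable def dp_y_1 (j u : ℕ) : Bool :=
  Bool.rec (motive := fun _ => Bool) (lS MG [T_yi] M (Nat.sub (T_y u) (Nat.mod (T_y u) M)) (nat_lit 40) (Nat.mod (T_y u) M) u) (lF [T_z, T_yi, T_z, T_y, T_z, T_yi, T_z, T_y, T_z, T_yi, T_z] M (Nat.sub (T_y u) (Nat.mod (T_y u) M)) (Nat.mod (T_y u) M) u) (Nat.ble (nat_lit 8) j)
noncomputable def dp_y_2 (j u : ℕ) : Bool :=
  Bool.rec (motive := fun _ => Bool) (lF [T_q, T_z, T_q, T_z, T_yi, T_q, T_z, T_q, T_z] M (Nat.sub (T_y u) (Nat.mod (T_y u) M)) (Nat.mod (T_y u) M) u) (dp_y_1 j u) (Nat.ble (nat_lit 7) j)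
noncomputable def dp_y_3 (j u : ℕ) : Bool :=
  Bool.rec (motive := fun _ => Bool) (lF [T_z, T_q, T_z, T_q, T_yi, T_z, T_q, T_z, T_q] M (Nat.sub (T_y u) (Nat.mod (T_y u) M)) (Nat.mod (T_y u) M) u) (lS MG [T_q, T_yi, T_q, T_y, T_q, T_yi, T_q] M (Nat.sub (T_y u) (Nat.mod (T_y u) M)) (nat_lit 40) (Nat.mod (T_y u) M) u) (Nat.ble (nat_lit 10) j)
noncomputable def dp_y_4 (j u : ℕ) : Bool :=
  Bool.rec (motive := fun _ => Bool) (lS MG [T_v, T_yi, T_v] M (Nat.sub (T_y u) (Nat.mod (T_y u) M)) (nat_lit 40) (Nat.mod (T_y u) M) u) (lF [T_q, T_yi, T_yi, T_q, T_y, T_y, T_q, T_yi, T_yi, T_q, T_y] M (Nat.sub (T_y u) (Nat.mod (T_y u) M)) (Nat.mod (T_y u) M) u) (Nat.ble (nat_lit 12) j)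
noncomputable def dp_y_5 (j u : ℕ) : Bool :=
  Bool.rec (motive := fun _ => Bool) (lF [T_z, T_yi, T_q, T_y, T_z, T_yi, T_z, T_y, T_q, T_yi, T_z] M (Nat.sub (T_y u) (Nat.mod (T_y u) M)) (Nat.mod (T_y u) M) u) (lS MG [T_y, T_y, T_y, T_y, T_y] M (Nat.sub (T_y u) (Nat.mod (T_y u) M)) (nat_lit 40) (Nat.mod (T_y u) M) u) (Nat.ble (nat_lit 14) j)
noncomputable def dp_y_6 (j u : ℕ) : Bool :=
  Bool.rec (motive := fun _ => Bool) (dp_y_4 j u) (dp_y_5 j u) (Nat.ble (nat_lit 13) j)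
noncomputable def dp_y_7 (j u : ℕ) : Bool :=
  Bool.rec (motive := fun _ => Bool) (dp_y_3 j u) (dp_y_6 j u) (Nat.ble (nat_lit 11) j)
noncomputable def dp_y_8 (j u : ℕ) : Bool :=
  Bool.rec (motive := fun _ => Bool) (dp_y_2 j u) (dp_y_7 j u) (Nat.ble (nat_lit 9) j)
noncomputable def dp_y_9 (j u : ℕ) : Bool :=
  Bool.rec (motive := fun _ => Bool) (lF [T_q, T_yi, T_z, T_y, T_z, T_yi, T_q, T_y, T_z, T_yi, T_z] M (Nat.sub (T_y u) (Nat.mod (T_y u) M)) (Nat.mod (T_y u) M) u) (lF [T_y, T_q, T_yi, T_yi, T_q, T_y, T_y, T_q, T_yi, T_yi, T_q] M (Nat.sub (T_y u) (Nat.mod (T_y u) M)) (Nat.mod (T_y u) M) u) (Nat.ble (nat_lit 17) j)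
noncomputable def dp_y_10 (j u : ℕ) : Bool :=
  Bool.rec (motive := fun _ => Bool) (lF [T_q, T_y, T_q, T_y, T_q, T_y, T_q, T_y, T_q, T_y, T_q] M (Nat.sub (T_y u) (Nat.mod (T_y u) M)) (Nat.mod (T_y u) M) u) (dp_y_9 j u) (Nat.ble (nat_lit 16) j)
noncomputable def dp_y_11 (j u : ℕ) : Bool :=
  Bool.rec (motive := fun _ => Bool) (lS MG [T_z, T_yi, T_z, T_y, T_z, T_yi, T_z, T_y, T_z, T_yi, T_z] M (Nat.sub (T_y u) (Nat.mod (T_y u) M)) (nat_lit 40) (Nat.mod (T_y u) M) u) (lS MG [T_q, T_z, T_q, T_z, T_yi, T_q, T_z, T_q, T_z] M (Nat.sub (T_y u) (Nat.mod (T_y u) M)) (nat_lit 40) (Nat.mod (T_y u) M) u) (Nat.ble (nat_lit 20) j)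
noncomputable def dp_y_12 (j u : ℕ) : Bool :=
  Bool.rec (motive := fun _ => Bool) (lF [T_z, T_yi, T_z, T_y, T_q, T_yi, T_z, T_y, T_z, T_yi, T_q] M (Nat.sub (T_y u) (Nat.mod (T_y u) M)) (Nat.mod (T_y u) M) u) (dp_y_11 j u) (Nat.ble (nat_lit 19) j)
noncomputable def dp_y_13 (j u : ℕ) : Bool :=
  Bool.rec (motive := fun _ => Bool) (dp_y_10 j u) (dp_y_12 j u) (Nat.ble (nat_lit 18) j)
noncomputable def dp_y_14 (j u : ℕ) : Bool :=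
  Bool.rec (motive := fun _ => Bool) (lS MG [T_z, T_q, T_z, T_q, T_yi, T_z, T_q, T_z, T_q] M (Nat.sub (T_y u) (Nat.mod (T_y u) M)) (nat_lit 40) (Nat.mod (T_y u) M) u) (lS MG [T_q, T_yi, T_yi, T_q, T_y, T_y, T_q, T_yi, T_yi, T_q, T_y] M (Nat.sub (T_y u) (Nat.mod (T_y u) M)) (nat_lit 40) (Nat.mod (T_y u) M) u) (Nat.ble (nat_lit 23) j)
noncomputable def dp_y_15 (j u : ℕ) : Bool :=
  Bool.rec (motive := fun _ => Bool) (lF [T_z, T_q, T_z, T_yi, T_q, T_y, T_z, T_q, T_z, T_yi, T_q] M (Nat.sub (T_y u) (Nat.mod (T_y u) M)) (Nat.mod (T_y u) M) u) (dp_y_14 j u) (Nat.ble (nat_lit 22) j)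
noncomputable def dp_y_16 (j u : ℕ) : Bool :=
  Bool.rec (motive := fun _ => Bool) (lF [T_q, T_yi, T_z, T_q, T_z, T_y, T_q, T_yi, T_z, T_q, T_z] M (Nat.sub (T_y u) (Nat.mod (T_y u) M)) (Nat.mod (T_y u) M) u) (lS MG [T_z, T_yi, T_q, T_y, T_z, T_yi, T_z, T_y, T_q, T_yi, T_z] M (Nat.sub (T_y u) (Nat.mod (T_y u) M)) (nat_lit 40) (Nat.mod (T_y u) M) u) (Nat.ble (nat_lit 26) j)
noncomputable def dp_y_17 (j u : ℕ) : Bool :=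
  Bool.rec (motive := fun _ => Bool) (lS MG [T_q, T_y, T_q, T_y, T_q, T_y, T_q, T_y, T_q, T_y, T_q] M (Nat.sub (T_y u) (Nat.mod (T_y u) M)) (nat_lit 40) (Nat.mod (T_y u) M) u) (dp_y_16 j u) (Nat.ble (nat_lit 25) j)
noncomputable def dp_y_18 (j u : ℕ) : Bool :=
  Bool.rec (motive := fun _ => Bool) (dp_y_15 j u) (dp_y_17 j u) (Nat.ble (nat_lit 24) j)
noncomputable def dp_y_19 (j u : ℕ) : Bool :=
  Bool.rec (motive := fun _ => Bool) (lF [T_z, T_q, T_z, T_q, T_v, T_yi, T_v, T_q, T_z, T_q, T_z] M (Nat.sub (T_y u) (Nat.mod (T_y u) M)) (Nat.mod (T_y u) M) u) (lF [T_z, T_y, T_q, T_yi, T_z, T_yi, T_z, T_y, T_z, T_y, T_q, T_yi, T_z, T_yi, T_z] M (Nat.sub (T_y u) (Nat.mod (T_y u) M)) (Nat.mod (T_y u) M) u) (Nat.ble (nat_lit 29) j)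
noncomputable def dp_y_20 (j u : ℕ) : Bool :=
  Bool.rec (motive := fun _ => Bool) (lF [T_y, T_q, T_z, T_q, T_z, T_y, T_y, T_y, T_q, T_z, T_q, T_z, T_y] M (Nat.sub (T_y u) (Nat.mod (T_y u) M)) (Nat.mod (T_y u) M) u) (dp_y_19 j u) (Nat.ble (nat_lit 28) j)
noncomputable def dp_y_21 (j u : ℕ) : Bool :=
  Bool.rec (motive := fun _ => Bool) (lS MG [T_y, T_q, T_yi, T_yi, T_q, T_y, T_y, T_q, T_yi, T_yi, T_q] M (Nat.sub (T_y u) (Nat.mod (T_y u) M)) (nat_lit 40) (Nat.mod (T_y u) M) u) (lS MG [T_q, T_yi, T_z, T_y, T_z, T_yi, T_q, T_y, T_z, T_yi, T_z] M (Nat.sub (T_y u) (Nat.mod (T_y u) M)) (nat_lit 40) (Nat.mod (T_y u) M) u) (Nat.ble (nat_lit 31) j)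
noncomputable def dp_y_22 (j u : ℕ) : Bool :=
  Bool.rec (motive := fun _ => Bool) (lF [T_q, T_z, T_q, T_z, T_y, T_y, T_y, T_q, T_z, T_q, T_z, T_y, T_y] M (Nat.sub (T_y u) (Nat.mod (T_y u) M)) (Nat.mod (T_y u) M) u) (lF [T_z, T_yi, T_z, T_yi, T_q, T_y, T_z, T_y, T_z, T_yi, T_z, T_yi, T_q, T_y, T_z] M (Nat.sub (T_y u) (Nat.mod (T_y u) M)) (Nat.mod (T_y u) M) u) (Nat.ble (nat_lit 34) j)
noncomputable def dp_y_23 (j u : ℕ) : Bool :=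
  Bool.rec (motive := fun _ => Bool) (lS MG [T_z, T_yi, T_z, T_y, T_q, T_yi, T_z, T_y, T_z, T_yi, T_q] M (Nat.sub (T_y u) (Nat.mod (T_y u) M)) (nat_lit 40) (Nat.mod (T_y u) M) u) (dp_y_22 j u) (Nat.ble (nat_lit 33) j)
noncomputable def dp_y_24 (j u : ℕ) : Bool :=
  Bool.rec (motive := fun _ => Bool) (dp_y_21 j u) (dp_y_23 j u) (Nat.ble (nat_lit 32) j)
noncomputable def dp_y_25 (j u : ℕ) : Bool :=
  Bool.rec (motive := fun _ => Bool) (dp_y_20 j u) (dp_y_24 j u) (Nat.ble (nat_lit 30) j)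
noncomputable def dp_y_26 (j u : ℕ) : Bool :=
  Bool.rec (motive := fun _ => Bool) (dp_y_18 j u) (dp_y_25 j u) (Nat.ble (nat_lit 27) j)
noncomputable def dp_y_27 (j u : ℕ) : Bool :=
  Bool.rec (motive := fun _ => Bool) (dp_y_13 j u) (dp_y_26 j u) (Nat.ble (nat_lit 21) j)
noncomputable def dp_y_28 (j u : ℕ) : Bool :=
  Bool.rec (motive := fun _ => Bool) (lF [T_q, T_yi, T_z, T_yi, T_z, T_y, T_z, T_y, T_q, T_yi, T_z, T_yi, T_z, T_y, T_z] M (Nat.sub (T_y u) (Nat.mod (T_y u) M)) (Nat.mod (T_y u) M) u) (lF [T_z, T_yi, T_yi, T_z, T_y, T_y, T_z, T_yi, T_yi, T_z, T_y, T_y, T_z, T_yi, T_yi, T_z, T_y] M (Nat.sub (T_y u) (Nat.mod (T_y u) M)) (Nat.mod (T_y u) M) u) (Nat.ble (nat_lit 37) j)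
noncomputable def dp_y_29 (j u : ℕ) : Bool :=
  Bool.rec (motive := fun _ => Bool) (lF [T_y, T_z, T_yi, T_yi, T_z, T_y, T_y, T_z, T_yi, T_yi, T_z, T_y, T_y, T_z, T_yi, T_yi, T_z] M (Nat.sub (T_y u) (Nat.mod (T_y u) M)) (Nat.mod (T_y u) M) u) (dp_y_28 j u) (Nat.ble (nat_lit 36) j)
noncomputable def dp_y_30 (j u : ℕ) : Bool :=
  Bool.rec (motive := fun _ => Bool) (lS MG [T_z, T_y, T_q, T_yi, T_z, T_yi, T_z, T_y, T_z, T_y, T_q, T_yi, T_z, T_yi, T_z] M (Nat.sub (T_y u) (Nat.mod (T_y u) M)) (nat_lit 40) (Nat.mod (T_y u) M) u) (lF [T_y, T_y, T_q, T_z, T_q, T_z, T_y, T_y, T_y, T_q, T_z, T_q, T_z] M (Nat.sub (T_y u) (Nat.mod (T_y u) M)) (Nat.mod (T_y u) M) u) (Nat.ble (nat_lit 39) j)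
noncomputable def dp_y_31 (j u : ℕ) : Bool :=
  Bool.rec (motive := fun _ => Bool) (lF [T_z, T_q, T_y, T_z, T_yi, T_q, T_z, T_yi, T_yi, T_z, T_q, T_yi, T_z, T_y, T_q, T_z, T_y] M (Nat.sub (T_y u) (Nat.mod (T_y u) M)) (Nat.mod (T_y u) M) u) (lF [T_y, T_q, T_yi, T_yi, T_yi, T_q, T_yi, T_yi, T_yi, T_q, T_yi, T_yi, T_yi, T_q, T_y] M (Nat.sub (T_y u) (Nat.mod (T_y u) M)) (Nat.mod (T_y u) M) u) (Nat.ble (nat_lit 41) j)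
noncomputable def dp_y_32 (j u : ℕ) : Bool :=
  Bool.rec (motive := fun _ => Bool) (dp_y_30 j u) (dp_y_31 j u) (Nat.ble (nat_lit 40) j)
noncomputable def dp_y_33 (j u : ℕ) : Bool :=
  Bool.rec (motive := fun _ => Bool) (dp_y_29 j u) (dp_y_32 j u) (Nat.ble (nat_lit 38) j)
noncomputable def dp_y_34 (j u : ℕ) : Bool :=
  Bool.rec (motive := fun _ => Bool) (lF [T_q, T_yi, T_yi, T_yi, T_q, T_yi, T_yi, T_yi, T_q, T_yi, T_yi, T_yi, T_q, T_y, T_y] M (Nat.sub (T_y u) (Nat.mod (T_y u) M)) (Nat.mod (T_y u) M) u) (lF [T_z, T_y, T_z, T_yi, T_z, T_yi, T_q, T_y, T_z, T_y, T_z, T_yi, T_z, T_yi, T_q] M (Nat.sub (T_y u) (Nat.mod (T_y u) M)) (Nat.mod (T_y u) M) u) (Nat.ble (nat_lit 43) j)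
noncomputable def dp_y_35 (j u : ℕ) : Bool :=
  Bool.rec (motive := fun _ => Bool) (lS MG [T_z, T_yi, T_z, T_yi, T_q, T_y, T_z, T_y, T_z, T_yi, T_z, T_yi, T_q, T_y, T_z] M (Nat.sub (T_y u) (Nat.mod (T_y u) M)) (nat_lit 40) (Nat.mod (T_y u) M) u) (lF [T_y, T_y, T_q, T_yi, T_yi, T_yi, T_q, T_yi, T_yi, T_yi, T_q, T_yi, T_yi, T_yi, T_q] M (Nat.sub (T_y u) (Nat.mod (T_y u) M)) (Nat.mod (T_y u) M) u) (Nat.ble (nat_lit 46) j)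
noncomputable def dp_y_36 (j u : ℕ) : Bool :=
  Bool.rec (motive := fun _ => Bool) (lS MG [T_z, T_yi, T_yi, T_z, T_y, T_y, T_z, T_yi, T_yi, T_z, T_y, T_y, T_z, T_yi, T_yi, T_z, T_y] M (Nat.sub (T_y u) (Nat.mod (T_y u) M)) (nat_lit 40) (Nat.mod (T_y u) M) u) (dp_y_35 j u) (Nat.ble (nat_lit 45) j)
noncomputable def dp_y_37 (j u : ℕ) : Bool :=
  Bool.rec (motive := fun _ => Bool) (dp_y_34 j u) (dp_y_36 j u) (Nat.ble (nat_lit 44) j)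
noncomputable def dp_y_38 (j u : ℕ) : Bool :=
  Bool.rec (motive := fun _ => Bool) (lF [T_z, T_q, T_z, T_yi, T_yi, T_q, T_y, T_y, T_z, T_q, T_z, T_yi, T_yi, T_q, T_y] M (Nat.sub (T_y u) (Nat.mod (T_y u) M)) (Nat.mod (T_y u) M) u) (lS MG [T_q, T_yi, T_z, T_yi, T_z, T_y, T_z, T_y, T_q, T_yi, T_z, T_yi, T_z, T_y, T_z] M (Nat.sub (T_y u) (Nat.mod (T_y u) M)) (nat_lit 40) (Nat.mod (T_y u) M) u) (Nat.ble (nat_lit 49) j)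
noncomputable def dp_y_39 (j u : ℕ) : Bool :=
  Bool.rec (motive := fun _ => Bool) (lS MG [T_y, T_z, T_yi, T_yi, T_z, T_y, T_y, T_z, T_yi, T_yi, T_z, T_y, T_y, T_z, T_yi, T_yi, T_z] M (Nat.sub (T_y u) (Nat.mod (T_y u) M)) (nat_lit 40) (Nat.mod (T_y u) M) u) (dp_y_38 j u) (Nat.ble (nat_lit 48) j)
noncomputable def dp_y_40 (j u : ℕ) : Bool :=
  Bool.rec (motive := fun _ => Bool) (lF [T_q, T_y, T_q, T_y, T_q, T_yi, T_yi, T_yi, T_q, T_yi, T_yi, T_q, T_y, T_q, T_y] M (Nat.sub (T_y u) (Nat.mod (T_y u) M)) (Nat.mod (T_y u) M) u) (lF [T_y, T_z, T_q, T_y, T_z, T_yi, T_q, T_z, T_yi, T_yi, T_z, T_q, T_yi, T_z, T_y, T_q, T_z] M (Nat.sub (T_y u) (Nat.mod (T_y u) M)) (Nat.mod (T_y u) M) u) (Nat.ble (nat_lit 52) j)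
noncomputable def dp_y_41 (j u : ℕ) : Bool :=
  Bool.rec (motive := fun _ => Bool) (lS MG [T_z, T_q, T_z, T_yi, T_q, T_y, T_z, T_q, T_z, T_yi, T_q] M (Nat.sub (T_y u) (Nat.mod (T_y u) M)) (nat_lit 40) (Nat.mod (T_y u) M) u) (dp_y_40 j u) (Nat.ble (nat_lit 51) j)
noncomputable def dp_y_42 (j u : ℕ) : Bool :=
  Bool.rec (motive := fun _ => Bool) (dp_y_39 j u) (dp_y_41 j u) (Nat.ble (nat_lit 50) j)
noncomputable def dp_y_43 (j u : ℕ) : Bool :=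
  Bool.rec (motive := fun _ => Bool) (dp_y_37 j u) (dp_y_42 j u) (Nat.ble (nat_lit 47) j)
noncomputable def dp_y_44 (j u : ℕ) : Bool :=
  Bool.rec (motive := fun _ => Bool) (dp_y_33 j u) (dp_y_43 j u) (Nat.ble (nat_lit 42) j)
noncomputable def dp_y_45 (j u : ℕ) : Bool :=
  Bool.rec (motive := fun _ => Bool) (lF [T_q, T_yi, T_q, T_z, T_q, T_y, T_z, T_yi, T_q, T_y, T_q, T_z, T_q, T_yi, T_z] M (Nat.sub (T_y u) (Nat.mod (T_y u) M)) (Nat.mod (T_y u) M) u) (lF [T_q, T_z, T_yi, T_q, T_z, T_y, T_z, T_yi, T_z, T_q, T_y, T_z, T_q, T_yi, T_z] M (Nat.sub (T_y u) (Nat.mod (T_y u) M)) (Nat.mod (T_y u) M) u) (Nat.ble (nat_lit 55) j)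
noncomputable def dp_y_46 (j u : ℕ) : Bool :=
  Bool.rec (motive := fun _ => Bool) (lF [T_q, T_z, T_y, T_y, T_z, T_q, T_y, T_z, T_yi, T_q, T_z, T_yi, T_yi, T_z, T_q, T_yi, T_z] M (Nat.sub (T_y u) (Nat.mod (T_y u) M)) (Nat.mod (T_y u) M) u) (dp_y_45 j u) (Nat.ble (nat_lit 54) j)
noncomputable def dp_y_47 (j u : ℕ) : Bool :=
  Bool.rec (motive := fun _ => Bool) (lF [T_q, T_z, T_q, T_yi, T_q, T_y, T_z, T_yi, T_q, T_z, T_q, T_y, T_q, T_yi, T_z] M (Nat.sub (T_y u) (Nat.mod (T_y u) M)) (Nat.mod (T_y u) M) u) (lS MG [T_z, T_q, T_y, T_z, T_yi, T_q, T_z, T_yi, T_yi, T_z, T_q, T_yi, T_z, T_y, T_q, T_z, T_y] M (Nat.sub (T_y u) (Nat.mod (T_y u) M)) (nat_lit 40) (Nat.mod (T_y u) M) u) (Nat.ble (nat_lit 57) j)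
noncomputable def dp_y_48 (j u : ℕ) : Bool :=
  Bool.rec (motive := fun _ => Bool) (lF [T_y, T_q, T_yi, T_yi, T_z, T_q, T_z, T_y, T_y, T_q, T_yi, T_yi, T_z, T_q, T_z] M (Nat.sub (T_y u) (Nat.mod (T_y u) M)) (Nat.mod (T_y u) M) u) (lF [T_z, T_q, T_yi, T_q, T_y, T_z, T_q, T_yi, T_q, T_z, T_y, T_q, T_yi, T_q, T_z] M (Nat.sub (T_y u) (Nat.mod (T_y u) M)) (Nat.mod (T_y u) M) u) (Nat.ble (nat_lit 59) j)
noncomputable def dp_y_49 (j u : ℕ) : Bool :=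
  Bool.rec (motive := fun _ => Bool) (dp_y_47 j u) (dp_y_48 j u) (Nat.ble (nat_lit 58) j)
noncomputable def dp_y_50 (j u : ℕ) : Bool :=
  Bool.rec (motive := fun _ => Bool) (dp_y_46 j u) (dp_y_49 j u) (Nat.ble (nat_lit 56) j)
noncomputable def dp_y_51 (j u : ℕ) : Bool :=
  Bool.rec (motive := fun _ => Bool) (lF [T_q, T_z, T_yi, T_q, T_y, T_q, T_z, T_yi, T_z, T_q, T_y, T_q, T_yi, T_z, T_q] M (Nat.sub (T_y u) (Nat.mod (T_y u) M)) (Nat.mod (T_y u) M) u) (lS MG [T_z, T_q, T_z, T_q, T_v, T_yi, T_v, T_q, T_z, T_q, T_z] M (Nat.sub (T_y u) (Nat.mod (T_y u) M)) (nat_lit 40) (Nat.mod (T_y u) M) u) (Nat.ble (nat_lit 62) j)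
noncomputable def dp_y_52 (j u : ℕ) : Bool :=
  Bool.rec (motive := fun _ => Bool) (lF [T_q, T_y, T_z, T_y, T_z, T_yi, T_z, T_y, T_y, T_q, T_y, T_y, T_z, T_yi, T_z, T_y, T_z] M (Nat.sub (T_y u) (Nat.mod (T_y u) M)) (Nat.mod (T_y u) M) u) (dp_y_51 j u) (Nat.ble (nat_lit 61) j)
noncomputable def dp_y_53 (j u : ℕ) : Bool :=
  Bool.rec (motive := fun _ => Bool) (lS MG [T_y, T_q, T_z, T_q, T_z, T_y, T_y, T_y, T_q, T_z, T_q, T_z, T_y] M (Nat.sub (T_y u) (Nat.mod (T_y u) M)) (nat_lit 40) (Nat.mod (T_y u) M) u) (lS MG [T_q, T_yi, T_z, T_q, T_z, T_y, T_q, T_yi, T_z, T_q, T_z] M (Nat.sub (T_y u) (Nat.mod (T_y u) M)) (nat_lit 40) (Nat.mod (T_y u) M) u) (Nat.ble (nat_lit 64) j)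
noncomputable def dp_y_54 (j u : ℕ) : Bool :=
  Bool.rec (motive := fun _ => Bool) (lS MG [T_q, T_y, T_z, T_y, T_z, T_yi, T_z, T_y, T_y, T_q, T_y, T_y, T_z, T_yi, T_z, T_y, T_z] M (Nat.sub (T_y u) (Nat.mod (T_y u) M)) (nat_lit 40) (Nat.mod (T_y u) M) u) (lF [T_q, T_yi, T_q, T_z, T_y, T_z, T_q, T_yi, T_q, T_y, T_z, T_q, T_yi, T_q, T_z] M (Nat.sub (T_y u) (Nat.mod (T_y u) M)) (Nat.mod (T_y u) M) u) (Nat.ble (nat_lit 66) j)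
noncomputable def dp_y_55 (j u : ℕ) : Bool :=
  Bool.rec (motive := fun _ => Bool) (dp_y_53 j u) (dp_y_54 j u) (Nat.ble (nat_lit 65) j)
noncomputable def dp_y_56 (j u : ℕ) : Bool :=
  Bool.rec (motive := fun _ => Bool) (dp_y_52 j u) (dp_y_55 j u) (Nat.ble (nat_lit 63) j)
noncomputable def dp_y_57 (j u : ℕ) : Bool :=
  Bool.rec (motive := fun _ => Bool) (dp_y_50 j u) (dp_y_56 j u) (Nat.ble (nat_lit 60) j)
noncomputable def dp_y_58 (j u : ℕ) : Bool :=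
  Bool.rec (motive := fun _ => Bool) (lF [T_z, T_yi, T_z, T_y, T_z, T_y, T_q, T_y, T_z, T_y, T_z, T_yi, T_z, T_y, T_y, T_q, T_y] M (Nat.sub (T_y u) (Nat.mod (T_y u) M)) (Nat.mod (T_y u) M) u) (lF [T_y, T_q, T_y, T_y, T_z, T_yi, T_z, T_y, T_z, T_y, T_q, T_y, T_z, T_y, T_z, T_yi, T_z] M (Nat.sub (T_y u) (Nat.mod (T_y u) M)) (Nat.mod (T_y u) M) u) (Nat.ble (nat_lit 68) j)
noncomputable def dp_y_59 (j u : ℕ) : Bool :=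
  Bool.rec (motive := fun _ => Bool) (lF [T_z, T_yi, T_q, T_z, T_yi, T_yi, T_z, T_q, T_yi, T_z, T_y, T_q, T_z, T_y, T_y, T_z, T_q] M (Nat.sub (T_y u) (Nat.mod (T_y u) M)) (Nat.mod (T_y u) M) u) (lF [T_z, T_y, T_z, T_yi, T_z, T_y, T_y, T_q, T_y, T_y, T_z, T_yi, T_z, T_y, T_z, T_y, T_q] M (Nat.sub (T_y u) (Nat.mod (T_y u) M)) (Nat.mod (T_y u) M) u) (Nat.ble (nat_lit 70) j)
noncomputable def dp_y_60 (j u : ℕ) : Bool :=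
  Bool.rec (motive := fun _ => Bool) (dp_y_58 j u) (dp_y_59 j u) (Nat.ble (nat_lit 69) j)
noncomputable def dp_y_61 (j u : ℕ) : Bool :=
  Bool.rec (motive := fun _ => Bool) (lS MG [T_z, T_y, T_z, T_yi, T_z, T_yi, T_q, T_y, T_z, T_y, T_z, T_yi, T_z, T_yi, T_q] M (Nat.sub (T_y u) (Nat.mod (T_y u) M)) (nat_lit 40) (Nat.mod (T_y u) M) u) (lF [T_y, T_q, T_y, T_q, T_y, T_q, T_yi, T_yi, T_yi, T_q, T_yi, T_yi, T_q, T_y, T_q] M (Nat.sub (T_y u) (Nat.mod (T_y u) M)) (Nat.mod (T_y u) M) u) (Nat.ble (nat_lit 72) j)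
noncomputable def dp_y_62 (j u : ℕ) : Bool :=
  Bool.rec (motive := fun _ => Bool) (lS MG [T_y, T_z, T_q, T_y, T_z, T_yi, T_q, T_z, T_yi, T_yi, T_z, T_q, T_yi, T_z, T_y, T_q, T_z] M (Nat.sub (T_y u) (Nat.mod (T_y u) M)) (nat_lit 40) (Nat.mod (T_y u) M) u) (lS MG [T_y, T_q, T_yi, T_yi, T_yi, T_q, T_yi, T_yi, T_yi, T_q, T_yi, T_yi, T_yi, T_q, T_y] M (Nat.sub (T_y u) (Nat.mod (T_y u) M)) (nat_lit 40) (Nat.mod (T_y u) M) u) (Nat.ble (nat_lit 74) j)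
noncomputable def dp_y_63 (j u : ℕ) : Bool :=
  Bool.rec (motive := fun _ => Bool) (dp_y_61 j u) (dp_y_62 j u) (Nat.ble (nat_lit 73) j)
noncomputable def dp_y_64 (j u : ℕ) : Bool :=
  Bool.rec (motive := fun _ => Bool) (dp_y_60 j u) (dp_y_63 j u) (Nat.ble (nat_lit 71) j)
noncomputable def dp_y_65 (j u : ℕ) : Bool :=
  Bool.rec (motive := fun _ => Bool) (lF [T_z, T_q, T_yi, T_q, T_z, T_y, T_q, T_yi, T_q, T_z, T_y, T_z, T_q, T_yi, T_q] M (Nat.sub (T_y u) (Nat.mod (T_y u) M)) (Nat.mod (T_y u) M) u) (lS MG [T_q, T_z, T_q, T_z, T_y, T_y, T_y, T_q, T_z, T_q, T_z, T_y, T_y] M (Nat.sub (T_y u) (Nat.mod (T_y u) M)) (nat_lit 40) (Nat.mod (T_y u) M) u) (Nat.ble (nat_lit 76) j)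
noncomputable def dp_y_66 (j u : ℕ) : Bool :=
  Bool.rec (motive := fun _ => Bool) (lF [T_q, T_yi, T_yi, T_z, T_q, T_z, T_y, T_y, T_q, T_yi, T_yi, T_z, T_q, T_z, T_y] M (Nat.sub (T_y u) (Nat.mod (T_y u) M)) (Nat.mod (T_y u) M) u) (lF [T_z, T_yi, T_z, T_yi, T_q, T_yi, T_z, T_yi, T_z, T_y, T_z, T_yi, T_yi, T_q, T_yi, T_yi, T_z] M (Nat.sub (T_y u) (Nat.mod (T_y u) M)) (Nat.mod (T_y u) M) u) (Nat.ble (nat_lit 79) j)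
noncomputable def dp_y_67 (j u : ℕ) : Bool :=
  Bool.rec (motive := fun _ => Bool) (lS MG [T_q, T_yi, T_yi, T_yi, T_q, T_yi, T_yi, T_yi, T_q, T_yi, T_yi, T_yi, T_q, T_y, T_y] M (Nat.sub (T_y u) (Nat.mod (T_y u) M)) (nat_lit 40) (Nat.mod (T_y u) M) u) (dp_y_66 j u) (Nat.ble (nat_lit 78) j)
noncomputable def dp_y_68 (j u : ℕ) : Bool :=
  Bool.rec (motive := fun _ => Bool) (dp_y_65 j u) (dp_y_67 j u) (Nat.ble (nat_lit 77) j)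
noncomputable def dp_y_69 (j u : ℕ) : Bool :=
  Bool.rec (motive := fun _ => Bool) (lF [T_q, T_y, T_y, T_y, T_q, T_yi, T_q, T_yi, T_q, T_yi, T_yi, T_q, T_yi, T_q, T_y] M (Nat.sub (T_y u) (Nat.mod (T_y u) M)) (Nat.mod (T_y u) M) u) (lF [T_y, T_q, T_z, T_y, T_z, T_yi, T_z, T_q, T_yi, T_yi, T_q, T_z, T_yi, T_z, T_y, T_z, T_q] M (Nat.sub (T_y u) (Nat.mod (T_y u) M)) (Nat.mod (T_y u) M) u) (Nat.ble (nat_lit 81) j)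
noncomputable def dp_y_70 (j u : ℕ) : Bool :=
  Bool.rec (motive := fun _ => Bool) (lS MG [T_z, T_y, T_z, T_yi, T_z, T_y, T_y, T_q, T_y, T_y, T_z, T_yi, T_z, T_y, T_z, T_y, T_q] M (Nat.sub (T_y u) (Nat.mod (T_y u) M)) (nat_lit 40) (Nat.mod (T_y u) M) u) (lF [T_q, T_y, T_y, T_z, T_yi, T_z, T_y, T_z, T_y, T_q, T_y, T_z, T_y, T_z, T_yi, T_z, T_y] M (Nat.sub (T_y u) (Nat.mod (T_y u) M)) (Nat.mod (T_y u) M) u) (Nat.ble (nat_lit 84) j)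
noncomputable def dp_y_71 (j u : ℕ) : Bool :=
  Bool.rec (motive := fun _ => Bool) (lF [T_z, T_yi, T_z, T_q, T_y, T_z, T_q, T_yi, T_z, T_y, T_q, T_z, T_yi, T_q, T_z] M (Nat.sub (T_y u) (Nat.mod (T_y u) M)) (Nat.mod (T_y u) M) u) (dp_y_70 j u) (Nat.ble (nat_lit 83) j)
noncomputable def dp_y_72 (j u : ℕ) : Bool :=
  Bool.rec (motive := fun _ => Bool) (dp_y_69 j u) (dp_y_71 j u) (Nat.ble (nat_lit 82) j)
noncomputable def dp_y_73 (j u : ℕ) : Bool :=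
  Bool.rec (motive := fun _ => Bool) (dp_y_68 j u) (dp_y_72 j u) (Nat.ble (nat_lit 80) j)
noncomputable def dp_y_74 (j u : ℕ) : Bool :=
  Bool.rec (motive := fun _ => Bool) (dp_y_64 j u) (dp_y_73 j u) (Nat.ble (nat_lit 75) j)
noncomputable def dp_y_75 (j u : ℕ) : Bool :=
  Bool.rec (motive := fun _ => Bool) (dp_y_57 j u) (dp_y_74 j u) (Nat.ble (nat_lit 67) j)
noncomputable def dp_y_76 (j u : ℕ) : Bool :=
  Bool.rec (motive := fun _ => Bool) (dp_y_44 j u) (dp_y_75 j u) (Nat.ble (nat_lit 53) j)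
noncomputable def dp_y_77 (j u : ℕ) : Bool :=
  Bool.rec (motive := fun _ => Bool) (lF [T_z, T_y, T_q, T_y, T_z, T_y, T_z, T_yi, T_z, T_y, T_y, T_q, T_y, T_y, T_z, T_yi, T_z] M (Nat.sub (T_y u) (Nat.mod (T_y u) M)) (Nat.mod (T_y u) M) u) (lF [T_z, T_q, T_y, T_y, T_q, T_z, T_y, T_z, T_yi, T_z, T_q, T_yi, T_yi, T_q, T_z, T_yi, T_z] M (Nat.sub (T_y u) (Nat.mod (T_y u) M)) (Nat.mod (T_y u) M) u) (Nat.ble (nat_lit 86) j)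
noncomputable def dp_y_78 (j u : ℕ) : Bool :=
  Bool.rec (motive := fun _ => Bool) (lS MG [T_q, T_z, T_yi, T_q, T_y, T_q, T_z, T_yi, T_z, T_q, T_y, T_q, T_yi, T_z, T_q] M (Nat.sub (T_y u) (Nat.mod (T_y u) M)) (nat_lit 40) (Nat.mod (T_y u) M) u) (lF [T_z, T_yi, T_q, T_y, T_q, T_z, T_q, T_yi, T_z, T_y, T_q, T_yi, T_q, T_z, T_q] M (Nat.sub (T_y u) (Nat.mod (T_y u) M)) (Nat.mod (T_y u) M) u) (Nat.ble (nat_lit 89) j)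
noncomputable def dp_y_79 (j u : ℕ) : Bool :=
  Bool.rec (motive := fun _ => Bool) (lF [T_z, T_yi, T_z, T_q, T_yi, T_yi, T_q, T_z, T_yi, T_z, T_y, T_z, T_q, T_y, T_y, T_q, T_z] M (Nat.sub (T_y u) (Nat.mod (T_y u) M)) (Nat.mod (T_y u) M) u) (dp_y_78 j u) (Nat.ble (nat_lit 88) j)
noncomputable def dp_y_80 (j u : ℕ) : Bool :=
  Bool.rec (motive := fun _ => Bool) (dp_y_77 j u) (dp_y_79 j u) (Nat.ble (nat_lit 87) j)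
noncomputable def dp_y_81 (j u : ℕ) : Bool :=
  Bool.rec (motive := fun _ => Bool) (lS MG [T_y, T_q, T_y, T_y, T_z, T_yi, T_z, T_y, T_z, T_y, T_q, T_y, T_z, T_y, T_z, T_yi, T_z] M (Nat.sub (T_y u) (Nat.mod (T_y u) M)) (nat_lit 40) (Nat.mod (T_y u) M) u) (lS MG [T_y, T_q, T_z, T_y, T_z, T_yi, T_z, T_q, T_yi, T_yi, T_q, T_z, T_yi, T_z, T_y, T_z, T_q] M (Nat.sub (T_y u) (Nat.mod (T_y u) M)) (nat_lit 40) (Nat.mod (T_y u) M) u) (Nat.ble (nat_lit 92) j)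
noncomputable def dp_y_82 (j u : ℕ) : Bool :=
  Bool.rec (motive := fun _ => Bool) (lF [T_z, T_q, T_yi, T_q, T_z, T_y, T_z, T_yi, T_q, T_z, T_y, T_z, T_q, T_yi, T_z] M (Nat.sub (T_y u) (Nat.mod (T_y u) M)) (Nat.mod (T_y u) M) u) (dp_y_81 j u) (Nat.ble (nat_lit 91) j)
noncomputable def dp_y_83 (j u : ℕ) : Bool :=
  Bool.rec (motive := fun _ => Bool) (lS MG [T_q, T_z, T_y, T_y, T_z, T_q, T_y, T_z, T_yi, T_q, T_z, T_yi, T_yi, T_z, T_q, T_yi, T_z] M (Nat.sub (T_y u) (Nat.mod (T_y u) M)) (nat_lit 40) (Nat.mod (T_y u) M) u) (lF [T_z, T_yi, T_z, T_y, T_y, T_q, T_y, T_y, T_z, T_yi, T_z, T_y, T_z, T_y, T_q, T_y, T_z] M (Nat.sub (T_y u) (Nat.mod (T_y u) M)) (Nat.mod (T_y u) M) u) (Nat.ble (nat_lit 95) j)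
noncomputable def dp_y_84 (j u : ℕ) : Bool :=
  Bool.rec (motive := fun _ => Bool) (lS MG [T_z, T_yi, T_q, T_z, T_yi, T_yi, T_z, T_q, T_yi, T_z, T_y, T_q, T_z, T_y, T_y, T_z, T_q] M (Nat.sub (T_y u) (Nat.mod (T_y u) M)) (nat_lit 40) (Nat.mod (T_y u) M) u) (dp_y_83 j u) (Nat.ble (nat_lit 94) j)
noncomputable def dp_y_85 (j u : ℕ) : Bool :=
  Bool.rec (motive := fun _ => Bool) (dp_y_82 j u) (dp_y_84 j u) (Nat.ble (nat_lit 93) j)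
noncomputable def dp_y_86 (j u : ℕ) : Bool :=
  Bool.rec (motive := fun _ => Bool) (dp_y_80 j u) (dp_y_85 j u) (Nat.ble (nat_lit 90) j)
noncomputable def dp_y_87 (j u : ℕ) : Bool :=
  Bool.rec (motive := fun _ => Bool) (lS MG [T_y, T_y, T_q, T_yi, T_yi, T_yi, T_q, T_yi, T_yi, T_yi, T_q, T_yi, T_yi, T_yi, T_q] M (Nat.sub (T_y u) (Nat.mod (T_y u) M)) (nat_lit 40) (Nat.mod (T_y u) M) u) (lS MG [T_q, T_y, T_q, T_y, T_q, T_yi, T_yi, T_yi, T_q, T_yi, T_yi, T_q, T_y, T_q, T_y] M (Nat.sub (T_y u) (Nat.mod (T_y u) M)) (nat_lit 40) (Nat.mod (T_y u) M) u) (Nat.ble (nat_lit 98) j)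
noncomputable def dp_y_88 (j u : ℕ) : Bool :=
  Bool.rec (motive := fun _ => Bool) (lF [T_z, T_q, T_yi, T_z, T_y, T_q, T_z, T_yi, T_q, T_z, T_y, T_z, T_yi, T_z, T_q] M (Nat.sub (T_y u) (Nat.mod (T_y u) M)) (Nat.mod (T_y u) M) u) (dp_y_87 j u) (Nat.ble (nat_lit 97) j)
noncomputable def dp_y_89 (j u : ℕ) : Bool :=
  Bool.rec (motive := fun _ => Bool) (lF [T_q, T_y, T_q, T_yi, T_yi, T_q, T_yi, T_yi, T_yi, T_q, T_y, T_q, T_y, T_q, T_y] M (Nat.sub (T_y u) (Nat.mod (T_y u) M)) (Nat.mod (T_y u) M) u) (lF [T_q, T_y, T_q, T_y, T_z, T_q, T_z, T_y, T_q, T_y, T_q, T_y, T_z, T_q, T_z] M (Nat.sub (T_y u) (Nat.mod (T_y u) M)) (Nat.mod (T_y u) M) u) (Nat.ble (nat_lit 101) j)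
noncomputable def dp_y_90 (j u : ℕ) : Bool :=
  Bool.rec (motive := fun _ => Bool) (lF [T_z, T_q, T_y, T_y, T_y, T_q, T_z, T_y, T_y, T_z, T_q, T_y, T_y, T_y, T_q, T_z, T_y, T_y, T_z, T_q, T_y, T_y, T_y, T_q, T_z, T_y] M (Nat.sub (T_y u) (Nat.mod (T_y u) M)) (Nat.mod (T_y u) M) u) (dp_y_89 j u) (Nat.ble (nat_lit 100) j)
noncomputable def dp_y_91 (j u : ℕ) : Bool :=
  Bool.rec (motive := fun _ => Bool) (dp_y_88 j u) (dp_y_90 j u) (Nat.ble (nat_lit 99) j)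
noncomputable def dp_y_92 (j u : ℕ) : Bool :=
  Bool.rec (motive := fun _ => Bool) (lF [T_z, T_yi, T_z, T_q, T_y, T_q, T_z, T_yi, T_z, T_y, T_q, T_z, T_yi, T_z, T_q] M (Nat.sub (T_y u) (Nat.mod (T_y u) M)) (Nat.mod (T_y u) M) u) (lF [T_z, T_q, T_z, T_y, T_q, T_y, T_q, T_y, T_z, T_q, T_z, T_y, T_q, T_y, T_q] M (Nat.sub (T_y u) (Nat.mod (T_y u) M)) (Nat.mod (T_y u) M) u) (Nat.ble (nat_lit 104) j)
noncomputable def dp_y_93 (j u : ℕ) : Bool :=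
  Bool.rec (motive := fun _ => Bool) (lF [T_z, T_q, T_y, T_z, T_yi, T_z, T_q, T_yi, T_yi, T_z, T_q, T_yi, T_z, T_y, T_z, T_q, T_y] M (Nat.sub (T_y u) (Nat.mod (T_y u) M)) (Nat.mod (T_y u) M) u) (dp_y_92 j u) (Nat.ble (nat_lit 103) j)
noncomputable def dp_y_94 (j u : ℕ) : Bool :=
  Bool.rec (motive := fun _ => Bool) (lF [T_z, T_yi, T_yi, T_q, T_yi, T_yi, T_z, T_y, T_z, T_yi, T_z, T_yi, T_q, T_yi, T_z, T_yi, T_z] M (Nat.sub (T_y u) (Nat.mod (T_y u) M)) (Nat.mod (T_y u) M) u) (lS MG [T_y, T_y, T_q, T_z, T_q, T_z, T_y, T_y, T_y, T_q, T_z, T_q, T_z] M (Nat.sub (T_y u) (Nat.mod (T_y u) M)) (nat_lit 40) (Nat.mod (T_y u) M) u) (Nat.ble (nat_lit 107) j)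
noncomputable def dp_y_95 (j u : ℕ) : Bool :=
  Bool.rec (motive := fun _ => Bool) (lF [T_q, T_y, T_y, T_y, T_q, T_y, T_y, T_y, T_q, T_yi, T_yi, T_yi, T_q, T_y, T_y] M (Nat.sub (T_y u) (Nat.mod (T_y u) M)) (Nat.mod (T_y u) M) u) (dp_y_94 j u) (Nat.ble (nat_lit 106) j)
noncomputable def dp_y_96 (j u : ℕ) : Bool :=
  Bool.rec (motive := fun _ => Bool) (dp_y_93 j u) (dp_y_95 j u) (Nat.ble (nat_lit 105) j)
noncomputable def dp_y_97 (j u : ℕ) : Bool :=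
  Bool.rec (motive := fun _ => Bool) (dp_y_91 j u) (dp_y_96 j u) (Nat.ble (nat_lit 102) j)
noncomputable def dp_y_98 (j u : ℕ) : Bool :=
  Bool.rec (motive := fun _ => Bool) (dp_y_86 j u) (dp_y_97 j u) (Nat.ble (nat_lit 96) j)
noncomputable def dp_y_99 (j u : ℕ) : Bool :=
  Bool.rec (motive := fun _ => Bool) (lF [T_q, T_z, T_y, T_z, T_yi, T_z, T_q, T_yi, T_yi, T_q, T_z, T_yi, T_z, T_y, T_z, T_q, T_y] M (Nat.sub (T_y u) (Nat.mod (T_y u) M)) (Nat.mod (T_y u) M) u) (lS MG [T_z, T_q, T_z, T_yi, T_yi, T_q, T_y, T_y, T_z, T_q, T_z, T_yi, T_yi, T_q, T_y] M (Nat.sub (T_y u) (Nat.mod (T_y u) M)) (nat_lit 40) (Nat.mod (T_y u) M) u) (Nat.ble (nat_lit 110) j)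
noncomputable def dp_y_100 (j u : ℕ) : Bool :=
  Bool.rec (motive := fun _ => Bool) (lS MG [T_z, T_yi, T_z, T_y, T_z, T_y, T_q, T_y, T_z, T_y, T_z, T_yi, T_z, T_y, T_y, T_q, T_y] M (Nat.sub (T_y u) (Nat.mod (T_y u) M)) (nat_lit 40) (Nat.mod (T_y u) M) u) (dp_y_99 j u) (Nat.ble (nat_lit 109) j)
noncomputable def dp_y_101 (j u : ℕ) : Bool :=
  Bool.rec (motive := fun _ => Bool) (lS MG [T_z, T_yi, T_z, T_yi, T_q, T_yi, T_z, T_yi, T_z, T_y, T_z, T_yi, T_yi, T_q, T_yi, T_yi, T_z] M (Nat.sub (T_y u) (Nat.mod (T_y u) M)) (nat_lit 40) (Nat.mod (T_y u) M) u) (lF [T_y, T_q, T_y, T_y, T_y, T_q, T_yi, T_q, T_yi, T_q, T_yi, T_yi, T_q, T_yi, T_q] M (Nat.sub (T_y u) (Nat.mod (T_y u) M)) (Nat.mod (T_y u) M) u) (Nat.ble (nat_lit 113) j)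
noncomputable def dp_y_102 (j u : ℕ) : Bool :=
  Bool.rec (motive := fun _ => Bool) (lS MG [T_q, T_y, T_y, T_z, T_yi, T_z, T_y, T_z, T_y, T_q, T_y, T_z, T_y, T_z, T_yi, T_z, T_y] M (Nat.sub (T_y u) (Nat.mod (T_y u) M)) (nat_lit 40) (Nat.mod (T_y u) M) u) (dp_y_101 j u) (Nat.ble (nat_lit 112) j)
noncomputable def dp_y_103 (j u : ℕ) : Bool :=
  Bool.rec (motive := fun _ => Bool) (dp_y_100 j u) (dp_y_102 j u) (Nat.ble (nat_lit 111) j)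
noncomputable def dp_y_104 (j u : ℕ) : Bool :=
  Bool.rec (motive := fun _ => Bool) (lF [T_y, T_z, T_q, T_z, T_yi, T_yi, T_q, T_y, T_y, T_z, T_q, T_z, T_yi, T_yi, T_q] M (Nat.sub (T_y u) (Nat.mod (T_y u) M)) (Nat.mod (T_y u) M) u) (lF [T_y, T_q, T_z, T_y, T_z, T_yi, T_q, T_z, T_yi, T_yi, T_q, T_z, T_yi, T_z, T_y, T_q, T_z] M (Nat.sub (T_y u) (Nat.mod (T_y u) M)) (Nat.mod (T_y u) M) u) (Nat.ble (nat_lit 116) j)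
noncomputable def dp_y_105 (j u : ℕ) : Bool :=
  Bool.rec (motive := fun _ => Bool) (lF [T_y, T_z, T_q, T_y, T_y, T_y, T_q, T_z, T_y, T_y, T_z, T_q, T_y, T_y, T_y, T_q, T_z, T_y, T_y, T_z, T_q, T_y, T_y, T_y, T_q, T_z] M (Nat.sub (T_y u) (Nat.mod (T_y u) M)) (Nat.mod (T_y u) M) u) (dp_y_104 j u) (Nat.ble (nat_lit 115) j)
noncomputable def dp_y_106 (j u : ℕ) : Bool :=
  Bool.rec (motive := fun _ => Bool) (lF [T_q, T_z, T_yi, T_z, T_q, T_y, T_q, T_yi, T_z, T_q, T_y, T_q, T_z, T_yi, T_q] M (Nat.sub (T_y u) (Nat.mod (T_y u) M)) (Nat.mod (T_y u) M) u) (lF [T_q, T_yi, T_z, T_q, T_y, T_q, T_z, T_yi, T_q, T_y, T_q, T_z, T_yi, T_z, T_q] M (Nat.sub (T_y u) (Nat.mod (T_y u) M)) (Nat.mod (T_y u) M) u) (Nat.ble (nat_lit 118) j)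
noncomputable def dp_y_107 (j u : ℕ) : Bool :=
  Bool.rec (motive := fun _ => Bool) (lS MG [T_z, T_y, T_q, T_y, T_z, T_y, T_z, T_yi, T_z, T_y, T_y, T_q, T_y, T_y, T_z, T_yi, T_z] M (Nat.sub (T_y u) (Nat.mod (T_y u) M)) (nat_lit 40) (Nat.mod (T_y u) M) u) (lF [T_q, T_yi, T_q, T_yi, T_yi, T_q, T_yi, T_q, T_yi, T_q, T_y, T_y, T_y, T_q, T_y] M (Nat.sub (T_y u) (Nat.mod (T_y u) M)) (Nat.mod (T_y u) M) u) (Nat.ble (nat_lit 120) j)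
noncomputable def dp_y_108 (j u : ℕ) : Bool :=
  Bool.rec (motive := fun _ => Bool) (dp_y_106 j u) (dp_y_107 j u) (Nat.ble (nat_lit 119) j)
noncomputable def dp_y_109 (j u : ℕ) : Bool :=
  Bool.rec (motive := fun _ => Bool) (dp_y_105 j u) (dp_y_108 j u) (Nat.ble (nat_lit 117) j)
noncomputable def dp_y_110 (j u : ℕ) : Bool :=
  Bool.rec (motive := fun _ => Bool) (dp_y_103 j u) (dp_y_109 j u) (Nat.ble (nat_lit 114) j)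
noncomputable def dp_y_111 (j u : ℕ) : Bool :=
  Bool.rec (motive := fun _ => Bool) (lS MG [T_z, T_yi, T_z, T_y, T_y, T_q, T_y, T_y, T_z, T_yi, T_z, T_y, T_z, T_y, T_q, T_y, T_z] M (Nat.sub (T_y u) (Nat.mod (T_y u) M)) (nat_lit 40) (Nat.mod (T_y u) M) u) (lF [T_y, T_q, T_yi, T_q, T_yi, T_q, T_yi, T_yi, T_q, T_yi, T_q, T_y, T_y, T_q, T_y] M (Nat.sub (T_y u) (Nat.mod (T_y u) M)) (Nat.mod (T_y u) M) u) (Nat.ble (nat_lit 123) j)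
noncomputable def dp_y_112 (j u : ℕ) : Bool :=
  Bool.rec (motive := fun _ => Bool) (lF [T_q, T_y, T_y, T_q, T_y, T_q, T_y, T_q, T_yi, T_yi, T_yi, T_q, T_yi, T_yi, T_q] M (Nat.sub (T_y u) (Nat.mod (T_y u) M)) (Nat.mod (T_y u) M) u) (dp_y_111 j u) (Nat.ble (nat_lit 122) j)
noncomputable def dp_y_113 (j u : ℕ) : Bool :=
  Bool.rec (motive := fun _ => Bool) (lS MG [T_q, T_z, T_y, T_z, T_yi, T_z, T_q, T_yi, T_yi, T_q, T_z, T_yi, T_z, T_y, T_z, T_q, T_y] M (Nat.sub (T_y u) (Nat.mod (T_y u) M)) (nat_lit 40) (Nat.mod (T_y u) M) u) (lS MG [T_q, T_z, T_yi, T_q, T_z, T_y, T_z, T_yi, T_z, T_q, T_y, T_z, T_q, T_yi, T_z] M (Nat.sub (T_y u) (Nat.mod (T_y u) M)) (nat_lit 40) (Nat.mod (T_y u) M) u) (Nat.ble (nat_lit 125) j)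
noncomputable def dp_y_114 (j u : ℕ) : Bool :=
  Bool.rec (motive := fun _ => Bool) (lF [T_z, T_q, T_yi, T_z, T_y, T_z, T_q, T_yi, T_q, T_z, T_y, T_z, T_yi, T_q, T_z] M (Nat.sub (T_y u) (Nat.mod (T_y u) M)) (Nat.mod (T_y u) M) u) (lF [T_y, T_y, T_q, T_yi, T_q, T_yi, T_q, T_yi, T_yi, T_q, T_yi, T_q, T_y, T_y, T_q] M (Nat.sub (T_y u) (Nat.mod (T_y u) M)) (Nat.mod (T_y u) M) u) (Nat.ble (nat_lit 127) j)
noncomputable def dp_y_115 (j u : ℕ) : Bool :=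
  Bool.rec (motive := fun _ => Bool) (dp_y_113 j u) (dp_y_114 j u) (Nat.ble (nat_lit 126) j)
noncomputable def dp_y_116 (j u : ℕ) : Bool :=
  Bool.rec (motive := fun _ => Bool) (dp_y_112 j u) (dp_y_115 j u) (Nat.ble (nat_lit 124) j)
noncomputable def dp_y_117 (j u : ℕ) : Bool :=
  Bool.rec (motive := fun _ => Bool) (lS MG [T_y, T_z, T_yi, T_z, T_y, T_z, T_y, T_q, T_y, T_z, T_y, T_z, T_yi, T_z, T_y, T_y, T_q] M (Nat.sub (T_y u) (Nat.mod (T_y u) M)) (nat_lit 40) (Nat.mod (T_y u) M) u) (lF [T_y, T_z, T_yi, T_z, T_y, T_z, T_y, T_q, T_y, T_z, T_y, T_z, T_yi, T_z, T_y, T_y, T_q] M (Nat.sub (T_y u) (Nat.mod (T_y u) M)) (Nat.mod (T_y u) M) u) (Nat.ble (nat_lit 129) j)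
noncomputable def dp_y_118 (j u : ℕ) : Bool :=
  Bool.rec (motive := fun _ => Bool) (lF [T_q, T_z, T_yi, T_z, T_q, T_y, T_z, T_yi, T_z, T_q, T_y, T_q, T_z, T_yi, T_z] M (Nat.sub (T_y u) (Nat.mod (T_y u) M)) (Nat.mod (T_y u) M) u) (lS MG [T_z, T_q, T_yi, T_q, T_y, T_z, T_q, T_yi, T_q, T_z, T_y, T_q, T_yi, T_q, T_z] M (Nat.sub (T_y u) (Nat.mod (T_y u) M)) (nat_lit 40) (Nat.mod (T_y u) M) u) (Nat.ble (nat_lit 131) j)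
noncomputable def dp_y_119 (j u : ℕ) : Bool :=
  Bool.rec (motive := fun _ => Bool) (dp_y_117 j u) (dp_y_118 j u) (Nat.ble (nat_lit 130) j)
noncomputable def dp_y_120 (j u : ℕ) : Bool :=
  Bool.rec (motive := fun _ => Bool) (lS MG [T_y, T_q, T_y, T_q, T_y, T_q, T_yi, T_yi, T_yi, T_q, T_yi, T_yi, T_q, T_y, T_q] M (Nat.sub (T_y u) (Nat.mod (T_y u) M)) (nat_lit 40) (Nat.mod (T_y u) M) u) (lF [T_z, T_yi, T_q, T_z, T_y, T_z, T_q, T_yi, T_z, T_y, T_z, T_q, T_yi, T_q, T_z] M (Nat.sub (T_y u) (Nat.mod (T_y u) M)) (Nat.mod (T_y u) M) u) (Nat.ble (nat_lit 133) j)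
noncomputable def dp_y_121 (j u : ℕ) : Bool :=
  Bool.rec (motive := fun _ => Bool) (lF [T_y, T_q, T_y, T_q, T_yi, T_yi, T_q, T_yi, T_yi, T_yi, T_q, T_y, T_q, T_y, T_q] M (Nat.sub (T_y u) (Nat.mod (T_y u) M)) (Nat.mod (T_y u) M) u) (lF [T_z, T_yi, T_q, T_z, T_q, T_y, T_q, T_yi, T_z, T_y, T_q, T_z, T_q, T_yi, T_q] M (Nat.sub (T_y u) (Nat.mod (T_y u) M)) (Nat.mod (T_y u) M) u) (Nat.ble (nat_lit 135) j)
noncomputable def dp_y_122 (j u : ℕ) : Bool :=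
  Bool.rec (motive := fun _ => Bool) (dp_y_120 j u) (dp_y_121 j u) (Nat.ble (nat_lit 134) j)
noncomputable def dp_y_123 (j u : ℕ) : Bool :=
  Bool.rec (motive := fun _ => Bool) (dp_y_119 j u) (dp_y_122 j u) (Nat.ble (nat_lit 132) j)
noncomputable def dp_y_124 (j u : ℕ) : Bool :=
  Bool.rec (motive := fun _ => Bool) (dp_y_116 j u) (dp_y_123 j u) (Nat.ble (nat_lit 128) j)
noncomputable def dp_y_125 (j u : ℕ) : Bool :=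
  Bool.rec (motive := fun _ => Bool) (dp_y_110 j u) (dp_y_124 j u) (Nat.ble (nat_lit 121) j)
noncomputable def dp_y_126 (j u : ℕ) : Bool :=
  Bool.rec (motive := fun _ => Bool) (dp_y_98 j u) (dp_y_125 j u) (Nat.ble (nat_lit 108) j)
noncomputable def dp_y_127 (j u : ℕ) : Bool :=
  Bool.rec (motive := fun _ => Bool) (lS MG [T_y, T_q, T_yi, T_yi, T_z, T_q, T_z, T_y, T_y, T_q, T_yi, T_yi, T_z, T_q, T_z] M (Nat.sub (T_y u) (Nat.mod (T_y u) M)) (nat_lit 40) (Nat.mod (T_y u) M) u) (lS MG [T_q, T_z, T_q, T_yi, T_q, T_y, T_z, T_yi, T_q, T_z, T_q, T_y, T_q, T_yi, T_z] M (Nat.sub (T_y u) (Nat.mod (T_y u) M)) (nat_lit 40) (Nat.mod (T_y u) M) u) (Nat.ble (nat_lit 137) j)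
noncomputable def dp_y_128 (j u : ℕ) : Bool :=
  Bool.rec (motive := fun _ => Bool) (lS MG [T_z, T_q, T_y, T_y, T_y, T_q, T_z, T_y, T_y, T_z, T_q, T_y, T_y, T_y, T_q, T_z, T_y, T_y, T_z, T_q, T_y, T_y, T_y, T_q, T_z, T_y] M (Nat.sub (T_y u) (Nat.mod (T_y u) M)) (nat_lit 40) (Nat.mod (T_y u) M) u) (lS MG [T_y, T_z, T_q, T_y, T_y, T_y, T_q, T_z, T_y, T_y, T_z, T_q, T_y, T_y, T_y, T_q, T_z, T_y, T_y, T_z, T_q, T_y, T_y, T_y, T_q, T_z] M (Nat.sub (T_y u) (Nat.mod (T_y u) M)) (nat_lit 40) (Nat.mod (T_y u) M) u) (Nat.ble (nat_lit 139) j)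
noncomputable def dp_y_129 (j u : ℕ) : Bool :=
  Bool.rec (motive := fun _ => Bool) (dp_y_127 j u) (dp_y_128 j u) (Nat.ble (nat_lit 138) j)
noncomputable def dp_y_130 (j u : ℕ) : Bool :=
  Bool.rec (motive := fun _ => Bool) (lS MG [T_z, T_yi, T_yi, T_q, T_yi, T_yi, T_z, T_y, T_z, T_yi, T_z, T_yi, T_q, T_yi, T_z, T_yi, T_z] M (Nat.sub (T_y u) (Nat.mod (T_y u) M)) (nat_lit 40) (Nat.mod (T_y u) M) u) (lS MG [T_z, T_q, T_y, T_y, T_q, T_z, T_y, T_z, T_yi, T_z, T_q, T_yi, T_yi, T_q, T_z, T_yi, T_z] M (Nat.sub (T_y u) (Nat.mod (T_y u) M)) (nat_lit 40) (Nat.mod (T_y u) M) u) (Nat.ble (nat_lit 141) j)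
noncomputable def dp_y_131 (j u : ℕ) : Bool :=
  Bool.rec (motive := fun _ => Bool) (lF [T_y, T_q, T_yi, T_q, T_yi, T_yi, T_q, T_yi, T_q, T_yi, T_q, T_y, T_y, T_y, T_q] M (Nat.sub (T_y u) (Nat.mod (T_y u) M)) (Nat.mod (T_y u) M) u) (lF [T_y, T_z, T_q, T_y, T_z, T_yi, T_z, T_q, T_yi, T_yi, T_z, T_q, T_yi, T_z, T_y, T_z, T_q] M (Nat.sub (T_y u) (Nat.mod (T_y u) M)) (Nat.mod (T_y u) M) u) (Nat.ble (nat_lit 144) j)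
noncomputable def dp_y_132 (j u : ℕ) : Bool :=
  Bool.rec (motive := fun _ => Bool) (lS MG [T_z, T_yi, T_z, T_q, T_yi, T_yi, T_q, T_z, T_yi, T_z, T_y, T_z, T_q, T_y, T_y, T_q, T_z] M (Nat.sub (T_y u) (Nat.mod (T_y u) M)) (nat_lit 40) (Nat.mod (T_y u) M) u) (dp_y_131 j u) (Nat.ble (nat_lit 143) j)
noncomputable def dp_y_133 (j u : ℕ) : Bool :=
  Bool.rec (motive := fun _ => Bool) (dp_y_130 j u) (dp_y_132 j u) (Nat.ble (nat_lit 142) j)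
noncomputable def dp_y_134 (j u : ℕ) : Bool :=
  Bool.rec (motive := fun _ => Bool) (dp_y_129 j u) (dp_y_133 j u) (Nat.ble (nat_lit 140) j)
noncomputable def dp_y_135 (j u : ℕ) : Bool :=
  Bool.rec (motive := fun _ => Bool) (lF [T_q, T_yi, T_q, T_yi, T_q, T_yi, T_yi, T_q, T_yi, T_q, T_y, T_y, T_q, T_y, T_y] M (Nat.sub (T_y u) (Nat.mod (T_y u) M)) (Nat.mod (T_y u) M) u) (lF [T_z, T_q, T_y, T_y, T_z, T_q, T_y, T_z, T_yi, T_z, T_q, T_yi, T_yi, T_z, T_q, T_yi, T_z] M (Nat.sub (T_y u) (Nat.mod (T_y u) M)) (Nat.mod (T_y u) M) u) (Nat.ble (nat_lit 146) j)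
noncomputable def dp_y_136 (j u : ℕ) : Bool :=
  Bool.rec (motive := fun _ => Bool) (lS MG [T_q, T_yi, T_q, T_z, T_q, T_y, T_z, T_yi, T_q, T_y, T_q, T_z, T_q, T_yi, T_z] M (Nat.sub (T_y u) (Nat.mod (T_y u) M)) (nat_lit 40) (Nat.mod (T_y u) M) u) (lS MG [T_z, T_q, T_y, T_z, T_q, T_y, T_z, T_q, T_y, T_z, T_q, T_y, T_z, T_q, T_y, T_z, T_q, T_y, T_z, T_q, T_y, T_z, T_q] M (Nat.sub (T_y u) (Nat.mod (T_y u) M)) (nat_lit 40) (Nat.mod (T_y u) M) u) (Nat.ble (nat_lit 149) j)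
noncomputable def dp_y_137 (j u : ℕ) : Bool :=
  Bool.rec (motive := fun _ => Bool) (lF [T_q, T_y, T_q, T_yi, T_yi, T_yi, T_q, T_yi, T_yi, T_q, T_y, T_q, T_y, T_y, T_q] M (Nat.sub (T_y u) (Nat.mod (T_y u) M)) (Nat.mod (T_y u) M) u) (dp_y_136 j u) (Nat.ble (nat_lit 148) j)
noncomputable def dp_y_138 (j u : ℕ) : Bool :=
  Bool.rec (motive := fun _ => Bool) (dp_y_135 j u) (dp_y_137 j u) (Nat.ble (nat_lit 147) j)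
noncomputable def dp_y_139 (j u : ℕ) : Bool :=
  Bool.rec (motive := fun _ => Bool) (lF [T_y, T_q, T_y, T_y, T_q, T_yi, T_q, T_yi, T_yi, T_q, T_yi, T_q, T_yi, T_q, T_y] M (Nat.sub (T_y u) (Nat.mod (T_y u) M)) (Nat.mod (T_y u) M) u) (lF [T_q, T_z, T_y, T_z, T_yi, T_q, T_z, T_yi, T_yi, T_q, T_z, T_yi, T_z, T_y, T_q, T_z, T_y] M (Nat.sub (T_y u) (Nat.mod (T_y u) M)) (Nat.mod (T_y u) M) u) (Nat.ble (nat_lit 151) j)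
noncomputable def dp_y_140 (j u : ℕ) : Bool :=
  Bool.rec (motive := fun _ => Bool) (lF [T_y, T_q, T_y, T_y, T_y, T_q, T_y, T_y, T_y, T_q, T_yi, T_yi, T_yi, T_q, T_y] M (Nat.sub (T_y u) (Nat.mod (T_y u) M)) (Nat.mod (T_y u) M) u) (lF [T_q, T_y, T_y, T_q, T_yi, T_q, T_yi, T_yi, T_q, T_yi, T_q, T_yi, T_q, T_y, T_y] M (Nat.sub (T_y u) (Nat.mod (T_y u) M)) (Nat.mod (T_y u) M) u) (Nat.ble (nat_lit 154) j)
noncomputable def dp_y_141 (j u : ℕ) : Bool :=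
  Bool.rec (motive := fun _ => Bool) (lF [T_q, T_y, T_z, T_q, T_z, T_y, T_q, T_y, T_q, T_y, T_z, T_q, T_z, T_y, T_q] M (Nat.sub (T_y u) (Nat.mod (T_y u) M)) (Nat.mod (T_y u) M) u) (dp_y_140 j u) (Nat.ble (nat_lit 153) j)
noncomputable def dp_y_142 (j u : ℕ) : Bool :=
  Bool.rec (motive := fun _ => Bool) (dp_y_139 j u) (dp_y_141 j u) (Nat.ble (nat_lit 152) j)
noncomputable def dp_y_143 (j u : ℕ) : Bool :=
  Bool.rec (motive := fun _ => Bool) (dp_y_138 j u) (dp_y_142 j u) (Nat.ble (nat_lit 150) j)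
noncomputable def dp_y_144 (j u : ℕ) : Bool :=
  Bool.rec (motive := fun _ => Bool) (dp_y_134 j u) (dp_y_143 j u) (Nat.ble (nat_lit 145) j)
noncomputable def dp_y_145 (j u : ℕ) : Bool :=
  Bool.rec (motive := fun _ => Bool) (lS MG [T_z, T_q, T_yi, T_q, T_z, T_y, T_z, T_yi, T_q, T_z, T_y, T_z, T_q, T_yi, T_z] M (Nat.sub (T_y u) (Nat.mod (T_y u) M)) (nat_lit 40) (Nat.mod (T_y u) M) u) (lS MG [T_q, T_yi, T_yi, T_z, T_q, T_z, T_y, T_y, T_q, T_yi, T_yi, T_z, T_q, T_z, T_y] M (Nat.sub (T_y u) (Nat.mod (T_y u) M)) (nat_lit 40) (Nat.mod (T_y u) M) u) (Nat.ble (nat_lit 156) j)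
noncomputable def dp_y_146 (j u : ℕ) : Bool :=
  Bool.rec (motive := fun _ => Bool) (lS MG [T_q, T_yi, T_q, T_z, T_y, T_z, T_q, T_yi, T_q, T_y, T_z, T_q, T_yi, T_q, T_z] M (Nat.sub (T_y u) (Nat.mod (T_y u) M)) (nat_lit 40) (Nat.mod (T_y u) M) u) (lS MG [T_z, T_q, T_yi, T_z, T_y, T_q, T_z, T_yi, T_q, T_z, T_y, T_z, T_yi, T_z, T_q] M (Nat.sub (T_y u) (Nat.mod (T_y u) M)) (nat_lit 40) (Nat.mod (T_y u) M) u) (Nat.ble (nat_lit 159) j)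
noncomputable def dp_y_147 (j u : ℕ) : Bool :=
  Bool.rec (motive := fun _ => Bool) (lF [T_z, T_yi, T_q, T_z, T_y, T_q, T_z, T_yi, T_z, T_y, T_z, T_q, T_yi, T_z, T_q] M (Nat.sub (T_y u) (Nat.mod (T_y u) M)) (Nat.mod (T_y u) M) u) (dp_y_146 j u) (Nat.ble (nat_lit 158) j)
noncomputable def dp_y_148 (j u : ℕ) : Bool :=
  Bool.rec (motive := fun _ => Bool) (dp_y_145 j u) (dp_y_147 j u) (Nat.ble (nat_lit 157) j)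
noncomputable def dp_y_149 (j u : ℕ) : Bool :=
  Bool.rec (motive := fun _ => Bool) (lF [T_v, T_q, T_z, T_q, T_z, T_yi, T_z, T_q, T_z, T_q, T_v] M (Nat.sub (T_y u) (Nat.mod (T_y u) M)) (Nat.mod (T_y u) M) u) (lS MG [T_q, T_z, T_yi, T_z, T_q, T_y, T_q, T_yi, T_z, T_q, T_y, T_q, T_z, T_yi, T_q] M (Nat.sub (T_y u) (Nat.mod (T_y u) M)) (nat_lit 40) (Nat.mod (T_y u) M) u) (Nat.ble (nat_lit 162) j)
noncomputable def dp_y_150 (j u : ℕ) : Bool :=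
  Bool.rec (motive := fun _ => Bool) (lF [T_y, T_y, T_q, T_y, T_y, T_y, T_q, T_yi, T_yi, T_yi, T_q, T_y, T_y, T_y, T_q] M (Nat.sub (T_y u) (Nat.mod (T_y u) M)) (Nat.mod (T_y u) M) u) (dp_y_149 j u) (Nat.ble (nat_lit 161) j)
noncomputable def dp_y_151 (j u : ℕ) : Bool :=
  Bool.rec (motive := fun _ => Bool) (lF [T_q, T_z, T_yi, T_z, T_y, T_z, T_q, T_yi, T_z, T_q, T_y, T_z, T_yi, T_q, T_z] M (Nat.sub (T_y u) (Nat.mod (T_y u) M)) (Nat.mod (T_y u) M) u) (lS MG [T_z, T_q, T_y, T_z, T_yi, T_z, T_q, T_yi, T_yi, T_z, T_q, T_yi, T_z, T_y, T_z, T_q, T_y] M (Nat.sub (T_y u) (Nat.mod (T_y u) M)) (nat_lit 40) (Nat.mod (T_y u) M) u) (Nat.ble (nat_lit 165) j)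
noncomputable def dp_y_152 (j u : ℕ) : Bool :=
  Bool.rec (motive := fun _ => Bool) (lS MG [T_z, T_yi, T_z, T_q, T_y, T_z, T_q, T_yi, T_z, T_y, T_q, T_z, T_yi, T_q, T_z] M (Nat.sub (T_y u) (Nat.mod (T_y u) M)) (nat_lit 40) (Nat.mod (T_y u) M) u) (dp_y_151 j u) (Nat.ble (nat_lit 164) j)
noncomputable def dp_y_153 (j u : ℕ) : Bool :=
  Bool.rec (motive := fun _ => Bool) (dp_y_150 j u) (dp_y_152 j u) (Nat.ble (nat_lit 163) j)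
noncomputable def dp_y_154 (j u : ℕ) : Bool :=
  Bool.rec (motive := fun _ => Bool) (dp_y_148 j u) (dp_y_153 j u) (Nat.ble (nat_lit 160) j)
noncomputable def dp_y_155 (j u : ℕ) : Bool :=
  Bool.rec (motive := fun _ => Bool) (lF [T_q, T_z, T_y, T_y, T_q, T_z, T_y, T_z, T_yi, T_q, T_z, T_yi, T_yi, T_q, T_z, T_yi, T_z] M (Nat.sub (T_y u) (Nat.mod (T_y u) M)) (Nat.mod (T_y u) M) u) (lS MG [T_z, T_q, T_yi, T_q, T_z, T_y, T_q, T_yi, T_q, T_z, T_y, T_z, T_q, T_yi, T_q] M (Nat.sub (T_y u) (Nat.mod (T_y u) M)) (nat_lit 40) (Nat.mod (T_y u) M) u) (Nat.ble (nat_lit 168) j)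
noncomputable def dp_y_156 (j u : ℕ) : Bool :=
  Bool.rec (motive := fun _ => Bool) (lF [T_z, T_q, T_yi, T_z, T_q, T_y, T_z, T_yi, T_q, T_z, T_y, T_q, T_z, T_yi, T_z] M (Nat.sub (T_y u) (Nat.mod (T_y u) M)) (Nat.mod (T_y u) M) u) (dp_y_155 j u) (Nat.ble (nat_lit 167) j)
noncomputable def dp_y_157 (j u : ℕ) : Bool :=
  Bool.rec (motive := fun _ => Bool) (lF [T_z, T_q, T_y, T_z, T_q, T_y, T_z, T_q, T_y, T_z, T_q, T_y, T_z, T_q, T_y, T_z, T_q, T_y, T_z, T_q, T_y, T_z, T_q] M (Nat.sub (T_y u) (Nat.mod (T_y u) M)) (Nat.mod (T_y u) M) u) (lS MG [T_q, T_y, T_y, T_q, T_y, T_q, T_y, T_q, T_yi, T_yi, T_yi, T_q, T_yi, T_yi, T_q] M (Nat.sub (T_y u) (Nat.mod (T_y u) M)) (nat_lit 40) (Nat.mod (T_y u) M) u) (Nat.ble (nat_lit 171) j)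
noncomputable def dp_y_158 (j u : ℕ) : Bool :=
  Bool.rec (motive := fun _ => Bool) (lS MG [T_q, T_y, T_y, T_y, T_q, T_yi, T_q, T_yi, T_q, T_yi, T_yi, T_q, T_yi, T_q, T_y] M (Nat.sub (T_y u) (Nat.mod (T_y u) M)) (nat_lit 40) (Nat.mod (T_y u) M) u) (dp_y_157 j u) (Nat.ble (nat_lit 170) j)
noncomputable def dp_y_159 (j u : ℕ) : Bool :=
  Bool.rec (motive := fun _ => Bool) (dp_y_156 j u) (dp_y_158 j u) (Nat.ble (nat_lit 169) j)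
noncomputable def dp_y_160 (j u : ℕ) : Bool :=
  Bool.rec (motive := fun _ => Bool) (lF [T_y, T_y, T_q, T_y, T_y, T_y, T_q, T_y, T_y, T_y, T_q, T_yi, T_yi, T_yi, T_q] M (Nat.sub (T_y u) (Nat.mod (T_y u) M)) (Nat.mod (T_y u) M) u) (lS MG [T_y, T_q, T_yi, T_q, T_yi, T_q, T_yi, T_yi, T_q, T_yi, T_q, T_y, T_y, T_q, T_y] M (Nat.sub (T_y u) (Nat.mod (T_y u) M)) (nat_lit 40) (Nat.mod (T_y u) M) u) (Nat.ble (nat_lit 174) j)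
noncomputable def dp_y_161 (j u : ℕ) : Bool :=
  Bool.rec (motive := fun _ => Bool) (lS MG [T_y, T_q, T_z, T_y, T_z, T_yi, T_q, T_z, T_yi, T_yi, T_q, T_z, T_yi, T_z, T_y, T_q, T_z] M (Nat.sub (T_y u) (Nat.mod (T_y u) M)) (nat_lit 40) (Nat.mod (T_y u) M) u) (dp_y_160 j u) (Nat.ble (nat_lit 173) j)
noncomputable def dp_y_162 (j u : ℕ) : Bool :=
  Bool.rec (motive := fun _ => Bool) (lS MG [T_z, T_q, T_z, T_y, T_q, T_y, T_q, T_y, T_z, T_q, T_z, T_y, T_q, T_y, T_q] M (Nat.sub (T_y u) (Nat.mod (T_y u) M)) (nat_lit 40) (Nat.mod (T_y u) M) u) (lS MG [T_y, T_y, T_q, T_yi, T_q, T_yi, T_q, T_yi, T_yi, T_q, T_yi, T_q, T_y, T_y, T_q] M (Nat.sub (T_y u) (Nat.mod (T_y u) M)) (nat_lit 40) (Nat.mod (T_y u) M) u) (Nat.ble (nat_lit 177) j)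
noncomputable def dp_y_163 (j u : ℕ) : Bool :=
  Bool.rec (motive := fun _ => Bool) (lF [T_z, T_yi, T_q, T_z, T_yi, T_yi, T_q, T_z, T_yi, T_z, T_y, T_q, T_z, T_y, T_y, T_q, T_z] M (Nat.sub (T_y u) (Nat.mod (T_y u) M)) (Nat.mod (T_y u) M) u) (dp_y_162 j u) (Nat.ble (nat_lit 176) j)
noncomputable def dp_y_164 (j u : ℕ) : Bool :=
  Bool.rec (motive := fun _ => Bool) (dp_y_161 j u) (dp_y_163 j u) (Nat.ble (nat_lit 175) j)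
noncomputable def dp_y_165 (j u : ℕ) : Bool :=
  Bool.rec (motive := fun _ => Bool) (dp_y_159 j u) (dp_y_164 j u) (Nat.ble (nat_lit 172) j)
noncomputable def dp_y_166 (j u : ℕ) : Bool :=
  Bool.rec (motive := fun _ => Bool) (dp_y_154 j u) (dp_y_165 j u) (Nat.ble (nat_lit 166) j)
noncomputable def dp_y_167 (j u : ℕ) : Bool :=
  Bool.rec (motive := fun _ => Bool) (dp_y_144 j u) (dp_y_166 j u) (Nat.ble (nat_lit 155) j)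
noncomputable def dp_y_168 (j u : ℕ) : Bool :=
  Bool.rec (motive := fun _ => Bool) (lF [T_z, T_yi, T_z, T_q, T_yi, T_yi, T_z, T_q, T_yi, T_z, T_y, T_z, T_q, T_y, T_y, T_z, T_q] M (Nat.sub (T_y u) (Nat.mod (T_y u) M)) (Nat.mod (T_y u) M) u) (lS MG [T_q, T_yi, T_z, T_q, T_y, T_q, T_z, T_yi, T_q, T_y, T_q, T_z, T_yi, T_z, T_q] M (Nat.sub (T_y u) (Nat.mod (T_y u) M)) (nat_lit 40) (Nat.mod (T_y u) M) u) (Nat.ble (nat_lit 180) j)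
noncomputable def dp_y_169 (j u : ℕ) : Bool :=
  Bool.rec (motive := fun _ => Bool) (lS MG [T_y, T_z, T_q, T_z, T_yi, T_yi, T_q, T_y, T_y, T_z, T_q, T_z, T_yi, T_yi, T_q] M (Nat.sub (T_y u) (Nat.mod (T_y u) M)) (nat_lit 40) (Nat.mod (T_y u) M) u) (dp_y_168 j u) (Nat.ble (nat_lit 179) j)
noncomputable def dp_y_170 (j u : ℕ) : Bool :=
  Bool.rec (motive := fun _ => Bool) (lS MG [T_q, T_z, T_yi, T_z, T_q, T_y, T_z, T_yi, T_z, T_q, T_y, T_q, T_z, T_yi, T_z] M (Nat.sub (T_y u) (Nat.mod (T_y u) M)) (nat_lit 40) (Nat.mod (T_y u) M) u) (lF [T_q, T_z, T_yi, T_z, T_y, T_q, T_z, T_yi, T_z, T_q, T_y, T_z, T_yi, T_z, T_q] M (Nat.sub (T_y u) (Nat.mod (T_y u) M)) (Nat.mod (T_y u) M) u) (Nat.ble (nat_lit 182) j)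
noncomputable def dp_y_171 (j u : ℕ) : Bool :=
  Bool.rec (motive := fun _ => Bool) (lS MG [T_z, T_yi, T_q, T_y, T_q, T_z, T_q, T_yi, T_z, T_y, T_q, T_yi, T_q, T_z, T_q] M (Nat.sub (T_y u) (Nat.mod (T_y u) M)) (nat_lit 40) (Nat.mod (T_y u) M) u) (lS MG [T_q, T_y, T_q, T_yi, T_yi, T_q, T_yi, T_yi, T_yi, T_q, T_y, T_q, T_y, T_q, T_y] M (Nat.sub (T_y u) (Nat.mod (T_y u) M)) (nat_lit 40) (Nat.mod (T_y u) M) u) (Nat.ble (nat_lit 184) j)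
noncomputable def dp_y_172 (j u : ℕ) : Bool :=
  Bool.rec (motive := fun _ => Bool) (dp_y_170 j u) (dp_y_171 j u) (Nat.ble (nat_lit 183) j)
noncomputable def dp_y_173 (j u : ℕ) : Bool :=
  Bool.rec (motive := fun _ => Bool) (dp_y_169 j u) (dp_y_172 j u) (Nat.ble (nat_lit 181) j)
noncomputable def dp_y_174 (j u : ℕ) : Bool :=
  Bool.rec (motive := fun _ => Bool) (lS MG [T_y, T_q, T_y, T_y, T_y, T_q, T_yi, T_q, T_yi, T_q, T_yi, T_yi, T_q, T_yi, T_q] M (Nat.sub (T_y u) (Nat.mod (T_y u) M)) (nat_lit 40) (Nat.mod (T_y u) M) u) (lF [T_q, T_y, T_y, T_y, T_q, T_yi, T_yi, T_yi, T_q, T_y, T_y, T_y, T_q, T_y, T_y] M (Nat.sub (T_y u) (Nat.mod (T_y u) M)) (Nat.mod (T_y u) M) u) (Nat.ble (nat_lit 187) j)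
noncomputable def dp_y_175 (j u : ℕ) : Bool :=
  Bool.rec (motive := fun _ => Bool) (lF [T_z, T_q, T_yi, T_q, T_z, T_y, T_z, T_q, T_yi, T_q, T_z, T_y, T_z, T_q, T_yi, T_q, T_z] M (Nat.sub (T_y u) (Nat.mod (T_y u) M)) (Nat.mod (T_y u) M) u) (dp_y_174 j u) (Nat.ble (nat_lit 186) j)
noncomputable def dp_y_176 (j u : ℕ) : Bool :=
  Bool.rec (motive := fun _ => Bool) (lS MG [T_z, T_yi, T_z, T_q, T_y, T_q, T_z, T_yi, T_z, T_y, T_q, T_z, T_yi, T_z, T_q] M (Nat.sub (T_y u) (Nat.mod (T_y u) M)) (nat_lit 40) (Nat.mod (T_y u) M) u) (lF [T_q, T_y, T_y, T_q, T_y, T_q, T_yi, T_yi, T_q, T_yi, T_yi, T_yi, T_q, T_y, T_q] M (Nat.sub (T_y u) (Nat.mod (T_y u) M)) (Nat.mod (T_y u) M) u) (Nat.ble (nat_lit 189) j)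
noncomputable def dp_y_177 (j u : ℕ) : Bool :=
  Bool.rec (motive := fun _ => Bool) (lS MG [T_z, T_yi, T_q, T_z, T_q, T_y, T_q, T_yi, T_z, T_y, T_q, T_z, T_q, T_yi, T_q] M (Nat.sub (T_y u) (Nat.mod (T_y u) M)) (nat_lit 40) (Nat.mod (T_y u) M) u) (lF [T_q, T_yi, T_yi, T_q, T_yi, T_yi, T_yi, T_q, T_y, T_q, T_y, T_q, T_y, T_y, T_q] M (Nat.sub (T_y u) (Nat.mod (T_y u) M)) (Nat.mod (T_y u) M) u) (Nat.ble (nat_lit 191) j)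
noncomputable def dp_y_178 (j u : ℕ) : Bool :=
  Bool.rec (motive := fun _ => Bool) (dp_y_176 j u) (dp_y_177 j u) (Nat.ble (nat_lit 190) j)
noncomputable def dp_y_179 (j u : ℕ) : Bool :=
  Bool.rec (motive := fun _ => Bool) (dp_y_175 j u) (dp_y_178 j u) (Nat.ble (nat_lit 188) j)
noncomputable def dp_y_180 (j u : ℕ) : Bool :=
  Bool.rec (motive := fun _ => Bool) (dp_y_173 j u) (dp_y_179 j u) (Nat.ble (nat_lit 185) j)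
noncomputable def dp_y_181 (j u : ℕ) : Bool :=
  Bool.rec (motive := fun _ => Bool) (lF [T_q, T_yi, T_z, T_y, T_q, T_z, T_q, T_yi, T_q, T_y, T_z, T_yi, T_q, T_z, T_q] M (Nat.sub (T_y u) (Nat.mod (T_y u) M)) (Nat.mod (T_y u) M) u) (lS MG [T_q, T_y, T_y, T_y, T_q, T_y, T_y, T_y, T_q, T_yi, T_yi, T_yi, T_q, T_y, T_y] M (Nat.sub (T_y u) (Nat.mod (T_y u) M)) (nat_lit 40) (Nat.mod (T_y u) M) u) (Nat.ble (nat_lit 193) j)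
noncomputable def dp_y_182 (j u : ℕ) : Bool :=
  Bool.rec (motive := fun _ => Bool) (lF [T_q, T_z, T_q, T_yi, T_z, T_y, T_q, T_yi, T_q, T_z, T_q, T_y, T_z, T_yi, T_q] M (Nat.sub (T_y u) (Nat.mod (T_y u) M)) (Nat.mod (T_y u) M) u) (lS MG [T_q, T_y, T_q, T_y, T_z, T_q, T_z, T_y, T_q, T_y, T_q, T_y, T_z, T_q, T_z] M (Nat.sub (T_y u) (Nat.mod (T_y u) M)) (nat_lit 40) (Nat.mod (T_y u) M) u) (Nat.ble (nat_lit 195) j)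
noncomputable def dp_y_183 (j u : ℕ) : Bool :=
  Bool.rec (motive := fun _ => Bool) (dp_y_181 j u) (dp_y_182 j u) (Nat.ble (nat_lit 194) j)
noncomputable def dp_y_184 (j u : ℕ) : Bool :=
  Bool.rec (motive := fun _ => Bool) (lF [T_q, T_yi, T_yi, T_yi, T_q, T_yi, T_yi, T_q, T_y, T_q, T_y, T_y, T_q, T_y, T_q] M (Nat.sub (T_y u) (Nat.mod (T_y u) M)) (Nat.mod (T_y u) M) u) (lF [T_z, T_q, T_yi, T_q, T_z, T_q, T_y, T_q, T_z, T_yi, T_yi, T_q, T_z, T_yi, T_q, T_z, T_yi, T_z, T_y, T_z, T_q, T_y, T_z, T_q, T_y] M (Nat.sub (T_y u) (Nat.mod (T_y u) M)) (Nat.mod (T_y u) M) u) (Nat.ble (nat_lit 197) j)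
noncomputable def dp_y_185 (j u : ℕ) : Bool :=
  Bool.rec (motive := fun _ => Bool) (lF [T_y, T_q, T_y, T_y, T_y, T_q, T_yi, T_yi, T_yi, T_q, T_y, T_y, T_y, T_q, T_y] M (Nat.sub (T_y u) (Nat.mod (T_y u) M)) (Nat.mod (T_y u) M) u) (lF [T_z, T_q, T_z, T_yi, T_z, T_q, T_z, T_y, T_z, T_q, T_z, T_yi, T_z, T_q, T_z] M (Nat.sub (T_y u) (Nat.mod (T_y u) M)) (Nat.mod (T_y u) M) u) (Nat.ble (nat_lit 199) j)
noncomputable def dp_y_186 (j u : ℕ) : Bool :=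
  Bool.rec (motive := fun _ => Bool) (dp_y_184 j u) (dp_y_185 j u) (Nat.ble (nat_lit 198) j)
noncomputable def dp_y_187 (j u : ℕ) : Bool :=
  Bool.rec (motive := fun _ => Bool) (dp_y_183 j u) (dp_y_186 j u) (Nat.ble (nat_lit 196) j)
noncomputable def dp_y_188 (j u : ℕ) : Bool :=
  Bool.rec (motive := fun _ => Bool) (lS MG [T_z, T_yi, T_q, T_z, T_y, T_z, T_q, T_yi, T_z, T_y, T_z, T_q, T_yi, T_q, T_z] M (Nat.sub (T_y u) (Nat.mod (T_y u) M)) (nat_lit 40) (Nat.mod (T_y u) M) u) (lS MG [T_y, T_z, T_q, T_yi, T_q, T_z, T_q, T_y, T_q, T_z, T_yi, T_yi, T_q, T_z, T_yi, T_q, T_z, T_yi, T_z, T_y, T_z, T_q, T_y, T_z, T_q] M (Nat.sub (T_y u) (Nat.mod (T_y u) M)) (nat_lit 40) (Nat.mod (T_y u) M) u) (Nat.ble (nat_lit 201) j)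
noncomputable def dp_y_189 (j u : ℕ) : Bool :=
  Bool.rec (motive := fun _ => Bool) (lF [T_z, T_q, T_y, T_y, T_z, T_q, T_yi, T_q, T_z, T_q, T_y, T_q, T_z, T_yi, T_yi, T_q, T_z, T_yi, T_q, T_z, T_yi, T_z, T_y, T_z, T_q] M (Nat.sub (T_y u) (Nat.mod (T_y u) M)) (Nat.mod (T_y u) M) u) (lS MG [T_q, T_z, T_yi, T_z, T_y, T_z, T_q, T_yi, T_z, T_q, T_y, T_z, T_yi, T_q, T_z] M (Nat.sub (T_y u) (Nat.mod (T_y u) M)) (nat_lit 40) (Nat.mod (T_y u) M) u) (Nat.ble (nat_lit 203) j)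
noncomputable def dp_y_190 (j u : ℕ) : Bool :=
  Bool.rec (motive := fun _ => Bool) (dp_y_188 j u) (dp_y_189 j u) (Nat.ble (nat_lit 202) j)
noncomputable def dp_y_191 (j u : ℕ) : Bool :=
  Bool.rec (motive := fun _ => Bool) (lS MG [T_z, T_q, T_yi, T_z, T_y, T_z, T_q, T_yi, T_q, T_z, T_y, T_z, T_yi, T_q, T_z] M (Nat.sub (T_y u) (Nat.mod (T_y u) M)) (nat_lit 40) (Nat.mod (T_y u) M) u) (lS MG [T_q, T_yi, T_q, T_yi, T_yi, T_q, T_yi, T_q, T_yi, T_q, T_y, T_y, T_y, T_q, T_y] M (Nat.sub (T_y u) (Nat.mod (T_y u) M)) (nat_lit 40) (Nat.mod (T_y u) M) u) (Nat.ble (nat_lit 205) j)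
noncomputable def dp_y_192 (j u : ℕ) : Bool :=
  Bool.rec (motive := fun _ => Bool) (lS MG [T_q, T_z, T_y, T_z, T_yi, T_q, T_z, T_yi, T_yi, T_q, T_z, T_yi, T_z, T_y, T_q, T_z, T_y] M (Nat.sub (T_y u) (Nat.mod (T_y u) M)) (nat_lit 40) (Nat.mod (T_y u) M) u) (lF [T_q, T_z, T_yi, T_z, T_q, T_y, T_q, T_z, T_yi, T_z, T_q, T_y, T_q, T_z, T_yi, T_z, T_q] M (Nat.sub (T_y u) (Nat.mod (T_y u) M)) (Nat.mod (T_y u) M) u) (Nat.ble (nat_lit 208) j)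
noncomputable def dp_y_193 (j u : ℕ) : Bool :=
  Bool.rec (motive := fun _ => Bool) (lS MG [T_y, T_z, T_q, T_y, T_z, T_yi, T_z, T_q, T_yi, T_yi, T_z, T_q, T_yi, T_z, T_y, T_z, T_q] M (Nat.sub (T_y u) (Nat.mod (T_y u) M)) (nat_lit 40) (Nat.mod (T_y u) M) u) (dp_y_192 j u) (Nat.ble (nat_lit 207) j)
noncomputable def dp_y_194 (j u : ℕ) : Bool :=
  Bool.rec (motive := fun _ => Bool) (dp_y_191 j u) (dp_y_193 j u) (Nat.ble (nat_lit 206) j)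
noncomputable def dp_y_195 (j u : ℕ) : Bool :=
  Bool.rec (motive := fun _ => Bool) (dp_y_190 j u) (dp_y_194 j u) (Nat.ble (nat_lit 204) j)
noncomputable def dp_y_196 (j u : ℕ) : Bool :=
  Bool.rec (motive := fun _ => Bool) (dp_y_187 j u) (dp_y_195 j u) (Nat.ble (nat_lit 200) j)
noncomputable def dp_y_197 (j u : ℕ) : Bool :=
  Bool.rec (motive := fun _ => Bool) (dp_y_180 j u) (dp_y_196 j u) (Nat.ble (nat_lit 192) j)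
noncomputable def dp_y_198 (j u : ℕ) : Bool :=
  Bool.rec (motive := fun _ => Bool) (lS MG [T_y, T_q, T_yi, T_q, T_yi, T_yi, T_q, T_yi, T_q, T_yi, T_q, T_y, T_y, T_y, T_q] M (Nat.sub (T_y u) (Nat.mod (T_y u) M)) (nat_lit 40) (Nat.mod (T_y u) M) u) (lS MG [T_z, T_q, T_y, T_y, T_z, T_q, T_yi, T_q, T_z, T_q, T_y, T_q, T_z, T_yi, T_yi, T_q, T_z, T_yi, T_q, T_z, T_yi, T_z, T_y, T_z, T_q] M (Nat.sub (T_y u) (Nat.mod (T_y u) M)) (nat_lit 40) (Nat.mod (T_y u) M) u) (Nat.ble (nat_lit 210) j)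
noncomputable def dp_y_199 (j u : ℕ) : Bool :=
  Bool.rec (motive := fun _ => Bool) (lF [T_y, T_y, T_q, T_y, T_y, T_q, T_yi, T_q, T_yi, T_yi, T_q, T_yi, T_q, T_yi, T_q] M (Nat.sub (T_y u) (Nat.mod (T_y u) M)) (Nat.mod (T_y u) M) u) (lS MG [T_z, T_q, T_yi, T_q, T_z, T_y, T_z, T_q, T_yi, T_q, T_z, T_y, T_z, T_q, T_yi, T_q, T_z] M (Nat.sub (T_y u) (Nat.mod (T_y u) M)) (nat_lit 40) (Nat.mod (T_y u) M) u) (Nat.ble (nat_lit 213) j)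
noncomputable def dp_y_200 (j u : ℕ) : Bool :=
  Bool.rec (motive := fun _ => Bool) (lS MG [T_y, T_q, T_y, T_q, T_yi, T_yi, T_q, T_yi, T_yi, T_yi, T_q, T_y, T_q, T_y, T_q] M (Nat.sub (T_y u) (Nat.mod (T_y u) M)) (nat_lit 40) (Nat.mod (T_y u) M) u) (dp_y_199 j u) (Nat.ble (nat_lit 212) j)
noncomputable def dp_y_201 (j u : ℕ) : Bool :=
  Bool.rec (motive := fun _ => Bool) (dp_y_198 j u) (dp_y_200 j u) (Nat.ble (nat_lit 211) j)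
noncomputable def dp_y_202 (j u : ℕ) : Bool :=
  Bool.rec (motive := fun _ => Bool) (lS MG [T_q, T_yi, T_q, T_yi, T_q, T_yi, T_yi, T_q, T_yi, T_q, T_y, T_y, T_q, T_y, T_y] M (Nat.sub (T_y u) (Nat.mod (T_y u) M)) (nat_lit 40) (Nat.mod (T_y u) M) u) (lF [T_y, T_q, T_z, T_y, T_y, T_z, T_q, T_y, T_y, T_y, T_q, T_z, T_y, T_y, T_z, T_q, T_y, T_y, T_y, T_q, T_z, T_y, T_y, T_z, T_q, T_y] M (Nat.sub (T_y u) (Nat.mod (T_y u) M)) (Nat.mod (T_y u) M) u) (Nat.ble (nat_lit 215) j)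
noncomputable def dp_y_203 (j u : ℕ) : Bool :=
  Bool.rec (motive := fun _ => Bool) (lS MG [T_z, T_yi, T_z, T_q, T_yi, T_yi, T_z, T_q, T_yi, T_z, T_y, T_z, T_q, T_y, T_y, T_z, T_q] M (Nat.sub (T_y u) (Nat.mod (T_y u) M)) (nat_lit 40) (Nat.mod (T_y u) M) u) (lF [T_q, T_y, T_q, T_y, T_y, T_q, T_y, T_q, T_yi, T_yi, T_q, T_yi, T_yi, T_yi, T_q] M (Nat.sub (T_y u) (Nat.mod (T_y u) M)) (Nat.mod (T_y u) M) u) (Nat.ble (nat_lit 218) j)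
noncomputable def dp_y_204 (j u : ℕ) : Bool :=
  Bool.rec (motive := fun _ => Bool) (lS MG [T_q, T_z, T_y, T_y, T_q, T_z, T_y, T_z, T_yi, T_q, T_z, T_yi, T_yi, T_q, T_z, T_yi, T_z] M (Nat.sub (T_y u) (Nat.mod (T_y u) M)) (nat_lit 40) (Nat.mod (T_y u) M) u) (dp_y_203 j u) (Nat.ble (nat_lit 217) j)
noncomputable def dp_y_205 (j u : ℕ) : Bool :=
  Bool.rec (motive := fun _ => Bool) (dp_y_202 j u) (dp_y_204 j u) (Nat.ble (nat_lit 216) j)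
noncomputable def dp_y_206 (j u : ℕ) : Bool :=
  Bool.rec (motive := fun _ => Bool) (dp_y_201 j u) (dp_y_205 j u) (Nat.ble (nat_lit 214) j)
noncomputable def dp_y_207 (j u : ℕ) : Bool :=
  Bool.rec (motive := fun _ => Bool) (lS MG [T_q, T_y, T_q, T_yi, T_yi, T_yi, T_q, T_yi, T_yi, T_q, T_y, T_q, T_y, T_y, T_q] M (Nat.sub (T_y u) (Nat.mod (T_y u) M)) (nat_lit 40) (Nat.mod (T_y u) M) u) (lS MG [T_q, T_z, T_yi, T_z, T_q, T_y, T_q, T_z, T_yi, T_z, T_q, T_y, T_q, T_z, T_yi, T_z, T_q] M (Nat.sub (T_y u) (Nat.mod (T_y u) M)) (nat_lit 40) (Nat.mod (T_y u) M) u) (Nat.ble (nat_lit 221) j)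
noncomputable def dp_y_208 (j u : ℕ) : Bool :=
  Bool.rec (motive := fun _ => Bool) (lF [T_y, T_y, T_q, T_yi, T_yi, T_yi, T_q, T_y, T_y, T_y, T_q, T_y, T_y, T_y, T_q] M (Nat.sub (T_y u) (Nat.mod (T_y u) M)) (Nat.mod (T_y u) M) u) (dp_y_207 j u) (Nat.ble (nat_lit 220) j)
noncomputable def dp_y_209 (j u : ℕ) : Bool :=
  Bool.rec (motive := fun _ => Bool) (lS MG [T_z, T_yi, T_q, T_z, T_yi, T_yi, T_q, T_z, T_yi, T_z, T_y, T_q, T_z, T_y, T_y, T_q, T_z] M (Nat.sub (T_y u) (Nat.mod (T_y u) M)) (nat_lit 40) (Nat.mod (T_y u) M) u) (lS MG [T_z, T_yi, T_q, T_z, T_y, T_q, T_z, T_yi, T_z, T_y, T_z, T_q, T_yi, T_z, T_q] M (Nat.sub (T_y u) (Nat.mod (T_y u) M)) (nat_lit 40) (Nat.mod (T_y u) M) u) (Nat.ble (nat_lit 224) j)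
noncomputable def dp_y_210 (j u : ℕ) : Bool :=
  Bool.rec (motive := fun _ => Bool) (lS MG [T_z, T_q, T_y, T_y, T_z, T_q, T_y, T_z, T_yi, T_z, T_q, T_yi, T_yi, T_z, T_q, T_yi, T_z] M (Nat.sub (T_y u) (Nat.mod (T_y u) M)) (nat_lit 40) (Nat.mod (T_y u) M) u) (dp_y_209 j u) (Nat.ble (nat_lit 223) j)
noncomputable def dp_y_211 (j u : ℕ) : Bool :=
  Bool.rec (motive := fun _ => Bool) (dp_y_208 j u) (dp_y_210 j u) (Nat.ble (nat_lit 222) j)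
noncomputable def dp_y_212 (j u : ℕ) : Bool :=
  Bool.rec (motive := fun _ => Bool) (lS MG [T_q, T_y, T_z, T_q, T_z, T_y, T_q, T_y, T_q, T_y, T_z, T_q, T_z, T_y, T_q] M (Nat.sub (T_y u) (Nat.mod (T_y u) M)) (nat_lit 40) (Nat.mod (T_y u) M) u) (lS MG [T_y, T_q, T_y, T_y, T_q, T_yi, T_q, T_yi, T_yi, T_q, T_yi, T_q, T_yi, T_q, T_y] M (Nat.sub (T_y u) (Nat.mod (T_y u) M)) (nat_lit 40) (Nat.mod (T_y u) M) u) (Nat.ble (nat_lit 227) j)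
noncomputable def dp_y_213 (j u : ℕ) : Bool :=
  Bool.rec (motive := fun _ => Bool) (lS MG [T_z, T_q, T_yi, T_z, T_q, T_y, T_z, T_yi, T_q, T_z, T_y, T_q, T_z, T_yi, T_z] M (Nat.sub (T_y u) (Nat.mod (T_y u) M)) (nat_lit 40) (Nat.mod (T_y u) M) u) (dp_y_212 j u) (Nat.ble (nat_lit 226) j)
noncomputable def dp_y_214 (j u : ℕ) : Bool :=
  Bool.rec (motive := fun _ => Bool) (lF [T_q, T_yi, T_yi, T_yi, T_q, T_y, T_y, T_y, T_q, T_y, T_y, T_y, T_q, T_y, T_y] M (Nat.sub (T_y u) (Nat.mod (T_y u) M)) (Nat.mod (T_y u) M) u) (lS MG [T_q, T_y, T_y, T_q, T_yi, T_q, T_yi, T_yi, T_q, T_yi, T_q, T_yi, T_q, T_y, T_y] M (Nat.sub (T_y u) (Nat.mod (T_y u) M)) (nat_lit 40) (Nat.mod (T_y u) M) u) (Nat.ble (nat_lit 230) j)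
noncomputable def dp_y_215 (j u : ℕ) : Bool :=
  Bool.rec (motive := fun _ => Bool) (lS MG [T_q, T_z, T_yi, T_z, T_y, T_q, T_z, T_yi, T_z, T_q, T_y, T_z, T_yi, T_z, T_q] M (Nat.sub (T_y u) (Nat.mod (T_y u) M)) (nat_lit 40) (Nat.mod (T_y u) M) u) (dp_y_214 j u) (Nat.ble (nat_lit 229) j)
noncomputable def dp_y_216 (j u : ℕ) : Bool :=
  Bool.rec (motive := fun _ => Bool) (dp_y_213 j u) (dp_y_215 j u) (Nat.ble (nat_lit 228) j)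
noncomputable def dp_y_217 (j u : ℕ) : Bool :=
  Bool.rec (motive := fun _ => Bool) (dp_y_211 j u) (dp_y_216 j u) (Nat.ble (nat_lit 225) j)
noncomputable def dp_y_218 (j u : ℕ) : Bool :=
  Bool.rec (motive := fun _ => Bool) (dp_y_206 j u) (dp_y_217 j u) (Nat.ble (nat_lit 219) j)
noncomputable def dp_y_219 (j u : ℕ) : Bool :=
  Bool.rec (motive := fun _ => Bool) (lS MG [T_q, T_z, T_y, T_y, T_z, T_q, T_y, T_y, T_y, T_q, T_z, T_y, T_y, T_z, T_q, T_y, T_y, T_y, T_q, T_z, T_y, T_y, T_z, T_q, T_y, T_y] M (Nat.sub (T_y u) (Nat.mod (T_y u) M)) (nat_lit 40) (Nat.mod (T_y u) M) u) (lF [T_y, T_z, T_q, T_yi, T_q, T_z, T_q, T_y, T_q, T_z, T_yi, T_yi, T_q, T_z, T_yi, T_q, T_z, T_yi, T_z, T_y, T_z, T_q, T_y, T_z, T_q] M (Nat.sub (T_y u) (Nat.mod (T_y u) M)) (Nat.mod (T_y u) M) u) (Nat.ble (nat_lit 233) j)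
noncomputable def dp_y_220 (j u : ℕ) : Bool :=
  Bool.rec (motive := fun _ => Bool) (lS MG [T_z, T_q, T_yi, T_q, T_z, T_q, T_y, T_q, T_z, T_yi, T_yi, T_q, T_z, T_yi, T_q, T_z, T_yi, T_z, T_y, T_z, T_q, T_y, T_z, T_q, T_y] M (Nat.sub (T_y u) (Nat.mod (T_y u) M)) (nat_lit 40) (Nat.mod (T_y u) M) u) (dp_y_219 j u) (Nat.ble (nat_lit 232) j)
noncomputable def dp_y_221 (j u : ℕ) : Bool :=
  Bool.rec (motive := fun _ => Bool) (lS MG [T_y, T_q, T_y, T_y, T_y, T_q, T_y, T_y, T_y, T_q, T_yi, T_yi, T_yi, T_q, T_y] M (Nat.sub (T_y u) (Nat.mod (T_y u) M)) (nat_lit 40) (Nat.mod (T_y u) M) u) (lS MG [T_y, T_q, T_z, T_y, T_y, T_z, T_q, T_y, T_y, T_y, T_q, T_z, T_y, T_y, T_z, T_q, T_y, T_y, T_y, T_q, T_z, T_y, T_y, T_z, T_q, T_y] M (Nat.sub (T_y u) (Nat.mod (T_y u) M)) (nat_lit 40) (Nat.mod (T_y u) M) u) (Nat.ble (nat_lit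 235) j)
noncomputable def dp_y_222 (j u : ℕ) : Bool :=
  Bool.rec (motive := fun _ => Bool) (lS MG [T_q, T_z, T_q, T_yi, T_z, T_y, T_q, T_yi, T_q, T_z, T_q, T_y, T_z, T_yi, T_q] M (Nat.sub (T_y u) (Nat.mod (T_y u) M)) (nat_lit 40) (Nat.mod (T_y u) M) u) (lS MG [T_y, T_y, T_q, T_y, T_y, T_y, T_q, T_y, T_y, T_y, T_q, T_yi, T_yi, T_yi, T_q] M (Nat.sub (T_y u) (Nat.mod (T_y u) M)) (nat_lit 40) (Nat.mod (T_y u) M) u) (Nat.ble (nat_lit 237) j)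
noncomputable def dp_y_223 (j u : ℕ) : Bool :=
  Bool.rec (motive := fun _ => Bool) (dp_y_221 j u) (dp_y_222 j u) (Nat.ble (nat_lit 236) j)
noncomputable def dp_y_224 (j u : ℕ) : Bool :=
  Bool.rec (motive := fun _ => Bool) (dp_y_220 j u) (dp_y_223 j u) (Nat.ble (nat_lit 234) j)
noncomputable def dp_y_225 (j u : ℕ) : Bool :=
  Bool.rec (motive := fun _ => Bool) (lS MG [T_y, T_y, T_q, T_z, T_y, T_y, T_z, T_q, T_y, T_y, T_y, T_q, T_z, T_y, T_y, T_z, T_q, T_y, T_y, T_y, T_q, T_z, T_y, T_y, T_z, T_q] M (Nat.sub (T_y u) (Nat.mod (T_y u) M)) (nat_lit 40) (Nat.mod (T_y u) M) u) (lS MG [T_q, T_y, T_y, T_q, T_y, T_q, T_yi, T_yi, T_q, T_yi, T_yi, T_yi, T_q, T_y, T_q] M (Nat.sub (T_y u) (Nat.mod (T_y u) M)) (nat_lit 40) (Nat.mod (T_y u) M) u) (Nat.ble (nat_lit 239) j)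
noncomputable def dp_y_226 (j u : ℕ) : Bool :=
  Bool.rec (motive := fun _ => Bool) (lF [T_y, T_y, T_q, T_z, T_y, T_y, T_z, T_q, T_y, T_y, T_y, T_q, T_z, T_y, T_y, T_z, T_q, T_y, T_y, T_y, T_q, T_z, T_y, T_y, T_z, T_q] M (Nat.sub (T_y u) (Nat.mod (T_y u) M)) (Nat.mod (T_y u) M) u) (lS MG [T_q, T_yi, T_yi, T_yi, T_q, T_yi, T_yi, T_q, T_y, T_q, T_y, T_y, T_q, T_y, T_q] M (Nat.sub (T_y u) (Nat.mod (T_y u) M)) (nat_lit 40) (Nat.mod (T_y u) M) u) (Nat.ble (nat_lit 241) j)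
noncomputable def dp_y_227 (j u : ℕ) : Bool :=
  Bool.rec (motive := fun _ => Bool) (dp_y_225 j u) (dp_y_226 j u) (Nat.ble (nat_lit 240) j)
noncomputable def dp_y_228 (j u : ℕ) : Bool :=
  Bool.rec (motive := fun _ => Bool) (lS MG [T_y, T_y, T_q, T_y, T_y, T_y, T_q, T_yi, T_yi, T_yi, T_q, T_y, T_y, T_y, T_q] M (Nat.sub (T_y u) (Nat.mod (T_y u) M)) (nat_lit 40) (Nat.mod (T_y u) M) u) (lS MG [T_q, T_yi, T_yi, T_q, T_yi, T_yi, T_yi, T_q, T_y, T_q, T_y, T_q, T_y, T_y, T_q] M (Nat.sub (T_y u) (Nat.mod (T_y u) M)) (nat_lit 40) (Nat.mod (T_y u) M) u) (Nat.ble (nat_lit 243) j)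
noncomputable def dp_y_229 (j u : ℕ) : Bool :=
  Bool.rec (motive := fun _ => Bool) (lS MG [T_y, T_y, T_q, T_y, T_y, T_q, T_yi, T_q, T_yi, T_yi, T_q, T_yi, T_q, T_yi, T_q] M (Nat.sub (T_y u) (Nat.mod (T_y u) M)) (nat_lit 40) (Nat.mod (T_y u) M) u) (lF [T_y, T_q, T_yi, T_yi, T_yi, T_q, T_y, T_y, T_y, T_q, T_y, T_y, T_y, T_q, T_y] M (Nat.sub (T_y u) (Nat.mod (T_y u) M)) (Nat.mod (T_y u) M) u) (Nat.ble (nat_lit 245) j)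
noncomputable def dp_y_230 (j u : ℕ) : Bool :=
  Bool.rec (motive := fun _ => Bool) (dp_y_228 j u) (dp_y_229 j u) (Nat.ble (nat_lit 244) j)
noncomputable def dp_y_231 (j u : ℕ) : Bool :=
  Bool.rec (motive := fun _ => Bool) (dp_y_227 j u) (dp_y_230 j u) (Nat.ble (nat_lit 242) j)
noncomputable def dp_y_232 (j u : ℕ) : Bool :=
  Bool.rec (motive := fun _ => Bool) (dp_y_224 j u) (dp_y_231 j u) (Nat.ble (nat_lit 238) j)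
noncomputable def dp_y_233 (j u : ℕ) : Bool :=
  Bool.rec (motive := fun _ => Bool) (lS MG [T_v, T_q, T_z, T_q, T_z, T_yi, T_z, T_q, T_z, T_q, T_v] M (Nat.sub (T_y u) (Nat.mod (T_y u) M)) (nat_lit 40) (Nat.mod (T_y u) M) u) (lS MG [T_y, T_q, T_y, T_y, T_y, T_q, T_yi, T_yi, T_yi, T_q, T_y, T_y, T_y, T_q, T_y] M (Nat.sub (T_y u) (Nat.mod (T_y u) M)) (nat_lit 40) (Nat.mod (T_y u) M) u) (Nat.ble (nat_lit 247) j)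
noncomputable def dp_y_234 (j u : ℕ) : Bool :=
  Bool.rec (motive := fun _ => Bool) (lS MG [T_z, T_q, T_y, T_z, T_q, T_y, T_y, T_y, T_z, T_q, T_y, T_z, T_q, T_y, T_y, T_y, T_z, T_q, T_y, T_z, T_q, T_y, T_y, T_y, T_z, T_q, T_y, T_z, T_q, T_y, T_y] M (Nat.sub (T_y u) (Nat.mod (T_y u) M)) (nat_lit 40) (Nat.mod (T_y u) M) u) (lF [T_z, T_q, T_y, T_y, T_y, T_z, T_q, T_y, T_z, T_q, T_y, T_y, T_y, T_z, T_q, T_y, T_z, T_q, T_y, T_y, T_y, T_z, T_q, T_y, T_z, T_q, T_y, T_y, T_y, T_z, T_q] M (Nat.sub (T_y u) (Nat.mod (T_y u) M)) (Nat.mod (T_y u) M) u) (Nat.ble (nat_lit 250) j)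
noncomputable def dp_y_235 (j u : ℕ) : Bool :=
  Bool.rec (motive := fun _ => Bool) (lS MG [T_q, T_y, T_y, T_y, T_q, T_yi, T_yi, T_yi, T_q, T_y, T_y, T_y, T_q, T_y, T_y] M (Nat.sub (T_y u) (Nat.mod (T_y u) M)) (nat_lit 40) (Nat.mod (T_y u) M) u) (dp_y_234 j u) (Nat.ble (nat_lit 249) j)
noncomputable def dp_y_236 (j u : ℕ) : Bool :=
  Bool.rec (motive := fun _ => Bool) (dp_y_233 j u) (dp_y_235 j u) (Nat.ble (nat_lit 248) j)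
noncomputable def dp_y_237 (j u : ℕ) : Bool :=
  Bool.rec (motive := fun _ => Bool) (lS MG [T_y, T_z, T_q, T_y, T_z, T_q, T_y, T_y, T_y, T_z, T_q, T_y, T_z, T_q, T_y, T_y, T_y, T_z, T_q, T_y, T_z, T_q, T_y, T_y, T_y, T_z, T_q, T_y, T_z, T_q, T_y] M (Nat.sub (T_y u) (Nat.mod (T_y u) M)) (nat_lit 40) (Nat.mod (T_y u) M) u) (lF [T_z, T_q, T_y, T_z, T_q, T_y, T_y, T_y, T_z, T_q, T_y, T_z, T_q, T_y, T_y, T_y, T_z, T_q, T_y, T_z, T_q, T_y, T_y, T_y, T_z, T_q, T_y, T_z, T_q, T_y, T_y] M (Nat.sub (T_y u) (Nat.mod (T_y u) M)) (Nat.mod (T_y u) M) u) (Nat.ble (nat_lit 252) j)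
noncomputable def dp_y_238 (j u : ℕ) : Bool :=
  Bool.rec (motive := fun _ => Bool) (lF [T_z, T_q, T_y, T_z, T_q, T_y, T_y, T_z, T_q, T_yi, T_q, T_z, T_q, T_y, T_q, T_z, T_yi, T_yi, T_q, T_z, T_yi, T_q, T_z, T_yi, T_z] M (Nat.sub (T_y u) (Nat.mod (T_y u) M)) (Nat.mod (T_y u) M) u) (lS MG [T_z, T_q, T_y, T_y, T_y, T_z, T_q, T_y, T_z, T_q, T_y, T_y, T_y, T_z, T_q, T_y, T_z, T_q, T_y, T_y, T_y, T_z, T_q, T_y, T_z, T_q, T_y, T_y, T_y, T_z, T_q] M (Nat.sub (T_y u) (Nat.mod (T_y u) M)) (nat_lit 40) (Nat.mod (T_y u) M) u) (Nat.ble (nat_lit 255) j)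
noncomputable def dp_y_239 (j u : ℕ) : Bool :=
  Bool.rec (motive := fun _ => Bool) (lS MG [T_q, T_yi, T_z, T_y, T_q, T_z, T_q, T_yi, T_q, T_y, T_z, T_yi, T_q, T_z, T_q] M (Nat.sub (T_y u) (Nat.mod (T_y u) M)) (nat_lit 40) (Nat.mod (T_y u) M) u) (dp_y_238 j u) (Nat.ble (nat_lit 254) j)
noncomputable def dp_y_240 (j u : ℕ) : Bool :=
  Bool.rec (motive := fun _ => Bool) (dp_y_237 j u) (dp_y_239 j u) (Nat.ble (nat_lit 253) j)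
noncomputable def dp_y_241 (j u : ℕ) : Bool :=
  Bool.rec (motive := fun _ => Bool) (dp_y_236 j u) (dp_y_240 j u) (Nat.ble (nat_lit 251) j)
noncomputable def dp_y_242 (j u : ℕ) : Bool :=
  Bool.rec (motive := fun _ => Bool) (lF [T_y, T_z, T_q, T_y, T_z, T_q, T_y, T_y, T_y, T_z, T_q, T_y, T_z, T_q, T_y, T_y, T_y, T_z, T_q, T_y, T_z, T_q, T_y, T_y, T_y, T_z, T_q, T_y, T_z, T_q, T_y] M (Nat.sub (T_y u) (Nat.mod (T_y u) M)) (Nat.mod (T_y u) M) u) (lS MG [T_q, T_y, T_q, T_y, T_y, T_q, T_y, T_q, T_yi, T_yi, T_q, T_yi, T_yi, T_yi, T_q] M (Nat.sub (T_y u) (Nat.mod (T_y u) M)) (nat_lit 40) (Nat.mod (T_y u) M) u) (Nat.ble (nat_lit 258) j)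
noncomputable def dp_y_243 (j u : ℕ) : Bool :=
  Bool.rec (motive := fun _ => Bool) (lF [T_q, T_z, T_y, T_y, T_z, T_q, T_y, T_y, T_y, T_q, T_z, T_y, T_y, T_z, T_q, T_y, T_y, T_y, T_q, T_z, T_y, T_y, T_z, T_q, T_y, T_y] M (Nat.sub (T_y u) (Nat.mod (T_y u) M)) (Nat.mod (T_y u) M) u) (dp_y_242 j u) (Nat.ble (nat_lit 257) j)
noncomputable def dp_y_244 (j u : ℕ) : Bool :=
  Bool.rec (motive := fun _ => Bool) (lS MG [T_z, T_q, T_z, T_yi, T_z, T_q, T_z, T_y, T_z, T_q, T_z, T_yi, T_z, T_q, T_z] M (Nat.sub (T_y u) (Nat.mod (T_y u) M)) (nat_lit 40) (Nat.mod (T_y u) M) u) (lS MG [T_z, T_q, T_y, T_z, T_q, T_y, T_y, T_z, T_q, T_yi, T_q, T_z, T_q, T_y, T_q, T_z, T_yi, T_yi, T_q, T_z, T_yi, T_q, T_z, T_yi, T_z] M (Nat.sub (T_y u) (Nat.mod (T_y u) M)) (nat_lit 40) (Nat.mod (T_y u) M) u) (Nat.ble (nat_lit 261) j)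
noncomputable def dp_y_245 (j u : ℕ) : Bool :=
  Bool.rec (motive := fun _ => Bool) (lS MG [T_y, T_y, T_q, T_yi, T_yi, T_yi, T_q, T_y, T_y, T_y, T_q, T_y, T_y, T_y, T_q] M (Nat.sub (T_y u) (Nat.mod (T_y u) M)) (nat_lit 40) (Nat.mod (T_y u) M) u) (dp_y_244 j u) (Nat.ble (nat_lit 260) j)
noncomputable def dp_y_246 (j u : ℕ) : Bool :=
  Bool.rec (motive := fun _ => Bool) (dp_y_243 j u) (dp_y_245 j u) (Nat.ble (nat_lit 259) j)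
noncomputable def dp_y_247 (j u : ℕ) : Bool :=
  Bool.rec (motive := fun _ => Bool) (lS MG [T_q, T_yi, T_yi, T_yi, T_q, T_y, T_y, T_y, T_q, T_y, T_y, T_y, T_q, T_y, T_y] M (Nat.sub (T_y u) (Nat.mod (T_y u) M)) (nat_lit 40) (Nat.mod (T_y u) M) u) (lF [T_q, T_z, T_yi, T_yi, T_q, T_z, T_yi, T_q, T_z, T_yi, T_z, T_y, T_z, T_q, T_y, T_z, T_q, T_y, T_y, T_z, T_q, T_yi, T_q, T_z, T_q] M (Nat.sub (T_y u) (Nat.mod (T_y u) M)) (Nat.mod (T_y u) M) u) (Nat.ble (nat_lit 264) j)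
noncomputable def dp_y_248 (j u : ℕ) : Bool :=
  Bool.rec (motive := fun _ => Bool) (lS MG [T_y, T_y, T_z, T_q, T_y, T_z, T_q, T_y, T_y, T_y, T_z, T_q, T_y, T_z, T_q, T_y, T_y, T_y, T_z, T_q, T_y, T_z, T_q, T_y, T_y, T_y, T_z, T_q, T_y, T_z, T_q] M (Nat.sub (T_y u) (Nat.mod (T_y u) M)) (nat_lit 40) (Nat.mod (T_y u) M) u) (dp_y_247 j u) (Nat.ble (nat_lit 263) j)
noncomputable def dp_y_249 (j u : ℕ) : Bool :=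
  Bool.rec (motive := fun _ => Bool) (lF [T_y, T_y, T_z, T_q, T_y, T_z, T_q, T_y, T_y, T_y, T_z, T_q, T_y, T_z, T_q, T_y, T_y, T_y, T_z, T_q, T_y, T_z, T_q, T_y, T_y, T_y, T_z, T_q, T_y, T_z, T_q] M (Nat.sub (T_y u) (Nat.mod (T_y u) M)) (Nat.mod (T_y u) M) u) (lS MG [T_q, T_z, T_yi, T_yi, T_q, T_z, T_yi, T_q, T_z, T_yi, T_z, T_y, T_z, T_q, T_y, T_z, T_q, T_y, T_y, T_z, T_q, T_yi, T_q, T_z, T_q] M (Nat.sub (T_y u) (Nat.mod (T_y u) M)) (nat_lit 40) (Nat.mod (T_y u) M) u) (Nat.ble (nat_lit 266) j)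
noncomputable def dp_y_250 (j u : ℕ) : Bool :=
  Bool.rec (motive := fun _ => Bool) (lS MG [T_y, T_y, T_z, T_q, T_y, T_z, T_q, T_y, T_z, T_q, T_z, T_yi, T_q, T_z, T_yi, T_q, T_z, T_yi, T_yi, T_yi, T_z, T_y, T_y, T_y, T_z, T_q, T_y, T_z, T_q, T_y, T_z, T_q, T_yi, T_q, T_z, T_yi, T_q, T_z, T_yi, T_yi, T_yi, T_z, T_y, T_y, T_y, T_z, T_q, T_y, T_z, T_q, T_y, T_z, T_q, T_yi, T_q, T_z, T_yi, T_q, T_z, T_yi, T_yi, T_yi, T_z] M (Nat.sub (T_y u) (Nat.mod (T_y u) M)) (nat_lit 40) (Nat.mod (T_y u) M) u) (lS MG [T_y, T_z, T_q, T_y, T_z, T_q, T_y, T_z, T_q, T_yi, T_q, T_z, T_yi, T_q, T_z, T_yi, T_yi, T_yi, T_z, T_y, T_y, T_y, T_z, T_q, T_y, T_z, T_q, T_y, T_z, T_q, T_z, T_yi, T_q, T_z, T_yi, T_q, T_z, T_yi, T_yi, T_yi, T_z, T_y, T_y, T_y, T_z, T_q, T_y, T_z, T_q, T_y, T_z, T_q, T_yi, T_q, T_z, T_yi, T_q, T_z, T_yi, T_yi,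 T_yi, T_z, T_y] M (Nat.sub (T_y u) (Nat.mod (T_y u) M)) (nat_lit 40) (Nat.mod (T_y u) M) u) (Nat.ble (nat_lit 268) j)
noncomputable def dp_y_251 (j u : ℕ) : Bool :=
  Bool.rec (motive := fun _ => Bool) (dp_y_249 j u) (dp_y_250 j u) (Nat.ble (nat_lit 267) j)
noncomputable def dp_y_252 (j u : ℕ) : Bool :=
  Bool.rec (motive := fun _ => Bool) (dp_y_248 j u) (dp_y_251 j u) (Nat.ble (nat_lit 265) j)
noncomputable def dp_y_253 (j u : ℕ) : Bool :=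
  Bool.rec (motive := fun _ => Bool) (lS MG [T_y, T_y, T_z, T_q, T_y, T_z, T_q, T_y, T_z, T_q, T_yi, T_q, T_z, T_yi, T_q, T_z, T_yi, T_yi, T_yi, T_z, T_y, T_y, T_y, T_z, T_q, T_y, T_z, T_q, T_y, T_z, T_q, T_yi, T_q, T_z, T_yi, T_q, T_z, T_yi, T_yi, T_yi, T_z, T_y, T_y, T_y, T_z, T_q, T_y, T_z, T_q, T_y, T_z, T_q, T_z, T_yi, T_q, T_z, T_yi, T_q, T_z, T_yi, T_yi, T_yi, T_z] M (Nat.sub (T_y u) (Nat.mod (T_y u) M)) (nat_lit 40) (Nat.mod (T_y u) M) u) (lS MG [T_y, T_y, T_z, T_q, T_y, T_z, T_q, T_y, T_q, T_z, T_yi, T_q, T_z, T_yi, T_q, T_z, T_yi, T_yi, T_yi, T_z, T_y, T_y, T_y, T_z, T_q, T_y, T_z, T_q, T_y, T_q, T_z, T_yi, T_q, T_z, T_yi, T_q, T_z, T_yi, T_yi, T_yi, T_z, T_y, T_y, T_y, T_z, T_q, T_y, T_z, T_q, T_y, T_z, T_q, T_z, T_yi, T_q, T_z, T_yi, T_q, T_z, T_yi, T_yi, T_yi, T_z] M (Nat.sub (T_y u) (Nat.mod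 (T_y u) M)) (nat_lit 40) (Nat.mod (T_y u) M) u) (Nat.ble (nat_lit 271) j)
noncomputable def dp_y_254 (j u : ℕ) : Bool :=
  Bool.rec (motive := fun _ => Bool) (lS MG [T_y, T_y, T_z, T_q, T_y, T_z, T_q, T_y, T_z, T_q, T_yi, T_q, T_z, T_yi, T_q, T_z, T_yi, T_yi, T_yi, T_z, T_y, T_y, T_y, T_z, T_q, T_y, T_z, T_q, T_y, T_z, T_q, T_z, T_yi, T_q, T_z, T_yi, T_q, T_z, T_yi, T_yi, T_yi, T_z, T_y, T_y, T_y, T_z, T_q, T_y, T_z, T_q, T_y, T_z, T_q, T_yi, T_q, T_z, T_yi, T_q, T_z, T_yi, T_yi, T_yi, T_z] M (Nat.sub (T_y u) (Nat.mod (T_y u) M)) (nat_lit 40) (Nat.mod (T_y u) M) u) (dp_y_253 j u) (Nat.ble (nat_lit 270) j)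
noncomputable def dp_y_255 (j u : ℕ) : Bool :=
  Bool.rec (motive := fun _ => Bool) (lS MG [T_y, T_z, T_q, T_y, T_z, T_q, T_y, T_z, T_q, T_yi, T_q, T_z, T_yi, T_q, T_z, T_yi, T_yi, T_yi, T_z, T_y, T_y, T_y, T_z, T_q, T_y, T_z, T_q, T_y, T_z, T_q, T_yi, T_q, T_z, T_yi, T_q, T_z, T_yi, T_yi, T_yi, T_z, T_y, T_y, T_y, T_z, T_q, T_y, T_z, T_q, T_y, T_z, T_q, T_z, T_yi, T_q, T_z, T_yi, T_q, T_z, T_yi, T_yi, T_yi, T_z, T_y] M (Nat.sub (T_y u) (Nat.mod (T_y u) M)) (nat_lit 40) (Nat.mod (T_y u) M) u) (lS MG [T_z, T_q, T_y, T_z, T_q, T_y, T_z, T_q, T_yi, T_q, T_z, T_yi, T_q, T_z, T_yi, T_yi, T_yi, T_z, T_y, T_y, T_y, T_z, T_q, T_y, T_z, T_q, T_y, T_z, T_q, T_yi, T_q, T_z, T_yi, T_q, T_z, T_yi, T_yi, T_yi, T_z, T_y, T_y, T_y, T_z, T_q, T_y, T_z, T_q, T_y, T_z, T_q, T_z, T_yi, T_q, T_z, T_yi, T_q, T_z, T_yi, T_yi, T_yi,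 T_z, T_y, T_y] M (Nat.sub (T_y u) (Nat.mod (T_y u) M)) (nat_lit 40) (Nat.mod (T_y u) M) u) (Nat.ble (nat_lit 273) j)
noncomputable def dp_y_256 (j u : ℕ) : Bool :=
  Bool.rec (motive := fun _ => Bool) (lS MG [T_y, T_q, T_yi, T_yi, T_yi, T_q, T_y, T_y, T_y, T_q, T_y, T_y, T_y, T_q, T_y] M (Nat.sub (T_y u) (Nat.mod (T_y u) M)) (nat_lit 40) (Nat.mod (T_y u) M) u) (lF [T_y, T_y, T_z, T_q, T_y, T_z, T_q, T_y, T_z, T_q, T_yi, T_q, T_z, T_yi, T_q, T_z, T_yi, T_yi, T_yi, T_z, T_y, T_y, T_y, T_z, T_q, T_y, T_z, T_q, T_y, T_z, T_q, T_yi, T_q, T_z, T_yi, T_q, T_z, T_yi, T_yi, T_yi, T_z, T_y, T_y, T_y, T_z, T_q, T_y, T_z, T_q, T_y, T_z, T_q, T_z, T_yi, T_q, T_z, T_yi, T_q, T_z, T_yi, T_yi, T_yi, T_z] M (Nat.sub (T_y u) (Nat.mod (T_y u) M)) (Nat.mod (T_y u) M) u) (Nat.ble (nat_lit 276) j)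
noncomputable def dp_y_257 (j u : ℕ) : Bool :=
  Bool.rec (motive := fun _ => Bool) (lF [T_y, T_y, T_z, T_q, T_y, T_z, T_q, T_y, T_z, T_q, T_yi, T_q, T_z, T_yi, T_q, T_z, T_yi, T_yi, T_yi, T_z, T_y, T_y, T_y, T_z, T_q, T_y, T_z, T_q, T_y, T_z, T_q, T_z, T_yi, T_q, T_z, T_yi, T_q, T_z, T_yi, T_yi, T_yi, T_z, T_y, T_y, T_y, T_z, T_q, T_y, T_z, T_q, T_y, T_z, T_q, T_yi, T_q, T_z, T_yi, T_q, T_z, T_yi, T_yi, T_yi, T_z] M (Nat.sub (T_y u) (Nat.mod (T_y u) M)) (Nat.mod (T_y u) M) u) (dp_y_256 j u) (Nat.ble (nat_lit 275) j)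
noncomputable def dp_y_258 (j u : ℕ) : Bool :=
  Bool.rec (motive := fun _ => Bool) (dp_y_255 j u) (dp_y_257 j u) (Nat.ble (nat_lit 274) j)
noncomputable def dp_y_259 (j u : ℕ) : Bool :=
  Bool.rec (motive := fun _ => Bool) (dp_y_254 j u) (dp_y_258 j u) (Nat.ble (nat_lit 272) j)
noncomputable def dp_y_260 (j u : ℕ) : Bool :=
  Bool.rec (motive := fun _ => Bool) (lS MG [T_z, T_q, T_y, T_z, T_q, T_yi, T_q, T_z, T_yi, T_q, T_z, T_yi, T_yi, T_yi, T_z, T_y, T_y, T_y, T_z, T_q, T_y, T_z, T_q, T_y, T_z, T_q, T_z, T_yi, T_q, T_z, T_yi, T_q, T_z, T_yi, T_yi, T_yi, T_z, T_y, T_y, T_y, T_z, T_q, T_y, T_z, T_q, T_y, T_z, T_q, T_yi, T_q, T_z, T_yi, T_q, T_z, T_yi, T_yi, T_yi, T_z, T_y, T_y, T_y, T_z, T_q] M (Nat.sub (T_y u) (Nat.mod (T_y u) M)) (nat_lit 40) (Nat.mod (T_y u) M) u) (lS MG [T_y, T_z, T_q, T_y, T_z, T_q, T_y,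 T_z, T_q, T_z, T_yi, T_q, T_z, T_yi, T_q, T_z, T_yi, T_yi, T_yi, T_z, T_y, T_y, T_y, T_z, T_q, T_y, T_z, T_q, T_y, T_z, T_q, T_yi, T_q, T_z, T_yi, T_q, T_z, T_yi, T_yi, T_yi, T_z, T_y, T_y, T_y, T_z, T_q, T_y, T_z, T_q, T_y, T_z, T_q, T_yi, T_q, T_z, T_yi, T_q, T_z, T_yi, T_yi, T_yi, T_z, T_y] M (Nat.sub (T_y u) (Nat.mod (T_y u) M)) (nat_lit 40) (Nat.mod (T_y u) M) u) (Nat.ble (nat_lit 279) j)
noncomputable def dp_y_261 (j u : ℕ) : Bool :=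
  Bool.rec (motive := fun _ => Bool) (lS MG [T_y, T_y, T_z, T_q, T_y, T_z, T_q, T_y, T_q, T_z, T_yi, T_q, T_z, T_yi, T_q, T_z, T_yi, T_yi, T_yi, T_z, T_y, T_y, T_y, T_z, T_q, T_y, T_z, T_q, T_y, T_z, T_q, T_z, T_yi, T_q, T_z, T_yi, T_q, T_z, T_yi, T_yi, T_yi, T_z, T_y, T_y, T_y, T_z, T_q, T_y, T_z, T_q, T_y, T_q, T_z, T_yi, T_q, T_z, T_yi, T_q, T_z, T_yi, T_yi, T_yi, T_z] M (Nat.sub (T_y u) (Nat.mod (T_y u) M)) (nat_lit 40) (Nat.mod (T_y u) M) u) (dp_y_260 j u) (Nat.ble (nat_lit 278) j)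
noncomputable def dp_y_262 (j u : ℕ) : Bool :=
  Bool.rec (motive := fun _ => Bool) (lS MG [T_y, T_y, T_z, T_q, T_y, T_z, T_q, T_y, T_z, T_q, T_z, T_yi, T_q, T_z, T_yi, T_q, T_z, T_yi, T_yi, T_yi, T_z, T_y, T_y, T_y, T_z, T_q, T_y, T_z, T_q, T_y, T_q, T_z, T_yi, T_q, T_z, T_yi, T_q, T_z, T_yi, T_yi, T_yi, T_z, T_y, T_y, T_y, T_z, T_q, T_y, T_z, T_q, T_y, T_q, T_z, T_yi, T_q, T_z, T_yi, T_q, T_z, T_yi, T_yi, T_yi, T_z] M (Nat.sub (T_y u) (Nat.mod (T_y u) M)) (nat_lit 40) (Nat.mod (T_y u) M) u) (lS MG [T_y, T_z, T_q, T_y, T_z, T_q, T_y, T_q, T_z, T_yi, T_q, T_z, T_yi, T_q, T_z, T_yi, T_yi, T_yi, T_z, T_y, T_y, T_y, T_z, T_q, T_y, T_z, T_q, T_y, T_q, T_z, T_yi, T_q, T_z, T_yi, T_q, T_z, T_yi, T_yi, T_yi, T_z, T_y, T_y, T_y, T_z, T_q, T_y, T_z, T_q, T_y, T_z, T_q, T_z, T_yi, T_q, T_z, T_yi, T_q, T_z, T_yi, T_yi,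 T_yi, T_z, T_y] M (Nat.sub (T_y u) (Nat.mod (T_y u) M)) (nat_lit 40) (Nat.mod (T_y u) M) u) (Nat.ble (nat_lit 281) j)
noncomputable def dp_y_263 (j u : ℕ) : Bool :=
  Bool.rec (motive := fun _ => Bool) (lS MG [T_q, T_z, T_yi, T_q, T_z, T_yi, T_q, T_z, T_yi, T_yi, T_yi, T_z, T_y, T_y, T_y, T_z, T_q, T_y, T_z, T_q, T_y, T_q, T_z, T_yi, T_q, T_z, T_yi, T_q, T_z, T_yi, T_yi, T_yi, T_z, T_y, T_y, T_y, T_z, T_q, T_y, T_z, T_q, T_y, T_z, T_q, T_z, T_yi, T_q, T_z, T_yi, T_q, T_z, T_yi, T_yi, T_yi, T_z, T_y, T_y, T_y, T_z, T_q, T_y, T_z, T_q] M (Nat.sub (T_y u) (Nat.mod (T_y u) M)) (nat_lit 40) (Nat.mod (T_y u) M) u) (lF [T_y, T_z, T_q, T_y, T_z, T_q, T_y, T_z, T_q, T_yi, T_q, T_z, T_yi, T_q, T_z, T_yi, T_yi, T_yi, T_z, T_y, T_y, T_y, T_z, T_q, T_y, T_z, T_q, T_y, T_z, T_q, T_z, T_yi, T_q, T_z, T_yi, T_q, T_z, T_yi,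 T_yi, T_yi, T_z, T_y, T_y, T_y, T_z, T_q, T_y, T_z, T_q, T_y, T_z, T_q, T_yi, T_q, T_z, T_yi, T_q, T_z, T_yi, T_yi, T_yi, T_z, T_y] M (Nat.sub (T_y u) (Nat.mod (T_y u) M)) (Nat.mod (T_y u) M) u) (Nat.ble (nat_lit 283) j)
noncomputable def dp_y_264 (j u : ℕ) : Bool :=
  Bool.rec (motive := fun _ => Bool) (dp_y_262 j u) (dp_y_263 j u) (Nat.ble (nat_lit 282) j)
noncomputable def dp_y_265 (j u : ℕ) : Bool :=
  Bool.rec (motive := fun _ => Bool) (dp_y_261 j u) (dp_y_264 j u) (Nat.ble (nat_lit 280) j)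
noncomputable def dp_y_266 (j u : ℕ) : Bool :=
  Bool.rec (motive := fun _ => Bool) (lH [] [] M (Nat.sub (T_y u) (Nat.mod (T_y u) M)) (Nat.mod (T_y u) M) u) (lS MG [T_z, T_q, T_y, T_z, T_q, T_y, T_z, T_q, T_z, T_yi, T_q, T_z, T_yi, T_q, T_z, T_yi, T_yi, T_yi, T_z, T_y, T_y, T_y, T_z, T_q, T_y, T_z, T_q, T_y, T_z, T_q, T_yi, T_q, T_z, T_yi, T_q, T_z, T_yi, T_yi, T_yi, T_z, T_y, T_y, T_y, T_z, T_q, T_y, T_z, T_q, T_y, T_z, T_q, T_yi, T_q, T_z, T_yi, T_q, T_z, T_yi, T_yi, T_yi, T_z, T_y, T_y] M (Nat.sub (T_y u) (Nat.mod (T_y u) M)) (nat_lit 40) (Nat.mod (T_y u) M) u) (Nat.ble (nat_lit 286) j)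
noncomputable def dp_y_267 (j u : ℕ) : Bool :=
  Bool.rec (motive := fun _ => Bool) (lS MG [T_z, T_q, T_y, T_z, T_q, T_y, T_q, T_z, T_yi, T_q, T_z, T_yi, T_q, T_z, T_yi, T_yi, T_yi, T_z, T_y, T_y, T_y, T_z, T_q, T_y, T_z, T_q, T_y, T_q, T_z, T_yi, T_q, T_z, T_yi, T_q, T_z, T_yi, T_yi, T_yi, T_z, T_y, T_y, T_y, T_z, T_q, T_y, T_z, T_q, T_y, T_z, T_q, T_z, T_yi, T_q, T_z, T_yi, T_q, T_z, T_yi, T_yi, T_yi, T_z, T_y, T_y] M (Nat.sub (T_y u) (Nat.mod (T_y u) M)) (nat_lit 40) (Nat.mod (T_y u) M) u) (dp_y_266 j u) (Nat.ble (nat_lit 285) j)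
noncomputable def dp_y_268 (j u : ℕ) : Bool :=
  Bool.rec (motive := fun _ => Bool) (lS MG [T_z, T_q, T_y, T_z, T_q, T_yi, T_q, T_z, T_yi, T_q, T_z, T_yi, T_yi, T_yi, T_z, T_y, T_y, T_y, T_z, T_q, T_y, T_z, T_q, T_y, T_z, T_q, T_yi, T_q, T_z, T_yi, T_q, T_z, T_yi, T_yi, T_yi, T_z, T_y, T_y, T_y, T_z, T_q, T_y, T_z, T_q, T_y, T_z, T_q, T_z, T_yi, T_q, T_z, T_yi, T_q, T_z, T_yi, T_yi, T_yi, T_z, T_y, T_y, T_y, T_z, T_q] M (Nat.sub (T_y u) (Nat.mod (T_y u) M)) (nat_lit 40) (Nat.mod (T_y u) M) u) (lF [T_y, T_y, T_z, T_q, T_y, T_z, T_q, T_y, T_z, T_q, T_z, T_yi, T_q, T_z, T_yi, T_q, T_z, T_yi, T_yi, T_yi, T_z, T_y, T_y, T_y, T_z, T_q, T_y, T_z, T_q, T_y, T_z, T_q, T_yi, T_q, T_z, T_yi, T_q, T_z, T_yi, T_yi, T_yi, T_z, T_y, T_y, T_y, T_z, T_q, T_y, T_z, T_q, T_y, T_z, T_q, T_yi, T_q, T_z, T_yi, T_q, T_z, T_yi, T_yi,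 T_yi, T_z] M (Nat.sub (T_y u) (Nat.mod (T_y u) M)) (Nat.mod (T_y u) M) u) (Nat.ble (nat_lit 288) j)
noncomputable def dp_y_269 (j u : ℕ) : Bool :=
  Bool.rec (motive := fun _ => Bool) (lS MG [T_z, T_q, T_yi, T_q, T_z, T_yi, T_q, T_z, T_yi, T_yi, T_yi, T_z, T_y, T_y, T_y, T_z, T_q, T_y, T_z, T_q, T_y, T_z, T_q, T_z, T_yi, T_q, T_z, T_yi, T_q, T_z, T_yi, T_yi, T_yi, T_z, T_y, T_y, T_y, T_z, T_q, T_y, T_z, T_q, T_y, T_z, T_q, T_yi, T_q, T_z, T_yi, T_q, T_z, T_yi, T_yi, T_yi, T_z, T_y, T_y, T_y, T_z, T_q, T_y, T_z, T_q] M (Nat.sub (T_y u) (Nat.mod (T_y u) M)) (nat_lit 40) (Nat.mod (T_y u) M) u) (lS MG [T_z, T_q, T_y, T_z, T_q, T_y, T_z, T_q, T_z, T_yi, T_q, T_z, T_yi, T_q, T_z, T_yi, T_yi, T_yi, T_z, T_y, T_y, T_y, T_z, T_q, T_y, T_z, T_q, T_y, T_q, T_z, T_yi, T_q, T_z, T_yi, T_q, T_z, T_yi, T_yi, T_yi, T_z, T_y,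 T_y, T_y, T_z, T_q, T_y, T_z, T_q, T_y, T_q, T_z, T_yi, T_q, T_z, T_yi, T_q, T_z, T_yi, T_yi, T_yi, T_z, T_y, T_y] M (Nat.sub (T_y u) (Nat.mod (T_y u) M)) (nat_lit 40) (Nat.mod (T_y u) M) u) (Nat.ble (nat_lit 291) j)
noncomputable def dp_y_270 (j u : ℕ) : Bool :=
  Bool.rec (motive := fun _ => Bool) (lS MG [T_z, T_q, T_yi, T_q, T_z, T_yi, T_q, T_z, T_yi, T_yi, T_yi, T_z, T_y, T_y, T_y, T_z, T_q, T_y, T_z, T_q, T_y, T_z, T_q, T_yi, T_q, T_z, T_yi, T_q, T_z, T_yi, T_yi, T_yi, T_z, T_y, T_y, T_y, T_z, T_q, T_y, T_z, T_q, T_y, T_z, T_q, T_z, T_yi, T_q, T_z, T_yi, T_q, T_z, T_yi, T_yi, T_yi, T_z, T_y, T_y, T_y, T_z, T_q, T_y, T_z, T_q] M (Nat.sub (T_y u) (Nat.mod (T_y u) M)) (nat_lit 40) (Nat.mod (T_y u) M) u) (dp_y_269 j u) (Nat.ble (nat_lit 290) j)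
noncomputable def dp_y_271 (j u : ℕ) : Bool :=
  Bool.rec (motive := fun _ => Bool) (dp_y_268 j u) (dp_y_270 j u) (Nat.ble (nat_lit 289) j)
noncomputable def dp_y_272 (j u : ℕ) : Bool :=
  Bool.rec (motive := fun _ => Bool) (dp_y_267 j u) (dp_y_271 j u) (Nat.ble (nat_lit 287) j)
noncomputable def dp_y_273 (j u : ℕ) : Bool :=
  Bool.rec (motive := fun _ => Bool) (lF [T_z, T_q, T_y, T_z, T_q, T_y, T_q, T_z, T_yi, T_q, T_z, T_yi, T_q, T_z, T_yi, T_yi, T_yi, T_z, T_y, T_y, T_y, T_z, T_q, T_y, T_z, T_q, T_y, T_q, T_z, T_yi, T_q, T_z, T_yi, T_q, T_z, T_yi, T_yi, T_yi, T_z, T_y, T_y, T_y, T_z, T_q, T_y, T_z, T_q, T_y, T_z, T_q, T_z, T_yi, T_q, T_z, T_yi, T_q, T_z, T_yi, T_yi, T_yi, T_z, T_y, T_y] M (Nat.sub (T_y u) (Nat.mod (T_y u) M)) (Nat.mod (T_y u) M) u) (lF [T_y, T_z, T_q, T_y, T_z, T_q, T_y, T_q, T_z, T_yi,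 T_q, T_z, T_yi, T_q, T_z, T_yi, T_yi, T_yi, T_z, T_y, T_y, T_y, T_z, T_q, T_y, T_z, T_q, T_y, T_q, T_z, T_yi, T_q, T_z, T_yi, T_q, T_z, T_yi, T_yi, T_yi, T_z, T_y, T_y, T_y, T_z, T_q, T_y, T_z, T_q, T_y, T_z, T_q, T_z, T_yi, T_q, T_z, T_yi, T_q, T_z, T_yi, T_yi, T_yi, T_z, T_y] M (Nat.sub (T_y u) (Nat.mod (T_y u) M)) (Nat.mod (T_y u) M) u) (Nat.ble (nat_lit 293) j)
noncomputable def dp_y_274 (j u : ℕ) : Bool :=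
  Bool.rec (motive := fun _ => Bool) (lS MG [T_y, T_z, T_q, T_y, T_z, T_q, T_y, T_z, T_q, T_z, T_yi, T_q, T_z, T_yi, T_q, T_z, T_yi, T_yi, T_yi, T_z, T_y, T_y, T_y, T_z, T_q, T_y, T_z, T_q, T_y, T_q, T_z, T_yi, T_q, T_z, T_yi, T_q, T_z, T_yi, T_yi, T_yi, T_z, T_y, T_y, T_y, T_z, T_q, T_y, T_z, T_q, T_y, T_q, T_z, T_yi, T_q, T_z, T_yi, T_q, T_z, T_yi, T_yi, T_yi, T_z, T_y] M (Nat.sub (T_y u) (Nat.mod (T_y u) M)) (nat_lit 40) (Nat.mod (T_y u) M) u) (lF [T_y, T_z, T_q, T_y, T_z, T_q, T_y, T_q, T_z, T_yi, T_q, T_z, T_yi, T_q, T_z, T_yi, T_yi, T_yi, T_z, T_y, T_y, T_y, T_z, T_q, T_y, T_z, T_q, T_y, T_z, T_q, T_z, T_yi, T_q, T_z, T_yi, T_q, T_z, T_yi, T_yi, T_yi, T_z, T_y, T_y, T_y, T_z, T_q, T_y, T_z, T_q, T_y, T_q, T_z, T_yi, T_q, T_z, T_yi, T_q, T_z, T_yi, T_yi, T_yi, T_z, T_y] M (Nat.sub (T_y u) (Nat.mod (T_y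 u) M)) (Nat.mod (T_y u) M) u) (Nat.ble (nat_lit 295) j)
noncomputable def dp_y_275 (j u : ℕ) : Bool :=
  Bool.rec (motive := fun _ => Bool) (dp_y_273 j u) (dp_y_274 j u) (Nat.ble (nat_lit 294) j)
noncomputable def dp_y_276 (j u : ℕ) : Bool :=
  Bool.rec (motive := fun _ => Bool) (lF [T_q, T_z, T_yi, T_q, T_z, T_yi, T_q, T_z, T_yi, T_yi, T_yi, T_z, T_y, T_y, T_y, T_z, T_q, T_y, T_z, T_q, T_y, T_q, T_z, T_yi, T_q, T_z, T_yi, T_q, T_z, T_yi, T_yi, T_yi, T_z, T_y, T_y, T_y, T_z, T_q, T_y, T_z, T_q, T_y, T_z, T_q, T_z, T_yi, T_q, T_z, T_yi, T_q, T_z, T_yi, T_yi, T_yi, T_z, T_y, T_y, T_y, T_z, T_q, T_y, T_z, T_q] M (Nat.sub (T_y u) (Nat.mod (T_y u) M)) (Nat.mod (T_y u) M) u) (lF [T_y, T_y, T_z, T_q, T_y, T_z, T_q, T_y, T_q, T_z, T_yi, T_q, T_z, T_yi, T_q, T_z, T_yi, T_yi, T_yi, T_z, T_y, T_y, T_y, T_z, T_q, T_y,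 T_z, T_q, T_y, T_q, T_z, T_yi, T_q, T_z, T_yi, T_q, T_z, T_yi, T_yi, T_yi, T_z, T_y, T_y, T_y, T_z, T_q, T_y, T_z, T_q, T_y, T_z, T_q, T_z, T_yi, T_q, T_z, T_yi, T_q, T_z, T_yi, T_yi, T_yi, T_z] M (Nat.sub (T_y u) (Nat.mod (T_y u) M)) (Nat.mod (T_y u) M) u) (Nat.ble (nat_lit 297) j)
noncomputable def dp_y_277 (j u : ℕ) : Bool :=
  Bool.rec (motive := fun _ => Bool) (lS MG [T_y, T_z, T_q, T_y, T_z, T_q, T_y, T_q, T_z, T_yi, T_q, T_z, T_yi, T_q, T_z, T_yi, T_yi, T_yi, T_z, T_y, T_y, T_y, T_z, T_q, T_y, T_z, T_q, T_y, T_z, T_q, T_z, T_yi, T_q, T_z, T_yi, T_q, T_z, T_yi, T_yi, T_yi, T_z, T_y, T_y, T_y, T_z, T_q, T_y, T_z, T_q, T_y, T_q, T_z, T_yi, T_q, T_z, T_yi, T_q, T_z, T_yi, T_yi, T_yi, T_z, T_y] M (Nat.sub (T_y u) (Nat.mod (T_y u) M)) (nat_lit 40) (Nat.mod (T_y u) M) u) (lF [T_z, T_q, T_y, T_z, T_q, T_y,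 T_z, T_q, T_z, T_yi, T_q, T_z, T_yi, T_q, T_z, T_yi, T_yi, T_yi, T_z, T_y, T_y, T_y, T_z, T_q, T_y, T_z, T_q, T_y, T_z, T_q, T_yi, T_q, T_z, T_yi, T_q, T_z, T_yi, T_yi, T_yi, T_z, T_y, T_y, T_y, T_z, T_q, T_y, T_z, T_q, T_y, T_z, T_q, T_yi, T_q, T_z, T_yi, T_q, T_z, T_yi, T_yi, T_yi, T_z, T_y, T_y] M (Nat.sub (T_y u) (Nat.mod (T_y u) M)) (Nat.mod (T_y u) M) u) (Nat.ble (nat_lit 300) j)
noncomputable def dp_y_278 (j u : ℕ) : Bool :=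
  Bool.rec (motive := fun _ => Bool) (lS MG [T_z, T_q, T_y, T_q, T_z, T_yi, T_q, T_z, T_yi, T_q, T_z, T_yi, T_yi, T_yi, T_z, T_y, T_y, T_y, T_z, T_q, T_y, T_z, T_q, T_y, T_q, T_z, T_yi, T_q, T_z, T_yi, T_q, T_z, T_yi, T_yi, T_yi, T_z, T_y, T_y, T_y, T_z, T_q, T_y, T_z, T_q, T_y, T_z, T_q, T_z, T_yi, T_q, T_z, T_yi, T_q, T_z, T_yi, T_yi, T_yi, T_z, T_y, T_y, T_y, T_z, T_q] M (Nat.sub (T_y u) (Nat.mod (T_y u) M)) (nat_lit 40) (Nat.mod (T_y u) M) u) (dp_y_277 j u) (Nat.ble (nat_lit 299) j)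
noncomputable def dp_y_279 (j u : ℕ) : Bool :=
  Bool.rec (motive := fun _ => Bool) (dp_y_276 j u) (dp_y_278 j u) (Nat.ble (nat_lit 298) j)
noncomputable def dp_y_280 (j u : ℕ) : Bool :=
  Bool.rec (motive := fun _ => Bool) (dp_y_275 j u) (dp_y_279 j u) (Nat.ble (nat_lit 296) j)
noncomputable def dp_y_281 (j u : ℕ) : Bool :=
  Bool.rec (motive := fun _ => Bool) (dp_y_272 j u) (dp_y_280 j u) (Nat.ble (nat_lit 292) j)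
noncomputable def dp_y_282 (j u : ℕ) : Bool :=
  Bool.rec (motive := fun _ => Bool) (dp_y_265 j u) (dp_y_281 j u) (Nat.ble (nat_lit 284) j)
noncomputable def dp_y_283 (j u : ℕ) : Bool :=
  Bool.rec (motive := fun _ => Bool) (dp_y_259 j u) (dp_y_282 j u) (Nat.ble (nat_lit 277) j)
noncomputable def dp_y_284 (j u : ℕ) : Bool :=
  Bool.rec (motive := fun _ => Bool) (dp_y_252 j u) (dp_y_283 j u) (Nat.ble (nat_lit 269) j)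
noncomputable def dp_y_285 (j u : ℕ) : Bool :=
  Bool.rec (motive := fun _ => Bool) (dp_y_246 j u) (dp_y_284 j u) (Nat.ble (nat_lit 262) j)
noncomputable def dp_y_286 (j u : ℕ) : Bool :=
  Bool.rec (motive := fun _ => Bool) (dp_y_241 j u) (dp_y_285 j u) (Nat.ble (nat_lit 256) j)
noncomputable def dp_y_287 (j u : ℕ) : Bool :=
  Bool.rec (motive := fun _ => Bool) (dp_y_232 j u) (dp_y_286 j u) (Nat.ble (nat_lit 246) j)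
noncomputable def dp_y_288 (j u : ℕ) : Bool :=
  Bool.rec (motive := fun _ => Bool) (dp_y_218 j u) (dp_y_287 j u) (Nat.ble (nat_lit 231) j)
noncomputable def dp_y_289 (j u : ℕ) : Bool :=
  Bool.rec (motive := fun _ => Bool) (dp_y_197 j u) (dp_y_288 j u) (Nat.ble (nat_lit 209) j)
noncomputable def dp_y_290 (j u : ℕ) : Bool :=
  Bool.rec (motive := fun _ => Bool) (dp_y_167 j u) (dp_y_289 j u) (Nat.ble (nat_lit 178) j)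
noncomputable def dp_y_291 (j u : ℕ) : Bool :=
  Bool.rec (motive := fun _ => Bool) (dp_y_126 j u) (dp_y_290 j u) (Nat.ble (nat_lit 136) j)
noncomputable def dp_y_292 (j u : ℕ) : Bool :=
  Bool.rec (motive := fun _ => Bool) (dp_y_76 j u) (dp_y_291 j u) (Nat.ble (nat_lit 85) j)
noncomputable def dp_y_293 (j u : ℕ) : Bool :=
  Bool.rec (motive := fun _ => Bool) (dp_y_27 j u) (dp_y_292 j u) (Nat.ble (nat_lit 35) j)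
noncomputable def dp_y_294 (j u : ℕ) : Bool :=
  Bool.rec (motive := fun _ => Bool) (dp_y_8 j u) (dp_y_293 j u) (Nat.ble (nat_lit 15) j)
noncomputable def dp_y_295 (j u : ℕ) : Bool :=
  Bool.rec (motive := fun _ => Bool) (dp_y_0 j u) (dp_y_294 j u) (Nat.ble (nat_lit 6) j)
noncomputable def dp_y_296 (j u : ℕ) : Bool :=
  Bool.rec (motive := fun _ => Bool) (lF3 T_v T_yi T_v M (Nat.sub (T_y u) (Nat.mod (T_y u) M)) (Nat.mod (T_y u) M) u) (dp_y_295 j u) (Nat.ble (nat_lit 4) j)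
noncomputable def disp_y (j u : ℕ) : Bool :=
  Bool.rec (motive := fun _ => Bool) (Bool.rec (motive := fun _ => Bool) (lF1 T_yi M (Nat.sub (T_y u) (Nat.mod (T_y u) M)) (Nat.mod (T_y u) M) u) (lDef P (nat_lit 0) (Nat.mod (T_y u) M) u) (Nat.ble (nat_lit 1) j)) (Bool.rec (motive := fun _ => Bool) (lDef P (nat_lit 1) u (Nat.mod (T_y u) M)) (dp_y_296 j u) (Nat.ble (nat_lit 3) j)) (Nat.ble (nat_lit 2) j)
noncomputable def chk_y (j u : ℕ) : Bool :=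
  Bool.rec (motive := fun _ => Bool) (disp_y j u) (Nat.ble (Nat.succ (MG u)) A) (Nat.ble A (T_y u))
noncomputable def dp_yi_0 (j u : ℕ) : Bool :=
  Bool.rec (motive := fun _ => Bool) (lF [T_yi, T_yi, T_yi, T_yi, T_yi] M (Nat.sub (T_yi u) (Nat.mod (T_yi u) M)) (Nat.mod (T_yi u) M) u) (lF [T_q, T_z, T_q, T_z, T_y, T_q, T_z, T_q, T_z] M (Nat.sub (T_yi u) (Nat.mod (T_yi u) M)) (Nat.mod (T_yi u) M) u) (Nat.ble (nat_lit 6) j)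
noncomputable def dp_yi_1 (j u : ℕ) : Bool :=
  Bool.rec (motive := fun _ => Bool) (lF [T_q, T_y, T_q, T_yi, T_q, T_y, T_q] M (Nat.sub (T_yi u) (Nat.mod (T_yi u) M)) (Nat.mod (T_yi u) M) u) (dp_yi_0 j u) (Nat.ble (nat_lit 5) j)
noncomputable def dp_yi_2 (j u : ℕ) : Bool :=
  Bool.rec (motive := fun _ => Bool) (lF [T_z, T_y, T_z, T_yi, T_z, T_y, T_z, T_yi, T_z, T_y, T_z] M (Nat.sub (T_yi u) (Nat.mod (T_yi u) M)) (Nat.mod (T_yi u) M) u) (lF [T_z, T_q, T_z, T_q, T_y, T_z, T_q, T_z, T_q] M (Nat.sub (T_yi u) (Nat.mod (T_yi u) M)) (Nat.mod (T_yi u) M) u) (Nat.ble (nat_lit 9) j)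
noncomputable def dp_yi_3 (j u : ℕ) : Bool :=
  Bool.rec (motive := fun _ => Bool) (lS MG [T_y] M (Nat.sub (T_yi u) (Nat.mod (T_yi u) M)) (nat_lit 40) (Nat.mod (T_yi u) M) u) (dp_yi_2 j u) (Nat.ble (nat_lit 8) j)
noncomputable def dp_yi_4 (j u : ℕ) : Bool :=
  Bool.rec (motive := fun _ => Bool) (lS MG [T_q, T_y, T_q, T_yi, T_q, T_y, T_q] M (Nat.sub (T_yi u) (Nat.mod (T_yi u) M)) (nat_lit 40) (Nat.mod (T_yi u) M) u) (lS MG [T_v, T_y, T_v] M (Nat.sub (T_yi u) (Nat.mod (T_yi u) M)) (nat_lit 40) (Nat.mod (T_yi u) M) u) (Nat.ble (nat_lit 11) j)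
noncomputable def dp_yi_5 (j u : ℕ) : Bool :=
  Bool.rec (motive := fun _ => Bool) (lF [T_z, T_y, T_q, T_yi, T_z, T_y, T_z, T_yi, T_q, T_y, T_z] M (Nat.sub (T_yi u) (Nat.mod (T_yi u) M)) (Nat.mod (T_yi u) M) u) (lF [T_q, T_y, T_y, T_q, T_yi, T_yi, T_q, T_y, T_y, T_q, T_yi] M (Nat.sub (T_yi u) (Nat.mod (T_yi u) M)) (Nat.mod (T_yi u) M) u) (Nat.ble (nat_lit 13) j)
noncomputable def dp_yi_6 (j u : ℕ) : Bool :=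
  Bool.rec (motive := fun _ => Bool) (lF [T_q, T_yi, T_q, T_yi, T_q, T_yi, T_q, T_yi, T_q, T_yi, T_q] M (Nat.sub (T_yi u) (Nat.mod (T_yi u) M)) (Nat.mod (T_yi u) M) u) (lS MG [T_yi, T_yi, T_yi, T_yi, T_yi] M (Nat.sub (T_yi u) (Nat.mod (T_yi u) M)) (nat_lit 40) (Nat.mod (T_yi u) M) u) (Nat.ble (nat_lit 15) j)
noncomputable def dp_yi_7 (j u : ℕ) : Bool :=
  Bool.rec (motive := fun _ => Bool) (dp_yi_5 j u) (dp_yi_6 j u) (Nat.ble (nat_lit 14) j)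
noncomputable def dp_yi_8 (j u : ℕ) : Bool :=
  Bool.rec (motive := fun _ => Bool) (dp_yi_4 j u) (dp_yi_7 j u) (Nat.ble (nat_lit 12) j)
noncomputable def dp_yi_9 (j u : ℕ) : Bool :=
  Bool.rec (motive := fun _ => Bool) (dp_yi_3 j u) (dp_yi_8 j u) (Nat.ble (nat_lit 10) j)
noncomputable def dp_yi_10 (j u : ℕ) : Bool :=
  Bool.rec (motive := fun _ => Bool) (lF [T_q, T_y, T_z, T_yi, T_z, T_y, T_q, T_yi, T_z, T_y, T_z] M (Nat.sub (T_yi u) (Nat.mod (T_yi u) M)) (Nat.mod (T_yi u) M) u) (lF [T_z, T_y, T_z, T_yi, T_q, T_y, T_z, T_yi, T_z, T_y, T_q] M (Nat.sub (T_yi u) (Nat.mod (T_yi u) M)) (Nat.mod (T_yi u) M) u) (Nat.ble (nat_lit 18) j)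
noncomputable def dp_yi_11 (j u : ℕ) : Bool :=
  Bool.rec (motive := fun _ => Bool) (lF [T_yi, T_q, T_y, T_y, T_q, T_yi, T_yi, T_q, T_y, T_y, T_q] M (Nat.sub (T_yi u) (Nat.mod (T_yi u) M)) (Nat.mod (T_yi u) M) u) (dp_yi_10 j u) (Nat.ble (nat_lit 17) j)
noncomputable def dp_yi_12 (j u : ℕ) : Bool :=
  Bool.rec (motive := fun _ => Bool) (lS MG [T_q, T_z, T_q, T_z, T_y, T_q, T_z, T_q, T_z] M (Nat.sub (T_yi u) (Nat.mod (T_yi u) M)) (nat_lit 40) (Nat.mod (T_yi u) M) u) (lF [T_z, T_q, T_z, T_y, T_q, T_yi, T_z, T_q, T_z, T_y, T_q] M (Nat.sub (T_yi u) (Nat.mod (T_yi u) M)) (Nat.mod (T_yi u) M) u) (Nat.ble (nat_lit 21) j)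
noncomputable def dp_yi_13 (j u : ℕ) : Bool :=
  Bool.rec (motive := fun _ => Bool) (lS MG [T_z, T_y, T_z, T_yi, T_z, T_y, T_z, T_yi, T_z, T_y, T_z] M (Nat.sub (T_yi u) (Nat.mod (T_yi u) M)) (nat_lit 40) (Nat.mod (T_yi u) M) u) (dp_yi_12 j u) (Nat.ble (nat_lit 20) j)
noncomputable def dp_yi_14 (j u : ℕ) : Bool :=
  Bool.rec (motive := fun _ => Bool) (dp_yi_11 j u) (dp_yi_13 j u) (Nat.ble (nat_lit 19) j)
noncomputable def dp_yi_15 (j u : ℕ) : Bool :=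
  Bool.rec (motive := fun _ => Bool) (lF [T_q, T_y, T_z, T_q, T_z, T_yi, T_q, T_y, T_z, T_q, T_z] M (Nat.sub (T_yi u) (Nat.mod (T_yi u) M)) (Nat.mod (T_yi u) M) u) (lS MG [T_q, T_yi, T_q, T_yi, T_q, T_yi, T_q, T_yi, T_q, T_yi, T_q] M (Nat.sub (T_yi u) (Nat.mod (T_yi u) M)) (nat_lit 40) (Nat.mod (T_yi u) M) u) (Nat.ble (nat_lit 24) j)
noncomputable def dp_yi_16 (j u : ℕ) : Bool :=
  Bool.rec (motive := fun _ => Bool) (lS MG [T_z, T_q, T_z, T_q, T_y, T_z, T_q, T_z, T_q] M (Nat.sub (T_yi u) (Nat.mod (T_yi u) M)) (nat_lit 40) (Nat.mod (T_yi u) M) u) (dp_yi_15 j u) (Nat.ble (nat_lit 23) j)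
noncomputable def dp_yi_17 (j u : ℕ) : Bool :=
  Bool.rec (motive := fun _ => Bool) (lS MG [T_q, T_y, T_y, T_q, T_yi, T_yi, T_q, T_y, T_y, T_q, T_yi] M (Nat.sub (T_yi u) (Nat.mod (T_yi u) M)) (nat_lit 40) (Nat.mod (T_yi u) M) u) (lF [T_z, T_q, T_z, T_q, T_v, T_y, T_v, T_q, T_z, T_q, T_z] M (Nat.sub (T_yi u) (Nat.mod (T_yi u) M)) (Nat.mod (T_yi u) M) u) (Nat.ble (nat_lit 27) j)
noncomputable def dp_yi_18 (j u : ℕ) : Bool :=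
  Bool.rec (motive := fun _ => Bool) (lS MG [T_z, T_y, T_q, T_yi, T_z, T_y, T_z, T_yi, T_q, T_y, T_z] M (Nat.sub (T_yi u) (Nat.mod (T_yi u) M)) (nat_lit 40) (Nat.mod (T_yi u) M) u) (dp_yi_17 j u) (Nat.ble (nat_lit 26) j)
noncomputable def dp_yi_19 (j u : ℕ) : Bool :=
  Bool.rec (motive := fun _ => Bool) (dp_yi_16 j u) (dp_yi_18 j u) (Nat.ble (nat_lit 25) j)
noncomputable def dp_yi_20 (j u : ℕ) : Bool :=
  Bool.rec (motive := fun _ => Bool) (lS MG [T_yi, T_q, T_y, T_y, T_q, T_yi, T_yi, T_q, T_y, T_y, T_q] M (Nat.sub (T_yi u) (Nat.mod (T_yi u) M)) (nat_lit 40) (Nat.mod (T_yi u) M) u) (lF [T_z, T_y, T_z, T_y, T_q, T_yi, T_z, T_yi, T_z, T_y, T_z, T_y, T_q, T_yi, T_z] M (Nat.sub (T_yi u) (Nat.mod (T_yi u) M)) (Nat.mod (T_yi u) M) u) (Nat.ble (nat_lit 29) j)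
noncomputable def dp_yi_21 (j u : ℕ) : Bool :=
  Bool.rec (motive := fun _ => Bool) (lS MG [T_q, T_y, T_z, T_yi, T_z, T_y, T_q, T_yi, T_z, T_y, T_z] M (Nat.sub (T_yi u) (Nat.mod (T_yi u) M)) (nat_lit 40) (Nat.mod (T_yi u) M) u) (lF [T_z, T_yi, T_q, T_y, T_z, T_y, T_z, T_yi, T_z, T_yi, T_q, T_y, T_z, T_y, T_z] M (Nat.sub (T_yi u) (Nat.mod (T_yi u) M)) (Nat.mod (T_yi u) M) u) (Nat.ble (nat_lit 31) j)
noncomputable def dp_yi_22 (j u : ℕ) : Bool :=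
  Bool.rec (motive := fun _ => Bool) (dp_yi_20 j u) (dp_yi_21 j u) (Nat.ble (nat_lit 30) j)
noncomputable def dp_yi_23 (j u : ℕ) : Bool :=
  Bool.rec (motive := fun _ => Bool) (lF [T_yi, T_z, T_y, T_y, T_z, T_yi, T_yi, T_z, T_y, T_y, T_z, T_yi, T_yi, T_z, T_y, T_y, T_z] M (Nat.sub (T_yi u) (Nat.mod (T_yi u) M)) (Nat.mod (T_yi u) M) u) (lF [T_yi, T_z, T_q, T_z, T_q, T_yi, T_yi, T_yi, T_z, T_q, T_z, T_q, T_yi] M (Nat.sub (T_yi u) (Nat.mod (T_yi u) M)) (Nat.mod (T_yi u) M) u) (Nat.ble (nat_lit 34) j)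
noncomputable def dp_yi_24 (j u : ℕ) : Bool :=
  Bool.rec (motive := fun _ => Bool) (lS MG [T_z, T_y, T_z, T_yi, T_q, T_y, T_z, T_yi, T_z, T_y, T_q] M (Nat.sub (T_yi u) (Nat.mod (T_yi u) M)) (nat_lit 40) (Nat.mod (T_yi u) M) u) (dp_yi_23 j u) (Nat.ble (nat_lit 33) j)
noncomputable def dp_yi_25 (j u : ℕ) : Bool :=
  Bool.rec (motive := fun _ => Bool) (lF [T_z, T_y, T_y, T_z, T_yi, T_yi, T_z, T_y, T_y, T_z, T_yi, T_yi, T_z, T_y, T_y, T_z, T_yi] M (Nat.sub (T_yi u) (Nat.mod (T_yi u) M)) (Nat.mod (T_yi u) M) u) (lF [T_q, T_y, T_z, T_y, T_z, T_yi, T_z, T_yi, T_q, T_y, T_z, T_y, T_z, T_yi, T_z] M (Nat.sub (T_yi u) (Nat.mod (T_yi u) M)) (Nat.mod (T_yi u) M) u) (Nat.ble (nat_lit 37) j)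
noncomputable def dp_yi_26 (j u : ℕ) : Bool :=
  Bool.rec (motive := fun _ => Bool) (lF [T_z, T_q, T_z, T_q, T_yi, T_yi, T_yi, T_z, T_q, T_z, T_q, T_yi, T_yi] M (Nat.sub (T_yi u) (Nat.mod (T_yi u) M)) (Nat.mod (T_yi u) M) u) (dp_yi_25 j u) (Nat.ble (nat_lit 36) j)
noncomputable def dp_yi_27 (j u : ℕ) : Bool :=
  Bool.rec (motive := fun _ => Bool) (dp_yi_24 j u) (dp_yi_26 j u) (Nat.ble (nat_lit 35) j)
noncomputable def dp_yi_28 (j u : ℕ) : Bool :=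
  Bool.rec (motive := fun _ => Bool) (dp_yi_22 j u) (dp_yi_27 j u) (Nat.ble (nat_lit 32) j)
noncomputable def dp_yi_29 (j u : ℕ) : Bool :=
  Bool.rec (motive := fun _ => Bool) (dp_yi_19 j u) (dp_yi_28 j u) (Nat.ble (nat_lit 28) j)
noncomputable def dp_yi_30 (j u : ℕ) : Bool :=
  Bool.rec (motive := fun _ => Bool) (dp_yi_14 j u) (dp_yi_29 j u) (Nat.ble (nat_lit 22) j)
noncomputable def dp_yi_31 (j u : ℕ) : Bool :=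
  Bool.rec (motive := fun _ => Bool) (lS MG [T_z, T_yi, T_q, T_y, T_z, T_y, T_z, T_yi, T_z, T_yi, T_q, T_y, T_z, T_y, T_z] M (Nat.sub (T_yi u) (Nat.mod (T_yi u) M)) (nat_lit 40) (Nat.mod (T_yi u) M) u) (lS MG [T_z, T_y, T_z, T_y, T_q, T_yi, T_z, T_yi, T_z, T_y, T_z, T_y, T_q, T_yi, T_z] M (Nat.sub (T_yi u) (Nat.mod (T_yi u) M)) (nat_lit 40) (Nat.mod (T_yi u) M) u) (Nat.ble (nat_lit 39) j)
noncomputable def dp_yi_32 (j u : ℕ) : Bool :=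
  Bool.rec (motive := fun _ => Bool) (lF [T_z, T_q, T_yi, T_z, T_y, T_q, T_z, T_y, T_y, T_z, T_q, T_y, T_z, T_yi, T_q, T_z, T_yi] M (Nat.sub (T_yi u) (Nat.mod (T_yi u) M)) (Nat.mod (T_yi u) M) u) (lF [T_z, T_yi, T_z, T_y, T_z, T_y, T_q, T_yi, T_z, T_yi, T_z, T_y, T_z, T_y, T_q] M (Nat.sub (T_yi u) (Nat.mod (T_yi u) M)) (Nat.mod (T_yi u) M) u) (Nat.ble (nat_lit 41) j)
noncomputable def dp_yi_33 (j u : ℕ) : Bool :=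
  Bool.rec (motive := fun _ => Bool) (dp_yi_31 j u) (dp_yi_32 j u) (Nat.ble (nat_lit 40) j)
noncomputable def dp_yi_34 (j u : ℕ) : Bool :=
  Bool.rec (motive := fun _ => Bool) (lF [T_q, T_z, T_y, T_q, T_yi, T_q, T_z, T_y, T_z, T_q, T_yi, T_q, T_y, T_z, T_q] M (Nat.sub (T_yi u) (Nat.mod (T_yi u) M)) (Nat.mod (T_yi u) M) u) (lF [T_yi, T_z, T_q, T_yi, T_z, T_y, T_q, T_z, T_y, T_y, T_z, T_q, T_y, T_z, T_yi, T_q, T_z] M (Nat.sub (T_yi u) (Nat.mod (T_yi u) M)) (Nat.mod (T_yi u) M) u) (Nat.ble (nat_lit 43) j)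
noncomputable def dp_yi_35 (j u : ℕ) : Bool :=
  Bool.rec (motive := fun _ => Bool) (lF [T_yi, T_yi, T_z, T_q, T_z, T_q, T_yi, T_yi, T_yi, T_z, T_q, T_z, T_q] M (Nat.sub (T_yi u) (Nat.mod (T_yi u) M)) (Nat.mod (T_yi u) M) u) (lS MG [T_yi, T_z, T_y, T_y, T_z, T_yi, T_yi, T_z, T_y, T_y, T_z, T_yi, T_yi, T_z, T_y, T_y, T_z] M (Nat.sub (T_yi u) (Nat.mod (T_yi u) M)) (nat_lit 40) (Nat.mod (T_yi u) M) u) (Nat.ble (nat_lit 46) j)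
noncomputable def dp_yi_36 (j u : ℕ) : Bool :=
  Bool.rec (motive := fun _ => Bool) (lS MG [T_z, T_y, T_y, T_z, T_yi, T_yi, T_z, T_y, T_y, T_z, T_yi, T_yi, T_z, T_y, T_y, T_z, T_yi] M (Nat.sub (T_yi u) (Nat.mod (T_yi u) M)) (nat_lit 40) (Nat.mod (T_yi u) M) u) (dp_yi_35 j u) (Nat.ble (nat_lit 45) j)
noncomputable def dp_yi_37 (j u : ℕ) : Bool :=
  Bool.rec (motive := fun _ => Bool) (dp_yi_34 j u) (dp_yi_36 j u) (Nat.ble (nat_lit 44) j)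
noncomputable def dp_yi_38 (j u : ℕ) : Bool :=
  Bool.rec (motive := fun _ => Bool) (dp_yi_33 j u) (dp_yi_37 j u) (Nat.ble (nat_lit 42) j)
noncomputable def dp_yi_39 (j u : ℕ) : Bool :=
  Bool.rec (motive := fun _ => Bool) (lF [T_z, T_q, T_y, T_z, T_q, T_yi, T_z, T_y, T_q, T_z, T_yi, T_q, T_z, T_y, T_z] M (Nat.sub (T_yi u) (Nat.mod (T_yi u) M)) (Nat.mod (T_yi u) M) u) (lS MG [T_z, T_q, T_z, T_y, T_q, T_yi, T_z, T_q, T_z, T_y, T_q] M (Nat.sub (T_yi u) (Nat.mod (T_yi u) M)) (nat_lit 40) (Nat.mod (T_yi u) M) u) (Nat.ble (nat_lit 48) j)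
noncomputable def dp_yi_40 (j u : ℕ) : Bool :=
  Bool.rec (motive := fun _ => Bool) (lF [T_q, T_yi, T_yi, T_yi, T_q, T_yi, T_yi, T_yi, T_q, T_y, T_y, T_y, T_q, T_yi, T_yi] M (Nat.sub (T_yi u) (Nat.mod (T_yi u) M)) (Nat.mod (T_yi u) M) u) (lF [T_yi, T_yi, T_q, T_yi, T_yi, T_yi, T_q, T_y, T_y, T_y, T_q, T_yi, T_yi, T_yi, T_q] M (Nat.sub (T_yi u) (Nat.mod (T_yi u) M)) (Nat.mod (T_yi u) M) u) (Nat.ble (nat_lit 51) j)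
noncomputable def dp_yi_41 (j u : ℕ) : Bool :=
  Bool.rec (motive := fun _ => Bool) (lF [T_q, T_z, T_yi, T_yi, T_z, T_q, T_yi, T_z, T_y, T_q, T_z, T_y, T_y, T_z, T_q, T_y, T_z] M (Nat.sub (T_yi u) (Nat.mod (T_yi u) M)) (Nat.mod (T_yi u) M) u) (dp_yi_40 j u) (Nat.ble (nat_lit 50) j)
noncomputable def dp_yi_42 (j u : ℕ) : Bool :=
  Bool.rec (motive := fun _ => Bool) (dp_yi_39 j u) (dp_yi_41 j u) (Nat.ble (nat_lit 49) j)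
noncomputable def dp_yi_43 (j u : ℕ) : Bool :=
  Bool.rec (motive := fun _ => Bool) (lF [T_yi, T_q, T_y, T_y, T_z, T_q, T_z, T_yi, T_yi, T_q, T_y, T_y, T_z, T_q, T_z] M (Nat.sub (T_yi u) (Nat.mod (T_yi u) M)) (Nat.mod (T_yi u) M) u) (lS MG [T_q, T_y, T_z, T_y, T_z, T_yi, T_z, T_yi, T_q, T_y, T_z, T_y, T_z, T_yi, T_z] M (Nat.sub (T_yi u) (Nat.mod (T_yi u) M)) (nat_lit 40) (Nat.mod (T_yi u) M) u) (Nat.ble (nat_lit 54) j)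
noncomputable def dp_yi_44 (j u : ℕ) : Bool :=
  Bool.rec (motive := fun _ => Bool) (lF [T_z, T_q, T_y, T_q, T_yi, T_z, T_q, T_y, T_q, T_z, T_yi, T_q, T_y, T_q, T_z] M (Nat.sub (T_yi u) (Nat.mod (T_yi u) M)) (Nat.mod (T_yi u) M) u) (dp_yi_43 j u) (Nat.ble (nat_lit 53) j)
noncomputable def dp_yi_45 (j u : ℕ) : Bool :=
  Bool.rec (motive := fun _ => Bool) (lF [T_q, T_yi, T_z, T_yi, T_z, T_y, T_z, T_yi, T_yi, T_q, T_yi, T_yi, T_z, T_y, T_z, T_yi, T_z] M (Nat.sub (T_yi u) (Nat.mod (T_yi u) M)) (Nat.mod (T_yi u) M) u) (lS MG [T_z, T_q, T_yi, T_z, T_y, T_q, T_z, T_y, T_y, T_z, T_q, T_y, T_z, T_yi, T_q, T_z, T_yi] M (Nat.sub (T_yi u) (Nat.mod (T_yi u) M)) (nat_lit 40) (Nat.mod (T_yi u) M) u) (Nat.ble (nat_lit 57) j)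
noncomputable def dp_yi_46 (j u : ℕ) : Bool :=
  Bool.rec (motive := fun _ => Bool) (lS MG [T_q, T_y, T_z, T_q, T_z, T_yi, T_q, T_y, T_z, T_q, T_z] M (Nat.sub (T_yi u) (Nat.mod (T_yi u) M)) (nat_lit 40) (Nat.mod (T_yi u) M) u) (dp_yi_45 j u) (Nat.ble (nat_lit 56) j)
noncomputable def dp_yi_47 (j u : ℕ) : Bool :=
  Bool.rec (motive := fun _ => Bool) (dp_yi_44 j u) (dp_yi_46 j u) (Nat.ble (nat_lit 55) j)
noncomputable def dp_yi_48 (j u : ℕ) : Bool :=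
  Bool.rec (motive := fun _ => Bool) (dp_yi_42 j u) (dp_yi_47 j u) (Nat.ble (nat_lit 52) j)
noncomputable def dp_yi_49 (j u : ℕ) : Bool :=
  Bool.rec (motive := fun _ => Bool) (dp_yi_38 j u) (dp_yi_48 j u) (Nat.ble (nat_lit 47) j)
noncomputable def dp_yi_50 (j u : ℕ) : Bool :=
  Bool.rec (motive := fun _ => Bool) (lF [T_q, T_z, T_q, T_y, T_q, T_yi, T_z, T_y, T_q, T_z, T_q, T_yi, T_q, T_y, T_z] M (Nat.sub (T_yi u) (Nat.mod (T_yi u) M)) (Nat.mod (T_yi u) M) u) (lF [T_z, T_q, T_z, T_y, T_y, T_q, T_yi, T_yi, T_z, T_q, T_z, T_y, T_y, T_q, T_yi] M (Nat.sub (T_yi u) (Nat.mod (T_yi u) M)) (Nat.mod (T_yi u) M) u) (Nat.ble (nat_lit 60) j)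
noncomputable def dp_yi_51 (j u : ℕ) : Bool :=
  Bool.rec (motive := fun _ => Bool) (lF [T_q, T_y, T_q, T_z, T_q, T_yi, T_z, T_y, T_q, T_yi, T_q, T_z, T_q, T_y, T_z] M (Nat.sub (T_yi u) (Nat.mod (T_yi u) M)) (Nat.mod (T_yi u) M) u) (dp_yi_50 j u) (Nat.ble (nat_lit 59) j)
noncomputable def dp_yi_52 (j u : ℕ) : Bool :=
  Bool.rec (motive := fun _ => Bool) (lS MG [T_z, T_yi, T_z, T_y, T_z, T_y, T_q, T_yi, T_z, T_yi, T_z, T_y, T_z, T_y, T_q] M (Nat.sub (T_yi u) (Nat.mod (T_yi u) M)) (nat_lit 40) (Nat.mod (T_yi u) M) u) (lF [T_z, T_yi, T_z, T_y, T_z, T_yi, T_yi, T_q, T_yi, T_yi, T_z, T_y, T_z, T_yi, T_z, T_yi, T_q] M (Nat.sub (T_yi u) (Nat.mod (T_yi u) M)) (Nat.mod (T_yi u) M) u) (Nat.ble (nat_lit 63) j)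
noncomputable def dp_yi_53 (j u : ℕ) : Bool :=
  Bool.rec (motive := fun _ => Bool) (lS MG [T_z, T_q, T_z, T_q, T_v, T_y, T_v, T_q, T_z, T_q, T_z] M (Nat.sub (T_yi u) (Nat.mod (T_yi u) M)) (nat_lit 40) (Nat.mod (T_yi u) M) u) (dp_yi_52 j u) (Nat.ble (nat_lit 62) j)
noncomputable def dp_yi_54 (j u : ℕ) : Bool :=
  Bool.rec (motive := fun _ => Bool) (dp_yi_51 j u) (dp_yi_53 j u) (Nat.ble (nat_lit 61) j)
noncomputable def dp_yi_55 (j u : ℕ) : Bool :=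
  Bool.rec (motive := fun _ => Bool) (lF [T_z, T_y, T_q, T_z, T_y, T_y, T_z, T_q, T_y, T_z, T_yi, T_q, T_z, T_yi, T_yi, T_z, T_q] M (Nat.sub (T_yi u) (Nat.mod (T_yi u) M)) (Nat.mod (T_yi u) M) u) (lF [T_yi, T_q, T_yi, T_yi, T_z, T_y, T_z, T_yi, T_z, T_yi, T_q, T_yi, T_z, T_yi, T_z, T_y, T_z] M (Nat.sub (T_yi u) (Nat.mod (T_yi u) M)) (Nat.mod (T_yi u) M) u) (Nat.ble (nat_lit 66) j)
noncomputable def dp_yi_56 (j u : ℕ) : Bool :=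
  Bool.rec (motive := fun _ => Bool) (lF [T_z, T_q, T_y, T_q, T_z, T_yi, T_q, T_y, T_q, T_z, T_yi, T_z, T_q, T_y, T_q] M (Nat.sub (T_yi u) (Nat.mod (T_yi u) M)) (Nat.mod (T_yi u) M) u) (dp_yi_55 j u) (Nat.ble (nat_lit 65) j)
noncomputable def dp_yi_57 (j u : ℕ) : Bool :=
  Bool.rec (motive := fun _ => Bool) (lF [T_z, T_y, T_z, T_yi, T_yi, T_q, T_yi, T_yi, T_z, T_y, T_z, T_yi, T_z, T_yi, T_q, T_yi, T_z] M (Nat.sub (T_yi u) (Nat.mod (T_yi u) M)) (Nat.mod (T_yi u) M) u) (lS MG [T_yi, T_z, T_q, T_yi, T_z, T_y, T_q, T_z, T_y, T_y, T_z, T_q, T_y, T_z, T_yi, T_q, T_z] M (Nat.sub (T_yi u) (Nat.mod (T_yi u) M)) (nat_lit 40) (Nat.mod (T_yi u) M) u) (Nat.ble (nat_lit 68) j)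
noncomputable def dp_yi_58 (j u : ℕ) : Bool :=
  Bool.rec (motive := fun _ => Bool) (lS MG [T_yi, T_q, T_yi, T_yi, T_z, T_y, T_z, T_yi, T_z, T_yi, T_q, T_yi, T_z, T_yi, T_z, T_y, T_z] M (Nat.sub (T_yi u) (Nat.mod (T_yi u) M)) (nat_lit 40) (Nat.mod (T_yi u) M) u) (lF [T_yi, T_q, T_yi, T_yi, T_yi, T_q, T_yi, T_yi, T_yi, T_q, T_y, T_y, T_y, T_q, T_yi] M (Nat.sub (T_yi u) (Nat.mod (T_yi u) M)) (Nat.mod (T_yi u) M) u) (Nat.ble (nat_lit 70) j)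
noncomputable def dp_yi_59 (j u : ℕ) : Bool :=
  Bool.rec (motive := fun _ => Bool) (dp_yi_57 j u) (dp_yi_58 j u) (Nat.ble (nat_lit 69) j)
noncomputable def dp_yi_60 (j u : ℕ) : Bool :=
  Bool.rec (motive := fun _ => Bool) (dp_yi_56 j u) (dp_yi_59 j u) (Nat.ble (nat_lit 67) j)
noncomputable def dp_yi_61 (j u : ℕ) : Bool :=
  Bool.rec (motive := fun _ => Bool) (dp_yi_54 j u) (dp_yi_60 j u) (Nat.ble (nat_lit 64) j)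
noncomputable def dp_yi_62 (j u : ℕ) : Bool :=
  Bool.rec (motive := fun _ => Bool) (lF [T_q, T_y, T_q, T_z, T_yi, T_z, T_q, T_y, T_q, T_yi, T_z, T_q, T_y, T_q, T_z] M (Nat.sub (T_yi u) (Nat.mod (T_yi u) M)) (Nat.mod (T_yi u) M) u) (lF [T_q, T_z, T_y, T_z, T_q, T_yi, T_z, T_y, T_z, T_q, T_yi, T_q, T_z, T_y, T_z] M (Nat.sub (T_yi u) (Nat.mod (T_yi u) M)) (Nat.mod (T_yi u) M) u) (Nat.ble (nat_lit 72) j)
noncomputable def dp_yi_63 (j u : ℕ) : Bool :=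
  Bool.rec (motive := fun _ => Bool) (lF [T_yi, T_q, T_yi, T_q, T_y, T_y, T_q, T_y, T_y, T_y, T_q, T_yi, T_q, T_yi, T_q] M (Nat.sub (T_yi u) (Nat.mod (T_yi u) M)) (Nat.mod (T_yi u) M) u) (lF [T_z, T_yi, T_q, T_yi, T_z, T_yi, T_z, T_y, T_z, T_yi, T_yi, T_q, T_yi, T_yi, T_z, T_y, T_z] M (Nat.sub (T_yi u) (Nat.mod (T_yi u) M)) (Nat.mod (T_yi u) M) u) (Nat.ble (nat_lit 74) j)
noncomputable def dp_yi_64 (j u : ℕ) : Bool :=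
  Bool.rec (motive := fun _ => Bool) (dp_yi_62 j u) (dp_yi_63 j u) (Nat.ble (nat_lit 73) j)
noncomputable def dp_yi_65 (j u : ℕ) : Bool :=
  Bool.rec (motive := fun _ => Bool) (lS MG [T_q, T_yi, T_z, T_yi, T_z, T_y, T_z, T_yi, T_yi, T_q, T_yi, T_yi, T_z, T_y, T_z, T_yi, T_z] M (Nat.sub (T_yi u) (Nat.mod (T_yi u) M)) (nat_lit 40) (Nat.mod (T_yi u) M) u) (lS MG [T_q, T_z, T_y, T_q, T_yi, T_q, T_z, T_y, T_z, T_q, T_yi, T_q, T_y, T_z, T_q] M (Nat.sub (T_yi u) (Nat.mod (T_yi u) M)) (nat_lit 40) (Nat.mod (T_yi u) M) u) (Nat.ble (nat_lit 76) j)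
noncomputable def dp_yi_66 (j u : ℕ) : Bool :=
  Bool.rec (motive := fun _ => Bool) (lF [T_z, T_y, T_q, T_yi, T_q, T_z, T_q, T_y, T_z, T_yi, T_q, T_y, T_q, T_z, T_q] M (Nat.sub (T_yi u) (Nat.mod (T_yi u) M)) (Nat.mod (T_yi u) M) u) (lF [T_yi, T_q, T_z, T_yi, T_z, T_y, T_z, T_q, T_y, T_y, T_q, T_z, T_y, T_z, T_yi, T_z, T_q] M (Nat.sub (T_yi u) (Nat.mod (T_yi u) M)) (Nat.mod (T_yi u) M) u) (Nat.ble (nat_lit 78) j)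
noncomputable def dp_yi_67 (j u : ℕ) : Bool :=
  Bool.rec (motive := fun _ => Bool) (dp_yi_65 j u) (dp_yi_66 j u) (Nat.ble (nat_lit 77) j)
noncomputable def dp_yi_68 (j u : ℕ) : Bool :=
  Bool.rec (motive := fun _ => Bool) (dp_yi_64 j u) (dp_yi_67 j u) (Nat.ble (nat_lit 75) j)
noncomputable def dp_yi_69 (j u : ℕ) : Bool :=
  Bool.rec (motive := fun _ => Bool) (lF [T_z, T_y, T_q, T_z, T_yi, T_q, T_z, T_y, T_z, T_yi, T_z, T_q, T_y, T_z, T_q] M (Nat.sub (T_yi u) (Nat.mod (T_yi u) M)) (Nat.mod (T_yi u) M) u) (lF [T_q, T_yi, T_q, T_y, T_y, T_q, T_y, T_y, T_y, T_q, T_yi, T_q, T_yi, T_q, T_yi] M (Nat.sub (T_yi u) (Nat.mod (T_yi u) M)) (Nat.mod (T_yi u) M) u) (Nat.ble (nat_lit 80) j)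
noncomputable def dp_yi_70 (j u : ℕ) : Bool :=
  Bool.rec (motive := fun _ => Bool) (lF [T_q, T_y, T_y, T_z, T_q, T_z, T_yi, T_yi, T_q, T_y, T_y, T_z, T_q, T_z, T_yi] M (Nat.sub (T_yi u) (Nat.mod (T_yi u) M)) (Nat.mod (T_yi u) M) u) (lF [T_z, T_q, T_yi, T_yi, T_q, T_z, T_yi, T_z, T_y, T_z, T_q, T_y, T_y, T_q, T_z, T_y, T_z] M (Nat.sub (T_yi u) (Nat.mod (T_yi u) M)) (Nat.mod (T_yi u) M) u) (Nat.ble (nat_lit 83) j)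
noncomputable def dp_yi_71 (j u : ℕ) : Bool :=
  Bool.rec (motive := fun _ => Bool) (lF [T_z, T_y, T_z, T_yi, T_z, T_yi, T_q, T_yi, T_z, T_yi, T_z, T_y, T_z, T_yi, T_yi, T_q, T_yi] M (Nat.sub (T_yi u) (Nat.mod (T_yi u) M)) (Nat.mod (T_yi u) M) u) (dp_yi_70 j u) (Nat.ble (nat_lit 82) j)
noncomputable def dp_yi_72 (j u : ℕ) : Bool :=
  Bool.rec (motive := fun _ => Bool) (dp_yi_69 j u) (dp_yi_71 j u) (Nat.ble (nat_lit 81) j)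
noncomputable def dp_yi_73 (j u : ℕ) : Bool :=
  Bool.rec (motive := fun _ => Bool) (lS MG [T_q, T_z, T_yi, T_yi, T_z, T_q, T_yi, T_z, T_y, T_q, T_z, T_y, T_y, T_z, T_q, T_y, T_z] M (Nat.sub (T_yi u) (Nat.mod (T_yi u) M)) (nat_lit 40) (Nat.mod (T_yi u) M) u) (lS MG [T_z, T_yi, T_q, T_yi, T_z, T_yi, T_z, T_y, T_z, T_yi, T_yi, T_q, T_yi, T_yi, T_z, T_y, T_z] M (Nat.sub (T_yi u) (Nat.mod (T_yi u) M)) (nat_lit 40) (Nat.mod (T_yi u) M) u) (Nat.ble (nat_lit 85) j)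
noncomputable def dp_yi_74 (j u : ℕ) : Bool :=
  Bool.rec (motive := fun _ => Bool) (lF [T_q, T_yi, T_yi, T_z, T_y, T_z, T_yi, T_z, T_yi, T_q, T_yi, T_z, T_yi, T_z, T_y, T_z, T_yi] M (Nat.sub (T_yi u) (Nat.mod (T_yi u) M)) (Nat.mod (T_yi u) M) u) (lF [T_q, T_y, T_q, T_y, T_y, T_q, T_y, T_q, T_y, T_q, T_yi, T_yi, T_yi, T_q, T_yi] M (Nat.sub (T_yi u) (Nat.mod (T_yi u) M)) (Nat.mod (T_yi u) M) u) (Nat.ble (nat_lit 88) j)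
noncomputable def dp_yi_75 (j u : ℕ) : Bool :=
  Bool.rec (motive := fun _ => Bool) (lS MG [T_z, T_yi, T_z, T_y, T_z, T_yi, T_yi, T_q, T_yi, T_yi, T_z, T_y, T_z, T_yi, T_z, T_yi, T_q] M (Nat.sub (T_yi u) (Nat.mod (T_yi u) M)) (nat_lit 40) (Nat.mod (T_yi u) M) u) (dp_yi_74 j u) (Nat.ble (nat_lit 87) j)
noncomputable def dp_yi_76 (j u : ℕ) : Bool :=
  Bool.rec (motive := fun _ => Bool) (dp_yi_73 j u) (dp_yi_75 j u) (Nat.ble (nat_lit 86) j)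
noncomputable def dp_yi_77 (j u : ℕ) : Bool :=
  Bool.rec (motive := fun _ => Bool) (dp_yi_72 j u) (dp_yi_76 j u) (Nat.ble (nat_lit 84) j)
noncomputable def dp_yi_78 (j u : ℕ) : Bool :=
  Bool.rec (motive := fun _ => Bool) (dp_yi_68 j u) (dp_yi_77 j u) (Nat.ble (nat_lit 79) j)
noncomputable def dp_yi_79 (j u : ℕ) : Bool :=
  Bool.rec (motive := fun _ => Bool) (dp_yi_61 j u) (dp_yi_78 j u) (Nat.ble (nat_lit 71) j)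
noncomputable def dp_yi_80 (j u : ℕ) : Bool :=
  Bool.rec (motive := fun _ => Bool) (dp_yi_49 j u) (dp_yi_79 j u) (Nat.ble (nat_lit 58) j)
noncomputable def dp_yi_81 (j u : ℕ) : Bool :=
  Bool.rec (motive := fun _ => Bool) (lF [T_q, T_z, T_y, T_z, T_yi, T_z, T_q, T_y, T_z, T_q, T_yi, T_z, T_y, T_q, T_z] M (Nat.sub (T_yi u) (Nat.mod (T_yi u) M)) (Nat.mod (T_yi u) M) u) (lS MG [T_z, T_y, T_q, T_z, T_y, T_y, T_z, T_q, T_y, T_z, T_yi, T_q, T_z, T_yi, T_yi, T_z, T_q] M (Nat.sub (T_yi u) (Nat.mod (T_yi u) M)) (nat_lit 40) (Nat.mod (T_yi u) M) u) (Nat.ble (nat_lit 90) j)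
noncomputable def dp_yi_82 (j u : ℕ) : Bool :=
  Bool.rec (motive := fun _ => Bool) (lF [T_z, T_y, T_z, T_y, T_q, T_y, T_z, T_y, T_z, T_yi, T_z, T_y, T_y, T_q, T_y, T_y, T_z] M (Nat.sub (T_yi u) (Nat.mod (T_yi u) M)) (Nat.mod (T_yi u) M) u) (lF [T_q, T_yi, T_q, T_yi, T_z, T_q, T_z, T_yi, T_q, T_yi, T_q, T_yi, T_z, T_q, T_z] M (Nat.sub (T_yi u) (Nat.mod (T_yi u) M)) (Nat.mod (T_yi u) M) u) (Nat.ble (nat_lit 93) j)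
noncomputable def dp_yi_83 (j u : ℕ) : Bool :=
  Bool.rec (motive := fun _ => Bool) (lS MG [T_yi, T_q, T_z, T_yi, T_z, T_y, T_z, T_q, T_y, T_y, T_q, T_z, T_y, T_z, T_yi, T_z, T_q] M (Nat.sub (T_yi u) (Nat.mod (T_yi u) M)) (nat_lit 40) (Nat.mod (T_yi u) M) u) (dp_yi_82 j u) (Nat.ble (nat_lit 92) j)
noncomputable def dp_yi_84 (j u : ℕ) : Bool :=
  Bool.rec (motive := fun _ => Bool) (dp_yi_81 j u) (dp_yi_83 j u) (Nat.ble (nat_lit 91) j)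
noncomputable def dp_yi_85 (j u : ℕ) : Bool :=
  Bool.rec (motive := fun _ => Bool) (lF [T_z, T_q, T_y, T_q, T_z, T_yi, T_z, T_y, T_q, T_z, T_yi, T_z, T_q, T_y, T_z] M (Nat.sub (T_yi u) (Nat.mod (T_yi u) M)) (Nat.mod (T_yi u) M) u) (lF [T_yi, T_q, T_y, T_q, T_y, T_y, T_q, T_y, T_q, T_y, T_q, T_yi, T_yi, T_yi, T_q] M (Nat.sub (T_yi u) (Nat.mod (T_yi u) M)) (Nat.mod (T_yi u) M) u) (Nat.ble (nat_lit 95) j)
noncomputable def dp_yi_86 (j u : ℕ) : Bool :=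
  Bool.rec (motive := fun _ => Bool) (lF [T_z, T_q, T_yi, T_z, T_y, T_z, T_q, T_y, T_y, T_z, T_q, T_y, T_z, T_yi, T_z, T_q, T_yi] M (Nat.sub (T_yi u) (Nat.mod (T_yi u) M)) (Nat.mod (T_yi u) M) u) (lF [T_yi, T_z, T_y, T_z, T_yi, T_z, T_yi, T_q, T_yi, T_z, T_yi, T_z, T_y, T_z, T_yi, T_yi, T_q] M (Nat.sub (T_yi u) (Nat.mod (T_yi u) M)) (Nat.mod (T_yi u) M) u) (Nat.ble (nat_lit 98) j)
noncomputable def dp_yi_87 (j u : ℕ) : Bool :=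
  Bool.rec (motive := fun _ => Bool) (lF [T_z, T_y, T_z, T_q, T_y, T_y, T_q, T_z, T_y, T_z, T_yi, T_z, T_q, T_yi, T_yi, T_q, T_z] M (Nat.sub (T_yi u) (Nat.mod (T_yi u) M)) (Nat.mod (T_yi u) M) u) (dp_yi_86 j u) (Nat.ble (nat_lit 97) j)
noncomputable def dp_yi_88 (j u : ℕ) : Bool :=
  Bool.rec (motive := fun _ => Bool) (dp_yi_85 j u) (dp_yi_87 j u) (Nat.ble (nat_lit 96) j)
noncomputable def dp_yi_89 (j u : ℕ) : Bool :=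
  Bool.rec (motive := fun _ => Bool) (dp_yi_84 j u) (dp_yi_88 j u) (Nat.ble (nat_lit 94) j)
noncomputable def dp_yi_90 (j u : ℕ) : Bool :=
  Bool.rec (motive := fun _ => Bool) (lS MG [T_z, T_q, T_z, T_q, T_yi, T_yi, T_yi, T_z, T_q, T_z, T_q, T_yi, T_yi] M (Nat.sub (T_yi u) (Nat.mod (T_yi u) M)) (nat_lit 40) (Nat.mod (T_yi u) M) u) (lF [T_q, T_yi, T_yi, T_yi, T_q, T_y, T_q, T_y, T_q, T_y, T_y, T_q, T_y, T_q, T_yi] M (Nat.sub (T_yi u) (Nat.mod (T_yi u) M)) (Nat.mod (T_yi u) M) u) (Nat.ble (nat_lit 101) j)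
noncomputable def dp_yi_91 (j u : ℕ) : Bool :=
  Bool.rec (motive := fun _ => Bool) (lF [T_q, T_z, T_yi, T_z, T_y, T_z, T_q, T_y, T_y, T_q, T_z, T_y, T_z, T_yi, T_z, T_q, T_yi] M (Nat.sub (T_yi u) (Nat.mod (T_yi u) M)) (Nat.mod (T_yi u) M) u) (dp_yi_90 j u) (Nat.ble (nat_lit 100) j)
noncomputable def dp_yi_92 (j u : ℕ) : Bool :=
  Bool.rec (motive := fun _ => Bool) (lF [T_z, T_q, T_z, T_yi, T_q, T_yi, T_q, T_yi, T_z, T_q, T_z, T_yi, T_q, T_yi, T_q] M (Nat.sub (T_yi u) (Nat.mod (T_yi u) M)) (Nat.mod (T_yi u) M) u) (lS MG [T_yi, T_yi, T_q, T_yi, T_yi, T_yi, T_q, T_y, T_y, T_y, T_q, T_yi, T_yi, T_yi, T_q] M (Nat.sub (T_yi u) (Nat.mod (T_yi u) M)) (nat_lit 40) (Nat.mod (T_yi u) M) u) (Nat.ble (nat_lit 104) j)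
noncomputable def dp_yi_93 (j u : ℕ) : Bool :=
  Bool.rec (motive := fun _ => Bool) (lS MG [T_q, T_yi, T_yi, T_yi, T_q, T_yi, T_yi, T_yi, T_q, T_y, T_y, T_y, T_q, T_yi, T_yi] M (Nat.sub (T_yi u) (Nat.mod (T_yi u) M)) (nat_lit 40) (Nat.mod (T_yi u) M) u) (dp_yi_92 j u) (Nat.ble (nat_lit 103) j)
noncomputable def dp_yi_94 (j u : ℕ) : Bool :=
  Bool.rec (motive := fun _ => Bool) (dp_yi_91 j u) (dp_yi_93 j u) (Nat.ble (nat_lit 102) j)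
noncomputable def dp_yi_95 (j u : ℕ) : Bool :=
  Bool.rec (motive := fun _ => Bool) (lF [T_z, T_q, T_yi, T_yi, T_yi, T_q, T_z, T_yi, T_yi, T_z, T_q, T_yi, T_yi, T_yi, T_q, T_z, T_yi, T_yi, T_z, T_q, T_yi, T_yi, T_yi, T_q, T_z, T_yi] M (Nat.sub (T_yi u) (Nat.mod (T_yi u) M)) (Nat.mod (T_yi u) M) u) (lF [T_z, T_y, T_q, T_z, T_q, T_yi, T_q, T_y, T_z, T_yi, T_q, T_z, T_q, T_y, T_q] M (Nat.sub (T_yi u) (Nat.mod (T_yi u) M)) (Nat.mod (T_yi u) M) u) (Nat.ble (nat_lit 107) j)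
noncomputable def dp_yi_96 (j u : ℕ) : Bool :=
  Bool.rec (motive := fun _ => Bool) (lS MG [T_z, T_y, T_z, T_yi, T_z, T_yi, T_q, T_yi, T_z, T_yi, T_z, T_y, T_z, T_yi, T_yi, T_q, T_yi] M (Nat.sub (T_yi u) (Nat.mod (T_yi u) M)) (nat_lit 40) (Nat.mod (T_yi u) M) u) (dp_yi_95 j u) (Nat.ble (nat_lit 106) j)
noncomputable def dp_yi_97 (j u : ℕ) : Bool :=
  Bool.rec (motive := fun _ => Bool) (lF [T_q, T_yi, T_yi, T_q, T_y, T_q, T_y, T_y, T_q, T_y, T_q, T_y, T_q, T_yi, T_yi] M (Nat.sub (T_yi u) (Nat.mod (T_yi u) M)) (Nat.mod (T_yi u) M) u) (lS MG [T_q, T_yi, T_yi, T_z, T_y, T_z, T_yi, T_z, T_yi, T_q, T_yi, T_z, T_yi, T_z, T_y, T_z, T_yi] M (Nat.sub (T_yi u) (Nat.mod (T_yi u) M)) (nat_lit 40) (Nat.mod (T_yi u) M) u) (Nat.ble (nat_lit 110) j)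
noncomputable def dp_yi_98 (j u : ℕ) : Bool :=
  Bool.rec (motive := fun _ => Bool) (lF [T_z, T_y, T_q, T_z, T_yi, T_z, T_q, T_y, T_z, T_yi, T_z, T_q, T_y, T_q, T_z] M (Nat.sub (T_yi u) (Nat.mod (T_yi u) M)) (Nat.mod (T_yi u) M) u) (dp_yi_97 j u) (Nat.ble (nat_lit 109) j)
noncomputable def dp_yi_99 (j u : ℕ) : Bool :=
  Bool.rec (motive := fun _ => Bool) (dp_yi_96 j u) (dp_yi_98 j u) (Nat.ble (nat_lit 108) j)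
noncomputable def dp_yi_100 (j u : ℕ) : Bool :=
  Bool.rec (motive := fun _ => Bool) (dp_yi_94 j u) (dp_yi_99 j u) (Nat.ble (nat_lit 105) j)
noncomputable def dp_yi_101 (j u : ℕ) : Bool :=
  Bool.rec (motive := fun _ => Bool) (dp_yi_89 j u) (dp_yi_100 j u) (Nat.ble (nat_lit 99) j)
noncomputable def dp_yi_102 (j u : ℕ) : Bool :=
  Bool.rec (motive := fun _ => Bool) (lS MG [T_yi, T_z, T_q, T_z, T_q, T_yi, T_yi, T_yi, T_z, T_q, T_z, T_q, T_yi] M (Nat.sub (T_yi u) (Nat.mod (T_yi u) M)) (nat_lit 40) (Nat.mod (T_yi u) M) u) (lS MG [T_z, T_y, T_z, T_yi, T_yi, T_q, T_yi, T_yi, T_z, T_y, T_z, T_yi, T_z, T_yi, T_q, T_yi, T_z] M (Nat.sub (T_yi u) (Nat.mod (T_yi u) M)) (nat_lit 40) (Nat.mod (T_yi u) M) u) (Nat.ble (nat_lit 113) j)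
noncomputable def dp_yi_103 (j u : ℕ) : Bool :=
  Bool.rec (motive := fun _ => Bool) (lF [T_yi, T_z, T_q, T_z, T_y, T_y, T_q, T_yi, T_yi, T_z, T_q, T_z, T_y, T_y, T_q] M (Nat.sub (T_yi u) (Nat.mod (T_yi u) M)) (Nat.mod (T_yi u) M) u) (dp_yi_102 j u) (Nat.ble (nat_lit 112) j)
noncomputable def dp_yi_104 (j u : ℕ) : Bool :=
  Bool.rec (motive := fun _ => Bool) (lS MG [T_yi, T_q, T_y, T_y, T_z, T_q, T_z, T_yi, T_yi, T_q, T_y, T_y, T_z, T_q, T_z] M (Nat.sub (T_yi u) (Nat.mod (T_yi u) M)) (nat_lit 40) (Nat.mod (T_yi u) M) u) (lF [T_yi, T_q, T_z, T_yi, T_z, T_y, T_q, T_z, T_y, T_y, T_q, T_z, T_y, T_z, T_yi, T_q, T_z] M (Nat.sub (T_yi u) (Nat.mod (T_yi u) M)) (Nat.mod (T_yi u) M) u) (Nat.ble (nat_lit 116) j)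
noncomputable def dp_yi_105 (j u : ℕ) : Bool :=
  Bool.rec (motive := fun _ => Bool) (lS MG [T_z, T_q, T_y, T_q, T_yi, T_z, T_q, T_y, T_q, T_z, T_yi, T_q, T_y, T_q, T_z] M (Nat.sub (T_yi u) (Nat.mod (T_yi u) M)) (nat_lit 40) (Nat.mod (T_yi u) M) u) (dp_yi_104 j u) (Nat.ble (nat_lit 115) j)
noncomputable def dp_yi_106 (j u : ℕ) : Bool :=
  Bool.rec (motive := fun _ => Bool) (dp_yi_103 j u) (dp_yi_105 j u) (Nat.ble (nat_lit 114) j)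
noncomputable def dp_yi_107 (j u : ℕ) : Bool :=
  Bool.rec (motive := fun _ => Bool) (lF [T_z, T_y, T_y, T_q, T_y, T_y, T_z, T_yi, T_z, T_y, T_z, T_y, T_q, T_y, T_z, T_y, T_z] M (Nat.sub (T_yi u) (Nat.mod (T_yi u) M)) (Nat.mod (T_yi u) M) u) (lS MG [T_q, T_z, T_yi, T_z, T_y, T_z, T_q, T_y, T_y, T_q, T_z, T_y, T_z, T_yi, T_z, T_q, T_yi] M (Nat.sub (T_yi u) (Nat.mod (T_yi u) M)) (nat_lit 40) (Nat.mod (T_yi u) M) u) (Nat.ble (nat_lit 119) j)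
noncomputable def dp_yi_108 (j u : ℕ) : Bool :=
  Bool.rec (motive := fun _ => Bool) (lF [T_yi, T_q, T_yi, T_yi, T_yi, T_q, T_y, T_q, T_y, T_q, T_y, T_y, T_q, T_y, T_q] M (Nat.sub (T_yi u) (Nat.mod (T_yi u) M)) (Nat.mod (T_yi u) M) u) (dp_yi_107 j u) (Nat.ble (nat_lit 118) j)
noncomputable def dp_yi_109 (j u : ℕ) : Bool :=
  Bool.rec (motive := fun _ => Bool) (lS MG [T_z, T_q, T_y, T_z, T_q, T_yi, T_z, T_y, T_q, T_z, T_yi, T_q, T_z, T_y, T_z] M (Nat.sub (T_yi u) (Nat.mod (T_yi u) M)) (nat_lit 40) (Nat.mod (T_yi u) M) u) (lF [T_q, T_z, T_y, T_q, T_z, T_yi, T_z, T_y, T_z, T_q, T_yi, T_z, T_q, T_y, T_z] M (Nat.sub (T_yi u) (Nat.mod (T_yi u) M)) (Nat.mod (T_yi u) M) u) (Nat.ble (nat_lit 121) j)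
noncomputable def dp_yi_110 (j u : ℕ) : Bool :=
  Bool.rec (motive := fun _ => Bool) (lS MG [T_yi, T_yi, T_z, T_q, T_z, T_q, T_yi, T_yi, T_yi, T_z, T_q, T_z, T_q] M (Nat.sub (T_yi u) (Nat.mod (T_yi u) M)) (nat_lit 40) (Nat.mod (T_yi u) M) u) (lS MG [T_z, T_y, T_z, T_y, T_q, T_y, T_z, T_y, T_z, T_yi, T_z, T_y, T_y, T_q, T_y, T_y, T_z] M (Nat.sub (T_yi u) (Nat.mod (T_yi u) M)) (nat_lit 40) (Nat.mod (T_yi u) M) u) (Nat.ble (nat_lit 123) j)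
noncomputable def dp_yi_111 (j u : ℕ) : Bool :=
  Bool.rec (motive := fun _ => Bool) (dp_yi_109 j u) (dp_yi_110 j u) (Nat.ble (nat_lit 122) j)
noncomputable def dp_yi_112 (j u : ℕ) : Bool :=
  Bool.rec (motive := fun _ => Bool) (dp_yi_108 j u) (dp_yi_111 j u) (Nat.ble (nat_lit 120) j)
noncomputable def dp_yi_113 (j u : ℕ) : Bool :=
  Bool.rec (motive := fun _ => Bool) (dp_yi_106 j u) (dp_yi_112 j u) (Nat.ble (nat_lit 117) j)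
noncomputable def dp_yi_114 (j u : ℕ) : Bool :=
  Bool.rec (motive := fun _ => Bool) (lF [T_q, T_yi, T_yi, T_yi, T_q, T_y, T_y, T_y, T_q, T_yi, T_yi, T_yi, T_q, T_yi, T_yi] M (Nat.sub (T_yi u) (Nat.mod (T_yi u) M)) (Nat.mod (T_yi u) M) u) (lS MG [T_z, T_q, T_z, T_y, T_y, T_q, T_yi, T_yi, T_z, T_q, T_z, T_y, T_y, T_q, T_yi] M (Nat.sub (T_yi u) (Nat.mod (T_yi u) M)) (nat_lit 40) (Nat.mod (T_yi u) M) u) (Nat.ble (nat_lit 126) j)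
noncomputable def dp_yi_115 (j u : ℕ) : Bool :=
  Bool.rec (motive := fun _ => Bool) (lS MG [T_q, T_z, T_q, T_y, T_q, T_yi, T_z, T_y, T_q, T_z, T_q, T_yi, T_q, T_y, T_z] M (Nat.sub (T_yi u) (Nat.mod (T_yi u) M)) (nat_lit 40) (Nat.mod (T_yi u) M) u) (dp_yi_114 j u) (Nat.ble (nat_lit 125) j)
noncomputable def dp_yi_116 (j u : ℕ) : Bool :=
  Bool.rec (motive := fun _ => Bool) (lS MG [T_yi, T_z, T_y, T_z, T_yi, T_z, T_yi, T_q, T_yi, T_z, T_yi, T_z, T_y, T_z, T_yi, T_yi, T_q] M (Nat.sub (T_yi u) (Nat.mod (T_yi u) M)) (nat_lit 40) (Nat.mod (T_yi u) M) u) (lS MG [T_q, T_yi, T_q, T_y, T_y, T_q, T_y, T_y, T_y, T_q, T_yi, T_q, T_yi, T_q, T_yi] M (Nat.sub (T_yi u) (Nat.mod (T_yi u) M)) (nat_lit 40) (Nat.mod (T_yi u) M) u) (Nat.ble (nat_lit 128) j)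
noncomputable def dp_yi_117 (j u : ℕ) : Bool :=
  Bool.rec (motive := fun _ => Bool) (lS MG [T_yi, T_q, T_yi, T_yi, T_yi, T_q, T_yi, T_yi, T_yi, T_q, T_y, T_y, T_y, T_q, T_yi] M (Nat.sub (T_yi u) (Nat.mod (T_yi u) M)) (nat_lit 40) (Nat.mod (T_yi u) M) u) (lF [T_yi, T_yi, T_q, T_yi, T_yi, T_yi, T_q, T_yi, T_yi, T_yi, T_q, T_y, T_y, T_y, T_q] M (Nat.sub (T_yi u) (Nat.mod (T_yi u) M)) (Nat.mod (T_yi u) M) u) (Nat.ble (nat_lit 130) j)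
noncomputable def dp_yi_118 (j u : ℕ) : Bool :=
  Bool.rec (motive := fun _ => Bool) (dp_yi_116 j u) (dp_yi_117 j u) (Nat.ble (nat_lit 129) j)
noncomputable def dp_yi_119 (j u : ℕ) : Bool :=
  Bool.rec (motive := fun _ => Bool) (dp_yi_115 j u) (dp_yi_118 j u) (Nat.ble (nat_lit 127) j)
noncomputable def dp_yi_120 (j u : ℕ) : Bool :=
  Bool.rec (motive := fun _ => Bool) (lF [T_yi, T_z, T_q, T_yi, T_yi, T_yi, T_q, T_z, T_yi, T_yi, T_z, T_q, T_yi, T_yi, T_yi, T_q, T_z, T_yi, T_yi, T_z, T_q, T_yi, T_yi, T_yi, T_q, T_z] M (Nat.sub (T_yi u) (Nat.mod (T_yi u) M)) (Nat.mod (T_yi u) M) u) (lF [T_z, T_y, T_z, T_q, T_yi, T_q, T_z, T_y, T_z, T_yi, T_q, T_z, T_y, T_z, T_q] M (Nat.sub (T_yi u) (Nat.mod (T_yi u) M)) (Nat.mod (T_yi u) M) u) (Nat.ble (nat_lit 132) j)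
noncomputable def dp_yi_121 (j u : ℕ) : Bool :=
  Bool.rec (motive := fun _ => Bool) (lF [T_z, T_q, T_y, T_z, T_yi, T_z, T_q, T_y, T_q, T_z, T_yi, T_z, T_y, T_q, T_z] M (Nat.sub (T_yi u) (Nat.mod (T_yi u) M)) (Nat.mod (T_yi u) M) u) (lS MG [T_z, T_q, T_yi, T_yi, T_q, T_z, T_yi, T_z, T_y, T_z, T_q, T_y, T_y, T_q, T_z, T_y, T_z] M (Nat.sub (T_yi u) (Nat.mod (T_yi u) M)) (nat_lit 40) (Nat.mod (T_yi u) M) u) (Nat.ble (nat_lit 134) j)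
noncomputable def dp_yi_122 (j u : ℕ) : Bool :=
  Bool.rec (motive := fun _ => Bool) (dp_yi_120 j u) (dp_yi_121 j u) (Nat.ble (nat_lit 133) j)
noncomputable def dp_yi_123 (j u : ℕ) : Bool :=
  Bool.rec (motive := fun _ => Bool) (lS MG [T_z, T_y, T_z, T_q, T_y, T_y, T_q, T_z, T_y, T_z, T_yi, T_z, T_q, T_yi, T_yi, T_q, T_z] M (Nat.sub (T_yi u) (Nat.mod (T_yi u) M)) (nat_lit 40) (Nat.mod (T_yi u) M) u) (lF [T_q, T_z, T_yi, T_yi, T_q, T_z, T_yi, T_z, T_y, T_q, T_z, T_y, T_y, T_q, T_z, T_y, T_z] M (Nat.sub (T_yi u) (Nat.mod (T_yi u) M)) (Nat.mod (T_yi u) M) u) (Nat.ble (nat_lit 136) j)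
noncomputable def dp_yi_124 (j u : ℕ) : Bool :=
  Bool.rec (motive := fun _ => Bool) (lS MG [T_z, T_q, T_y, T_q, T_z, T_yi, T_q, T_y, T_q, T_z, T_yi, T_z, T_q, T_y, T_q] M (Nat.sub (T_yi u) (Nat.mod (T_yi u) M)) (nat_lit 40) (Nat.mod (T_yi u) M) u) (lF [T_q, T_yi, T_z, T_q, T_z, T_yi, T_q, T_yi, T_q, T_yi, T_z, T_q, T_z, T_yi, T_q] M (Nat.sub (T_yi u) (Nat.mod (T_yi u) M)) (Nat.mod (T_yi u) M) u) (Nat.ble (nat_lit 138) j)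
noncomputable def dp_yi_125 (j u : ℕ) : Bool :=
  Bool.rec (motive := fun _ => Bool) (dp_yi_123 j u) (dp_yi_124 j u) (Nat.ble (nat_lit 137) j)
noncomputable def dp_yi_126 (j u : ℕ) : Bool :=
  Bool.rec (motive := fun _ => Bool) (dp_yi_122 j u) (dp_yi_125 j u) (Nat.ble (nat_lit 135) j)
noncomputable def dp_yi_127 (j u : ℕ) : Bool :=
  Bool.rec (motive := fun _ => Bool) (dp_yi_119 j u) (dp_yi_126 j u) (Nat.ble (nat_lit 131) j)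
noncomputable def dp_yi_128 (j u : ℕ) : Bool :=
  Bool.rec (motive := fun _ => Bool) (dp_yi_113 j u) (dp_yi_127 j u) (Nat.ble (nat_lit 124) j)
noncomputable def dp_yi_129 (j u : ℕ) : Bool :=
  Bool.rec (motive := fun _ => Bool) (dp_yi_101 j u) (dp_yi_128 j u) (Nat.ble (nat_lit 111) j)
noncomputable def dp_yi_130 (j u : ℕ) : Bool :=
  Bool.rec (motive := fun _ => Bool) (lF [T_q, T_y, T_y, T_q, T_y, T_y, T_y, T_q, T_yi, T_q, T_yi, T_q, T_yi, T_yi, T_q] M (Nat.sub (T_yi u) (Nat.mod (T_yi u) M)) (Nat.mod (T_yi u) M) u) (lF [T_yi, T_yi, T_q, T_y, T_y, T_y, T_q, T_yi, T_yi, T_yi, T_q, T_yi, T_yi, T_yi, T_q] M (Nat.sub (T_yi u) (Nat.mod (T_yi u) M)) (Nat.mod (T_yi u) M) u) (Nat.ble (nat_lit 140) j)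
noncomputable def dp_yi_131 (j u : ℕ) : Bool :=
  Bool.rec (motive := fun _ => Bool) (lF [T_q, T_yi, T_q, T_yi, T_q, T_y, T_y, T_y, T_q, T_y, T_y, T_q, T_yi, T_q, T_yi] M (Nat.sub (T_yi u) (Nat.mod (T_yi u) M)) (Nat.mod (T_yi u) M) u) (lS MG [T_q, T_y, T_q, T_z, T_q, T_yi, T_z, T_y, T_q, T_yi, T_q, T_z, T_q, T_y, T_z] M (Nat.sub (T_yi u) (Nat.mod (T_yi u) M)) (nat_lit 40) (Nat.mod (T_yi u) M) u) (Nat.ble (nat_lit 142) j)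
noncomputable def dp_yi_132 (j u : ℕ) : Bool :=
  Bool.rec (motive := fun _ => Bool) (dp_yi_130 j u) (dp_yi_131 j u) (Nat.ble (nat_lit 141) j)
noncomputable def dp_yi_133 (j u : ℕ) : Bool :=
  Bool.rec (motive := fun _ => Bool) (lS MG [T_q, T_y, T_q, T_z, T_yi, T_z, T_q, T_y, T_q, T_yi, T_z, T_q, T_y, T_q, T_z] M (Nat.sub (T_yi u) (Nat.mod (T_yi u) M)) (nat_lit 40) (Nat.mod (T_yi u) M) u) (lS MG [T_yi, T_q, T_yi, T_q, T_y, T_y, T_q, T_y, T_y, T_y, T_q, T_yi, T_q, T_yi, T_q] M (Nat.sub (T_yi u) (Nat.mod (T_yi u) M)) (nat_lit 40) (Nat.mod (T_yi u) M) u) (Nat.ble (nat_lit 144) j)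
noncomputable def dp_yi_134 (j u : ℕ) : Bool :=
  Bool.rec (motive := fun _ => Bool) (lF [T_yi, T_q, T_yi, T_q, T_yi, T_q, T_y, T_y, T_y, T_q, T_y, T_y, T_q, T_yi, T_q] M (Nat.sub (T_yi u) (Nat.mod (T_yi u) M)) (Nat.mod (T_yi u) M) u) (lF [T_z, T_q, T_yi, T_yi, T_z, T_q, T_yi, T_z, T_y, T_z, T_q, T_y, T_y, T_z, T_q, T_y, T_z] M (Nat.sub (T_yi u) (Nat.mod (T_yi u) M)) (Nat.mod (T_yi u) M) u) (Nat.ble (nat_lit 147) j)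
noncomputable def dp_yi_135 (j u : ℕ) : Bool :=
  Bool.rec (motive := fun _ => Bool) (lS MG [T_yi, T_z, T_q, T_yi, T_yi, T_yi, T_q, T_z, T_yi, T_yi, T_z, T_q, T_yi, T_yi, T_yi, T_q, T_z, T_yi, T_yi, T_z, T_q, T_yi, T_yi, T_yi, T_q, T_z] M (Nat.sub (T_yi u) (Nat.mod (T_yi u) M)) (nat_lit 40) (Nat.mod (T_yi u) M) u) (dp_yi_134 j u) (Nat.ble (nat_lit 146) j)
noncomputable def dp_yi_136 (j u : ℕ) : Bool :=
  Bool.rec (motive := fun _ => Bool) (dp_yi_133 j u) (dp_yi_135 j u) (Nat.ble (nat_lit 145) j)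
noncomputable def dp_yi_137 (j u : ℕ) : Bool :=
  Bool.rec (motive := fun _ => Bool) (dp_yi_132 j u) (dp_yi_136 j u) (Nat.ble (nat_lit 143) j)
noncomputable def dp_yi_138 (j u : ℕ) : Bool :=
  Bool.rec (motive := fun _ => Bool) (lS MG [T_q, T_z, T_y, T_z, T_q, T_yi, T_z, T_y, T_z, T_q, T_yi, T_q, T_z, T_y, T_z] M (Nat.sub (T_yi u) (Nat.mod (T_yi u) M)) (nat_lit 40) (Nat.mod (T_yi u) M) u) (lS MG [T_z, T_q, T_yi, T_yi, T_yi, T_q, T_z, T_yi, T_yi, T_z, T_q, T_yi, T_yi, T_yi, T_q, T_z, T_yi, T_yi, T_z, T_q, T_yi, T_yi, T_yi, T_q, T_z, T_yi] M (Nat.sub (T_yi u) (Nat.mod (T_yi u) M)) (nat_lit 40) (Nat.mod (T_yi u) M) u) (Nat.ble (nat_lit 149) j)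
noncomputable def dp_yi_139 (j u : ℕ) : Bool :=
  Bool.rec (motive := fun _ => Bool) (lF [T_q, T_z, T_y, T_z, T_q, T_yi, T_q, T_y, T_z, T_q, T_yi, T_q, T_z, T_y, T_q] M (Nat.sub (T_yi u) (Nat.mod (T_yi u) M)) (Nat.mod (T_yi u) M) u) (lF [T_z, T_q, T_y, T_z, T_yi, T_q, T_z, T_y, T_q, T_z, T_yi, T_z, T_y, T_z, T_q] M (Nat.sub (T_yi u) (Nat.mod (T_yi u) M)) (Nat.mod (T_yi u) M) u) (Nat.ble (nat_lit 151) j)
noncomputable def dp_yi_140 (j u : ℕ) : Bool :=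
  Bool.rec (motive := fun _ => Bool) (dp_yi_138 j u) (dp_yi_139 j u) (Nat.ble (nat_lit 150) j)
noncomputable def dp_yi_141 (j u : ℕ) : Bool :=
  Bool.rec (motive := fun _ => Bool) (lF [T_q, T_yi, T_yi, T_q, T_yi, T_q, T_yi, T_q, T_y, T_y, T_y, T_q, T_y, T_y, T_q] M (Nat.sub (T_yi u) (Nat.mod (T_yi u) M)) (Nat.mod (T_yi u) M) u) (lS MG [T_z, T_y, T_q, T_z, T_yi, T_q, T_z, T_y, T_z, T_yi, T_z, T_q, T_y, T_z, T_q] M (Nat.sub (T_yi u) (Nat.mod (T_yi u) M)) (nat_lit 40) (Nat.mod (T_yi u) M) u) (Nat.ble (nat_lit 153) j)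
noncomputable def dp_yi_142 (j u : ℕ) : Bool :=
  Bool.rec (motive := fun _ => Bool) (lF [T_yi, T_yi, T_q, T_yi, T_yi, T_q, T_y, T_q, T_y, T_y, T_q, T_y, T_q, T_y, T_q] M (Nat.sub (T_yi u) (Nat.mod (T_yi u) M)) (Nat.mod (T_yi u) M) u) (lS MG [T_q, T_y, T_y, T_z, T_q, T_z, T_yi, T_yi, T_q, T_y, T_y, T_z, T_q, T_z, T_yi] M (Nat.sub (T_yi u) (Nat.mod (T_yi u) M)) (nat_lit 40) (Nat.mod (T_yi u) M) u) (Nat.ble (nat_lit 156) j)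
noncomputable def dp_yi_143 (j u : ℕ) : Bool :=
  Bool.rec (motive := fun _ => Bool) (lF [T_q, T_y, T_z, T_q, T_yi, T_q, T_z, T_y, T_q, T_yi, T_q, T_z, T_y, T_z, T_q] M (Nat.sub (T_yi u) (Nat.mod (T_yi u) M)) (Nat.mod (T_yi u) M) u) (dp_yi_142 j u) (Nat.ble (nat_lit 155) j)
noncomputable def dp_yi_144 (j u : ℕ) : Bool :=
  Bool.rec (motive := fun _ => Bool) (dp_yi_141 j u) (dp_yi_143 j u) (Nat.ble (nat_lit 154) j)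
noncomputable def dp_yi_145 (j u : ℕ) : Bool :=
  Bool.rec (motive := fun _ => Bool) (dp_yi_140 j u) (dp_yi_144 j u) (Nat.ble (nat_lit 152) j)
noncomputable def dp_yi_146 (j u : ℕ) : Bool :=
  Bool.rec (motive := fun _ => Bool) (dp_yi_137 j u) (dp_yi_145 j u) (Nat.ble (nat_lit 148) j)
noncomputable def dp_yi_147 (j u : ℕ) : Bool :=
  Bool.rec (motive := fun _ => Bool) (lF [T_q, T_yi, T_yi, T_q, T_yi, T_q, T_y, T_y, T_q, T_y, T_y, T_y, T_q, T_yi, T_q] M (Nat.sub (T_yi u) (Nat.mod (T_yi u) M)) (Nat.mod (T_yi u) M) u) (lS MG [T_yi, T_q, T_z, T_yi, T_z, T_y, T_q, T_z, T_y, T_y, T_q, T_z, T_y, T_z, T_yi, T_q, T_z] M (Nat.sub (T_yi u) (Nat.mod (T_yi u) M)) (nat_lit 40) (Nat.mod (T_yi u) M) u) (Nat.ble (nat_lit 158) j)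
noncomputable def dp_yi_148 (j u : ℕ) : Bool :=
  Bool.rec (motive := fun _ => Bool) (lF [T_q, T_z, T_yi, T_z, T_y, T_q, T_z, T_y, T_y, T_q, T_z, T_y, T_z, T_yi, T_q, T_z, T_yi] M (Nat.sub (T_yi u) (Nat.mod (T_yi u) M)) (Nat.mod (T_yi u) M) u) (lF [T_q, T_z, T_y, T_z, T_yi, T_q, T_z, T_y, T_z, T_q, T_yi, T_z, T_y, T_z, T_q] M (Nat.sub (T_yi u) (Nat.mod (T_yi u) M)) (Nat.mod (T_yi u) M) u) (Nat.ble (nat_lit 161) j)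
noncomputable def dp_yi_149 (j u : ℕ) : Bool :=
  Bool.rec (motive := fun _ => Bool) (lS MG [T_z, T_y, T_y, T_q, T_y, T_y, T_z, T_yi, T_z, T_y, T_z, T_y, T_q, T_y, T_z, T_y, T_z] M (Nat.sub (T_yi u) (Nat.mod (T_yi u) M)) (nat_lit 40) (Nat.mod (T_yi u) M) u) (dp_yi_148 j u) (Nat.ble (nat_lit 160) j)
noncomputable def dp_yi_150 (j u : ℕ) : Bool :=
  Bool.rec (motive := fun _ => Bool) (dp_yi_147 j u) (dp_yi_149 j u) (Nat.ble (nat_lit 159) j)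
noncomputable def dp_yi_151 (j u : ℕ) : Bool :=
  Bool.rec (motive := fun _ => Bool) (lS MG [T_q, T_yi, T_yi, T_q, T_y, T_q, T_y, T_y, T_q, T_y, T_q, T_y, T_q, T_yi, T_yi] M (Nat.sub (T_yi u) (Nat.mod (T_yi u) M)) (nat_lit 40) (Nat.mod (T_yi u) M) u) (lF [T_yi, T_z, T_q, T_yi, T_z, T_y, T_z, T_q, T_y, T_y, T_z, T_q, T_y, T_z, T_yi, T_z, T_q] M (Nat.sub (T_yi u) (Nat.mod (T_yi u) M)) (Nat.mod (T_yi u) M) u) (Nat.ble (nat_lit 164) j)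
noncomputable def dp_yi_152 (j u : ℕ) : Bool :=
  Bool.rec (motive := fun _ => Bool) (lF [T_yi, T_q, T_yi, T_yi, T_q, T_y, T_q, T_y, T_y, T_q, T_y, T_q, T_y, T_q, T_yi] M (Nat.sub (T_yi u) (Nat.mod (T_yi u) M)) (Nat.mod (T_yi u) M) u) (dp_yi_151 j u) (Nat.ble (nat_lit 163) j)
noncomputable def dp_yi_153 (j u : ℕ) : Bool :=
  Bool.rec (motive := fun _ => Bool) (lF [T_q, T_yi, T_q, T_yi, T_yi, T_q, T_yi, T_q, T_y, T_y, T_q, T_y, T_y, T_y, T_q] M (Nat.sub (T_yi u) (Nat.mod (T_yi u) M)) (Nat.mod (T_yi u) M) u) (lF [T_z, T_y, T_q, T_z, T_y, T_y, T_q, T_z, T_y, T_z, T_yi, T_q, T_z, T_yi, T_yi, T_q, T_z] M (Nat.sub (T_yi u) (Nat.mod (T_yi u) M)) (Nat.mod (T_yi u) M) u) (Nat.ble (nat_lit 167) j)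
noncomputable def dp_yi_154 (j u : ℕ) : Bool :=
  Bool.rec (motive := fun _ => Bool) (lS MG [T_z, T_y, T_q, T_z, T_yi, T_z, T_q, T_y, T_z, T_yi, T_z, T_q, T_y, T_q, T_z] M (Nat.sub (T_yi u) (Nat.mod (T_yi u) M)) (nat_lit 40) (Nat.mod (T_yi u) M) u) (dp_yi_153 j u) (Nat.ble (nat_lit 166) j)
noncomputable def dp_yi_155 (j u : ℕ) : Bool :=
  Bool.rec (motive := fun _ => Bool) (dp_yi_152 j u) (dp_yi_154 j u) (Nat.ble (nat_lit 165) j)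
noncomputable def dp_yi_156 (j u : ℕ) : Bool :=
  Bool.rec (motive := fun _ => Bool) (dp_yi_150 j u) (dp_yi_155 j u) (Nat.ble (nat_lit 162) j)
noncomputable def dp_yi_157 (j u : ℕ) : Bool :=
  Bool.rec (motive := fun _ => Bool) (lS MG [T_q, T_y, T_q, T_y, T_y, T_q, T_y, T_q, T_y, T_q, T_yi, T_yi, T_yi, T_q, T_yi] M (Nat.sub (T_yi u) (Nat.mod (T_yi u) M)) (nat_lit 40) (Nat.mod (T_yi u) M) u) (lF [T_yi, T_yi, T_q, T_y, T_q, T_y, T_q, T_y, T_y, T_q, T_y, T_q, T_yi, T_yi, T_q] M (Nat.sub (T_yi u) (Nat.mod (T_yi u) M)) (Nat.mod (T_yi u) M) u) (Nat.ble (nat_lit 170) j)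
noncomputable def dp_yi_158 (j u : ℕ) : Bool :=
  Bool.rec (motive := fun _ => Bool) (lS MG [T_z, T_y, T_q, T_yi, T_q, T_z, T_q, T_y, T_z, T_yi, T_q, T_y, T_q, T_z, T_q] M (Nat.sub (T_yi u) (Nat.mod (T_yi u) M)) (nat_lit 40) (Nat.mod (T_yi u) M) u) (dp_yi_157 j u) (Nat.ble (nat_lit 169) j)
noncomputable def dp_yi_159 (j u : ℕ) : Bool :=
  Bool.rec (motive := fun _ => Bool) (lS MG [T_z, T_q, T_yi, T_z, T_y, T_z, T_q, T_y, T_y, T_z, T_q, T_y, T_z, T_yi, T_z, T_q, T_yi] M (Nat.sub (T_yi u) (Nat.mod (T_yi u) M)) (nat_lit 40) (Nat.mod (T_yi u) M) u) (lS MG [T_q, T_yi, T_q, T_yi, T_z, T_q, T_z, T_yi, T_q, T_yi, T_q, T_yi, T_z, T_q, T_z] M (Nat.sub (T_yi u) (Nat.mod (T_yi u) M)) (nat_lit 40) (Nat.mod (T_yi u) M) u) (Nat.ble (nat_lit 173) j)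
noncomputable def dp_yi_160 (j u : ℕ) : Bool :=
  Bool.rec (motive := fun _ => Bool) (lF [T_v, T_q, T_z, T_q, T_z, T_y, T_z, T_q, T_z, T_q, T_v] M (Nat.sub (T_yi u) (Nat.mod (T_yi u) M)) (Nat.mod (T_yi u) M) u) (dp_yi_159 j u) (Nat.ble (nat_lit 172) j)
noncomputable def dp_yi_161 (j u : ℕ) : Bool :=
  Bool.rec (motive := fun _ => Bool) (dp_yi_158 j u) (dp_yi_160 j u) (Nat.ble (nat_lit 171) j)
noncomputable def dp_yi_162 (j u : ℕ) : Bool :=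
  Bool.rec (motive := fun _ => Bool) (lS MG [T_z, T_q, T_z, T_yi, T_q, T_yi, T_q, T_yi, T_z, T_q, T_z, T_yi, T_q, T_yi, T_q] M (Nat.sub (T_yi u) (Nat.mod (T_yi u) M)) (nat_lit 40) (Nat.mod (T_yi u) M) u) (lS MG [T_yi, T_z, T_q, T_z, T_y, T_y, T_q, T_yi, T_yi, T_z, T_q, T_z, T_y, T_y, T_q] M (Nat.sub (T_yi u) (Nat.mod (T_yi u) M)) (nat_lit 40) (Nat.mod (T_yi u) M) u) (Nat.ble (nat_lit 176) j)
noncomputable def dp_yi_163 (j u : ℕ) : Bool :=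
  Bool.rec (motive := fun _ => Bool) (lS MG [T_q, T_z, T_y, T_z, T_yi, T_z, T_q, T_y, T_z, T_q, T_yi, T_z, T_y, T_q, T_z] M (Nat.sub (T_yi u) (Nat.mod (T_yi u) M)) (nat_lit 40) (Nat.mod (T_yi u) M) u) (dp_yi_162 j u) (Nat.ble (nat_lit 175) j)
noncomputable def dp_yi_164 (j u : ℕ) : Bool :=
  Bool.rec (motive := fun _ => Bool) (lF [T_z, T_y, T_z, T_q, T_yi, T_z, T_q, T_y, T_z, T_yi, T_q, T_z, T_y, T_q, T_z] M (Nat.sub (T_yi u) (Nat.mod (T_yi u) M)) (Nat.mod (T_yi u) M) u) (lF [T_z, T_y, T_z, T_q, T_y, T_y, T_z, T_q, T_y, T_z, T_yi, T_z, T_q, T_yi, T_yi, T_z, T_q] M (Nat.sub (T_yi u) (Nat.mod (T_yi u) M)) (Nat.mod (T_yi u) M) u) (Nat.ble (nat_lit 179) j)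
noncomputable def dp_yi_165 (j u : ℕ) : Bool :=
  Bool.rec (motive := fun _ => Bool) (lF [T_q, T_y, T_q, T_y, T_q, T_y, T_y, T_q, T_y, T_q, T_yi, T_yi, T_q, T_yi, T_yi] M (Nat.sub (T_yi u) (Nat.mod (T_yi u) M)) (Nat.mod (T_yi u) M) u) (dp_yi_164 j u) (Nat.ble (nat_lit 178) j)
noncomputable def dp_yi_166 (j u : ℕ) : Bool :=
  Bool.rec (motive := fun _ => Bool) (dp_yi_163 j u) (dp_yi_165 j u) (Nat.ble (nat_lit 177) j)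
noncomputable def dp_yi_167 (j u : ℕ) : Bool :=
  Bool.rec (motive := fun _ => Bool) (dp_yi_161 j u) (dp_yi_166 j u) (Nat.ble (nat_lit 174) j)
noncomputable def dp_yi_168 (j u : ℕ) : Bool :=
  Bool.rec (motive := fun _ => Bool) (dp_yi_156 j u) (dp_yi_167 j u) (Nat.ble (nat_lit 168) j)
noncomputable def dp_yi_169 (j u : ℕ) : Bool :=
  Bool.rec (motive := fun _ => Bool) (dp_yi_146 j u) (dp_yi_168 j u) (Nat.ble (nat_lit 157) j)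
noncomputable def dp_yi_170 (j u : ℕ) : Bool :=
  Bool.rec (motive := fun _ => Bool) (lS MG [T_z, T_q, T_y, T_z, T_yi, T_z, T_q, T_y, T_q, T_z, T_yi, T_z, T_y, T_q, T_z] M (Nat.sub (T_yi u) (Nat.mod (T_yi u) M)) (nat_lit 40) (Nat.mod (T_yi u) M) u) (lF [T_q, T_y, T_y, T_y, T_q, T_yi, T_yi, T_yi, T_q, T_yi, T_yi, T_yi, T_q, T_yi, T_yi] M (Nat.sub (T_yi u) (Nat.mod (T_yi u) M)) (Nat.mod (T_yi u) M) u) (Nat.ble (nat_lit 182) j)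
noncomputable def dp_yi_171 (j u : ℕ) : Bool :=
  Bool.rec (motive := fun _ => Bool) (lS MG [T_q, T_yi, T_yi, T_yi, T_q, T_y, T_q, T_y, T_q, T_y, T_y, T_q, T_y, T_q, T_yi] M (Nat.sub (T_yi u) (Nat.mod (T_yi u) M)) (nat_lit 40) (Nat.mod (T_yi u) M) u) (dp_yi_170 j u) (Nat.ble (nat_lit 181) j)
noncomputable def dp_yi_172 (j u : ℕ) : Bool :=
  Bool.rec (motive := fun _ => Bool) (lF [T_yi, T_q, T_z, T_yi, T_q, T_z, T_yi, T_z, T_y, T_z, T_q, T_y, T_z, T_q, T_y, T_y, T_z, T_q, T_yi, T_q, T_z, T_q, T_y, T_q, T_z] M (Nat.sub (T_yi u) (Nat.mod (T_yi u) M)) (Nat.mod (T_yi u) M) u) (lF [T_q, T_z, T_y, T_z, T_q, T_yi, T_q, T_z, T_y, T_z, T_q, T_yi, T_q, T_z, T_y, T_z, T_q] M (Nat.sub (T_yi u) (Nat.mod (T_yi u) M)) (Nat.mod (T_yi u) M) u) (Nat.ble (nat_lit 184) j)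
noncomputable def dp_yi_173 (j u : ℕ) : Bool :=
  Bool.rec (motive := fun _ => Bool) (lS MG [T_z, T_q, T_y, T_q, T_z, T_yi, T_z, T_y, T_q, T_z, T_yi, T_z, T_q, T_y, T_z] M (Nat.sub (T_yi u) (Nat.mod (T_yi u) M)) (nat_lit 40) (Nat.mod (T_yi u) M) u) (lS MG [T_yi, T_q, T_y, T_q, T_y, T_y, T_q, T_y, T_q, T_y, T_q, T_yi, T_yi, T_yi, T_q] M (Nat.sub (T_yi u) (Nat.mod (T_yi u) M)) (nat_lit 40) (Nat.mod (T_yi u) M) u) (Nat.ble (nat_lit 186) j)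
noncomputable def dp_yi_174 (j u : ℕ) : Bool :=
  Bool.rec (motive := fun _ => Bool) (dp_yi_172 j u) (dp_yi_173 j u) (Nat.ble (nat_lit 185) j)
noncomputable def dp_yi_175 (j u : ℕ) : Bool :=
  Bool.rec (motive := fun _ => Bool) (dp_yi_171 j u) (dp_yi_174 j u) (Nat.ble (nat_lit 183) j)
noncomputable def dp_yi_176 (j u : ℕ) : Bool :=
  Bool.rec (motive := fun _ => Bool) (lF [T_yi, T_q, T_y, T_q, T_y, T_q, T_y, T_y, T_q, T_y, T_q, T_yi, T_yi, T_q, T_yi] M (Nat.sub (T_yi u) (Nat.mod (T_yi u) M)) (Nat.mod (T_yi u) M) u) (lF [T_yi, T_q, T_yi, T_yi, T_yi, T_q, T_y, T_y, T_y, T_q, T_yi, T_yi, T_yi, T_q, T_yi] M (Nat.sub (T_yi u) (Nat.mod (T_yi u) M)) (Nat.mod (T_yi u) M) u) (Nat.ble (nat_lit 189) j)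
noncomputable def dp_yi_177 (j u : ℕ) : Bool :=
  Bool.rec (motive := fun _ => Bool) (lS MG [T_q, T_z, T_yi, T_q, T_z, T_yi, T_q, T_z, T_yi, T_q, T_z, T_yi, T_q, T_z, T_yi, T_q, T_z, T_yi, T_q, T_z, T_yi, T_q, T_z] M (Nat.sub (T_yi u) (Nat.mod (T_yi u) M)) (nat_lit 40) (Nat.mod (T_yi u) M) u) (dp_yi_176 j u) (Nat.ble (nat_lit 188) j)
noncomputable def dp_yi_178 (j u : ℕ) : Bool :=
  Bool.rec (motive := fun _ => Bool) (lF [T_q, T_z, T_q, T_y, T_z, T_yi, T_q, T_y, T_q, T_z, T_q, T_yi, T_z, T_y, T_q] M (Nat.sub (T_yi u) (Nat.mod (T_yi u) M)) (Nat.mod (T_yi u) M) u) (lS MG [T_yi, T_q, T_yi, T_q, T_yi, T_q, T_y, T_y, T_y, T_q, T_y, T_y, T_q, T_yi, T_q] M (Nat.sub (T_yi u) (Nat.mod (T_yi u) M)) (nat_lit 40) (Nat.mod (T_yi u) M) u) (Nat.ble (nat_lit 191) j)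
noncomputable def dp_yi_179 (j u : ℕ) : Bool :=
  Bool.rec (motive := fun _ => Bool) (lF [T_z, T_q, T_y, T_q, T_z, T_yi, T_z, T_q, T_y, T_q, T_z, T_yi, T_z, T_q, T_y, T_q, T_z] M (Nat.sub (T_yi u) (Nat.mod (T_yi u) M)) (Nat.mod (T_yi u) M) u) (lF [T_q, T_z, T_yi, T_q, T_z, T_yi, T_q, T_z, T_yi, T_q, T_z, T_yi, T_q, T_z, T_yi, T_q, T_z, T_yi, T_q, T_z, T_yi, T_q, T_z] M (Nat.sub (T_yi u) (Nat.mod (T_yi u) M)) (Nat.mod (T_yi u) M) u) (Nat.ble (nat_lit 193) j)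
noncomputable def dp_yi_180 (j u : ℕ) : Bool :=
  Bool.rec (motive := fun _ => Bool) (dp_yi_178 j u) (dp_yi_179 j u) (Nat.ble (nat_lit 192) j)
noncomputable def dp_yi_181 (j u : ℕ) : Bool :=
  Bool.rec (motive := fun _ => Bool) (dp_yi_177 j u) (dp_yi_180 j u) (Nat.ble (nat_lit 190) j)
noncomputable def dp_yi_182 (j u : ℕ) : Bool :=
  Bool.rec (motive := fun _ => Bool) (dp_yi_175 j u) (dp_yi_181 j u) (Nat.ble (nat_lit 187) j)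
noncomputable def dp_yi_183 (j u : ℕ) : Bool :=
  Bool.rec (motive := fun _ => Bool) (lS MG [T_q, T_z, T_y, T_z, T_q, T_yi, T_q, T_y, T_z, T_q, T_yi, T_q, T_z, T_y, T_q] M (Nat.sub (T_yi u) (Nat.mod (T_yi u) M)) (nat_lit 40) (Nat.mod (T_yi u) M) u) (lF [T_yi, T_q, T_y, T_y, T_y, T_q, T_yi, T_yi, T_yi, T_q, T_yi, T_yi, T_yi, T_q, T_yi] M (Nat.sub (T_yi u) (Nat.mod (T_yi u) M)) (Nat.mod (T_yi u) M) u) (Nat.ble (nat_lit 195) j)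
noncomputable def dp_yi_184 (j u : ℕ) : Bool :=
  Bool.rec (motive := fun _ => Bool) (lS MG [T_yi, T_z, T_q, T_yi, T_z, T_y, T_z, T_q, T_y, T_y, T_z, T_q, T_y, T_z, T_yi, T_z, T_q] M (Nat.sub (T_yi u) (Nat.mod (T_yi u) M)) (nat_lit 40) (Nat.mod (T_yi u) M) u) (lS MG [T_z, T_y, T_z, T_q, T_yi, T_q, T_z, T_y, T_z, T_yi, T_q, T_z, T_y, T_z, T_q] M (Nat.sub (T_yi u) (Nat.mod (T_yi u) M)) (nat_lit 40) (Nat.mod (T_yi u) M) u) (Nat.ble (nat_lit 197) j)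
noncomputable def dp_yi_185 (j u : ℕ) : Bool :=
  Bool.rec (motive := fun _ => Bool) (dp_yi_183 j u) (dp_yi_184 j u) (Nat.ble (nat_lit 196) j)
noncomputable def dp_yi_186 (j u : ℕ) : Bool :=
  Bool.rec (motive := fun _ => Bool) (lF [T_z, T_q, T_z, T_y, T_z, T_q, T_z, T_yi, T_z, T_q, T_z, T_y, T_z, T_q, T_z] M (Nat.sub (T_yi u) (Nat.mod (T_yi u) M)) (Nat.mod (T_yi u) M) u) (lS MG [T_q, T_yi, T_q, T_yi, T_q, T_y, T_y, T_y, T_q, T_y, T_y, T_q, T_yi, T_q, T_yi] M (Nat.sub (T_yi u) (Nat.mod (T_yi u) M)) (nat_lit 40) (Nat.mod (T_yi u) M) u) (Nat.ble (nat_lit 199) j)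
noncomputable def dp_yi_187 (j u : ℕ) : Bool :=
  Bool.rec (motive := fun _ => Bool) (lS MG [T_z, T_q, T_yi, T_yi, T_z, T_q, T_yi, T_z, T_y, T_z, T_q, T_y, T_y, T_z, T_q, T_y, T_z] M (Nat.sub (T_yi u) (Nat.mod (T_yi u) M)) (nat_lit 40) (Nat.mod (T_yi u) M) u) (lS MG [T_q, T_z, T_yi, T_z, T_y, T_q, T_z, T_y, T_y, T_q, T_z, T_y, T_z, T_yi, T_q, T_z, T_yi] M (Nat.sub (T_yi u) (Nat.mod (T_yi u) M)) (nat_lit 40) (Nat.mod (T_yi u) M) u) (Nat.ble (nat_lit 201) j)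
noncomputable def dp_yi_188 (j u : ℕ) : Bool :=
  Bool.rec (motive := fun _ => Bool) (dp_yi_186 j u) (dp_yi_187 j u) (Nat.ble (nat_lit 200) j)
noncomputable def dp_yi_189 (j u : ℕ) : Bool :=
  Bool.rec (motive := fun _ => Bool) (dp_yi_185 j u) (dp_yi_188 j u) (Nat.ble (nat_lit 198) j)
noncomputable def dp_yi_190 (j u : ℕ) : Bool :=
  Bool.rec (motive := fun _ => Bool) (lS MG [T_yi, T_yi, T_q, T_yi, T_yi, T_yi, T_q, T_yi, T_yi, T_yi, T_q, T_y, T_y, T_y, T_q] M (Nat.sub (T_yi u) (Nat.mod (T_yi u) M)) (nat_lit 40) (Nat.mod (T_yi u) M) u) (lS MG [T_yi, T_yi, T_q, T_yi, T_yi, T_q, T_y, T_q, T_y, T_y, T_q, T_y, T_q, T_y, T_q] M (Nat.sub (T_yi u) (Nat.mod (T_yi u) M)) (nat_lit 40) (Nat.mod (T_yi u) M) u) (Nat.ble (nat_lit 203) j)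
noncomputable def dp_yi_191 (j u : ℕ) : Bool :=
  Bool.rec (motive := fun _ => Bool) (lF [T_q, T_z, T_yi, T_q, T_z, T_yi, T_z, T_y, T_z, T_q, T_y, T_z, T_q, T_y, T_y, T_z, T_q, T_yi, T_q, T_z, T_q, T_y, T_q, T_z, T_yi] M (Nat.sub (T_yi u) (Nat.mod (T_yi u) M)) (Nat.mod (T_yi u) M) u) (lS MG [T_z, T_y, T_z, T_q, T_yi, T_z, T_q, T_y, T_z, T_yi, T_q, T_z, T_y, T_q, T_z] M (Nat.sub (T_yi u) (Nat.mod (T_yi u) M)) (nat_lit 40) (Nat.mod (T_yi u) M) u) (Nat.ble (nat_lit 205) j)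
noncomputable def dp_yi_192 (j u : ℕ) : Bool :=
  Bool.rec (motive := fun _ => Bool) (dp_yi_190 j u) (dp_yi_191 j u) (Nat.ble (nat_lit 204) j)
noncomputable def dp_yi_193 (j u : ℕ) : Bool :=
  Bool.rec (motive := fun _ => Bool) (lS MG [T_q, T_yi, T_yi, T_q, T_yi, T_q, T_yi, T_q, T_y, T_y, T_y, T_q, T_y, T_y, T_q] M (Nat.sub (T_yi u) (Nat.mod (T_yi u) M)) (nat_lit 40) (Nat.mod (T_yi u) M) u) (lF [T_q, T_y, T_z, T_yi, T_q, T_z, T_q, T_y, T_q, T_yi, T_z, T_y, T_q, T_z, T_q] M (Nat.sub (T_yi u) (Nat.mod (T_yi u) M)) (Nat.mod (T_yi u) M) u) (Nat.ble (nat_lit 207) j)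
noncomputable def dp_yi_194 (j u : ℕ) : Bool :=
  Bool.rec (motive := fun _ => Bool) (lS MG [T_q, T_z, T_y, T_q, T_z, T_yi, T_z, T_y, T_z, T_q, T_yi, T_z, T_q, T_y, T_z] M (Nat.sub (T_yi u) (Nat.mod (T_yi u) M)) (nat_lit 40) (Nat.mod (T_yi u) M) u) (lS MG [T_q, T_y, T_y, T_q, T_y, T_y, T_y, T_q, T_yi, T_q, T_yi, T_q, T_yi, T_yi, T_q] M (Nat.sub (T_yi u) (Nat.mod (T_yi u) M)) (nat_lit 40) (Nat.mod (T_yi u) M) u) (Nat.ble (nat_lit 210) j)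
noncomputable def dp_yi_195 (j u : ℕ) : Bool :=
  Bool.rec (motive := fun _ => Bool) (lS MG [T_q, T_z, T_y, T_z, T_q, T_yi, T_q, T_z, T_y, T_z, T_q, T_yi, T_q, T_z, T_y, T_z, T_q] M (Nat.sub (T_yi u) (Nat.mod (T_yi u) M)) (nat_lit 40) (Nat.mod (T_yi u) M) u) (dp_yi_194 j u) (Nat.ble (nat_lit 209) j)
noncomputable def dp_yi_196 (j u : ℕ) : Bool :=
  Bool.rec (motive := fun _ => Bool) (dp_yi_193 j u) (dp_yi_195 j u) (Nat.ble (nat_lit 208) j)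
noncomputable def dp_yi_197 (j u : ℕ) : Bool :=
  Bool.rec (motive := fun _ => Bool) (dp_yi_192 j u) (dp_yi_196 j u) (Nat.ble (nat_lit 206) j)
noncomputable def dp_yi_198 (j u : ℕ) : Bool :=
  Bool.rec (motive := fun _ => Bool) (dp_yi_189 j u) (dp_yi_197 j u) (Nat.ble (nat_lit 202) j)
noncomputable def dp_yi_199 (j u : ℕ) : Bool :=
  Bool.rec (motive := fun _ => Bool) (dp_yi_182 j u) (dp_yi_198 j u) (Nat.ble (nat_lit 194) j)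
noncomputable def dp_yi_200 (j u : ℕ) : Bool :=
  Bool.rec (motive := fun _ => Bool) (lS MG [T_z, T_q, T_y, T_z, T_yi, T_q, T_z, T_y, T_q, T_z, T_yi, T_z, T_y, T_z, T_q] M (Nat.sub (T_yi u) (Nat.mod (T_yi u) M)) (nat_lit 40) (Nat.mod (T_yi u) M) u) (lS MG [T_q, T_y, T_z, T_q, T_yi, T_q, T_z, T_y, T_q, T_yi, T_q, T_z, T_y, T_z, T_q] M (Nat.sub (T_yi u) (Nat.mod (T_yi u) M)) (nat_lit 40) (Nat.mod (T_yi u) M) u) (Nat.ble (nat_lit 212) j)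
noncomputable def dp_yi_201 (j u : ℕ) : Bool :=
  Bool.rec (motive := fun _ => Bool) (lS MG [T_z, T_y, T_z, T_q, T_y, T_y, T_z, T_q, T_y, T_z, T_yi, T_z, T_q, T_yi, T_yi, T_z, T_q] M (Nat.sub (T_yi u) (Nat.mod (T_yi u) M)) (nat_lit 40) (Nat.mod (T_yi u) M) u) (lS MG [T_z, T_q, T_y, T_q, T_z, T_yi, T_z, T_q, T_y, T_q, T_z, T_yi, T_z, T_q, T_y, T_q, T_z] M (Nat.sub (T_yi u) (Nat.mod (T_yi u) M)) (nat_lit 40) (Nat.mod (T_yi u) M) u) (Nat.ble (nat_lit 214) j)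
noncomputable def dp_yi_202 (j u : ℕ) : Bool :=
  Bool.rec (motive := fun _ => Bool) (dp_yi_200 j u) (dp_yi_201 j u) (Nat.ble (nat_lit 213) j)
noncomputable def dp_yi_203 (j u : ℕ) : Bool :=
  Bool.rec (motive := fun _ => Bool) (lS MG [T_q, T_z, T_y, T_z, T_yi, T_q, T_z, T_y, T_z, T_q, T_yi, T_z, T_y, T_z, T_q] M (Nat.sub (T_yi u) (Nat.mod (T_yi u) M)) (nat_lit 40) (Nat.mod (T_yi u) M) u) (lS MG [T_q, T_yi, T_q, T_yi, T_yi, T_q, T_yi, T_q, T_y, T_y, T_q, T_y, T_y, T_y, T_q] M (Nat.sub (T_yi u) (Nat.mod (T_yi u) M)) (nat_lit 40) (Nat.mod (T_yi u) M) u) (Nat.ble (nat_lit 216) j)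
noncomputable def dp_yi_204 (j u : ℕ) : Bool :=
  Bool.rec (motive := fun _ => Bool) (lS MG [T_q, T_z, T_yi, T_yi, T_q, T_z, T_yi, T_z, T_y, T_q, T_z, T_y, T_y, T_q, T_z, T_y, T_z] M (Nat.sub (T_yi u) (Nat.mod (T_yi u) M)) (nat_lit 40) (Nat.mod (T_yi u) M) u) (lF [T_q, T_z, T_yi, T_z, T_y, T_z, T_q, T_y, T_z, T_q, T_y, T_y, T_z, T_q, T_yi, T_q, T_z, T_q, T_y, T_q, T_z, T_yi, T_yi, T_q, T_z] M (Nat.sub (T_yi u) (Nat.mod (T_yi u) M)) (Nat.mod (T_yi u) M) u) (Nat.ble (nat_lit 219) j)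
noncomputable def dp_yi_205 (j u : ℕ) : Bool :=
  Bool.rec (motive := fun _ => Bool) (lS MG [T_q, T_yi, T_z, T_q, T_z, T_yi, T_q, T_yi, T_q, T_yi, T_z, T_q, T_z, T_yi, T_q] M (Nat.sub (T_yi u) (Nat.mod (T_yi u) M)) (nat_lit 40) (Nat.mod (T_yi u) M) u) (dp_yi_204 j u) (Nat.ble (nat_lit 218) j)
noncomputable def dp_yi_206 (j u : ℕ) : Bool :=
  Bool.rec (motive := fun _ => Bool) (dp_yi_203 j u) (dp_yi_205 j u) (Nat.ble (nat_lit 217) j)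
noncomputable def dp_yi_207 (j u : ℕ) : Bool :=
  Bool.rec (motive := fun _ => Bool) (dp_yi_202 j u) (dp_yi_206 j u) (Nat.ble (nat_lit 215) j)
noncomputable def dp_yi_208 (j u : ℕ) : Bool :=
  Bool.rec (motive := fun _ => Bool) (lS MG [T_yi, T_yi, T_q, T_y, T_q, T_y, T_q, T_y, T_y, T_q, T_y, T_q, T_yi, T_yi, T_q] M (Nat.sub (T_yi u) (Nat.mod (T_yi u) M)) (nat_lit 40) (Nat.mod (T_yi u) M) u) (lS MG [T_z, T_y, T_q, T_z, T_q, T_yi, T_q, T_y, T_z, T_yi, T_q, T_z, T_q, T_y, T_q] M (Nat.sub (T_yi u) (Nat.mod (T_yi u) M)) (nat_lit 40) (Nat.mod (T_yi u) M) u) (Nat.ble (nat_lit 221) j)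
noncomputable def dp_yi_209 (j u : ℕ) : Bool :=
  Bool.rec (motive := fun _ => Bool) (lS MG [T_q, T_z, T_q, T_y, T_z, T_yi, T_q, T_y, T_q, T_z, T_q, T_yi, T_z, T_y, T_q] M (Nat.sub (T_yi u) (Nat.mod (T_yi u) M)) (nat_lit 40) (Nat.mod (T_yi u) M) u) (lS MG [T_q, T_yi, T_yi, T_q, T_yi, T_q, T_y, T_y, T_q, T_y, T_y, T_y, T_q, T_yi, T_q] M (Nat.sub (T_yi u) (Nat.mod (T_yi u) M)) (nat_lit 40) (Nat.mod (T_yi u) M) u) (Nat.ble (nat_lit 224) j)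
noncomputable def dp_yi_210 (j u : ℕ) : Bool :=
  Bool.rec (motive := fun _ => Bool) (lS MG [T_yi, T_q, T_yi, T_yi, T_q, T_y, T_q, T_y, T_y, T_q, T_y, T_q, T_y, T_q, T_yi] M (Nat.sub (T_yi u) (Nat.mod (T_yi u) M)) (nat_lit 40) (Nat.mod (T_yi u) M) u) (dp_yi_209 j u) (Nat.ble (nat_lit 223) j)
noncomputable def dp_yi_211 (j u : ℕ) : Bool :=
  Bool.rec (motive := fun _ => Bool) (dp_yi_208 j u) (dp_yi_210 j u) (Nat.ble (nat_lit 222) j)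
noncomputable def dp_yi_212 (j u : ℕ) : Bool :=
  Bool.rec (motive := fun _ => Bool) (lS MG [T_yi, T_q, T_yi, T_yi, T_yi, T_q, T_y, T_q, T_y, T_q, T_y, T_y, T_q, T_y, T_q] M (Nat.sub (T_yi u) (Nat.mod (T_yi u) M)) (nat_lit 40) (Nat.mod (T_yi u) M) u) (lF [T_q, T_yi, T_q, T_y, T_y, T_y, T_q, T_y, T_y, T_q, T_yi, T_q, T_yi, T_yi, T_q] M (Nat.sub (T_yi u) (Nat.mod (T_yi u) M)) (Nat.mod (T_yi u) M) u) (Nat.ble (nat_lit 227) j)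
noncomputable def dp_yi_213 (j u : ℕ) : Bool :=
  Bool.rec (motive := fun _ => Bool) (lS MG [T_q, T_yi, T_yi, T_yi, T_q, T_y, T_y, T_y, T_q, T_yi, T_yi, T_yi, T_q, T_yi, T_yi] M (Nat.sub (T_yi u) (Nat.mod (T_yi u) M)) (nat_lit 40) (Nat.mod (T_yi u) M) u) (dp_yi_212 j u) (Nat.ble (nat_lit 226) j)
noncomputable def dp_yi_214 (j u : ℕ) : Bool :=
  Bool.rec (motive := fun _ => Bool) (lS MG [T_yi, T_q, T_z, T_yi, T_q, T_z, T_yi, T_z, T_y, T_z, T_q, T_y, T_z, T_q, T_y, T_y, T_z, T_q, T_yi, T_q, T_z, T_q, T_y, T_q, T_z] M (Nat.sub (T_yi u) (Nat.mod (T_yi u) M)) (nat_lit 40) (Nat.mod (T_yi u) M) u) (lF [T_yi, T_yi, T_q, T_z, T_yi, T_yi, T_z, T_q, T_yi, T_yi, T_yi, T_q, T_z, T_yi, T_yi, T_z, T_q, T_yi, T_yi, T_yi, T_q, T_z, T_yi, T_yi, T_z, T_q] M (Nat.sub (T_yi u) (Nat.mod (T_yi u) M)) (Nat.mod (T_yi u) M) u) (Nat.ble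 (nat_lit 230) j)
noncomputable def dp_yi_215 (j u : ℕ) : Bool :=
  Bool.rec (motive := fun _ => Bool) (lS MG [T_z, T_y, T_q, T_z, T_y, T_y, T_q, T_z, T_y, T_z, T_yi, T_q, T_z, T_yi, T_yi, T_q, T_z] M (Nat.sub (T_yi u) (Nat.mod (T_yi u) M)) (nat_lit 40) (Nat.mod (T_yi u) M) u) (dp_yi_214 j u) (Nat.ble (nat_lit 229) j)
noncomputable def dp_yi_216 (j u : ℕ) : Bool :=
  Bool.rec (motive := fun _ => Bool) (dp_yi_213 j u) (dp_yi_215 j u) (Nat.ble (nat_lit 228) j)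
noncomputable def dp_yi_217 (j u : ℕ) : Bool :=
  Bool.rec (motive := fun _ => Bool) (dp_yi_211 j u) (dp_yi_216 j u) (Nat.ble (nat_lit 225) j)
noncomputable def dp_yi_218 (j u : ℕ) : Bool :=
  Bool.rec (motive := fun _ => Bool) (dp_yi_207 j u) (dp_yi_217 j u) (Nat.ble (nat_lit 220) j)
noncomputable def dp_yi_219 (j u : ℕ) : Bool :=
  Bool.rec (motive := fun _ => Bool) (lS MG [T_q, T_z, T_yi, T_q, T_z, T_yi, T_z, T_y, T_z, T_q, T_y, T_z, T_q, T_y, T_y, T_z, T_q, T_yi, T_q, T_z, T_q, T_y, T_q, T_z, T_yi] M (Nat.sub (T_yi u) (Nat.mod (T_yi u) M)) (nat_lit 40) (Nat.mod (T_yi u) M) u) (lS MG [T_yi, T_yi, T_q, T_y, T_y, T_y, T_q, T_yi, T_yi, T_yi, T_q, T_yi, T_yi, T_yi, T_q] M (Nat.sub (T_yi u) (Nat.mod (T_yi u) M)) (nat_lit 40) (Nat.mod (T_yi u) M) u) (Nat.ble (nat_lit 233) j)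
noncomputable def dp_yi_220 (j u : ℕ) : Bool :=
  Bool.rec (motive := fun _ => Bool) (lF [T_q, T_y, T_y, T_y, T_q, T_y, T_y, T_q, T_yi, T_q, T_yi, T_yi, T_q, T_yi, T_q] M (Nat.sub (T_yi u) (Nat.mod (T_yi u) M)) (Nat.mod (T_yi u) M) u) (dp_yi_219 j u) (Nat.ble (nat_lit 232) j)
noncomputable def dp_yi_221 (j u : ℕ) : Bool :=
  Bool.rec (motive := fun _ => Bool) (lS MG [T_q, T_z, T_yi, T_z, T_y, T_z, T_q, T_y, T_z, T_q, T_y, T_y, T_z, T_q, T_yi, T_q, T_z, T_q, T_y, T_q, T_z, T_yi, T_yi, T_q, T_z] M (Nat.sub (T_yi u) (Nat.mod (T_yi u) M)) (nat_lit 40) (Nat.mod (T_yi u) M) u) (lS MG [T_yi, T_q, T_z, T_yi, T_yi, T_z, T_q, T_yi, T_yi, T_yi, T_q, T_z, T_yi, T_yi, T_z, T_q, T_yi, T_yi, T_yi, T_q, T_z, T_yi, T_yi, T_z, T_q, T_yi] M (Nat.sub (T_yi u) (Nat.mod (T_yi u) M)) (nat_lit 40) (Nat.mod (T_yi u) M) u) (Nat.ble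 (nat_lit 236) j)
noncomputable def dp_yi_222 (j u : ℕ) : Bool :=
  Bool.rec (motive := fun _ => Bool) (lF [T_yi, T_q, T_z, T_yi, T_yi, T_z, T_q, T_yi, T_yi, T_yi, T_q, T_z, T_yi, T_yi, T_z, T_q, T_yi, T_yi, T_yi, T_q, T_z, T_yi, T_yi, T_z, T_q, T_yi] M (Nat.sub (T_yi u) (Nat.mod (T_yi u) M)) (Nat.mod (T_yi u) M) u) (dp_yi_221 j u) (Nat.ble (nat_lit 235) j)
noncomputable def dp_yi_223 (j u : ℕ) : Bool :=
  Bool.rec (motive := fun _ => Bool) (dp_yi_220 j u) (dp_yi_222 j u) (Nat.ble (nat_lit 234) j)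
noncomputable def dp_yi_224 (j u : ℕ) : Bool :=
  Bool.rec (motive := fun _ => Bool) (lS MG [T_q, T_y, T_q, T_y, T_q, T_y, T_y, T_q, T_y, T_q, T_yi, T_yi, T_q, T_yi, T_yi] M (Nat.sub (T_yi u) (Nat.mod (T_yi u) M)) (nat_lit 40) (Nat.mod (T_yi u) M) u) (lS MG [T_q, T_y, T_z, T_yi, T_q, T_z, T_q, T_y, T_q, T_yi, T_z, T_y, T_q, T_z, T_q] M (Nat.sub (T_yi u) (Nat.mod (T_yi u) M)) (nat_lit 40) (Nat.mod (T_yi u) M) u) (Nat.ble (nat_lit 238) j)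
noncomputable def dp_yi_225 (j u : ℕ) : Bool :=
  Bool.rec (motive := fun _ => Bool) (lS MG [T_v, T_q, T_z, T_q, T_z, T_y, T_z, T_q, T_z, T_q, T_v] M (Nat.sub (T_yi u) (Nat.mod (T_yi u) M)) (nat_lit 40) (Nat.mod (T_yi u) M) u) (lS MG [T_q, T_y, T_y, T_y, T_q, T_yi, T_yi, T_yi, T_q, T_yi, T_yi, T_yi, T_q, T_yi, T_yi] M (Nat.sub (T_yi u) (Nat.mod (T_yi u) M)) (nat_lit 40) (Nat.mod (T_yi u) M) u) (Nat.ble (nat_lit 240) j)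
noncomputable def dp_yi_226 (j u : ℕ) : Bool :=
  Bool.rec (motive := fun _ => Bool) (dp_yi_224 j u) (dp_yi_225 j u) (Nat.ble (nat_lit 239) j)
noncomputable def dp_yi_227 (j u : ℕ) : Bool :=
  Bool.rec (motive := fun _ => Bool) (lS MG [T_q, T_z, T_yi, T_yi, T_z, T_q, T_yi, T_yi, T_yi, T_q, T_z, T_yi, T_yi, T_z, T_q, T_yi, T_yi, T_yi, T_q, T_z, T_yi, T_yi, T_z, T_q, T_yi, T_yi] M (Nat.sub (T_yi u) (Nat.mod (T_yi u) M)) (nat_lit 40) (Nat.mod (T_yi u) M) u) (lS MG [T_yi, T_q, T_yi, T_yi, T_yi, T_q, T_y, T_y, T_y, T_q, T_yi, T_yi, T_yi, T_q, T_yi] M (Nat.sub (T_yi u) (Nat.mod (T_yi u) M)) (nat_lit 40) (Nat.mod (T_yi u) M) u) (Nat.ble (nat_lit 242) j)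
noncomputable def dp_yi_228 (j u : ℕ) : Bool :=
  Bool.rec (motive := fun _ => Bool) (lS MG [T_q, T_yi, T_q, T_y, T_y, T_y, T_q, T_y, T_y, T_q, T_yi, T_q, T_yi, T_yi, T_q] M (Nat.sub (T_yi u) (Nat.mod (T_yi u) M)) (nat_lit 40) (Nat.mod (T_yi u) M) u) (lF [T_q, T_z, T_yi, T_yi, T_yi, T_q, T_z, T_yi, T_q, T_z, T_yi, T_yi, T_yi, T_q, T_z, T_yi, T_q, T_z, T_yi, T_yi, T_yi, T_q, T_z, T_yi, T_q, T_z, T_yi, T_yi, T_yi, T_q, T_z] M (Nat.sub (T_yi u) (Nat.mod (T_yi u) M)) (Nat.mod (T_yi u) M) u) (Nat.ble (nat_lit 244) j)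
noncomputable def dp_yi_229 (j u : ℕ) : Bool :=
  Bool.rec (motive := fun _ => Bool) (dp_yi_227 j u) (dp_yi_228 j u) (Nat.ble (nat_lit 243) j)
noncomputable def dp_yi_230 (j u : ℕ) : Bool :=
  Bool.rec (motive := fun _ => Bool) (dp_yi_226 j u) (dp_yi_229 j u) (Nat.ble (nat_lit 241) j)
noncomputable def dp_yi_231 (j u : ℕ) : Bool :=
  Bool.rec (motive := fun _ => Bool) (dp_yi_223 j u) (dp_yi_230 j u) (Nat.ble (nat_lit 237) j)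
noncomputable def dp_yi_232 (j u : ℕ) : Bool :=
  Bool.rec (motive := fun _ => Bool) (lS MG [T_yi, T_q, T_y, T_y, T_y, T_q, T_yi, T_yi, T_yi, T_q, T_yi, T_yi, T_yi, T_q, T_yi] M (Nat.sub (T_yi u) (Nat.mod (T_yi u) M)) (nat_lit 40) (Nat.mod (T_yi u) M) u) (lF [T_z, T_y, T_z, T_q, T_y, T_z, T_q, T_y, T_y, T_z, T_q, T_yi, T_q, T_z, T_q, T_y, T_q, T_z, T_yi, T_yi, T_q, T_z, T_yi, T_q, T_z] M (Nat.sub (T_yi u) (Nat.mod (T_yi u) M)) (Nat.mod (T_yi u) M) u) (Nat.ble (nat_lit 246) j)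
noncomputable def dp_yi_233 (j u : ℕ) : Bool :=
  Bool.rec (motive := fun _ => Bool) (lS MG [T_yi, T_yi, T_q, T_z, T_yi, T_yi, T_z, T_q, T_yi, T_yi, T_yi, T_q, T_z, T_yi, T_yi, T_z, T_q, T_yi, T_yi, T_yi, T_q, T_z, T_yi, T_yi, T_z, T_q] M (Nat.sub (T_yi u) (Nat.mod (T_yi u) M)) (nat_lit 40) (Nat.mod (T_yi u) M) u) (lF [T_q, T_y, T_y, T_y, T_q, T_y, T_y, T_y, T_q, T_y, T_y, T_y, T_q, T_yi, T_yi] M (Nat.sub (T_yi u) (Nat.mod (T_yi u) M)) (Nat.mod (T_yi u) M) u) (Nat.ble (nat_lit 249) j)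
noncomputable def dp_yi_234 (j u : ℕ) : Bool :=
  Bool.rec (motive := fun _ => Bool) (lS MG [T_yi, T_yi, T_q, T_z, T_yi, T_q, T_z, T_yi, T_yi, T_yi, T_q, T_z, T_yi, T_q, T_z, T_yi, T_yi, T_yi, T_q, T_z, T_yi, T_q, T_z, T_yi, T_yi, T_yi, T_q, T_z, T_yi, T_q, T_z] M (Nat.sub (T_yi u) (Nat.mod (T_yi u) M)) (nat_lit 40) (Nat.mod (T_yi u) M) u) (dp_yi_233 j u) (Nat.ble (nat_lit 248) j)
noncomputable def dp_yi_235 (j u : ℕ) : Bool :=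
  Bool.rec (motive := fun _ => Bool) (dp_yi_232 j u) (dp_yi_234 j u) (Nat.ble (nat_lit 247) j)
noncomputable def dp_yi_236 (j u : ℕ) : Bool :=
  Bool.rec (motive := fun _ => Bool) (lF [T_q, T_z, T_yi, T_yi, T_z, T_q, T_yi, T_yi, T_yi, T_q, T_z, T_yi, T_yi, T_z, T_q, T_yi, T_yi, T_yi, T_q, T_z, T_yi, T_yi, T_z, T_q, T_yi, T_yi] M (Nat.sub (T_yi u) (Nat.mod (T_yi u) M)) (Nat.mod (T_yi u) M) u) (lS MG [T_q, T_z, T_yi, T_yi, T_yi, T_q, T_z, T_yi, T_q, T_z, T_yi, T_yi, T_yi, T_q, T_z, T_yi, T_q, T_z, T_yi, T_yi, T_yi, T_q, T_z, T_yi, T_q, T_z, T_yi, T_yi, T_yi, T_q, T_z] M (Nat.sub (T_yi u) (Nat.mod (T_yi u) M)) (nat_lit 40) (Nat.mod (T_yi u) M) u) (Nat.ble (nat_lit 251) j)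
noncomputable def dp_yi_237 (j u : ℕ) : Bool :=
  Bool.rec (motive := fun _ => Bool) (lS MG [T_z, T_q, T_z, T_y, T_z, T_q, T_z, T_yi, T_z, T_q, T_z, T_y, T_z, T_q, T_z] M (Nat.sub (T_yi u) (Nat.mod (T_yi u) M)) (nat_lit 40) (Nat.mod (T_yi u) M) u) (lS MG [T_yi, T_q, T_z, T_yi, T_q, T_z, T_yi, T_yi, T_yi, T_q, T_z, T_yi, T_q, T_z, T_yi, T_yi, T_yi, T_q, T_z, T_yi, T_q, T_z, T_yi, T_yi, T_yi, T_q, T_z, T_yi, T_q, T_z, T_yi] M (Nat.sub (T_yi u) (Nat.mod (T_yi u) M)) (nat_lit 40) (Nat.mod (T_yi u) M) u) (Nat.ble (nat_lit 254) j)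
noncomputable def dp_yi_238 (j u : ℕ) : Bool :=
  Bool.rec (motive := fun _ => Bool) (lS MG [T_yi, T_q, T_y, T_q, T_y, T_q, T_y, T_y, T_q, T_y, T_q, T_yi, T_yi, T_q, T_yi] M (Nat.sub (T_yi u) (Nat.mod (T_yi u) M)) (nat_lit 40) (Nat.mod (T_yi u) M) u) (dp_yi_237 j u) (Nat.ble (nat_lit 253) j)
noncomputable def dp_yi_239 (j u : ℕ) : Bool :=
  Bool.rec (motive := fun _ => Bool) (dp_yi_236 j u) (dp_yi_238 j u) (Nat.ble (nat_lit 252) j)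
noncomputable def dp_yi_240 (j u : ℕ) : Bool :=
  Bool.rec (motive := fun _ => Bool) (dp_yi_235 j u) (dp_yi_239 j u) (Nat.ble (nat_lit 250) j)
noncomputable def dp_yi_241 (j u : ℕ) : Bool :=
  Bool.rec (motive := fun _ => Bool) (lS MG [T_z, T_y, T_z, T_q, T_y, T_z, T_q, T_y, T_y, T_z, T_q, T_yi, T_q, T_z, T_q, T_y, T_q, T_z, T_yi, T_yi, T_q, T_z, T_yi, T_q, T_z] M (Nat.sub (T_yi u) (Nat.mod (T_yi u) M)) (nat_lit 40) (Nat.mod (T_yi u) M) u) (lF [T_yi, T_yi, T_q, T_y, T_y, T_y, T_q, T_y, T_y, T_y, T_q, T_y, T_y, T_y, T_q] M (Nat.sub (T_yi u) (Nat.mod (T_yi u) M)) (Nat.mod (T_yi u) M) u) (Nat.ble (nat_lit 257) j)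
noncomputable def dp_yi_242 (j u : ℕ) : Bool :=
  Bool.rec (motive := fun _ => Bool) (lS MG [T_q, T_y, T_y, T_y, T_q, T_y, T_y, T_q, T_yi, T_q, T_yi, T_yi, T_q, T_yi, T_q] M (Nat.sub (T_yi u) (Nat.mod (T_yi u) M)) (nat_lit 40) (Nat.mod (T_yi u) M) u) (dp_yi_241 j u) (Nat.ble (nat_lit 256) j)
noncomputable def dp_yi_243 (j u : ℕ) : Bool :=
  Bool.rec (motive := fun _ => Bool) (lF [T_yi, T_yi, T_q, T_z, T_yi, T_q, T_z, T_yi, T_yi, T_yi, T_q, T_z, T_yi, T_q, T_z, T_yi, T_yi, T_yi, T_q, T_z, T_yi, T_q, T_z, T_yi, T_yi, T_yi, T_q, T_z, T_yi, T_q, T_z] M (Nat.sub (T_yi u) (Nat.mod (T_yi u) M)) (Nat.mod (T_yi u) M) u) (lF [T_yi, T_q, T_z, T_yi, T_q, T_z, T_yi, T_yi, T_yi, T_q, T_z, T_yi, T_q, T_z, T_yi, T_yi, T_yi, T_q, T_z, T_yi, T_q, T_z, T_yi, T_yi, T_yi, T_q, T_z, T_yi, T_q, T_z, T_yi] M (Nat.sub (T_yi u) (Nat.mod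 (T_yi u) M)) (Nat.mod (T_yi u) M) u) (Nat.ble (nat_lit 259) j)
noncomputable def dp_yi_244 (j u : ℕ) : Bool :=
  Bool.rec (motive := fun _ => Bool) (lS MG [T_q, T_z, T_yi, T_q, T_z, T_yi, T_yi, T_yi, T_q, T_z, T_yi, T_q, T_z, T_yi, T_yi, T_yi, T_q, T_z, T_yi, T_q, T_z, T_yi, T_yi, T_yi, T_q, T_z, T_yi, T_q, T_z, T_yi, T_yi] M (Nat.sub (T_yi u) (Nat.mod (T_yi u) M)) (nat_lit 40) (Nat.mod (T_yi u) M) u) (lF [T_yi, T_q, T_y, T_y, T_y, T_q, T_y, T_y, T_y, T_q, T_y, T_y, T_y, T_q, T_yi] M (Nat.sub (T_yi u) (Nat.mod (T_yi u) M)) (Nat.mod (T_yi u) M) u) (Nat.ble (nat_lit 261) j)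
noncomputable def dp_yi_245 (j u : ℕ) : Bool :=
  Bool.rec (motive := fun _ => Bool) (dp_yi_243 j u) (dp_yi_244 j u) (Nat.ble (nat_lit 260) j)
noncomputable def dp_yi_246 (j u : ℕ) : Bool :=
  Bool.rec (motive := fun _ => Bool) (dp_yi_242 j u) (dp_yi_245 j u) (Nat.ble (nat_lit 258) j)
noncomputable def dp_yi_247 (j u : ℕ) : Bool :=
  Bool.rec (motive := fun _ => Bool) (lF [T_q, T_z, T_q, T_y, T_q, T_z, T_yi, T_yi, T_q, T_z, T_yi, T_q, T_z, T_yi, T_z, T_y, T_z, T_q, T_y, T_z, T_q, T_y, T_y, T_z, T_q] M (Nat.sub (T_yi u) (Nat.mod (T_yi u) M)) (Nat.mod (T_yi u) M) u) (lS MG [T_q, T_z, T_q, T_y, T_q, T_z, T_yi, T_yi, T_q, T_z, T_yi, T_q, T_z, T_yi, T_z, T_y, T_z, T_q, T_y, T_z, T_q, T_y, T_y, T_z, T_q] M (Nat.sub (T_yi u) (Nat.mod (T_yi u) M)) (nat_lit 40) (Nat.mod (T_yi u) M) u) (Nat.ble (nat_lit 263) j)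
noncomputable def dp_yi_248 (j u : ℕ) : Bool :=
  Bool.rec (motive := fun _ => Bool) (lS MG [T_yi, T_yi, T_q, T_y, T_y, T_y, T_q, T_y, T_y, T_y, T_q, T_y, T_y, T_y, T_q] M (Nat.sub (T_yi u) (Nat.mod (T_yi u) M)) (nat_lit 40) (Nat.mod (T_yi u) M) u) (lS MG [T_q, T_y, T_y, T_y, T_q, T_y, T_y, T_y, T_q, T_y, T_y, T_y, T_q, T_yi, T_yi] M (Nat.sub (T_yi u) (Nat.mod (T_yi u) M)) (nat_lit 40) (Nat.mod (T_yi u) M) u) (Nat.ble (nat_lit 266) j)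
noncomputable def dp_yi_249 (j u : ℕ) : Bool :=
  Bool.rec (motive := fun _ => Bool) (lF [T_q, T_z, T_yi, T_q, T_z, T_yi, T_yi, T_yi, T_q, T_z, T_yi, T_q, T_z, T_yi, T_yi, T_yi, T_q, T_z, T_yi, T_q, T_z, T_yi, T_yi, T_yi, T_q, T_z, T_yi, T_q, T_z, T_yi, T_yi] M (Nat.sub (T_yi u) (Nat.mod (T_yi u) M)) (Nat.mod (T_yi u) M) u) (dp_yi_248 j u) (Nat.ble (nat_lit 265) j)
noncomputable def dp_yi_250 (j u : ℕ) : Bool :=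
  Bool.rec (motive := fun _ => Bool) (dp_yi_247 j u) (dp_yi_249 j u) (Nat.ble (nat_lit 264) j)
noncomputable def dp_yi_251 (j u : ℕ) : Bool :=
  Bool.rec (motive := fun _ => Bool) (lS MG [T_z, T_y, T_y, T_y, T_z, T_q, T_y, T_z, T_q, T_y, T_z, T_q, T_yi, T_q, T_z, T_yi, T_q, T_z, T_yi, T_yi, T_yi, T_z, T_y, T_y, T_y, T_z, T_q, T_y, T_z, T_q, T_y, T_z, T_q, T_yi, T_q, T_z, T_yi, T_q, T_z, T_yi, T_yi, T_yi, T_z, T_y, T_y, T_y, T_z, T_q, T_y, T_z, T_q, T_y, T_z, T_q, T_z, T_yi, T_q, T_z, T_yi, T_q, T_z, T_yi, T_yi] M (Nat.sub (T_yi u) (Nat.mod (T_yi u) M)) (nat_lit 40) (Nat.mod (T_yi u) M) u) (lS MG [T_yi, T_q, T_y, T_y, T_y, T_q, T_y, T_y, T_y, T_q, T_y, T_y, T_y, T_q, T_yi] M (Nat.sub (T_yi u) (Nat.mod (T_yi u) M)) (nat_lit 40) (Nat.mod (T_yi u) M) u) (Nat.ble (nat_lit 268) j)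
noncomputable def dp_yi_252 (j u : ℕ) : Bool :=
  Bool.rec (motive := fun _ => Bool) (lS MG [T_z, T_y, T_y, T_y, T_z, T_q, T_y, T_z, T_q, T_y, T_z, T_q, T_yi, T_q, T_z, T_yi, T_q, T_z, T_yi, T_yi, T_yi, T_z, T_y, T_y, T_y, T_z, T_q, T_y, T_z, T_q, T_y, T_z, T_q, T_z, T_yi, T_q, T_z, T_yi, T_q, T_z, T_yi, T_yi, T_yi, T_z, T_y, T_y, T_y, T_z, T_q, T_y, T_z, T_q, T_y, T_z, T_q, T_yi, T_q, T_z, T_yi, T_q, T_z, T_yi, T_yi] M (Nat.sub (T_yi u) (Nat.mod (T_yi u) M)) (nat_lit 40) (Nat.mod (T_yi u) M) u) (lS MG [T_q, T_z, T_yi, T_q, T_z, T_yi, T_yi, T_yi, T_z, T_y, T_y, T_y, T_z, T_q, T_y, T_z, T_q, T_y, T_z, T_q, T_yi, T_q, T_z, T_yi, T_q, T_z, T_yi, T_yi, T_yi, T_z, T_y, T_y, T_y, T_z, T_q, T_y, T_z, T_q, T_y, T_z, T_q, T_z, T_yi, T_q, T_z, T_yi, T_q, T_z, T_yi, T_yi, T_yi, T_z, T_y, T_y, T_y, T_z, T_q, T_y, T_z,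 T_q, T_y, T_z, T_q] M (Nat.sub (T_yi u) (Nat.mod (T_yi u) M)) (nat_lit 40) (Nat.mod (T_yi u) M) u) (Nat.ble (nat_lit 270) j)
noncomputable def dp_yi_253 (j u : ℕ) : Bool :=
  Bool.rec (motive := fun _ => Bool) (lS MG [T_yi, T_yi, T_z, T_y, T_y, T_y, T_z, T_q, T_y, T_z, T_q, T_y, T_z, T_q, T_yi, T_q, T_z, T_yi, T_q, T_z, T_yi, T_yi, T_yi, T_z, T_y, T_y, T_y, T_z, T_q, T_y, T_z, T_q, T_y, T_z, T_q, T_z, T_yi, T_q, T_z, T_yi, T_q, T_z, T_yi, T_yi, T_yi, T_z, T_y, T_y, T_y, T_z, T_q, T_y, T_z, T_q, T_y, T_z, T_q, T_yi, T_q, T_z, T_yi, T_q, T_z] M (Nat.sub (T_yi u) (Nat.mod (T_yi u) M)) (nat_lit 40) (Nat.mod (T_yi u) M) u) (lS MG [T_yi, T_z, T_y, T_y, T_y, T_z, T_q, T_y, T_z, T_q, T_y, T_z, T_q, T_yi, T_q, T_z, T_yi, T_q, T_z, T_yi, T_yi, T_yi, T_z, T_y, T_y, T_y, T_z, T_q, T_y, T_z, T_q, T_y, T_z, T_q, T_yi, T_q,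 T_z, T_yi, T_q, T_z, T_yi, T_yi, T_yi, T_z, T_y, T_y, T_y, T_z, T_q, T_y, T_z, T_q, T_y, T_z, T_q, T_z, T_yi, T_q, T_z, T_yi, T_q, T_z, T_yi] M (Nat.sub (T_yi u) (Nat.mod (T_yi u) M)) (nat_lit 40) (Nat.mod (T_yi u) M) u) (Nat.ble (nat_lit 273) j)
noncomputable def dp_yi_254 (j u : ℕ) : Bool :=
  Bool.rec (motive := fun _ => Bool) (lS MG [T_z, T_y, T_y, T_y, T_z, T_q, T_y, T_z, T_q, T_y, T_q, T_z, T_yi, T_q, T_z, T_yi, T_q, T_z, T_yi, T_yi, T_yi, T_z, T_y, T_y, T_y, T_z, T_q, T_y, T_z, T_q, T_y, T_q, T_z, T_yi, T_q, T_z, T_yi, T_q, T_z, T_yi, T_yi, T_yi, T_z, T_y, T_y, T_y, T_z, T_q, T_y, T_z, T_q, T_y, T_z, T_q, T_z, T_yi, T_q, T_z, T_yi, T_q, T_z, T_yi, T_yi] M (Nat.sub (T_yi u) (Nat.mod (T_yi u) M)) (nat_lit 40) (Nat.mod (T_yi u) M) u) (dp_yi_253 j u) (Nat.ble (nat_lit 272) j)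
noncomputable def dp_yi_255 (j u : ℕ) : Bool :=
  Bool.rec (motive := fun _ => Bool) (dp_yi_252 j u) (dp_yi_254 j u) (Nat.ble (nat_lit 271) j)
noncomputable def dp_yi_256 (j u : ℕ) : Bool :=
  Bool.rec (motive := fun _ => Bool) (dp_yi_251 j u) (dp_yi_255 j u) (Nat.ble (nat_lit 269) j)
noncomputable def dp_yi_257 (j u : ℕ) : Bool :=
  Bool.rec (motive := fun _ => Bool) (lS MG [T_z, T_y, T_y, T_y, T_z, T_q, T_y, T_z, T_q, T_y, T_q, T_z, T_yi, T_q, T_z, T_yi, T_q, T_z, T_yi, T_yi, T_yi, T_z, T_y, T_y, T_y, T_z, T_q, T_y, T_z, T_q, T_y, T_z, T_q, T_z, T_yi, T_q, T_z, T_yi, T_q, T_z, T_yi, T_yi, T_yi, T_z, T_y, T_y, T_y, T_z, T_q, T_y, T_z, T_q, T_y, T_q, T_z, T_yi, T_q, T_z, T_yi, T_q, T_z, T_yi, T_yi] M (Nat.sub (T_yi u) (Nat.mod (T_yi u) M)) (nat_lit 40) (Nat.mod (T_yi u) M) u) (lS MG [T_yi, T_z, T_y, T_y, T_y,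 T_z, T_q, T_y, T_z, T_q, T_y, T_z, T_q, T_z, T_yi, T_q, T_z, T_yi, T_q, T_z, T_yi, T_yi, T_yi, T_z, T_y, T_y, T_y, T_z, T_q, T_y, T_z, T_q, T_y, T_z, T_q, T_yi, T_q, T_z, T_yi, T_q, T_z, T_yi, T_yi, T_yi, T_z, T_y, T_y, T_y, T_z, T_q, T_y, T_z, T_q, T_y, T_z, T_q, T_yi, T_q, T_z, T_yi, T_q, T_z, T_yi] M (Nat.sub (T_yi u) (Nat.mod (T_yi u) M)) (nat_lit 40) (Nat.mod (T_yi u) M) u) (Nat.ble (nat_lit 276) j)
noncomputable def dp_yi_258 (j u : ℕ) : Bool :=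
  Bool.rec (motive := fun _ => Bool) (lS MG [T_q, T_z, T_yi, T_q, T_z, T_yi, T_yi, T_yi, T_z, T_y, T_y, T_y, T_z, T_q, T_y, T_z, T_q, T_y, T_q, T_z, T_yi, T_q, T_z, T_yi, T_q, T_z, T_yi, T_yi, T_yi, T_z, T_y, T_y, T_y, T_z, T_q, T_y, T_z, T_q, T_y, T_z, T_q, T_z, T_yi, T_q, T_z, T_yi, T_q, T_z, T_yi, T_yi, T_yi, T_z, T_y, T_y, T_y, T_z, T_q, T_y, T_z, T_q, T_y, T_q, T_z] M (Nat.sub (T_yi u) (Nat.mod (T_yi u) M)) (nat_lit 40) (Nat.mod (T_yi u) M) u) (dp_yi_257 j u) (Nat.ble (nat_lit 275) j)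
noncomputable def dp_yi_259 (j u : ℕ) : Bool :=
  Bool.rec (motive := fun _ => Bool) (lS MG [T_yi, T_z, T_y, T_y, T_y, T_z, T_q, T_y, T_z, T_q, T_y, T_z, T_q, T_yi, T_q, T_z, T_yi, T_q, T_z, T_yi, T_yi, T_yi, T_z, T_y, T_y, T_y, T_z, T_q, T_y, T_z, T_q, T_y, T_z, T_q, T_z, T_yi, T_q, T_z, T_yi, T_q, T_z, T_yi, T_yi, T_yi, T_z, T_y, T_y, T_y, T_z, T_q, T_y, T_z, T_q, T_y, T_z, T_q, T_yi, T_q, T_z, T_yi, T_q, T_z, T_yi] M (Nat.sub (T_yi u) (Nat.mod (T_yi u) M)) (nat_lit 40) (Nat.mod (T_yi u) M) u) (lF [T_yi, T_yi, T_z, T_y, T_y, T_y, T_z, T_q, T_y, T_z, T_q, T_y, T_q, T_z, T_yi, T_q, T_z, T_yi, T_q, T_z, T_yi, T_yi, T_yi, T_z, T_y, T_y, T_y, T_z, T_q, T_y, T_z, T_q, T_y, T_z, T_q, T_z, T_yi, T_q, T_z, T_yi, T_q, T_z, T_yi, T_yi, T_yi, T_z, T_y, T_y, T_y, T_z, T_q, T_y, T_z, T_q, T_y, T_q, T_z, T_yi, T_q, T_z,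 T_yi, T_q, T_z] M (Nat.sub (T_yi u) (Nat.mod (T_yi u) M)) (Nat.mod (T_yi u) M) u) (Nat.ble (nat_lit 278) j)
noncomputable def dp_yi_260 (j u : ℕ) : Bool :=
  Bool.rec (motive := fun _ => Bool) (lS MG [T_q, T_z, T_yi, T_yi, T_yi, T_z, T_y, T_y, T_y, T_z, T_q, T_y, T_z, T_q, T_y, T_z, T_q, T_yi, T_q, T_z, T_yi, T_q, T_z, T_yi, T_yi, T_yi, T_z, T_y, T_y, T_y, T_z, T_q, T_y, T_z, T_q, T_y, T_z, T_q, T_yi, T_q, T_z, T_yi, T_q, T_z, T_yi, T_yi, T_yi, T_z, T_y, T_y, T_y, T_z, T_q, T_y, T_z, T_q, T_y, T_z, T_q, T_z, T_yi, T_q, T_z] M (Nat.sub (T_yi u) (Nat.mod (T_yi u) M)) (nat_lit 40) (Nat.mod (T_yi u) M) u) (lS MG [T_q, T_z, T_yi, T_q, T_z, T_yi, T_yi, T_yi, T_z, T_y, T_y, T_y, T_z, T_q, T_y, T_z, T_q, T_y, T_z, T_q, T_z, T_yi, T_q, T_z, T_yi, T_q, T_z, T_yi, T_yi, T_yi, T_z, T_y, T_y, T_y, T_z, T_q, T_y, T_z, T_q,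 T_y, T_z, T_q, T_yi, T_q, T_z, T_yi, T_q, T_z, T_yi, T_yi, T_yi, T_z, T_y, T_y, T_y, T_z, T_q, T_y, T_z, T_q, T_y, T_z, T_q] M (Nat.sub (T_yi u) (Nat.mod (T_yi u) M)) (nat_lit 40) (Nat.mod (T_yi u) M) u) (Nat.ble (nat_lit 280) j)
noncomputable def dp_yi_261 (j u : ℕ) : Bool :=
  Bool.rec (motive := fun _ => Bool) (dp_yi_259 j u) (dp_yi_260 j u) (Nat.ble (nat_lit 279) j)
noncomputable def dp_yi_262 (j u : ℕ) : Bool :=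
  Bool.rec (motive := fun _ => Bool) (dp_yi_258 j u) (dp_yi_261 j u) (Nat.ble (nat_lit 277) j)
noncomputable def dp_yi_263 (j u : ℕ) : Bool :=
  Bool.rec (motive := fun _ => Bool) (lS MG [T_z, T_y, T_y, T_y, T_z, T_q, T_y, T_z, T_q, T_y, T_z, T_q, T_z, T_yi, T_q, T_z, T_yi, T_q, T_z, T_yi, T_yi, T_yi, T_z, T_y, T_y, T_y, T_z, T_q, T_y, T_z, T_q, T_y, T_z, T_q, T_yi, T_q, T_z, T_yi, T_q, T_z, T_yi, T_yi, T_yi, T_z, T_y, T_y, T_y, T_z, T_q, T_y, T_z, T_q, T_y, T_z, T_q, T_yi, T_q, T_z, T_yi, T_q, T_z, T_yi, T_yi] M (Nat.sub (T_yi u) (Nat.mod (T_yi u) M)) (nat_lit 40) (Nat.mod (T_yi u) M) u) (lS MG [T_yi, T_yi, T_z, T_y, T_y, T_y, T_z, T_q, T_y, T_z, T_q, T_y, T_z, T_q, T_yi, T_q, T_z, T_yi, T_q, T_z, T_yi, T_yi, T_yi, T_z, T_y, T_y, T_y, T_z, T_q, T_y, T_z, T_q, T_y, T_z, T_q, T_yi, T_q, T_z, T_yi, T_q, T_z,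 T_yi, T_yi, T_yi, T_z, T_y, T_y, T_y, T_z, T_q, T_y, T_z, T_q, T_y, T_z, T_q, T_z, T_yi, T_q, T_z, T_yi, T_q, T_z] M (Nat.sub (T_yi u) (Nat.mod (T_yi u) M)) (nat_lit 40) (Nat.mod (T_yi u) M) u) (Nat.ble (nat_lit 282) j)
noncomputable def dp_yi_264 (j u : ℕ) : Bool :=
  Bool.rec (motive := fun _ => Bool) (lF [T_yi, T_z, T_y, T_y, T_y, T_z, T_q, T_y, T_z, T_q, T_y, T_z, T_q, T_z, T_yi, T_q, T_z, T_yi, T_q, T_z, T_yi, T_yi, T_yi, T_z, T_y, T_y, T_y, T_z, T_q, T_y, T_z, T_q, T_y, T_q, T_z, T_yi, T_q, T_z, T_yi, T_q, T_z, T_yi, T_yi, T_yi, T_z, T_y, T_y, T_y, T_z, T_q, T_y, T_z, T_q, T_y, T_q, T_z, T_yi, T_q, T_z, T_yi, T_q, T_z, T_yi] M (Nat.sub (T_yi u) (Nat.mod (T_yi u) M)) (Nat.mod (T_yi u) M) u) (lF [T_yi, T_z, T_y, T_y, T_y, T_z, T_q, T_y, T_z, T_q, T_y, T_q, T_z, T_yi, T_q, T_z, T_yi, T_q, T_z, T_yi, T_yi,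 T_yi, T_z, T_y, T_y, T_y, T_z, T_q, T_y, T_z, T_q, T_y, T_q, T_z, T_yi, T_q, T_z, T_yi, T_q, T_z, T_yi, T_yi, T_yi, T_z, T_y, T_y, T_y, T_z, T_q, T_y, T_z, T_q, T_y, T_z, T_q, T_z, T_yi, T_q, T_z, T_yi, T_q, T_z, T_yi] M (Nat.sub (T_yi u) (Nat.mod (T_yi u) M)) (Nat.mod (T_yi u) M) u) (Nat.ble (nat_lit 286) j)
noncomputable def dp_yi_265 (j u : ℕ) : Bool :=
  Bool.rec (motive := fun _ => Bool) (lS MG [T_yi, T_yi, T_z, T_y, T_y, T_y, T_z, T_q, T_y, T_z, T_q, T_y, T_q, T_z, T_yi, T_q, T_z, T_yi, T_q, T_z, T_yi, T_yi, T_yi, T_z, T_y, T_y, T_y, T_z, T_q, T_y, T_z, T_q, T_y, T_q, T_z, T_yi, T_q, T_z, T_yi, T_q, T_z, T_yi, T_yi, T_yi, T_z, T_y, T_y, T_y, T_z, T_q, T_y, T_z, T_q, T_y, T_z, T_q, T_z, T_yi, T_q, T_z, T_yi, T_q, T_z] M (Nat.sub (T_yi u) (Nat.mod (T_yi u) M)) (nat_lit 40) (Nat.mod (T_yi u) M) u) (dp_yi_264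 j u) (Nat.ble (nat_lit 285) j)
noncomputable def dp_yi_266 (j u : ℕ) : Bool :=
  Bool.rec (motive := fun _ => Bool) (lF [T_z, T_y, T_y, T_y, T_z, T_q, T_y, T_z, T_q, T_y, T_z, T_q, T_yi, T_q, T_z, T_yi, T_q, T_z, T_yi, T_yi, T_yi, T_z, T_y, T_y, T_y, T_z, T_q, T_y, T_z, T_q, T_y, T_z, T_q, T_yi, T_q, T_z, T_yi, T_q, T_z, T_yi, T_yi, T_yi, T_z, T_y, T_y, T_y, T_z, T_q, T_y, T_z, T_q, T_y, T_z, T_q, T_z, T_yi, T_q, T_z, T_yi, T_q, T_z, T_yi, T_yi] M (Nat.sub (T_yi u) (Nat.mod (T_yi u) M)) (Nat.mod (T_yi u) M) u) (dp_yi_265 j u) (Nat.ble (nat_lit 284) j)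
noncomputable def dp_yi_267 (j u : ℕ) : Bool :=
  Bool.rec (motive := fun _ => Bool) (dp_yi_263 j u) (dp_yi_266 j u) (Nat.ble (nat_lit 283) j)
noncomputable def dp_yi_268 (j u : ℕ) : Bool :=
  Bool.rec (motive := fun _ => Bool) (lS MG [T_yi, T_z, T_y, T_y, T_y, T_z, T_q, T_y, T_z, T_q, T_y, T_q, T_z, T_yi, T_q, T_z, T_yi, T_q, T_z, T_yi, T_yi, T_yi, T_z, T_y, T_y, T_y, T_z, T_q, T_y, T_z, T_q, T_y, T_q, T_z, T_yi, T_q, T_z, T_yi, T_q, T_z, T_yi, T_yi, T_yi, T_z, T_y, T_y, T_y, T_z, T_q, T_y, T_z, T_q, T_y, T_z, T_q, T_z, T_yi, T_q, T_z, T_yi, T_q, T_z, T_yi] M (Nat.sub (T_yi u) (Nat.mod (T_yi u) M)) (nat_lit 40) (Nat.mod (T_yi u) M) u) (lS MG [T_z, T_y, T_y, T_y, T_z, T_q, T_y, T_z, T_q, T_y, T_z, T_q, T_z, T_yi, T_q, T_z, T_yi, T_q, T_z, T_yi, T_yi, T_yi, T_z, T_y, T_y, T_y, T_z, T_q, T_y, T_z, T_q, T_y,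 T_q, T_z, T_yi, T_q, T_z, T_yi, T_q, T_z, T_yi, T_yi, T_yi, T_z, T_y, T_y, T_y, T_z, T_q, T_y, T_z, T_q, T_y, T_q, T_z, T_yi, T_q, T_z, T_yi, T_q, T_z, T_yi, T_yi] M (Nat.sub (T_yi u) (Nat.mod (T_yi u) M)) (nat_lit 40) (Nat.mod (T_yi u) M) u) (Nat.ble (nat_lit 288) j)
noncomputable def dp_yi_269 (j u : ℕ) : Bool :=
  Bool.rec (motive := fun _ => Bool) (lS MG [T_yi, T_z, T_y, T_y, T_y, T_z, T_q, T_y, T_z, T_q, T_y, T_q, T_z, T_yi, T_q, T_z, T_yi, T_q, T_z, T_yi, T_yi, T_yi, T_z, T_y, T_y, T_y, T_z, T_q, T_y, T_z, T_q, T_y, T_z, T_q, T_z, T_yi, T_q, T_z, T_yi, T_q, T_z, T_yi, T_yi, T_yi, T_z, T_y, T_y, T_y, T_z, T_q, T_y, T_z, T_q, T_y, T_q, T_z, T_yi, T_q, T_z, T_yi, T_q, T_z, T_yi] M (Nat.sub (T_yi u) (Nat.mod (T_yi u) M)) (nat_lit 40) (Nat.mod (T_yi u) M) u) (lF [T_z, T_y, T_y, T_y, T_z, T_q, T_y, T_z, T_q,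 T_y, T_q, T_z, T_yi, T_q, T_z, T_yi, T_q, T_z, T_yi, T_yi, T_yi, T_z, T_y, T_y, T_y, T_z, T_q, T_y, T_z, T_q, T_y, T_z, T_q, T_z, T_yi, T_q, T_z, T_yi, T_q, T_z, T_yi, T_yi, T_yi, T_z, T_y, T_y, T_y, T_z, T_q, T_y, T_z, T_q, T_y, T_q, T_z, T_yi, T_q, T_z, T_yi, T_q, T_z, T_yi, T_yi] M (Nat.sub (T_yi u) (Nat.mod (T_yi u) M)) (Nat.mod (T_yi u) M) u) (Nat.ble (nat_lit 290) j)
noncomputable def dp_yi_270 (j u : ℕ) : Bool :=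
  Bool.rec (motive := fun _ => Bool) (dp_yi_268 j u) (dp_yi_269 j u) (Nat.ble (nat_lit 289) j)
noncomputable def dp_yi_271 (j u : ℕ) : Bool :=
  Bool.rec (motive := fun _ => Bool) (lF [T_z, T_y, T_y, T_y, T_z, T_q, T_y, T_z, T_q, T_y, T_z, T_q, T_z, T_yi, T_q, T_z, T_yi, T_q, T_z, T_yi, T_yi, T_yi, T_z, T_y, T_y, T_y, T_z, T_q, T_y, T_z, T_q, T_y, T_z, T_q, T_yi, T_q, T_z, T_yi, T_q, T_z, T_yi, T_yi, T_yi, T_z, T_y, T_y, T_y, T_z, T_q, T_y, T_z, T_q, T_y, T_z, T_q, T_yi, T_q, T_z, T_yi, T_q, T_z, T_yi, T_yi] M (Nat.sub (T_yi u) (Nat.mod (T_yi u) M)) (Nat.mod (T_yi u) M) u) (lS MG [T_yi, T_yi, T_z, T_y, T_y, T_y, T_z, T_q, T_y, T_z, T_q, T_y, T_q, T_z, T_yi, T_q, T_z, T_yi, T_q, T_z, T_yi, T_yi, T_yi, T_z, T_y, T_y, T_y, T_z, T_q, T_y, T_z, T_q, T_y, T_z, T_q, T_z, T_yi, T_q, T_z, T_yi, T_q, T_z, T_yi, T_yi,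 T_yi, T_z, T_y, T_y, T_y, T_z, T_q, T_y, T_z, T_q, T_y, T_q, T_z, T_yi, T_q, T_z, T_yi, T_q, T_z] M (Nat.sub (T_yi u) (Nat.mod (T_yi u) M)) (nat_lit 40) (Nat.mod (T_yi u) M) u) (Nat.ble (nat_lit 292) j)
noncomputable def dp_yi_272 (j u : ℕ) : Bool :=
  Bool.rec (motive := fun _ => Bool) (lF [T_z, T_y, T_y, T_y, T_z, T_q, T_y, T_z, T_q, T_y, T_z, T_q, T_z, T_yi, T_q, T_z, T_yi, T_q, T_z, T_yi, T_yi, T_yi, T_z, T_y, T_y, T_y, T_z, T_q, T_y, T_z, T_q, T_y, T_q, T_z, T_yi, T_q, T_z, T_yi, T_q, T_z, T_yi, T_yi, T_yi, T_z, T_y, T_y, T_y, T_z, T_q, T_y, T_z, T_q, T_y, T_q, T_z, T_yi, T_q, T_z, T_yi, T_q, T_z, T_yi, T_yi] M (Nat.sub (T_yi u) (Nat.mod (T_yi u) M)) (Nat.mod (T_yi u) M) u) (lF [T_yi, T_yi, T_z, T_y, T_y, T_y, T_z, T_q, T_y, T_z, T_q, T_y, T_z, T_q, T_yi, T_q, T_z, T_yi, T_q, T_z, T_yi, T_yi, T_yi, T_z,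 T_y, T_y, T_y, T_z, T_q, T_y, T_z, T_q, T_y, T_z, T_q, T_yi, T_q, T_z, T_yi, T_q, T_z, T_yi, T_yi, T_yi, T_z, T_y, T_y, T_y, T_z, T_q, T_y, T_z, T_q, T_y, T_z, T_q, T_z, T_yi, T_q, T_z, T_yi, T_q, T_z] M (Nat.sub (T_yi u) (Nat.mod (T_yi u) M)) (Nat.mod (T_yi u) M) u) (Nat.ble (nat_lit 295) j)
noncomputable def dp_yi_273 (j u : ℕ) : Bool :=
  Bool.rec (motive := fun _ => Bool) (lF [T_z, T_y, T_y, T_y, T_z, T_q, T_y, T_z, T_q, T_y, T_z, T_q, T_yi, T_q, T_z, T_yi, T_q, T_z, T_yi, T_yi, T_yi, T_z, T_y, T_y, T_y, T_z, T_q, T_y, T_z, T_q, T_y, T_z, T_q, T_z, T_yi, T_q, T_z, T_yi, T_q, T_z, T_yi, T_yi, T_yi, T_z, T_y, T_y, T_y, T_z, T_q, T_y, T_z, T_q, T_y, T_z, T_q, T_yi, T_q, T_z, T_yi, T_q, T_z, T_yi, T_yi] M (Nat.sub (T_yi u) (Nat.mod (T_yi u) M)) (Nat.mod (T_yi u) M) u) (dp_yi_272 j u) (Nat.ble (nat_lit 294)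 j)
noncomputable def dp_yi_274 (j u : ℕ) : Bool :=
  Bool.rec (motive := fun _ => Bool) (dp_yi_271 j u) (dp_yi_273 j u) (Nat.ble (nat_lit 293) j)
noncomputable def dp_yi_275 (j u : ℕ) : Bool :=
  Bool.rec (motive := fun _ => Bool) (dp_yi_270 j u) (dp_yi_274 j u) (Nat.ble (nat_lit 291) j)
noncomputable def dp_yi_276 (j u : ℕ) : Bool :=
  Bool.rec (motive := fun _ => Bool) (dp_yi_267 j u) (dp_yi_275 j u) (Nat.ble (nat_lit 287) j)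
noncomputable def dp_yi_277 (j u : ℕ) : Bool :=
  Bool.rec (motive := fun _ => Bool) (dp_yi_262 j u) (dp_yi_276 j u) (Nat.ble (nat_lit 281) j)
noncomputable def dp_yi_278 (j u : ℕ) : Bool :=
  Bool.rec (motive := fun _ => Bool) (dp_yi_256 j u) (dp_yi_277 j u) (Nat.ble (nat_lit 274) j)
noncomputable def dp_yi_279 (j u : ℕ) : Bool :=
  Bool.rec (motive := fun _ => Bool) (dp_yi_250 j u) (dp_yi_278 j u) (Nat.ble (nat_lit 267) j)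
noncomputable def dp_yi_280 (j u : ℕ) : Bool :=
  Bool.rec (motive := fun _ => Bool) (dp_yi_246 j u) (dp_yi_279 j u) (Nat.ble (nat_lit 262) j)
noncomputable def dp_yi_281 (j u : ℕ) : Bool :=
  Bool.rec (motive := fun _ => Bool) (dp_yi_240 j u) (dp_yi_280 j u) (Nat.ble (nat_lit 255) j)
noncomputable def dp_yi_282 (j u : ℕ) : Bool :=
  Bool.rec (motive := fun _ => Bool) (dp_yi_231 j u) (dp_yi_281 j u) (Nat.ble (nat_lit 245) j)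
noncomputable def dp_yi_283 (j u : ℕ) : Bool :=
  Bool.rec (motive := fun _ => Bool) (dp_yi_218 j u) (dp_yi_282 j u) (Nat.ble (nat_lit 231) j)
noncomputable def dp_yi_284 (j u : ℕ) : Bool :=
  Bool.rec (motive := fun _ => Bool) (dp_yi_199 j u) (dp_yi_283 j u) (Nat.ble (nat_lit 211) j)
noncomputable def dp_yi_285 (j u : ℕ) : Bool :=
  Bool.rec (motive := fun _ => Bool) (dp_yi_169 j u) (dp_yi_284 j u) (Nat.ble (nat_lit 180) j)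
noncomputable def dp_yi_286 (j u : ℕ) : Bool :=
  Bool.rec (motive := fun _ => Bool) (dp_yi_129 j u) (dp_yi_285 j u) (Nat.ble (nat_lit 139) j)
noncomputable def dp_yi_287 (j u : ℕ) : Bool :=
  Bool.rec (motive := fun _ => Bool) (dp_yi_80 j u) (dp_yi_286 j u) (Nat.ble (nat_lit 89) j)
noncomputable def dp_yi_288 (j u : ℕ) : Bool :=
  Bool.rec (motive := fun _ => Bool) (dp_yi_30 j u) (dp_yi_287 j u) (Nat.ble (nat_lit 38) j)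
noncomputable def dp_yi_289 (j u : ℕ) : Bool :=
  Bool.rec (motive := fun _ => Bool) (dp_yi_9 j u) (dp_yi_288 j u) (Nat.ble (nat_lit 16) j)
noncomputable def dp_yi_290 (j u : ℕ) : Bool :=
  Bool.rec (motive := fun _ => Bool) (dp_yi_1 j u) (dp_yi_289 j u) (Nat.ble (nat_lit 7) j)
noncomputable def dp_yi_291 (j u : ℕ) : Bool :=
  Bool.rec (motive := fun _ => Bool) (lF3 T_v T_y T_v M (Nat.sub (T_yi u) (Nat.mod (T_yi u) M)) (Nat.mod (T_yi u) M) u) (dp_yi_290 j u) (Nat.ble (nat_lit 4) j)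
noncomputable def dp_yi_292 (j u : ℕ) : Bool :=
  Bool.rec (motive := fun _ => Bool) (lDef P (nat_lit 1) (Nat.mod (T_yi u) M) u) (dp_yi_291 j u) (Nat.ble (nat_lit 3) j)
noncomputable def disp_yi (j u : ℕ) : Bool :=
  Bool.rec (motive := fun _ => Bool) (Bool.rec (motive := fun _ => Bool) (lF1 T_y M (Nat.sub (T_yi u) (Nat.mod (T_yi u) M)) (Nat.mod (T_yi u) M) u) (lDef P (nat_lit 0) u (Nat.mod (T_yi u) M)) (Nat.ble (nat_lit 1) j)) (dp_yi_292 j u) (Nat.ble (nat_lit 2) j)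
noncomputable def chk_yi (j u : ℕ) : Bool :=
  Bool.rec (motive := fun _ => Bool) (disp_yi j u) (Nat.ble (Nat.succ (MG u)) A) (Nat.ble A (T_yi u))
noncomputable def dp_z_0 (j u : ℕ) : Bool :=
  Bool.rec (motive := fun _ => Bool) (lF [T_q, T_z, T_q, T_yi, T_z, T_q, T_z, T_q, T_y] M (Nat.sub (T_z u) (Nat.mod (T_z u) M)) (Nat.mod (T_z u) M) u) (lF [T_q, T_z, T_y, T_q, T_z, T_q, T_z, T_yi, T_q] M (Nat.sub (T_z u) (Nat.mod (T_z u) M)) (Nat.mod (T_z u) M) u) (Nat.ble (nat_lit 7) j)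
noncomputable def dp_z_1 (j u : ℕ) : Bool :=
  Bool.rec (motive := fun _ => Bool) (lF [T_y, T_q, T_z, T_q, T_z, T_yi, T_q, T_z, T_q] M (Nat.sub (T_z u) (Nat.mod (T_z u) M)) (Nat.mod (T_z u) M) u) (dp_z_0 j u) (Nat.ble (nat_lit 6) j)
noncomputable def dp_z_2 (j u : ℕ) : Bool :=
  Bool.rec (motive := fun _ => Bool) (lF [T_q, T_z, T_q, T_y, T_z, T_q, T_z, T_q, T_yi] M (Nat.sub (T_z u) (Nat.mod (T_z u) M)) (Nat.mod (T_z u) M) u) (lF [T_v, T_z, T_v, T_z, T_v, T_z, T_v, T_z, T_v] M (Nat.sub (T_z u) (Nat.mod (T_z u) M)) (Nat.mod (T_z u) M) u) (Nat.ble (nat_lit 10) j)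
noncomputable def dp_z_3 (j u : ℕ) : Bool :=
  Bool.rec (motive := fun _ => Bool) (lS MG [T_z] M (Nat.sub (T_z u) (Nat.mod (T_z u) M)) (nat_lit 40) (Nat.mod (T_z u) M) u) (dp_z_2 j u) (Nat.ble (nat_lit 9) j)
noncomputable def dp_z_4 (j u : ℕ) : Bool :=
  Bool.rec (motive := fun _ => Bool) (dp_z_1 j u) (dp_z_3 j u) (Nat.ble (nat_lit 8) j)
noncomputable def dp_z_5 (j u : ℕ) : Bool :=
  Bool.rec (motive := fun _ => Bool) (lF [T_q, T_z, T_q, T_z, T_q, T_z, T_q] M (Nat.sub (T_z u) (Nat.mod (T_z u) M)) (Nat.mod (T_z u) M) u) (dp_z_4 j u) (Nat.ble (nat_lit 5) j)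
noncomputable def dp_z_6 (j u : ℕ) : Bool :=
  Bool.rec (motive := fun _ => Bool) (lF [T_yi, T_q, T_z, T_q, T_z, T_y, T_q, T_z, T_q] M (Nat.sub (T_z u) (Nat.mod (T_z u) M)) (Nat.mod (T_z u) M) u) (lF [T_y, T_z, T_yi, T_z, T_y, T_z, T_yi, T_z, T_y, T_z, T_yi] M (Nat.sub (T_z u) (Nat.mod (T_z u) M)) (Nat.mod (T_z u) M) u) (Nat.ble (nat_lit 12) j)
noncomputable def dp_z_7 (j u : ℕ) : Bool :=
  Bool.rec (motive := fun _ => Bool) (lF [T_yi, T_z, T_y, T_z, T_yi, T_z, T_y, T_z, T_yi, T_z, T_y] M (Nat.sub (T_z u) (Nat.mod (T_z u) M)) (Nat.mod (T_z u) M) u) (lF [T_q, T_z, T_yi, T_q, T_z, T_q, T_z, T_y, T_q] M (Nat.sub (T_z u) (Nat.mod (T_z u) M)) (Nat.mod (T_z u) M) u) (Nat.ble (nat_lit 15) j)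
noncomputable def dp_z_8 (j u : ℕ) : Bool :=
  Bool.rec (motive := fun _ => Bool) (lS MG [T_v, T_q, T_v, T_z, T_v, T_q, T_v] M (Nat.sub (T_z u) (Nat.mod (T_z u) M)) (nat_lit 40) (Nat.mod (T_z u) M) u) (dp_z_7 j u) (Nat.ble (nat_lit 14) j)
noncomputable def dp_z_9 (j u : ℕ) : Bool :=
  Bool.rec (motive := fun _ => Bool) (dp_z_6 j u) (dp_z_8 j u) (Nat.ble (nat_lit 13) j)
noncomputable def dp_z_10 (j u : ℕ) : Bool :=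
  Bool.rec (motive := fun _ => Bool) (lS MG [T_q, T_z, T_q, T_z, T_q, T_z, T_q] M (Nat.sub (T_z u) (Nat.mod (T_z u) M)) (nat_lit 40) (Nat.mod (T_z u) M) u) (lF [T_q, T_yi, T_z, T_q, T_z, T_q, T_y, T_z, T_q] M (Nat.sub (T_z u) (Nat.mod (T_z u) M)) (Nat.mod (T_z u) M) u) (Nat.ble (nat_lit 18) j)
noncomputable def dp_z_11 (j u : ℕ) : Bool :=
  Bool.rec (motive := fun _ => Bool) (lF [T_q, T_v, T_q, T_z, T_v, T_q, T_z, T_q, T_z, T_v] M (Nat.sub (T_z u) (Nat.mod (T_z u) M)) (Nat.mod (T_z u) M) u) (dp_z_10 j u) (Nat.ble (nat_lit 17) j)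
noncomputable def dp_z_12 (j u : ℕ) : Bool :=
  Bool.rec (motive := fun _ => Bool) (lF [T_v, T_q, T_z, T_q, T_z, T_v, T_z, T_q, T_v, T_q] M (Nat.sub (T_z u) (Nat.mod (T_z u) M)) (Nat.mod (T_z u) M) u) (lF [T_y, T_q, T_yi, T_z, T_y, T_z, T_yi, T_q, T_y, T_z, T_yi] M (Nat.sub (T_z u) (Nat.mod (T_z u) M)) (Nat.mod (T_z u) M) u) (Nat.ble (nat_lit 20) j)
noncomputable def dp_z_13 (j u : ℕ) : Bool :=
  Bool.rec (motive := fun _ => Bool) (lF [T_yi, T_q, T_y, T_z, T_yi, T_z, T_y, T_q, T_yi, T_z, T_y] M (Nat.sub (T_z u) (Nat.mod (T_z u) M)) (Nat.mod (T_z u) M) u) (lF [T_q, T_y, T_z, T_q, T_z, T_q, T_yi, T_z, T_q] M (Nat.sub (T_z u) (Nat.mod (T_z u) M)) (Nat.mod (T_z u) M) u) (Nat.ble (nat_lit 23) j)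
noncomputable def dp_z_14 (j u : ℕ) : Bool :=
  Bool.rec (motive := fun _ => Bool) (lF [T_yi, T_z, T_y, T_q, T_yi, T_z, T_y, T_z, T_yi, T_q, T_y] M (Nat.sub (T_z u) (Nat.mod (T_z u) M)) (Nat.mod (T_z u) M) u) (dp_z_13 j u) (Nat.ble (nat_lit 22) j)
noncomputable def dp_z_15 (j u : ℕ) : Bool :=
  Bool.rec (motive := fun _ => Bool) (dp_z_12 j u) (dp_z_14 j u) (Nat.ble (nat_lit 21) j)
noncomputable def dp_z_16 (j u : ℕ) : Bool :=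
  Bool.rec (motive := fun _ => Bool) (dp_z_11 j u) (dp_z_15 j u) (Nat.ble (nat_lit 19) j)
noncomputable def dp_z_17 (j u : ℕ) : Bool :=
  Bool.rec (motive := fun _ => Bool) (dp_z_9 j u) (dp_z_16 j u) (Nat.ble (nat_lit 16) j)
noncomputable def dp_z_18 (j u : ℕ) : Bool :=
  Bool.rec (motive := fun _ => Bool) (lF [T_y, T_z, T_yi, T_q, T_y, T_z, T_yi, T_z, T_y, T_q, T_yi] M (Nat.sub (T_z u) (Nat.mod (T_z u) M)) (Nat.mod (T_z u) M) u) (lS MG [T_y, T_q, T_z, T_q, T_z, T_yi, T_q, T_z, T_q] M (Nat.sub (T_z u) (Nat.mod (T_z u) M)) (nat_lit 40) (Nat.mod (T_z u) M) u) (Nat.ble (nat_lit 25) j)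
noncomputable def dp_z_19 (j u : ℕ) : Bool :=
  Bool.rec (motive := fun _ => Bool) (lS MG [T_yi, T_z, T_y, T_z, T_yi, T_z, T_y, T_z, T_yi, T_z, T_y] M (Nat.sub (T_z u) (Nat.mod (T_z u) M)) (nat_lit 40) (Nat.mod (T_z u) M) u) (lS MG [T_y, T_z, T_yi, T_z, T_y, T_z, T_yi, T_z, T_y, T_z, T_yi] M (Nat.sub (T_z u) (Nat.mod (T_z u) M)) (nat_lit 40) (Nat.mod (T_z u) M) u) (Nat.ble (nat_lit 27) j)
noncomputable def dp_z_20 (j u : ℕ) : Bool :=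
  Bool.rec (motive := fun _ => Bool) (dp_z_18 j u) (dp_z_19 j u) (Nat.ble (nat_lit 26) j)
noncomputable def dp_z_21 (j u : ℕ) : Bool :=
  Bool.rec (motive := fun _ => Bool) (lS MG [T_q, T_z, T_q, T_yi, T_z, T_q, T_z, T_q, T_y] M (Nat.sub (T_z u) (Nat.mod (T_z u) M)) (nat_lit 40) (Nat.mod (T_z u) M) u) (lS MG [T_q, T_z, T_y, T_q, T_z, T_q, T_z, T_yi, T_q] M (Nat.sub (T_z u) (Nat.mod (T_z u) M)) (nat_lit 40) (Nat.mod (T_z u) M) u) (Nat.ble (nat_lit 30) j)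
noncomputable def dp_z_22 (j u : ℕ) : Bool :=
  Bool.rec (motive := fun _ => Bool) (lS MG [T_v, T_z, T_v, T_z, T_v, T_z, T_v, T_z, T_v] M (Nat.sub (T_z u) (Nat.mod (T_z u) M)) (nat_lit 40) (Nat.mod (T_z u) M) u) (dp_z_21 j u) (Nat.ble (nat_lit 29) j)
noncomputable def dp_z_23 (j u : ℕ) : Bool :=
  Bool.rec (motive := fun _ => Bool) (lS MG [T_yi, T_q, T_z, T_q, T_z, T_y, T_q, T_z, T_q] M (Nat.sub (T_z u) (Nat.mod (T_z u) M)) (nat_lit 40) (Nat.mod (T_z u) M) u) (lF [T_q, T_v, T_q, T_z, T_q, T_v, T_q, T_z, T_q, T_v, T_q] M (Nat.sub (T_z u) (Nat.mod (T_z u) M)) (Nat.mod (T_z u) M) u) (Nat.ble (nat_lit 33) j)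
noncomputable def dp_z_24 (j u : ℕ) : Bool :=
  Bool.rec (motive := fun _ => Bool) (lS MG [T_q, T_z, T_q, T_y, T_z, T_q, T_z, T_q, T_yi] M (Nat.sub (T_z u) (Nat.mod (T_z u) M)) (nat_lit 40) (Nat.mod (T_z u) M) u) (dp_z_23 j u) (Nat.ble (nat_lit 32) j)
noncomputable def dp_z_25 (j u : ℕ) : Bool :=
  Bool.rec (motive := fun _ => Bool) (dp_z_22 j u) (dp_z_24 j u) (Nat.ble (nat_lit 31) j)
noncomputable def dp_z_26 (j u : ℕ) : Bool :=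
  Bool.rec (motive := fun _ => Bool) (dp_z_20 j u) (dp_z_25 j u) (Nat.ble (nat_lit 28) j)
noncomputable def dp_z_27 (j u : ℕ) : Bool :=
  Bool.rec (motive := fun _ => Bool) (lS MG [T_y, T_q, T_yi, T_z, T_y, T_z, T_yi, T_q, T_y, T_z, T_yi] M (Nat.sub (T_z u) (Nat.mod (T_z u) M)) (nat_lit 40) (Nat.mod (T_z u) M) u) (lS MG [T_q, T_v, T_q, T_z, T_v, T_q, T_z, T_q, T_z, T_v] M (Nat.sub (T_z u) (Nat.mod (T_z u) M)) (nat_lit 40) (Nat.mod (T_z u) M) u) (Nat.ble (nat_lit 35) j)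
noncomputable def dp_z_28 (j u : ℕ) : Bool :=
  Bool.rec (motive := fun _ => Bool) (lF [T_y, T_z, T_y, T_q, T_yi, T_z, T_yi, T_z, T_y, T_z, T_y, T_q, T_yi, T_z, T_yi] M (Nat.sub (T_z u) (Nat.mod (T_z u) M)) (Nat.mod (T_z u) M) u) (lF [T_v, T_z, T_q, T_z, T_q, T_v, T_z, T_q, T_v, T_q] M (Nat.sub (T_z u) (Nat.mod (T_z u) M)) (Nat.mod (T_z u) M) u) (Nat.ble (nat_lit 37) j)
noncomputable def dp_z_29 (j u : ℕ) : Bool :=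
  Bool.rec (motive := fun _ => Bool) (dp_z_27 j u) (dp_z_28 j u) (Nat.ble (nat_lit 36) j)
noncomputable def dp_z_30 (j u : ℕ) : Bool :=
  Bool.rec (motive := fun _ => Bool) (lF [T_q, T_z, T_v, T_z, T_q, T_v, T_q, T_z, T_v, T_q] M (Nat.sub (T_z u) (Nat.mod (T_z u) M)) (Nat.mod (T_z u) M) u) (lS MG [T_v, T_q, T_z, T_q, T_z, T_v, T_z, T_q, T_v, T_q] M (Nat.sub (T_z u) (Nat.mod (T_z u) M)) (nat_lit 40) (Nat.mod (T_z u) M) u) (Nat.ble (nat_lit 39) j)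
noncomputable def dp_z_31 (j u : ℕ) : Bool :=
  Bool.rec (motive := fun _ => Bool) (lF [T_y, T_q, T_yi, T_z, T_yi, T_z, T_y, T_z, T_y, T_q, T_yi, T_z, T_yi, T_z, T_y] M (Nat.sub (T_z u) (Nat.mod (T_z u) M)) (Nat.mod (T_z u) M) u) (lF [T_q, T_z, T_q, T_v, T_z, T_q, T_v, T_q, T_z, T_v] M (Nat.sub (T_z u) (Nat.mod (T_z u) M)) (Nat.mod (T_z u) M) u) (Nat.ble (nat_lit 42) j)
noncomputable def dp_z_32 (j u : ℕ) : Bool :=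
  Bool.rec (motive := fun _ => Bool) (lS MG [T_yi, T_q, T_y, T_z, T_yi, T_z, T_y, T_q, T_yi, T_z, T_y] M (Nat.sub (T_z u) (Nat.mod (T_z u) M)) (nat_lit 40) (Nat.mod (T_z u) M) u) (dp_z_31 j u) (Nat.ble (nat_lit 41) j)
noncomputable def dp_z_33 (j u : ℕ) : Bool :=
  Bool.rec (motive := fun _ => Bool) (dp_z_30 j u) (dp_z_32 j u) (Nat.ble (nat_lit 40) j)
noncomputable def dp_z_34 (j u : ℕ) : Bool :=
  Bool.rec (motive := fun _ => Bool) (dp_z_29 j u) (dp_z_33 j u) (Nat.ble (nat_lit 38) j)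
noncomputable def dp_z_35 (j u : ℕ) : Bool :=
  Bool.rec (motive := fun _ => Bool) (lS MG [T_yi, T_z, T_y, T_q, T_yi, T_z, T_y, T_z, T_yi, T_q, T_y] M (Nat.sub (T_z u) (Nat.mod (T_z u) M)) (nat_lit 40) (Nat.mod (T_z u) M) u) (lF [T_yi, T_z, T_y, T_z, T_y, T_q, T_yi, T_z, T_yi, T_z, T_y, T_z, T_y, T_q, T_yi] M (Nat.sub (T_z u) (Nat.mod (T_z u) M)) (Nat.mod (T_z u) M) u) (Nat.ble (nat_lit 44) j)
noncomputable def dp_z_36 (j u : ℕ) : Bool :=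
  Bool.rec (motive := fun _ => Bool) (lF [T_yi, T_z, T_yi, T_q, T_y, T_z, T_y, T_z, T_yi, T_z, T_yi, T_q, T_y, T_z, T_y] M (Nat.sub (T_z u) (Nat.mod (T_z u) M)) (Nat.mod (T_z u) M) u) (lS MG [T_q, T_z, T_yi, T_q, T_z, T_q, T_z, T_y, T_q] M (Nat.sub (T_z u) (Nat.mod (T_z u) M)) (nat_lit 40) (Nat.mod (T_z u) M) u) (Nat.ble (nat_lit 47) j)
noncomputable def dp_z_37 (j u : ℕ) : Bool :=
  Bool.rec (motive := fun _ => Bool) (lF [T_q, T_v, T_q, T_z, T_v, T_z, T_q, T_z, T_q, T_v] M (Nat.sub (T_z u) (Nat.mod (T_z u) M)) (Nat.mod (T_z u) M) u) (dp_z_36 j u) (Nat.ble (nat_lit 46) j)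
noncomputable def dp_z_38 (j u : ℕ) : Bool :=
  Bool.rec (motive := fun _ => Bool) (dp_z_35 j u) (dp_z_37 j u) (Nat.ble (nat_lit 45) j)
noncomputable def dp_z_39 (j u : ℕ) : Bool :=
  Bool.rec (motive := fun _ => Bool) (lS MG [T_q, T_yi, T_z, T_q, T_z, T_q, T_y, T_z, T_q] M (Nat.sub (T_z u) (Nat.mod (T_z u) M)) (nat_lit 40) (Nat.mod (T_z u) M) u) (lF [T_y, T_q, T_yi, T_z, T_q, T_z, T_y, T_q, T_yi, T_z, T_q] M (Nat.sub (T_z u) (Nat.mod (T_z u) M)) (Nat.mod (T_z u) M) u) (Nat.ble (nat_lit 50) j)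
noncomputable def dp_z_40 (j u : ℕ) : Bool :=
  Bool.rec (motive := fun _ => Bool) (lS MG [T_y, T_z, T_yi, T_q, T_y, T_z, T_yi, T_z, T_y, T_q, T_yi] M (Nat.sub (T_z u) (Nat.mod (T_z u) M)) (nat_lit 40) (Nat.mod (T_z u) M) u) (dp_z_39 j u) (Nat.ble (nat_lit 49) j)
noncomputable def dp_z_41 (j u : ℕ) : Bool :=
  Bool.rec (motive := fun _ => Bool) (lF [T_yi, T_q, T_y, T_z, T_y, T_z, T_yi, T_z, T_yi, T_q, T_y, T_z, T_y, T_z, T_yi] M (Nat.sub (T_z u) (Nat.mod (T_z u) M)) (Nat.mod (T_z u) M) u) (lF [T_q, T_z, T_yi, T_q, T_y, T_z, T_q, T_z, T_yi, T_q, T_y] M (Nat.sub (T_z u) (Nat.mod (T_z u) M)) (Nat.mod (T_z u) M) u) (Nat.ble (nat_lit 52) j)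
noncomputable def dp_z_42 (j u : ℕ) : Bool :=
  Bool.rec (motive := fun _ => Bool) (lF [T_y, T_z, T_yi, T_z, T_yi, T_q, T_y, T_z, T_y, T_z, T_yi, T_z, T_yi, T_q, T_y] M (Nat.sub (T_z u) (Nat.mod (T_z u) M)) (Nat.mod (T_z u) M) u) (lF [T_q, T_z, T_y, T_q, T_yi, T_z, T_q, T_z, T_y, T_q, T_yi] M (Nat.sub (T_z u) (Nat.mod (T_z u) M)) (Nat.mod (T_z u) M) u) (Nat.ble (nat_lit 54) j)
noncomputable def dp_z_43 (j u : ℕ) : Bool :=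
  Bool.rec (motive := fun _ => Bool) (dp_z_41 j u) (dp_z_42 j u) (Nat.ble (nat_lit 53) j)
noncomputable def dp_z_44 (j u : ℕ) : Bool :=
  Bool.rec (motive := fun _ => Bool) (dp_z_40 j u) (dp_z_43 j u) (Nat.ble (nat_lit 51) j)
noncomputable def dp_z_45 (j u : ℕ) : Bool :=
  Bool.rec (motive := fun _ => Bool) (dp_z_38 j u) (dp_z_44 j u) (Nat.ble (nat_lit 48) j)
noncomputable def dp_z_46 (j u : ℕ) : Bool :=
  Bool.rec (motive := fun _ => Bool) (dp_z_34 j u) (dp_z_45 j u) (Nat.ble (nat_lit 43) j)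
noncomputable def dp_z_47 (j u : ℕ) : Bool :=
  Bool.rec (motive := fun _ => Bool) (dp_z_26 j u) (dp_z_46 j u) (Nat.ble (nat_lit 34) j)
noncomputable def dp_z_48 (j u : ℕ) : Bool :=
  Bool.rec (motive := fun _ => Bool) (lF [T_v, T_z, T_q, T_v, T_q, T_z, T_v, T_q, T_z, T_q] M (Nat.sub (T_z u) (Nat.mod (T_z u) M)) (Nat.mod (T_z u) M) u) (lF [T_yi, T_q, T_y, T_z, T_q, T_z, T_yi, T_q, T_y, T_z, T_q] M (Nat.sub (T_z u) (Nat.mod (T_z u) M)) (Nat.mod (T_z u) M) u) (Nat.ble (nat_lit 56) j)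
noncomputable def dp_z_49 (j u : ℕ) : Bool :=
  Bool.rec (motive := fun _ => Bool) (lF [T_q, T_v, T_z, T_q, T_v, T_q, T_z, T_v, T_z, T_q] M (Nat.sub (T_z u) (Nat.mod (T_z u) M)) (Nat.mod (T_z u) M) u) (lF [T_y, T_y, T_z, T_yi, T_yi, T_z, T_y, T_y, T_z, T_yi, T_yi, T_z, T_y, T_y, T_z, T_yi, T_yi] M (Nat.sub (T_z u) (Nat.mod (T_z u) M)) (Nat.mod (T_z u) M) u) (Nat.ble (nat_lit 58) j)
noncomputable def dp_z_50 (j u : ℕ) : Bool :=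
  Bool.rec (motive := fun _ => Bool) (dp_z_48 j u) (dp_z_49 j u) (Nat.ble (nat_lit 57) j)
noncomputable def dp_z_51 (j u : ℕ) : Bool :=
  Bool.rec (motive := fun _ => Bool) (lF [T_yi, T_yi, T_z, T_y, T_y, T_z, T_yi, T_yi, T_z, T_y, T_y, T_z, T_yi, T_yi, T_z, T_y, T_y] M (Nat.sub (T_z u) (Nat.mod (T_z u) M)) (Nat.mod (T_z u) M) u) (lS MG [T_y, T_z, T_y, T_q, T_yi, T_z, T_yi, T_z, T_y, T_z, T_y, T_q, T_yi, T_z, T_yi] M (Nat.sub (T_z u) (Nat.mod (T_z u) M)) (nat_lit 40) (Nat.mod (T_z u) M) u) (Nat.ble (nat_lit 60) j)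
noncomputable def dp_z_52 (j u : ℕ) : Bool :=
  Bool.rec (motive := fun _ => Bool) (lF [T_q, T_z, T_q, T_v, T_y, T_v, T_q, T_z, T_q, T_z, T_yi] M (Nat.sub (T_z u) (Nat.mod (T_z u) M)) (Nat.mod (T_z u) M) u) (lS MG [T_y, T_q, T_yi, T_z, T_yi, T_z, T_y, T_z, T_y, T_q, T_yi, T_z, T_yi, T_z, T_y] M (Nat.sub (T_z u) (Nat.mod (T_z u) M)) (nat_lit 40) (Nat.mod (T_z u) M) u) (Nat.ble (nat_lit 62) j)
noncomputable def dp_z_53 (j u : ℕ) : Bool :=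
  Bool.rec (motive := fun _ => Bool) (dp_z_51 j u) (dp_z_52 j u) (Nat.ble (nat_lit 61) j)
noncomputable def dp_z_54 (j u : ℕ) : Bool :=
  Bool.rec (motive := fun _ => Bool) (dp_z_50 j u) (dp_z_53 j u) (Nat.ble (nat_lit 59) j)
noncomputable def dp_z_55 (j u : ℕ) : Bool :=
  Bool.rec (motive := fun _ => Bool) (lF [T_q, T_z, T_q, T_v, T_yi, T_v, T_q, T_z, T_q, T_z, T_y] M (Nat.sub (T_z u) (Nat.mod (T_z u) M)) (Nat.mod (T_z u) M) u) (lF [T_v, T_z, T_q, T_z, T_v, T_q, T_v, T_q, T_v, T_z, T_q, T_z, T_v] M (Nat.sub (T_z u) (Nat.mod (T_z u) M)) (Nat.mod (T_z u) M) u) (Nat.ble (nat_lit 65) j)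
noncomputable def dp_z_56 (j u : ℕ) : Bool :=
  Bool.rec (motive := fun _ => Bool) (lS MG [T_yi, T_z, T_yi, T_q, T_y, T_z, T_y, T_z, T_yi, T_z, T_yi, T_q, T_y, T_z, T_y] M (Nat.sub (T_z u) (Nat.mod (T_z u) M)) (nat_lit 40) (Nat.mod (T_z u) M) u) (dp_z_55 j u) (Nat.ble (nat_lit 64) j)
noncomputable def dp_z_57 (j u : ℕ) : Bool :=
  Bool.rec (motive := fun _ => Bool) (lS MG [T_q, T_y, T_z, T_q, T_z, T_q, T_yi, T_z, T_q] M (Nat.sub (T_z u) (Nat.mod (T_z u) M)) (nat_lit 40) (Nat.mod (T_z u) M) u) (lF [T_q, T_yi, T_q, T_y, T_z, T_q, T_yi, T_q, T_z, T_y, T_q, T_yi, T_q, T_z, T_y] M (Nat.sub (T_z u) (Nat.mod (T_z u) M)) (Nat.mod (T_z u) M) u) (Nat.ble (nat_lit 68) j)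
noncomputable def dp_z_58 (j u : ℕ) : Bool :=
  Bool.rec (motive := fun _ => Bool) (lF [T_yi, T_z, T_q, T_y, T_z, T_q, T_yi, T_z, T_y, T_q, T_z, T_yi, T_q, T_z, T_y] M (Nat.sub (T_z u) (Nat.mod (T_z u) M)) (Nat.mod (T_z u) M) u) (dp_z_57 j u) (Nat.ble (nat_lit 67) j)
noncomputable def dp_z_59 (j u : ℕ) : Bool :=
  Bool.rec (motive := fun _ => Bool) (dp_z_56 j u) (dp_z_58 j u) (Nat.ble (nat_lit 66) j)
noncomputable def dp_z_60 (j u : ℕ) : Bool :=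
  Bool.rec (motive := fun _ => Bool) (lF [T_q, T_y, T_q, T_yi, T_z, T_q, T_y, T_q, T_z, T_yi, T_q, T_y, T_q, T_z, T_yi] M (Nat.sub (T_z u) (Nat.mod (T_z u) M)) (Nat.mod (T_z u) M) u) (lS MG [T_yi, T_z, T_y, T_z, T_y, T_q, T_yi, T_z, T_yi, T_z, T_y, T_z, T_y, T_q, T_yi] M (Nat.sub (T_z u) (Nat.mod (T_z u) M)) (nat_lit 40) (Nat.mod (T_z u) M) u) (Nat.ble (nat_lit 71) j)
noncomputable def dp_z_61 (j u : ℕ) : Bool :=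
  Bool.rec (motive := fun _ => Bool) (lS MG [T_yi, T_q, T_y, T_z, T_y, T_z, T_yi, T_z, T_yi, T_q, T_y, T_z, T_y, T_z, T_yi] M (Nat.sub (T_z u) (Nat.mod (T_z u) M)) (nat_lit 40) (Nat.mod (T_z u) M) u) (dp_z_60 j u) (Nat.ble (nat_lit 70) j)
noncomputable def dp_z_62 (j u : ℕ) : Bool :=
  Bool.rec (motive := fun _ => Bool) (lF [T_yi, T_q, T_z, T_yi, T_yi, T_z, T_q, T_yi, T_z, T_y, T_q, T_z, T_y, T_y, T_z, T_q, T_y] M (Nat.sub (T_z u) (Nat.mod (T_z u) M)) (Nat.mod (T_z u) M) u) (lF [T_y, T_q, T_z, T_y, T_y, T_z, T_q, T_y, T_z, T_yi, T_q, T_z, T_yi, T_yi, T_z, T_q, T_yi] M (Nat.sub (T_z u) (Nat.mod (T_z u) M)) (Nat.mod (T_z u) M) u) (Nat.ble (nat_lit 74) j)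
noncomputable def dp_z_63 (j u : ℕ) : Bool :=
  Bool.rec (motive := fun _ => Bool) (lF [T_y, T_q, T_y, T_z, T_y, T_z, T_yi, T_z, T_y, T_y, T_q, T_y, T_y, T_z, T_yi, T_z, T_y] M (Nat.sub (T_z u) (Nat.mod (T_z u) M)) (Nat.mod (T_z u) M) u) (dp_z_62 j u) (Nat.ble (nat_lit 73) j)
noncomputable def dp_z_64 (j u : ℕ) : Bool :=
  Bool.rec (motive := fun _ => Bool) (dp_z_61 j u) (dp_z_63 j u) (Nat.ble (nat_lit 72) j)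
noncomputable def dp_z_65 (j u : ℕ) : Bool :=
  Bool.rec (motive := fun _ => Bool) (dp_z_59 j u) (dp_z_64 j u) (Nat.ble (nat_lit 69) j)
noncomputable def dp_z_66 (j u : ℕ) : Bool :=
  Bool.rec (motive := fun _ => Bool) (dp_z_54 j u) (dp_z_65 j u) (Nat.ble (nat_lit 63) j)
noncomputable def dp_z_67 (j u : ℕ) : Bool :=
  Bool.rec (motive := fun _ => Bool) (lF [T_yi, T_q, T_yi, T_z, T_yi, T_z, T_y, T_z, T_yi, T_yi, T_q, T_yi, T_yi, T_z, T_y, T_z, T_yi] M (Nat.sub (T_z u) (Nat.mod (T_z u) M)) (Nat.mod (T_z u) M) u) (lS MG [T_y, T_y, T_z, T_yi, T_yi, T_z, T_y, T_y, T_z, T_yi, T_yi, T_z, T_y, T_y, T_z, T_yi, T_yi] M (Nat.sub (T_z u) (Nat.mod (T_z u) M)) (nat_lit 40) (Nat.mod (T_z u) M) u) (Nat.ble (nat_lit 77) j)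
noncomputable def dp_z_68 (j u : ℕ) : Bool :=
  Bool.rec (motive := fun _ => Bool) (lS MG [T_yi, T_yi, T_z, T_y, T_y, T_z, T_yi, T_yi, T_z, T_y, T_y, T_z, T_yi, T_yi, T_z, T_y, T_y] M (Nat.sub (T_z u) (Nat.mod (T_z u) M)) (nat_lit 40) (Nat.mod (T_z u) M) u) (dp_z_67 j u) (Nat.ble (nat_lit 76) j)
noncomputable def dp_z_69 (j u : ℕ) : Bool :=
  Bool.rec (motive := fun _ => Bool) (lS MG [T_y, T_z, T_yi, T_z, T_yi, T_q, T_y, T_z, T_y, T_z, T_yi, T_z, T_yi, T_q, T_y] M (Nat.sub (T_z u) (Nat.mod (T_z u) M)) (nat_lit 40) (Nat.mod (T_z u) M) u) (lS MG [T_q, T_v, T_q, T_z, T_q, T_v, T_q, T_z, T_q, T_v, T_q] M (Nat.sub (T_z u) (Nat.mod (T_z u) M)) (nat_lit 40) (Nat.mod (T_z u) M) u) (Nat.ble (nat_lit 79) j)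
noncomputable def dp_z_70 (j u : ℕ) : Bool :=
  Bool.rec (motive := fun _ => Bool) (lF [T_y, T_q, T_yi, T_q, T_z, T_q, T_y, T_z, T_yi, T_q, T_y, T_q, T_z, T_q, T_yi] M (Nat.sub (T_z u) (Nat.mod (T_z u) M)) (Nat.mod (T_z u) M) u) (lF [T_yi, T_z, T_y, T_z, T_yi, T_yi, T_q, T_yi, T_yi, T_z, T_y, T_z, T_yi, T_z, T_yi, T_q, T_yi] M (Nat.sub (T_z u) (Nat.mod (T_z u) M)) (Nat.mod (T_z u) M) u) (Nat.ble (nat_lit 81) j)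
noncomputable def dp_z_71 (j u : ℕ) : Bool :=
  Bool.rec (motive := fun _ => Bool) (dp_z_69 j u) (dp_z_70 j u) (Nat.ble (nat_lit 80) j)
noncomputable def dp_z_72 (j u : ℕ) : Bool :=
  Bool.rec (motive := fun _ => Bool) (dp_z_68 j u) (dp_z_71 j u) (Nat.ble (nat_lit 78) j)
noncomputable def dp_z_73 (j u : ℕ) : Bool :=
  Bool.rec (motive := fun _ => Bool) (lF [T_yi, T_q, T_y, T_q, T_z, T_q, T_yi, T_z, T_y, T_q, T_yi, T_q, T_z, T_q, T_y] M (Nat.sub (T_z u) (Nat.mod (T_z u) M)) (Nat.mod (T_z u) M) u) (lF [T_y, T_z, T_yi, T_z, T_y, T_y, T_q, T_y, T_y, T_z, T_yi, T_z, T_y, T_z, T_y, T_q, T_y] M (Nat.sub (T_z u) (Nat.mod (T_z u) M)) (Nat.mod (T_z u) M) u) (Nat.ble (nat_lit 84) j)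
noncomputable def dp_z_74 (j u : ℕ) : Bool :=
  Bool.rec (motive := fun _ => Bool) (lF [T_q, T_yi, T_q, T_z, T_y, T_q, T_yi, T_q, T_z, T_y, T_z, T_q, T_yi, T_q, T_y] M (Nat.sub (T_z u) (Nat.mod (T_z u) M)) (Nat.mod (T_z u) M) u) (dp_z_73 j u) (Nat.ble (nat_lit 83) j)
noncomputable def dp_z_75 (j u : ℕ) : Bool :=
  Bool.rec (motive := fun _ => Bool) (lF [T_y, T_q, T_z, T_q, T_yi, T_q, T_y, T_z, T_yi, T_q, T_z, T_q, T_y, T_q, T_yi] M (Nat.sub (T_z u) (Nat.mod (T_z u) M)) (Nat.mod (T_z u) M) u) (lF [T_y, T_q, T_z, T_yi, T_q, T_z, T_y, T_z, T_yi, T_z, T_q, T_y, T_z, T_q, T_yi] M (Nat.sub (T_z u) (Nat.mod (T_z u) M)) (Nat.mod (T_z u) M) u) (Nat.ble (nat_lit 86) j)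
noncomputable def dp_z_76 (j u : ℕ) : Bool :=
  Bool.rec (motive := fun _ => Bool) (lF [T_q, T_y, T_z, T_yi, T_q, T_z, T_yi, T_yi, T_z, T_q, T_yi, T_z, T_y, T_q, T_z, T_y, T_y] M (Nat.sub (T_z u) (Nat.mod (T_z u) M)) (Nat.mod (T_z u) M) u) (lF [T_q, T_y, T_q, T_z, T_yi, T_q, T_y, T_q, T_z, T_yi, T_z, T_q, T_y, T_q, T_yi] M (Nat.sub (T_z u) (Nat.mod (T_z u) M)) (Nat.mod (T_z u) M) u) (Nat.ble (nat_lit 88) j)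
noncomputable def dp_z_77 (j u : ℕ) : Bool :=
  Bool.rec (motive := fun _ => Bool) (dp_z_75 j u) (dp_z_76 j u) (Nat.ble (nat_lit 87) j)
noncomputable def dp_z_78 (j u : ℕ) : Bool :=
  Bool.rec (motive := fun _ => Bool) (dp_z_74 j u) (dp_z_77 j u) (Nat.ble (nat_lit 85) j)
noncomputable def dp_z_79 (j u : ℕ) : Bool :=
  Bool.rec (motive := fun _ => Bool) (dp_z_72 j u) (dp_z_78 j u) (Nat.ble (nat_lit 82) j)
noncomputable def dp_z_80 (j u : ℕ) : Bool :=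
  Bool.rec (motive := fun _ => Bool) (lF [T_y, T_q, T_yi, T_q, T_z, T_y, T_z, T_q, T_yi, T_q, T_y, T_z, T_q, T_yi, T_q] M (Nat.sub (T_z u) (Nat.mod (T_z u) M)) (Nat.mod (T_z u) M) u) (lF [T_yi, T_q, T_z, T_q, T_y, T_q, T_yi, T_z, T_y, T_q, T_z, T_q, T_yi, T_q, T_y] M (Nat.sub (T_z u) (Nat.mod (T_z u) M)) (Nat.mod (T_z u) M) u) (Nat.ble (nat_lit 90) j)
noncomputable def dp_z_81 (j u : ℕ) : Bool :=
  Bool.rec (motive := fun _ => Bool) (lF [T_q, T_yi, T_z, T_y, T_q, T_z, T_y, T_y, T_z, T_q, T_y, T_z, T_yi, T_q, T_z, T_yi, T_yi] M (Nat.sub (T_z u) (Nat.mod (T_z u) M)) (Nat.mod (T_z u) M) u) (lF [T_yi, T_z, T_q, T_y, T_q, T_yi, T_z, T_q, T_y, T_q, T_z, T_yi, T_q, T_y, T_q] M (Nat.sub (T_z u) (Nat.mod (T_z u) M)) (Nat.mod (T_z u) M) u) (Nat.ble (nat_lit 92) j)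
noncomputable def dp_z_82 (j u : ℕ) : Bool :=
  Bool.rec (motive := fun _ => Bool) (dp_z_80 j u) (dp_z_81 j u) (Nat.ble (nat_lit 91) j)
noncomputable def dp_z_83 (j u : ℕ) : Bool :=
  Bool.rec (motive := fun _ => Bool) (lS MG [T_yi, T_q, T_z, T_yi, T_yi, T_z, T_q, T_yi, T_z, T_y, T_q, T_z, T_y, T_y, T_z, T_q, T_y] M (Nat.sub (T_z u) (Nat.mod (T_z u) M)) (nat_lit 40) (Nat.mod (T_z u) M) u) (lF [T_yi, T_q, T_y, T_q, T_z, T_yi, T_z, T_q, T_y, T_q, T_yi, T_z, T_q, T_y, T_q] M (Nat.sub (T_z u) (Nat.mod (T_z u) M)) (Nat.mod (T_z u) M) u) (Nat.ble (nat_lit 94) j)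
noncomputable def dp_z_84 (j u : ℕ) : Bool :=
  Bool.rec (motive := fun _ => Bool) (lF [T_y, T_z, T_q, T_yi, T_q, T_y, T_z, T_q, T_yi, T_q, T_z, T_y, T_q, T_yi, T_q] M (Nat.sub (T_z u) (Nat.mod (T_z u) M)) (Nat.mod (T_z u) M) u) (lF [T_yi, T_z, T_q, T_z, T_q, T_v, T_y, T_v, T_q, T_z, T_q] M (Nat.sub (T_z u) (Nat.mod (T_z u) M)) (Nat.mod (T_z u) M) u) (Nat.ble (nat_lit 97) j)
noncomputable def dp_z_85 (j u : ℕ) : Bool :=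
  Bool.rec (motive := fun _ => Bool) (lS MG [T_yi, T_q, T_yi, T_z, T_yi, T_z, T_y, T_z, T_yi, T_yi, T_q, T_yi, T_yi, T_z, T_y, T_z, T_yi] M (Nat.sub (T_z u) (Nat.mod (T_z u) M)) (nat_lit 40) (Nat.mod (T_z u) M) u) (dp_z_84 j u) (Nat.ble (nat_lit 96) j)
noncomputable def dp_z_86 (j u : ℕ) : Bool :=
  Bool.rec (motive := fun _ => Bool) (dp_z_83 j u) (dp_z_85 j u) (Nat.ble (nat_lit 95) j)
noncomputable def dp_z_87 (j u : ℕ) : Bool :=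
  Bool.rec (motive := fun _ => Bool) (dp_z_82 j u) (dp_z_86 j u) (Nat.ble (nat_lit 93) j)
noncomputable def dp_z_88 (j u : ℕ) : Bool :=
  Bool.rec (motive := fun _ => Bool) (lS MG [T_y, T_q, T_z, T_y, T_y, T_z, T_q, T_y, T_z, T_yi, T_q, T_z, T_yi, T_yi, T_z, T_q, T_yi] M (Nat.sub (T_z u) (Nat.mod (T_z u) M)) (nat_lit 40) (Nat.mod (T_z u) M) u) (lS MG [T_y, T_q, T_y, T_z, T_y, T_z, T_yi, T_z, T_y, T_y, T_q, T_y, T_y, T_z, T_yi, T_z, T_y] M (Nat.sub (T_z u) (Nat.mod (T_z u) M)) (nat_lit 40) (Nat.mod (T_z u) M) u) (Nat.ble (nat_lit 99) j)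
noncomputable def dp_z_89 (j u : ℕ) : Bool :=
  Bool.rec (motive := fun _ => Bool) (lS MG [T_v, T_z, T_q, T_z, T_q, T_v, T_z, T_q, T_v, T_q] M (Nat.sub (T_z u) (Nat.mod (T_z u) M)) (nat_lit 40) (Nat.mod (T_z u) M) u) (lF [T_q, T_y, T_z, T_q, T_yi, T_z, T_y, T_q, T_z, T_yi, T_q, T_z, T_y, T_z, T_yi] M (Nat.sub (T_z u) (Nat.mod (T_z u) M)) (Nat.mod (T_z u) M) u) (Nat.ble (nat_lit 102) j)
noncomputable def dp_z_90 (j u : ℕ) : Bool :=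
  Bool.rec (motive := fun _ => Bool) (lF [T_y, T_y, T_y, T_q, T_z, T_q, T_z, T_y, T_y, T_y, T_q, T_z, T_q] M (Nat.sub (T_z u) (Nat.mod (T_z u) M)) (Nat.mod (T_z u) M) u) (dp_z_89 j u) (Nat.ble (nat_lit 101) j)
noncomputable def dp_z_91 (j u : ℕ) : Bool :=
  Bool.rec (motive := fun _ => Bool) (dp_z_88 j u) (dp_z_90 j u) (Nat.ble (nat_lit 100) j)
noncomputable def dp_z_92 (j u : ℕ) : Bool :=
  Bool.rec (motive := fun _ => Bool) (lF [T_y, T_z, T_yi, T_z, T_yi, T_q, T_yi, T_z, T_yi, T_z, T_y, T_z, T_yi, T_yi, T_q, T_yi, T_yi] M (Nat.sub (T_z u) (Nat.mod (T_z u) M)) (Nat.mod (T_z u) M) u) (lF [T_yi, T_z, T_yi, T_q, T_yi, T_z, T_yi, T_z, T_y, T_z, T_yi, T_yi, T_q, T_yi, T_yi, T_z, T_y] M (Nat.sub (T_z u) (Nat.mod (T_z u) M)) (Nat.mod (T_z u) M) u) (Nat.ble (nat_lit 105) j)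
noncomputable def dp_z_93 (j u : ℕ) : Bool :=
  Bool.rec (motive := fun _ => Bool) (lS MG [T_y, T_z, T_yi, T_z, T_y, T_y, T_q, T_y, T_y, T_z, T_yi, T_z, T_y, T_z, T_y, T_q, T_y] M (Nat.sub (T_z u) (Nat.mod (T_z u) M)) (nat_lit 40) (Nat.mod (T_z u) M) u) (dp_z_92 j u) (Nat.ble (nat_lit 104) j)
noncomputable def dp_z_94 (j u : ℕ) : Bool :=
  Bool.rec (motive := fun _ => Bool) (lF [T_y, T_y, T_z, T_q, T_y, T_z, T_yi, T_q, T_z, T_yi, T_yi, T_z, T_q, T_yi, T_z, T_y, T_q] M (Nat.sub (T_z u) (Nat.mod (T_z u) M)) (Nat.mod (T_z u) M) u) (lS MG [T_yi, T_z, T_y, T_z, T_yi, T_yi, T_q, T_yi, T_yi, T_z, T_y, T_z, T_yi, T_z, T_yi, T_q, T_yi] M (Nat.sub (T_z u) (Nat.mod (T_z u) M)) (nat_lit 40) (Nat.mod (T_z u) M) u) (Nat.ble (nat_lit 108) j)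
noncomputable def dp_z_95 (j u : ℕ) : Bool :=
  Bool.rec (motive := fun _ => Bool) (lF [T_q, T_y, T_y, T_q, T_z, T_y, T_z, T_yi, T_z, T_q, T_yi, T_yi, T_q, T_z, T_yi, T_z, T_y] M (Nat.sub (T_z u) (Nat.mod (T_z u) M)) (Nat.mod (T_z u) M) u) (dp_z_94 j u) (Nat.ble (nat_lit 107) j)
noncomputable def dp_z_96 (j u : ℕ) : Bool :=
  Bool.rec (motive := fun _ => Bool) (dp_z_93 j u) (dp_z_95 j u) (Nat.ble (nat_lit 106) j)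
noncomputable def dp_z_97 (j u : ℕ) : Bool :=
  Bool.rec (motive := fun _ => Bool) (dp_z_91 j u) (dp_z_96 j u) (Nat.ble (nat_lit 103) j)
noncomputable def dp_z_98 (j u : ℕ) : Bool :=
  Bool.rec (motive := fun _ => Bool) (dp_z_87 j u) (dp_z_97 j u) (Nat.ble (nat_lit 98) j)
noncomputable def dp_z_99 (j u : ℕ) : Bool :=
  Bool.rec (motive := fun _ => Bool) (dp_z_79 j u) (dp_z_98 j u) (Nat.ble (nat_lit 89) j)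
noncomputable def dp_z_100 (j u : ℕ) : Bool :=
  Bool.rec (motive := fun _ => Bool) (dp_z_66 j u) (dp_z_99 j u) (Nat.ble (nat_lit 75) j)
noncomputable def dp_z_101 (j u : ℕ) : Bool :=
  Bool.rec (motive := fun _ => Bool) (lF [T_q, T_z, T_q, T_yi, T_yi, T_yi, T_z, T_q, T_z, T_q, T_yi, T_yi, T_yi] M (Nat.sub (T_z u) (Nat.mod (T_z u) M)) (Nat.mod (T_z u) M) u) (lF [T_y, T_z, T_q, T_z, T_q, T_v, T_yi, T_v, T_q, T_z, T_q] M (Nat.sub (T_z u) (Nat.mod (T_z u) M)) (Nat.mod (T_z u) M) u) (Nat.ble (nat_lit 111) j)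
noncomputable def dp_z_102 (j u : ℕ) : Bool :=
  Bool.rec (motive := fun _ => Bool) (lF [T_q, T_yi, T_yi, T_q, T_z, T_yi, T_z, T_y, T_z, T_q, T_y, T_y, T_q, T_z, T_y, T_z, T_yi] M (Nat.sub (T_z u) (Nat.mod (T_z u) M)) (Nat.mod (T_z u) M) u) (dp_z_101 j u) (Nat.ble (nat_lit 110) j)
noncomputable def dp_z_103 (j u : ℕ) : Bool :=
  Bool.rec (motive := fun _ => Bool) (lS MG [T_q, T_z, T_q, T_v, T_z, T_q, T_v, T_q, T_z, T_v] M (Nat.sub (T_z u) (Nat.mod (T_z u) M)) (nat_lit 40) (Nat.mod (T_z u) M) u) (lF [T_yi, T_z, T_y, T_z, T_y, T_q, T_y, T_z, T_y, T_z, T_yi, T_z, T_y, T_y, T_q, T_y, T_y] M (Nat.sub (T_z u) (Nat.mod (T_z u) M)) (Nat.mod (T_z u) M) u) (Nat.ble (nat_lit 114) j)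
noncomputable def dp_z_104 (j u : ℕ) : Bool :=
  Bool.rec (motive := fun _ => Bool) (lF [T_yi, T_q, T_z, T_y, T_z, T_q, T_yi, T_z, T_y, T_z, T_q, T_yi, T_q, T_z, T_y] M (Nat.sub (T_z u) (Nat.mod (T_z u) M)) (Nat.mod (T_z u) M) u) (dp_z_103 j u) (Nat.ble (nat_lit 113) j)
noncomputable def dp_z_105 (j u : ℕ) : Bool :=
  Bool.rec (motive := fun _ => Bool) (dp_z_102 j u) (dp_z_104 j u) (Nat.ble (nat_lit 112) j)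
noncomputable def dp_z_106 (j u : ℕ) : Bool :=
  Bool.rec (motive := fun _ => Bool) (lF [T_yi, T_yi, T_q, T_yi, T_yi, T_z, T_y, T_z, T_yi, T_z, T_yi, T_q, T_yi, T_z, T_yi, T_z, T_y] M (Nat.sub (T_z u) (Nat.mod (T_z u) M)) (Nat.mod (T_z u) M) u) (lF [T_yi, T_yi, T_z, T_q, T_yi, T_z, T_y, T_q, T_z, T_y, T_y, T_z, T_q, T_y, T_z, T_yi, T_q] M (Nat.sub (T_z u) (Nat.mod (T_z u) M)) (Nat.mod (T_z u) M) u) (Nat.ble (nat_lit 117) j)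
noncomputable def dp_z_107 (j u : ℕ) : Bool :=
  Bool.rec (motive := fun _ => Bool) (lF [T_y, T_y, T_q, T_y, T_y, T_z, T_yi, T_z, T_y, T_z, T_y, T_q, T_y, T_z, T_y, T_z, T_yi] M (Nat.sub (T_z u) (Nat.mod (T_z u) M)) (Nat.mod (T_z u) M) u) (dp_z_106 j u) (Nat.ble (nat_lit 116) j)
noncomputable def dp_z_108 (j u : ℕ) : Bool :=
  Bool.rec (motive := fun _ => Bool) (lS MG [T_q, T_z, T_v, T_z, T_q, T_v, T_q, T_z, T_v, T_q] M (Nat.sub (T_z u) (Nat.mod (T_z u) M)) (nat_lit 40) (Nat.mod (T_z u) M) u) (lF [T_yi, T_z, T_y, T_z, T_q, T_y, T_y, T_q, T_z, T_y, T_z, T_yi, T_z, T_q, T_yi, T_yi, T_q] M (Nat.sub (T_z u) (Nat.mod (T_z u) M)) (Nat.mod (T_z u) M) u) (Nat.ble (nat_lit 120) j)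
noncomputable def dp_z_109 (j u : ℕ) : Bool :=
  Bool.rec (motive := fun _ => Bool) (lF [T_yi, T_z, T_q, T_yi, T_yi, T_q, T_z, T_yi, T_z, T_y, T_z, T_q, T_y, T_y, T_q, T_z, T_y] M (Nat.sub (T_z u) (Nat.mod (T_z u) M)) (Nat.mod (T_z u) M) u) (dp_z_108 j u) (Nat.ble (nat_lit 119) j)
noncomputable def dp_z_110 (j u : ℕ) : Bool :=
  Bool.rec (motive := fun _ => Bool) (dp_z_107 j u) (dp_z_109 j u) (Nat.ble (nat_lit 118) j)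
noncomputable def dp_z_111 (j u : ℕ) : Bool :=
  Bool.rec (motive := fun _ => Bool) (dp_z_105 j u) (dp_z_110 j u) (Nat.ble (nat_lit 115) j)
noncomputable def dp_z_112 (j u : ℕ) : Bool :=
  Bool.rec (motive := fun _ => Bool) (lF [T_q, T_yi, T_q, T_z, T_y, T_z, T_yi, T_q, T_z, T_y, T_z, T_q, T_yi, T_z, T_y] M (Nat.sub (T_z u) (Nat.mod (T_z u) M)) (Nat.mod (T_z u) M) u) (lF [T_y, T_z, T_y, T_q, T_y, T_z, T_y, T_z, T_yi, T_z, T_y, T_y, T_q, T_y, T_y, T_z, T_yi] M (Nat.sub (T_z u) (Nat.mod (T_z u) M)) (Nat.mod (T_z u) M) u) (Nat.ble (nat_lit 123) j)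
noncomputable def dp_z_113 (j u : ℕ) : Bool :=
  Bool.rec (motive := fun _ => Bool) (lF [T_y, T_z, T_q, T_y, T_y, T_q, T_z, T_y, T_z, T_yi, T_z, T_q, T_yi, T_yi, T_q, T_z, T_yi] M (Nat.sub (T_z u) (Nat.mod (T_z u) M)) (Nat.mod (T_z u) M) u) (dp_z_112 j u) (Nat.ble (nat_lit 122) j)
noncomputable def dp_z_114 (j u : ℕ) : Bool :=
  Bool.rec (motive := fun _ => Bool) (lF [T_y, T_z, T_q, T_yi, T_q, T_z, T_y, T_z, T_yi, T_q, T_z, T_y, T_z, T_q, T_yi] M (Nat.sub (T_z u) (Nat.mod (T_z u) M)) (Nat.mod (T_z u) M) u) (lS MG [T_q, T_y, T_z, T_yi, T_q, T_z, T_yi, T_yi, T_z, T_q, T_yi, T_z, T_y, T_q, T_z, T_y, T_y] M (Nat.sub (T_z u) (Nat.mod (T_z u) M)) (nat_lit 40) (Nat.mod (T_z u) M) u) (Nat.ble (nat_lit 125) j)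
noncomputable def dp_z_115 (j u : ℕ) : Bool :=
  Bool.rec (motive := fun _ => Bool) (lF [T_y, T_z, T_yi, T_z, T_q, T_yi, T_yi, T_q, T_z, T_yi, T_z, T_y, T_z, T_q, T_y, T_y, T_q] M (Nat.sub (T_z u) (Nat.mod (T_z u) M)) (Nat.mod (T_z u) M) u) (lS MG [T_q, T_yi, T_q, T_y, T_z, T_q, T_yi, T_q, T_z, T_y, T_q, T_yi, T_q, T_z, T_y] M (Nat.sub (T_z u) (Nat.mod (T_z u) M)) (nat_lit 40) (Nat.mod (T_z u) M) u) (Nat.ble (nat_lit 127) j)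
noncomputable def dp_z_116 (j u : ℕ) : Bool :=
  Bool.rec (motive := fun _ => Bool) (dp_z_114 j u) (dp_z_115 j u) (Nat.ble (nat_lit 126) j)
noncomputable def dp_z_117 (j u : ℕ) : Bool :=
  Bool.rec (motive := fun _ => Bool) (dp_z_113 j u) (dp_z_116 j u) (Nat.ble (nat_lit 124) j)
noncomputable def dp_z_118 (j u : ℕ) : Bool :=
  Bool.rec (motive := fun _ => Bool) (lS MG [T_y, T_q, T_yi, T_z, T_q, T_z, T_y, T_q, T_yi, T_z, T_q] M (Nat.sub (T_z u) (Nat.mod (T_z u) M)) (nat_lit 40) (Nat.mod (T_z u) M) u) (lS MG [T_q, T_z, T_y, T_q, T_yi, T_z, T_q, T_z, T_y, T_q, T_yi] M (Nat.sub (T_z u) (Nat.mod (T_z u) M)) (nat_lit 40) (Nat.mod (T_z u) M) u) (Nat.ble (nat_lit 130) j)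
noncomputable def dp_z_119 (j u : ℕ) : Bool :=
  Bool.rec (motive := fun _ => Bool) (lF [T_q, T_z, T_yi, T_yi, T_q, T_y, T_y, T_z, T_q, T_z, T_yi, T_yi, T_q, T_y, T_y] M (Nat.sub (T_z u) (Nat.mod (T_z u) M)) (Nat.mod (T_z u) M) u) (dp_z_118 j u) (Nat.ble (nat_lit 129) j)
noncomputable def dp_z_120 (j u : ℕ) : Bool :=
  Bool.rec (motive := fun _ => Bool) (lF [T_v, T_z, T_v, T_z, T_q, T_z, T_v, T_q, T_v, T_q, T_v, T_z, T_q] M (Nat.sub (T_z u) (Nat.mod (T_z u) M)) (Nat.mod (T_z u) M) u) (lF [T_q, T_yi, T_z, T_y, T_q, T_z, T_yi, T_q, T_z, T_y, T_z, T_yi, T_z, T_q, T_y] M (Nat.sub (T_z u) (Nat.mod (T_z u) M)) (Nat.mod (T_z u) M) u) (Nat.ble (nat_lit 132) j)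
noncomputable def dp_z_121 (j u : ℕ) : Bool :=
  Bool.rec (motive := fun _ => Bool) (lS MG [T_q, T_yi, T_q, T_z, T_y, T_q, T_yi, T_q, T_z, T_y, T_z, T_q, T_yi, T_q, T_y] M (Nat.sub (T_z u) (Nat.mod (T_z u) M)) (nat_lit 40) (Nat.mod (T_z u) M) u) (lS MG [T_q, T_v, T_q, T_z, T_v, T_z, T_q, T_z, T_q, T_v] M (Nat.sub (T_z u) (Nat.mod (T_z u) M)) (nat_lit 40) (Nat.mod (T_z u) M) u) (Nat.ble (nat_lit 134) j)
noncomputable def dp_z_122 (j u : ℕ) : Bool :=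
  Bool.rec (motive := fun _ => Bool) (dp_z_120 j u) (dp_z_121 j u) (Nat.ble (nat_lit 133) j)
noncomputable def dp_z_123 (j u : ℕ) : Bool :=
  Bool.rec (motive := fun _ => Bool) (dp_z_119 j u) (dp_z_122 j u) (Nat.ble (nat_lit 131) j)
noncomputable def dp_z_124 (j u : ℕ) : Bool :=
  Bool.rec (motive := fun _ => Bool) (dp_z_117 j u) (dp_z_123 j u) (Nat.ble (nat_lit 128) j)
noncomputable def dp_z_125 (j u : ℕ) : Bool :=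
  Bool.rec (motive := fun _ => Bool) (dp_z_111 j u) (dp_z_124 j u) (Nat.ble (nat_lit 121) j)
noncomputable def dp_z_126 (j u : ℕ) : Bool :=
  Bool.rec (motive := fun _ => Bool) (lF [T_y, T_z, T_yi, T_yi, T_q, T_yi, T_yi, T_z, T_y, T_z, T_yi, T_z, T_yi, T_q, T_yi, T_z, T_yi] M (Nat.sub (T_z u) (Nat.mod (T_z u) M)) (Nat.mod (T_z u) M) u) (lS MG [T_yi, T_z, T_q, T_y, T_z, T_q, T_yi, T_z, T_y, T_q, T_z, T_yi, T_q, T_z, T_y] M (Nat.sub (T_z u) (Nat.mod (T_z u) M)) (nat_lit 40) (Nat.mod (T_z u) M) u) (Nat.ble (nat_lit 137) j)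
noncomputable def dp_z_127 (j u : ℕ) : Bool :=
  Bool.rec (motive := fun _ => Bool) (lF [T_y, T_q, T_z, T_yi, T_z, T_q, T_y, T_z, T_yi, T_z, T_q, T_y, T_q, T_z, T_yi] M (Nat.sub (T_z u) (Nat.mod (T_z u) M)) (Nat.mod (T_z u) M) u) (dp_z_126 j u) (Nat.ble (nat_lit 136) j)
noncomputable def dp_z_128 (j u : ℕ) : Bool :=
  Bool.rec (motive := fun _ => Bool) (lS MG [T_yi, T_z, T_y, T_z, T_y, T_q, T_y, T_z, T_y, T_z, T_yi, T_z, T_y, T_y, T_q, T_y, T_y] M (Nat.sub (T_z u) (Nat.mod (T_z u) M)) (nat_lit 40) (Nat.mod (T_z u) M) u) (lS MG [T_v, T_z, T_q, T_v, T_q, T_z, T_v, T_q, T_z, T_q] M (Nat.sub (T_z u) (Nat.mod (T_z u) M)) (nat_lit 40) (Nat.mod (T_z u) M) u) (Nat.ble (nat_lit 139) j)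
noncomputable def dp_z_129 (j u : ℕ) : Bool :=
  Bool.rec (motive := fun _ => Bool) (lS MG [T_q, T_z, T_yi, T_q, T_y, T_z, T_q, T_z, T_yi, T_q, T_y] M (Nat.sub (T_z u) (Nat.mod (T_z u) M)) (nat_lit 40) (Nat.mod (T_z u) M) u) (lF [T_yi, T_q, T_z, T_y, T_z, T_yi, T_z, T_q, T_y, T_z, T_q, T_yi, T_z, T_y, T_q] M (Nat.sub (T_z u) (Nat.mod (T_z u) M)) (Nat.mod (T_z u) M) u) (Nat.ble (nat_lit 141) j)
noncomputable def dp_z_130 (j u : ℕ) : Bool :=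
  Bool.rec (motive := fun _ => Bool) (dp_z_128 j u) (dp_z_129 j u) (Nat.ble (nat_lit 140) j)
noncomputable def dp_z_131 (j u : ℕ) : Bool :=
  Bool.rec (motive := fun _ => Bool) (dp_z_127 j u) (dp_z_130 j u) (Nat.ble (nat_lit 138) j)
noncomputable def dp_z_132 (j u : ℕ) : Bool :=
  Bool.rec (motive := fun _ => Bool) (lF [T_yi, T_z, T_y, T_y, T_q, T_y, T_y, T_z, T_yi, T_z, T_y, T_z, T_y, T_q, T_y, T_z, T_y] M (Nat.sub (T_z u) (Nat.mod (T_z u) M)) (Nat.mod (T_z u) M) u) (lF [T_yi, T_z, T_q, T_y, T_q, T_z, T_yi, T_z, T_y, T_q, T_z, T_yi, T_z, T_q, T_y] M (Nat.sub (T_z u) (Nat.mod (T_z u) M)) (Nat.mod (T_z u) M) u) (Nat.ble (nat_lit 143) j)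
noncomputable def dp_z_133 (j u : ℕ) : Bool :=
  Bool.rec (motive := fun _ => Bool) (lS MG [T_q, T_yi, T_z, T_y, T_q, T_z, T_y, T_y, T_z, T_q, T_y, T_z, T_yi, T_q, T_z, T_yi, T_yi] M (Nat.sub (T_z u) (Nat.mod (T_z u) M)) (nat_lit 40) (Nat.mod (T_z u) M) u) (lS MG [T_yi, T_yi, T_z, T_q, T_yi, T_z, T_y, T_q, T_z, T_y, T_y, T_z, T_q, T_y, T_z, T_yi, T_q] M (Nat.sub (T_z u) (Nat.mod (T_z u) M)) (nat_lit 40) (Nat.mod (T_z u) M) u) (Nat.ble (nat_lit 145) j)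
noncomputable def dp_z_134 (j u : ℕ) : Bool :=
  Bool.rec (motive := fun _ => Bool) (dp_z_132 j u) (dp_z_133 j u) (Nat.ble (nat_lit 144) j)
noncomputable def dp_z_135 (j u : ℕ) : Bool :=
  Bool.rec (motive := fun _ => Bool) (lS MG [T_y, T_q, T_yi, T_q, T_z, T_y, T_z, T_q, T_yi, T_q, T_y, T_z, T_q, T_yi, T_q] M (Nat.sub (T_z u) (Nat.mod (T_z u) M)) (nat_lit 40) (Nat.mod (T_z u) M) u) (lS MG [T_q, T_y, T_q, T_yi, T_z, T_q, T_y, T_q, T_z, T_yi, T_q, T_y, T_q, T_z, T_yi] M (Nat.sub (T_z u) (Nat.mod (T_z u) M)) (nat_lit 40) (Nat.mod (T_z u) M) u) (Nat.ble (nat_lit 147) j)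
noncomputable def dp_z_136 (j u : ℕ) : Bool :=
  Bool.rec (motive := fun _ => Bool) (lF [T_y, T_z, T_yi, T_z, T_q, T_y, T_z, T_q, T_yi, T_z, T_y, T_q, T_z, T_yi, T_q] M (Nat.sub (T_z u) (Nat.mod (T_z u) M)) (Nat.mod (T_z u) M) u) (lS MG [T_q, T_y, T_q, T_z, T_yi, T_q, T_y, T_q, T_z, T_yi, T_z, T_q, T_y, T_q, T_yi] M (Nat.sub (T_z u) (Nat.mod (T_z u) M)) (nat_lit 40) (Nat.mod (T_z u) M) u) (Nat.ble (nat_lit 149) j)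
noncomputable def dp_z_137 (j u : ℕ) : Bool :=
  Bool.rec (motive := fun _ => Bool) (dp_z_135 j u) (dp_z_136 j u) (Nat.ble (nat_lit 148) j)
noncomputable def dp_z_138 (j u : ℕ) : Bool :=
  Bool.rec (motive := fun _ => Bool) (dp_z_134 j u) (dp_z_137 j u) (Nat.ble (nat_lit 146) j)
noncomputable def dp_z_139 (j u : ℕ) : Bool :=
  Bool.rec (motive := fun _ => Bool) (dp_z_131 j u) (dp_z_138 j u) (Nat.ble (nat_lit 142) j)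
noncomputable def dp_z_140 (j u : ℕ) : Bool :=
  Bool.rec (motive := fun _ => Bool) (lF [T_q, T_z, T_v, T_q, T_v, T_q, T_v, T_z, T_q, T_z, T_v, T_z, T_v] M (Nat.sub (T_z u) (Nat.mod (T_z u) M)) (Nat.mod (T_z u) M) u) (lF [T_q, T_y, T_z, T_yi, T_z, T_q, T_y, T_q, T_z, T_yi, T_z, T_y, T_q, T_z, T_yi] M (Nat.sub (T_z u) (Nat.mod (T_z u) M)) (Nat.mod (T_z u) M) u) (Nat.ble (nat_lit 151) j)
noncomputable def dp_z_141 (j u : ℕ) : Bool :=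
  Bool.rec (motive := fun _ => Bool) (lS MG [T_yi, T_z, T_yi, T_q, T_yi, T_z, T_yi, T_z, T_y, T_z, T_yi, T_yi, T_q, T_yi, T_yi, T_z, T_y] M (Nat.sub (T_z u) (Nat.mod (T_z u) M)) (nat_lit 40) (Nat.mod (T_z u) M) u) (lS MG [T_y, T_y, T_q, T_y, T_y, T_z, T_yi, T_z, T_y, T_z, T_y, T_q, T_y, T_z, T_y, T_z, T_yi] M (Nat.sub (T_z u) (Nat.mod (T_z u) M)) (nat_lit 40) (Nat.mod (T_z u) M) u) (Nat.ble (nat_lit 153) j)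
noncomputable def dp_z_142 (j u : ℕ) : Bool :=
  Bool.rec (motive := fun _ => Bool) (dp_z_140 j u) (dp_z_141 j u) (Nat.ble (nat_lit 152) j)
noncomputable def dp_z_143 (j u : ℕ) : Bool :=
  Bool.rec (motive := fun _ => Bool) (lS MG [T_y, T_y, T_z, T_q, T_y, T_z, T_yi, T_q, T_z, T_yi, T_yi, T_z, T_q, T_yi, T_z, T_y, T_q] M (Nat.sub (T_z u) (Nat.mod (T_z u) M)) (nat_lit 40) (Nat.mod (T_z u) M) u) (lF [T_yi, T_q, T_z, T_y, T_q, T_z, T_yi, T_z, T_y, T_z, T_q, T_yi, T_z, T_q, T_y] M (Nat.sub (T_z u) (Nat.mod (T_z u) M)) (Nat.mod (T_z u) M) u) (Nat.ble (nat_lit 155) j)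
noncomputable def dp_z_144 (j u : ℕ) : Bool :=
  Bool.rec (motive := fun _ => Bool) (lS MG [T_yi, T_q, T_y, T_z, T_q, T_z, T_yi, T_q, T_y, T_z, T_q] M (Nat.sub (T_z u) (Nat.mod (T_z u) M)) (nat_lit 40) (Nat.mod (T_z u) M) u) (lS MG [T_y, T_q, T_z, T_yi, T_q, T_z, T_y, T_z, T_yi, T_z, T_q, T_y, T_z, T_q, T_yi] M (Nat.sub (T_z u) (Nat.mod (T_z u) M)) (nat_lit 40) (Nat.mod (T_z u) M) u) (Nat.ble (nat_lit 158) j)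
noncomputable def dp_z_145 (j u : ℕ) : Bool :=
  Bool.rec (motive := fun _ => Bool) (lS MG [T_yi, T_yi, T_q, T_yi, T_yi, T_z, T_y, T_z, T_yi, T_z, T_yi, T_q, T_yi, T_z, T_yi, T_z, T_y] M (Nat.sub (T_z u) (Nat.mod (T_z u) M)) (nat_lit 40) (Nat.mod (T_z u) M) u) (dp_z_144 j u) (Nat.ble (nat_lit 157) j)
noncomputable def dp_z_146 (j u : ℕ) : Bool :=
  Bool.rec (motive := fun _ => Bool) (dp_z_143 j u) (dp_z_145 j u) (Nat.ble (nat_lit 156) j)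
noncomputable def dp_z_147 (j u : ℕ) : Bool :=
  Bool.rec (motive := fun _ => Bool) (dp_z_142 j u) (dp_z_146 j u) (Nat.ble (nat_lit 154) j)
noncomputable def dp_z_148 (j u : ℕ) : Bool :=
  Bool.rec (motive := fun _ => Bool) (lS MG [T_yi, T_q, T_y, T_q, T_z, T_q, T_yi, T_z, T_y, T_q, T_yi, T_q, T_z, T_q, T_y] M (Nat.sub (T_z u) (Nat.mod (T_z u) M)) (nat_lit 40) (Nat.mod (T_z u) M) u) (lS MG [T_q, T_yi, T_yi, T_q, T_z, T_yi, T_z, T_y, T_z, T_q, T_y, T_y, T_q, T_z, T_y, T_z, T_yi] M (Nat.sub (T_z u) (Nat.mod (T_z u) M)) (nat_lit 40) (Nat.mod (T_z u) M) u) (Nat.ble (nat_lit 160) j)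
noncomputable def dp_z_149 (j u : ℕ) : Bool :=
  Bool.rec (motive := fun _ => Bool) (lS MG [T_v, T_z, T_q, T_z, T_v, T_q, T_v, T_q, T_v, T_z, T_q, T_z, T_v] M (Nat.sub (T_z u) (Nat.mod (T_z u) M)) (nat_lit 40) (Nat.mod (T_z u) M) u) (lF [T_q, T_z, T_y, T_y, T_q, T_yi, T_yi, T_z, T_q, T_z, T_y, T_y, T_q, T_yi, T_yi] M (Nat.sub (T_z u) (Nat.mod (T_z u) M)) (Nat.mod (T_z u) M) u) (Nat.ble (nat_lit 162) j)
noncomputable def dp_z_150 (j u : ℕ) : Bool :=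
  Bool.rec (motive := fun _ => Bool) (dp_z_148 j u) (dp_z_149 j u) (Nat.ble (nat_lit 161) j)
noncomputable def dp_z_151 (j u : ℕ) : Bool :=
  Bool.rec (motive := fun _ => Bool) (lS MG [T_yi, T_q, T_y, T_q, T_z, T_yi, T_z, T_q, T_y, T_q, T_yi, T_z, T_q, T_y, T_q] M (Nat.sub (T_z u) (Nat.mod (T_z u) M)) (nat_lit 40) (Nat.mod (T_z u) M) u) (lS MG [T_y, T_z, T_y, T_q, T_y, T_z, T_y, T_z, T_yi, T_z, T_y, T_y, T_q, T_y, T_y, T_z, T_yi] M (Nat.sub (T_z u) (Nat.mod (T_z u) M)) (nat_lit 40) (Nat.mod (T_z u) M) u) (Nat.ble (nat_lit 164) j)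
noncomputable def dp_z_152 (j u : ℕ) : Bool :=
  Bool.rec (motive := fun _ => Bool) (lS MG [T_y, T_z, T_yi, T_z, T_yi, T_q, T_yi, T_z, T_yi, T_z, T_y, T_z, T_yi, T_yi, T_q, T_yi, T_yi] M (Nat.sub (T_z u) (Nat.mod (T_z u) M)) (nat_lit 40) (Nat.mod (T_z u) M) u) (lF [T_q, T_yi, T_z, T_y, T_z, T_q, T_yi, T_q, T_z, T_y, T_z, T_yi, T_q, T_z, T_y] M (Nat.sub (T_z u) (Nat.mod (T_z u) M)) (Nat.mod (T_z u) M) u) (Nat.ble (nat_lit 167) j)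
noncomputable def dp_z_153 (j u : ℕ) : Bool :=
  Bool.rec (motive := fun _ => Bool) (lF [T_y, T_y, T_q, T_yi, T_yi, T_z, T_q, T_z, T_y, T_y, T_q, T_yi, T_yi, T_z, T_q] M (Nat.sub (T_z u) (Nat.mod (T_z u) M)) (Nat.mod (T_z u) M) u) (dp_z_152 j u) (Nat.ble (nat_lit 166) j)
noncomputable def dp_z_154 (j u : ℕ) : Bool :=
  Bool.rec (motive := fun _ => Bool) (dp_z_151 j u) (dp_z_153 j u) (Nat.ble (nat_lit 165) j)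
noncomputable def dp_z_155 (j u : ℕ) : Bool :=
  Bool.rec (motive := fun _ => Bool) (dp_z_150 j u) (dp_z_154 j u) (Nat.ble (nat_lit 163) j)
noncomputable def dp_z_156 (j u : ℕ) : Bool :=
  Bool.rec (motive := fun _ => Bool) (dp_z_147 j u) (dp_z_155 j u) (Nat.ble (nat_lit 159) j)
noncomputable def dp_z_157 (j u : ℕ) : Bool :=
  Bool.rec (motive := fun _ => Bool) (dp_z_139 j u) (dp_z_156 j u) (Nat.ble (nat_lit 150) j)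
noncomputable def dp_z_158 (j u : ℕ) : Bool :=
  Bool.rec (motive := fun _ => Bool) (dp_z_125 j u) (dp_z_157 j u) (Nat.ble (nat_lit 135) j)
noncomputable def dp_z_159 (j u : ℕ) : Bool :=
  Bool.rec (motive := fun _ => Bool) (lF [T_yi, T_z, T_y, T_q, T_z, T_yi, T_z, T_q, T_y, T_z, T_yi, T_z, T_q, T_y, T_q] M (Nat.sub (T_z u) (Nat.mod (T_z u) M)) (Nat.mod (T_z u) M) u) (lS MG [T_q, T_y, T_y, T_q, T_z, T_y, T_z, T_yi, T_z, T_q, T_yi, T_yi, T_q, T_z, T_yi, T_z, T_y] M (Nat.sub (T_z u) (Nat.mod (T_z u) M)) (nat_lit 40) (Nat.mod (T_z u) M) u) (Nat.ble (nat_lit 169) j)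
noncomputable def dp_z_160 (j u : ℕ) : Bool :=
  Bool.rec (motive := fun _ => Bool) (lF [T_yi, T_yi, T_q, T_y, T_y, T_z, T_q, T_z, T_yi, T_yi, T_q, T_y, T_y, T_z, T_q] M (Nat.sub (T_z u) (Nat.mod (T_z u) M)) (Nat.mod (T_z u) M) u) (lS MG [T_yi, T_q, T_z, T_q, T_y, T_q, T_yi, T_z, T_y, T_q, T_z, T_q, T_yi, T_q, T_y] M (Nat.sub (T_z u) (Nat.mod (T_z u) M)) (nat_lit 40) (Nat.mod (T_z u) M) u) (Nat.ble (nat_lit 172) j)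
noncomputable def dp_z_161 (j u : ℕ) : Bool :=
  Bool.rec (motive := fun _ => Bool) (lS MG [T_yi, T_z, T_q, T_y, T_q, T_yi, T_z, T_q, T_y, T_q, T_z, T_yi, T_q, T_y, T_q] M (Nat.sub (T_z u) (Nat.mod (T_z u) M)) (nat_lit 40) (Nat.mod (T_z u) M) u) (dp_z_160 j u) (Nat.ble (nat_lit 171) j)
noncomputable def dp_z_162 (j u : ℕ) : Bool :=
  Bool.rec (motive := fun _ => Bool) (dp_z_159 j u) (dp_z_161 j u) (Nat.ble (nat_lit 170) j)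
noncomputable def dp_z_163 (j u : ℕ) : Bool :=
  Bool.rec (motive := fun _ => Bool) (lS MG [T_y, T_q, T_z, T_q, T_yi, T_q, T_y, T_z, T_yi, T_q, T_z, T_q, T_y, T_q, T_yi] M (Nat.sub (T_z u) (Nat.mod (T_z u) M)) (nat_lit 40) (Nat.mod (T_z u) M) u) (lS MG [T_y, T_q, T_yi, T_q, T_z, T_q, T_y, T_z, T_yi, T_q, T_y, T_q, T_z, T_q, T_yi] M (Nat.sub (T_z u) (Nat.mod (T_z u) M)) (nat_lit 40) (Nat.mod (T_z u) M) u) (Nat.ble (nat_lit 174) j)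
noncomputable def dp_z_164 (j u : ℕ) : Bool :=
  Bool.rec (motive := fun _ => Bool) (lF [T_q, T_y, T_q, T_z, T_yi, T_z, T_y, T_q, T_z, T_yi, T_z, T_q, T_y, T_z, T_yi] M (Nat.sub (T_z u) (Nat.mod (T_z u) M)) (Nat.mod (T_z u) M) u) (lF [T_q, T_z, T_v, T_z, T_v, T_z, T_q, T_z, T_v, T_q, T_v, T_q, T_v] M (Nat.sub (T_z u) (Nat.mod (T_z u) M)) (Nat.mod (T_z u) M) u) (Nat.ble (nat_lit 177) j)
noncomputable def dp_z_165 (j u : ℕ) : Bool :=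
  Bool.rec (motive := fun _ => Bool) (lF [T_y, T_z, T_q, T_yi, T_z, T_y, T_z, T_q, T_yi, T_q, T_z, T_y, T_z, T_yi, T_q] M (Nat.sub (T_z u) (Nat.mod (T_z u) M)) (Nat.mod (T_z u) M) u) (dp_z_164 j u) (Nat.ble (nat_lit 176) j)
noncomputable def dp_z_166 (j u : ℕ) : Bool :=
  Bool.rec (motive := fun _ => Bool) (dp_z_163 j u) (dp_z_165 j u) (Nat.ble (nat_lit 175) j)
noncomputable def dp_z_167 (j u : ℕ) : Bool :=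
  Bool.rec (motive := fun _ => Bool) (dp_z_162 j u) (dp_z_166 j u) (Nat.ble (nat_lit 173) j)
noncomputable def dp_z_168 (j u : ℕ) : Bool :=
  Bool.rec (motive := fun _ => Bool) (lS MG [T_y, T_z, T_yi, T_z, T_q, T_yi, T_yi, T_q, T_z, T_yi, T_z, T_y, T_z, T_q, T_y, T_y, T_q] M (Nat.sub (T_z u) (Nat.mod (T_z u) M)) (nat_lit 40) (Nat.mod (T_z u) M) u) (lS MG [T_y, T_z, T_q, T_yi, T_q, T_y, T_z, T_q, T_yi, T_q, T_z, T_y, T_q, T_yi, T_q] M (Nat.sub (T_z u) (Nat.mod (T_z u) M)) (nat_lit 40) (Nat.mod (T_z u) M) u) (Nat.ble (nat_lit 179) j)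
noncomputable def dp_z_169 (j u : ℕ) : Bool :=
  Bool.rec (motive := fun _ => Bool) (lF [T_q, T_y, T_z, T_yi, T_z, T_q, T_yi, T_yi, T_z, T_q, T_yi, T_z, T_y, T_z, T_q, T_y, T_y] M (Nat.sub (T_z u) (Nat.mod (T_z u) M)) (Nat.mod (T_z u) M) u) (lF [T_y, T_z, T_q, T_yi, T_z, T_q, T_y, T_z, T_yi, T_q, T_z, T_y, T_q, T_z, T_yi] M (Nat.sub (T_z u) (Nat.mod (T_z u) M)) (Nat.mod (T_z u) M) u) (Nat.ble (nat_lit 182) j)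
noncomputable def dp_z_170 (j u : ℕ) : Bool :=
  Bool.rec (motive := fun _ => Bool) (lS MG [T_yi, T_z, T_y, T_z, T_q, T_y, T_y, T_q, T_z, T_y, T_z, T_yi, T_z, T_q, T_yi, T_yi, T_q] M (Nat.sub (T_z u) (Nat.mod (T_z u) M)) (nat_lit 40) (Nat.mod (T_z u) M) u) (dp_z_169 j u) (Nat.ble (nat_lit 181) j)
noncomputable def dp_z_171 (j u : ℕ) : Bool :=
  Bool.rec (motive := fun _ => Bool) (dp_z_168 j u) (dp_z_170 j u) (Nat.ble (nat_lit 180) j)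
noncomputable def dp_z_172 (j u : ℕ) : Bool :=
  Bool.rec (motive := fun _ => Bool) (lF [T_y, T_y, T_z, T_q, T_y, T_y, T_y, T_q, T_z, T_y, T_y, T_z, T_q, T_y, T_y, T_y, T_q, T_z, T_y, T_y, T_z, T_q, T_y, T_y, T_y, T_q] M (Nat.sub (T_z u) (Nat.mod (T_z u) M)) (Nat.mod (T_z u) M) u) (lS MG [T_q, T_z, T_q, T_v, T_yi, T_v, T_q, T_z, T_q, T_z, T_y] M (Nat.sub (T_z u) (Nat.mod (T_z u) M)) (nat_lit 40) (Nat.mod (T_z u) M) u) (Nat.ble (nat_lit 185) j)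
noncomputable def dp_z_173 (j u : ℕ) : Bool :=
  Bool.rec (motive := fun _ => Bool) (lS MG [T_y, T_z, T_q, T_y, T_y, T_q, T_z, T_y, T_z, T_yi, T_z, T_q, T_yi, T_yi, T_q, T_z, T_yi] M (Nat.sub (T_z u) (Nat.mod (T_z u) M)) (nat_lit 40) (Nat.mod (T_z u) M) u) (dp_z_172 j u) (Nat.ble (nat_lit 184) j)
noncomputable def dp_z_174 (j u : ℕ) : Bool :=
  Bool.rec (motive := fun _ => Bool) (lF [T_q, T_y, T_z, T_yi, T_q, T_z, T_y, T_q, T_z, T_yi, T_z, T_y, T_z, T_q, T_yi] M (Nat.sub (T_z u) (Nat.mod (T_z u) M)) (Nat.mod (T_z u) M) u) (lF [T_yi, T_q, T_z, T_yi, T_yi, T_q, T_z, T_yi, T_z, T_y, T_q, T_z, T_y, T_y, T_q, T_z, T_y] M (Nat.sub (T_z u) (Nat.mod (T_z u) M)) (Nat.mod (T_z u) M) u) (Nat.ble (nat_lit 188) j)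
noncomputable def dp_z_175 (j u : ℕ) : Bool :=
  Bool.rec (motive := fun _ => Bool) (lF [T_y, T_z, T_q, T_y, T_y, T_z, T_q, T_y, T_z, T_yi, T_z, T_q, T_yi, T_yi, T_z, T_q, T_yi] M (Nat.sub (T_z u) (Nat.mod (T_z u) M)) (Nat.mod (T_z u) M) u) (dp_z_174 j u) (Nat.ble (nat_lit 187) j)
noncomputable def dp_z_176 (j u : ℕ) : Bool :=
  Bool.rec (motive := fun _ => Bool) (dp_z_173 j u) (dp_z_175 j u) (Nat.ble (nat_lit 186) j)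
noncomputable def dp_z_177 (j u : ℕ) : Bool :=
  Bool.rec (motive := fun _ => Bool) (dp_z_171 j u) (dp_z_176 j u) (Nat.ble (nat_lit 183) j)
noncomputable def dp_z_178 (j u : ℕ) : Bool :=
  Bool.rec (motive := fun _ => Bool) (dp_z_167 j u) (dp_z_177 j u) (Nat.ble (nat_lit 178) j)
noncomputable def dp_z_179 (j u : ℕ) : Bool :=
  Bool.rec (motive := fun _ => Bool) (lF [T_q, T_yi, T_z, T_y, T_z, T_q, T_y, T_y, T_z, T_q, T_y, T_z, T_yi, T_z, T_q, T_yi, T_yi] M (Nat.sub (T_z u) (Nat.mod (T_z u) M)) (Nat.mod (T_z u) M) u) (lS MG [T_yi, T_z, T_q, T_yi, T_yi, T_q, T_z, T_yi, T_z, T_y, T_z, T_q, T_y, T_y, T_q, T_z, T_y] M (Nat.sub (T_z u) (Nat.mod (T_z u) M)) (nat_lit 40) (Nat.mod (T_z u) M) u) (Nat.ble (nat_lit 191) j)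
noncomputable def dp_z_180 (j u : ℕ) : Bool :=
  Bool.rec (motive := fun _ => Bool) (lF [T_q, T_y, T_y, T_y, T_q, T_z, T_y, T_y, T_z, T_q, T_y, T_y, T_y, T_q, T_z, T_y, T_y, T_z, T_q, T_y, T_y, T_y, T_q, T_z, T_y, T_y] M (Nat.sub (T_z u) (Nat.mod (T_z u) M)) (Nat.mod (T_z u) M) u) (dp_z_179 j u) (Nat.ble (nat_lit 190) j)
noncomputable def dp_z_181 (j u : ℕ) : Bool :=
  Bool.rec (motive := fun _ => Bool) (lS MG [T_q, T_y, T_z, T_q, T_yi, T_z, T_y, T_q, T_z, T_yi, T_q, T_z, T_y, T_z, T_yi] M (Nat.sub (T_z u) (Nat.mod (T_z u) M)) (nat_lit 40) (Nat.mod (T_z u) M) u) (lF [T_q, T_yi, T_z, T_q, T_y, T_z, T_yi, T_q, T_z, T_y, T_q, T_z, T_yi, T_z, T_y] M (Nat.sub (T_z u) (Nat.mod (T_z u) M)) (Nat.mod (T_z u) M) u) (Nat.ble (nat_lit 194) j)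
noncomputable def dp_z_182 (j u : ℕ) : Bool :=
  Bool.rec (motive := fun _ => Bool) (lS MG [T_y, T_y, T_z, T_q, T_y, T_y, T_y, T_q, T_z, T_y, T_y, T_z, T_q, T_y, T_y, T_y, T_q, T_z, T_y, T_y, T_z, T_q, T_y, T_y, T_y, T_q] M (Nat.sub (T_z u) (Nat.mod (T_z u) M)) (nat_lit 40) (Nat.mod (T_z u) M) u) (dp_z_181 j u) (Nat.ble (nat_lit 193) j)
noncomputable def dp_z_183 (j u : ℕ) : Bool :=
  Bool.rec (motive := fun _ => Bool) (dp_z_180 j u) (dp_z_182 j u) (Nat.ble (nat_lit 192) j)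
noncomputable def dp_z_184 (j u : ℕ) : Bool :=
  Bool.rec (motive := fun _ => Bool) (lS MG [T_q, T_yi, T_q, T_z, T_y, T_z, T_yi, T_q, T_z, T_y, T_z, T_q, T_yi, T_z, T_y] M (Nat.sub (T_z u) (Nat.mod (T_z u) M)) (nat_lit 40) (Nat.mod (T_z u) M) u) (lS MG [T_y, T_z, T_yi, T_yi, T_q, T_yi, T_yi, T_z, T_y, T_z, T_yi, T_z, T_yi, T_q, T_yi, T_z, T_yi] M (Nat.sub (T_z u) (Nat.mod (T_z u) M)) (nat_lit 40) (Nat.mod (T_z u) M) u) (Nat.ble (nat_lit 197) j)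
noncomputable def dp_z_185 (j u : ℕ) : Bool :=
  Bool.rec (motive := fun _ => Bool) (lS MG [T_q, T_y, T_y, T_y, T_q, T_z, T_y, T_y, T_z, T_q, T_y, T_y, T_y, T_q, T_z, T_y, T_y, T_z, T_q, T_y, T_y, T_y, T_q, T_z, T_y, T_y] M (Nat.sub (T_z u) (Nat.mod (T_z u) M)) (nat_lit 40) (Nat.mod (T_z u) M) u) (dp_z_184 j u) (Nat.ble (nat_lit 196) j)
noncomputable def dp_z_186 (j u : ℕ) : Bool :=
  Bool.rec (motive := fun _ => Bool) (lF [T_q, T_z, T_y, T_q, T_y, T_q, T_y, T_z, T_q, T_z, T_y, T_q, T_y, T_q, T_y] M (Nat.sub (T_z u) (Nat.mod (T_z u) M)) (Nat.mod (T_z u) M) u) (lS MG [T_q, T_v, T_z, T_q, T_v, T_q, T_z, T_v, T_z, T_q] M (Nat.sub (T_z u) (Nat.mod (T_z u) M)) (nat_lit 40) (Nat.mod (T_z u) M) u) (Nat.ble (nat_lit 199) j)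
noncomputable def dp_z_187 (j u : ℕ) : Bool :=
  Bool.rec (motive := fun _ => Bool) (lS MG [T_q, T_z, T_q, T_v, T_y, T_v, T_q, T_z, T_q, T_z, T_yi] M (Nat.sub (T_z u) (Nat.mod (T_z u) M)) (nat_lit 40) (Nat.mod (T_z u) M) u) (lF [T_y, T_q, T_z, T_y, T_y, T_q, T_z, T_y, T_z, T_yi, T_q, T_z, T_yi, T_yi, T_q, T_z, T_yi] M (Nat.sub (T_z u) (Nat.mod (T_z u) M)) (Nat.mod (T_z u) M) u) (Nat.ble (nat_lit 201) j)
noncomputable def dp_z_188 (j u : ℕ) : Bool :=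
  Bool.rec (motive := fun _ => Bool) (dp_z_186 j u) (dp_z_187 j u) (Nat.ble (nat_lit 200) j)
noncomputable def dp_z_189 (j u : ℕ) : Bool :=
  Bool.rec (motive := fun _ => Bool) (dp_z_185 j u) (dp_z_188 j u) (Nat.ble (nat_lit 198) j)
noncomputable def dp_z_190 (j u : ℕ) : Bool :=
  Bool.rec (motive := fun _ => Bool) (dp_z_183 j u) (dp_z_189 j u) (Nat.ble (nat_lit 195) j)
noncomputable def dp_z_191 (j u : ℕ) : Bool :=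
  Bool.rec (motive := fun _ => Bool) (lS MG [T_q, T_yi, T_z, T_y, T_q, T_z, T_yi, T_q, T_z, T_y, T_z, T_yi, T_z, T_q, T_y] M (Nat.sub (T_z u) (Nat.mod (T_z u) M)) (nat_lit 40) (Nat.mod (T_z u) M) u) (lF [T_yi, T_z, T_q, T_yi, T_yi, T_z, T_q, T_yi, T_z, T_y, T_z, T_q, T_y, T_y, T_z, T_q, T_y] M (Nat.sub (T_z u) (Nat.mod (T_z u) M)) (Nat.mod (T_z u) M) u) (Nat.ble (nat_lit 204) j)
noncomputable def dp_z_192 (j u : ℕ) : Bool :=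
  Bool.rec (motive := fun _ => Bool) (lF [T_yi, T_q, T_yi, T_q, T_yi, T_z, T_q, T_z, T_yi, T_q, T_yi, T_q, T_yi, T_z, T_q] M (Nat.sub (T_z u) (Nat.mod (T_z u) M)) (Nat.mod (T_z u) M) u) (dp_z_191 j u) (Nat.ble (nat_lit 203) j)
noncomputable def dp_z_193 (j u : ℕ) : Bool :=
  Bool.rec (motive := fun _ => Bool) (lF [T_yi, T_z, T_q, T_y, T_z, T_yi, T_z, T_q, T_y, T_q, T_z, T_yi, T_z, T_y, T_q] M (Nat.sub (T_z u) (Nat.mod (T_z u) M)) (Nat.mod (T_z u) M) u) (lF [T_y, T_q, T_y, T_q, T_y, T_z, T_q, T_z, T_y, T_q, T_y, T_q, T_y, T_z, T_q] M (Nat.sub (T_z u) (Nat.mod (T_z u) M)) (Nat.mod (T_z u) M) u) (Nat.ble (nat_lit 206) j)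
noncomputable def dp_z_194 (j u : ℕ) : Bool :=
  Bool.rec (motive := fun _ => Bool) (lF [T_q, T_z, T_yi, T_q, T_yi, T_q, T_yi, T_z, T_q, T_z, T_yi, T_q, T_yi, T_q, T_yi] M (Nat.sub (T_z u) (Nat.mod (T_z u) M)) (Nat.mod (T_z u) M) u) (lF [T_y, T_y, T_q, T_z, T_y, T_z, T_yi, T_q, T_z, T_yi, T_yi, T_q, T_z, T_yi, T_z, T_y, T_q] M (Nat.sub (T_z u) (Nat.mod (T_z u) M)) (Nat.mod (T_z u) M) u) (Nat.ble (nat_lit 208) j)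
noncomputable def dp_z_195 (j u : ℕ) : Bool :=
  Bool.rec (motive := fun _ => Bool) (dp_z_193 j u) (dp_z_194 j u) (Nat.ble (nat_lit 207) j)
noncomputable def dp_z_196 (j u : ℕ) : Bool :=
  Bool.rec (motive := fun _ => Bool) (dp_z_192 j u) (dp_z_195 j u) (Nat.ble (nat_lit 205) j)
noncomputable def dp_z_197 (j u : ℕ) : Bool :=
  Bool.rec (motive := fun _ => Bool) (lF [T_q, T_yi, T_yi, T_yi, T_q, T_z, T_yi, T_yi, T_z, T_q, T_yi, T_yi, T_yi, T_q, T_z, T_yi, T_yi, T_z, T_q, T_yi, T_yi, T_yi, T_q, T_z, T_yi, T_yi] M (Nat.sub (T_z u) (Nat.mod (T_z u) M)) (Nat.mod (T_z u) M) u) (lS MG [T_yi, T_q, T_z, T_y, T_z, T_q, T_yi, T_z, T_y, T_z, T_q, T_yi, T_q, T_z, T_y] M (Nat.sub (T_z u) (Nat.mod (T_z u) M)) (nat_lit 40) (Nat.mod (T_z u) M) u) (Nat.ble (nat_lit 210) j)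
noncomputable def dp_z_198 (j u : ℕ) : Bool :=
  Bool.rec (motive := fun _ => Bool) (lS MG [T_y, T_q, T_z, T_yi, T_z, T_q, T_y, T_z, T_yi, T_z, T_q, T_y, T_q, T_z, T_yi] M (Nat.sub (T_z u) (Nat.mod (T_z u) M)) (nat_lit 40) (Nat.mod (T_z u) M) u) (lF [T_y, T_q, T_z, T_yi, T_z, T_y, T_z, T_q, T_yi, T_z, T_q, T_y, T_z, T_yi, T_q] M (Nat.sub (T_z u) (Nat.mod (T_z u) M)) (Nat.mod (T_z u) M) u) (Nat.ble (nat_lit 212) j)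
noncomputable def dp_z_199 (j u : ℕ) : Bool :=
  Bool.rec (motive := fun _ => Bool) (dp_z_197 j u) (dp_z_198 j u) (Nat.ble (nat_lit 211) j)
noncomputable def dp_z_200 (j u : ℕ) : Bool :=
  Bool.rec (motive := fun _ => Bool) (lS MG [T_yi, T_z, T_q, T_y, T_q, T_z, T_yi, T_z, T_y, T_q, T_z, T_yi, T_z, T_q, T_y] M (Nat.sub (T_z u) (Nat.mod (T_z u) M)) (nat_lit 40) (Nat.mod (T_z u) M) u) (lF [T_yi, T_yi, T_q, T_z, T_yi, T_z, T_y, T_q, T_z, T_y, T_y, T_q, T_z, T_y, T_z, T_yi, T_q] M (Nat.sub (T_z u) (Nat.mod (T_z u) M)) (Nat.mod (T_z u) M) u) (Nat.ble (nat_lit 214) j)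
noncomputable def dp_z_201 (j u : ℕ) : Bool :=
  Bool.rec (motive := fun _ => Bool) (lF [T_v, T_q, T_v, T_q, T_v, T_z, T_q, T_z, T_v, T_z, T_v, T_z, T_q] M (Nat.sub (T_z u) (Nat.mod (T_z u) M)) (Nat.mod (T_z u) M) u) (lS MG [T_y, T_z, T_q, T_yi, T_q, T_z, T_y, T_z, T_yi, T_q, T_z, T_y, T_z, T_q, T_yi] M (Nat.sub (T_z u) (Nat.mod (T_z u) M)) (nat_lit 40) (Nat.mod (T_z u) M) u) (Nat.ble (nat_lit 216) j)
noncomputable def dp_z_202 (j u : ℕ) : Bool :=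
  Bool.rec (motive := fun _ => Bool) (dp_z_200 j u) (dp_z_201 j u) (Nat.ble (nat_lit 215) j)
noncomputable def dp_z_203 (j u : ℕ) : Bool :=
  Bool.rec (motive := fun _ => Bool) (dp_z_199 j u) (dp_z_202 j u) (Nat.ble (nat_lit 213) j)
noncomputable def dp_z_204 (j u : ℕ) : Bool :=
  Bool.rec (motive := fun _ => Bool) (dp_z_196 j u) (dp_z_203 j u) (Nat.ble (nat_lit 209) j)
noncomputable def dp_z_205 (j u : ℕ) : Bool :=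
  Bool.rec (motive := fun _ => Bool) (dp_z_190 j u) (dp_z_204 j u) (Nat.ble (nat_lit 202) j)
noncomputable def dp_z_206 (j u : ℕ) : Bool :=
  Bool.rec (motive := fun _ => Bool) (dp_z_178 j u) (dp_z_205 j u) (Nat.ble (nat_lit 189) j)
noncomputable def dp_z_207 (j u : ℕ) : Bool :=
  Bool.rec (motive := fun _ => Bool) (lF [T_y, T_z, T_yi, T_q, T_z, T_y, T_z, T_q, T_yi, T_z, T_y, T_z, T_q, T_yi, T_q] M (Nat.sub (T_z u) (Nat.mod (T_z u) M)) (Nat.mod (T_z u) M) u) (lS MG [T_y, T_z, T_yi, T_z, T_q, T_y, T_z, T_q, T_yi, T_z, T_y, T_q, T_z, T_yi, T_q] M (Nat.sub (T_z u) (Nat.mod (T_z u) M)) (nat_lit 40) (Nat.mod (T_z u) M) u) (Nat.ble (nat_lit 218) j)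
noncomputable def dp_z_208 (j u : ℕ) : Bool :=
  Bool.rec (motive := fun _ => Bool) (lS MG [T_q, T_yi, T_yi, T_yi, T_q, T_z, T_yi, T_yi, T_z, T_q, T_yi, T_yi, T_yi, T_q, T_z, T_yi, T_yi, T_z, T_q, T_yi, T_yi, T_yi, T_q, T_z, T_yi, T_yi] M (Nat.sub (T_z u) (Nat.mod (T_z u) M)) (nat_lit 40) (Nat.mod (T_z u) M) u) (lS MG [T_yi, T_yi, T_z, T_q, T_yi, T_yi, T_yi, T_q, T_z, T_yi, T_yi, T_z, T_q, T_yi, T_yi, T_yi, T_q, T_z, T_yi, T_yi, T_z, T_q, T_yi, T_yi, T_yi, T_q] M (Nat.sub (T_z u) (Nat.mod (T_z u) M)) (nat_lit 40) (Nat.mod (T_z u) M) u) (Nat.ble (nat_lit 220) j)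
noncomputable def dp_z_209 (j u : ℕ) : Bool :=
  Bool.rec (motive := fun _ => Bool) (dp_z_207 j u) (dp_z_208 j u) (Nat.ble (nat_lit 219) j)
noncomputable def dp_z_210 (j u : ℕ) : Bool :=
  Bool.rec (motive := fun _ => Bool) (lF [T_q, T_v, T_z, T_q, T_z, T_q, T_z, T_q, T_v, T_z, T_q, T_z, T_q, T_v] M (Nat.sub (T_z u) (Nat.mod (T_z u) M)) (Nat.mod (T_z u) M) u) (lS MG [T_yi, T_z, T_y, T_y, T_q, T_y, T_y, T_z, T_yi, T_z, T_y, T_z, T_y, T_q, T_y, T_z, T_y] M (Nat.sub (T_z u) (Nat.mod (T_z u) M)) (nat_lit 40) (Nat.mod (T_z u) M) u) (Nat.ble (nat_lit 222) j)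
noncomputable def dp_z_211 (j u : ℕ) : Bool :=
  Bool.rec (motive := fun _ => Bool) (lF [T_q, T_y, T_y, T_z, T_q, T_y, T_z, T_yi, T_z, T_q, T_yi, T_yi, T_z, T_q, T_yi, T_z, T_y] M (Nat.sub (T_z u) (Nat.mod (T_z u) M)) (Nat.mod (T_z u) M) u) (lF [T_yi, T_z, T_y, T_z, T_q, T_yi, T_z, T_q, T_y, T_z, T_yi, T_q, T_z, T_y, T_q] M (Nat.sub (T_z u) (Nat.mod (T_z u) M)) (Nat.mod (T_z u) M) u) (Nat.ble (nat_lit 224) j)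
noncomputable def dp_z_212 (j u : ℕ) : Bool :=
  Bool.rec (motive := fun _ => Bool) (dp_z_210 j u) (dp_z_211 j u) (Nat.ble (nat_lit 223) j)
noncomputable def dp_z_213 (j u : ℕ) : Bool :=
  Bool.rec (motive := fun _ => Bool) (dp_z_209 j u) (dp_z_212 j u) (Nat.ble (nat_lit 221) j)
noncomputable def dp_z_214 (j u : ℕ) : Bool :=
  Bool.rec (motive := fun _ => Bool) (lS MG [T_q, T_y, T_z, T_yi, T_z, T_q, T_y, T_q, T_z, T_yi, T_z, T_y, T_q, T_z, T_yi] M (Nat.sub (T_z u) (Nat.mod (T_z u) M)) (nat_lit 40) (Nat.mod (T_z u) M) u) (lF [T_yi, T_q, T_z, T_yi, T_z, T_y, T_z, T_q, T_y, T_z, T_q, T_y, T_y, T_z, T_q, T_yi, T_q, T_z, T_q, T_y, T_q, T_z, T_yi, T_yi, T_q] M (Nat.sub (T_z u) (Nat.mod (T_z u) M)) (Nat.mod (T_z u) M) u) (Nat.ble (nat_lit 226) j)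
noncomputable def dp_z_215 (j u : ℕ) : Bool :=
  Bool.rec (motive := fun _ => Bool) (lF [T_yi, T_q, T_z, T_yi, T_q, T_z, T_yi, T_q, T_z, T_yi, T_q, T_z, T_yi, T_q, T_z, T_yi, T_q, T_z, T_yi, T_q, T_z, T_yi, T_q] M (Nat.sub (T_z u) (Nat.mod (T_z u) M)) (Nat.mod (T_z u) M) u) (lF [T_yi, T_z, T_y, T_q, T_z, T_y, T_y, T_q, T_z, T_y, T_z, T_yi, T_q, T_z, T_yi, T_yi, T_q] M (Nat.sub (T_z u) (Nat.mod (T_z u) M)) (Nat.mod (T_z u) M) u) (Nat.ble (nat_lit 228) j)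
noncomputable def dp_z_216 (j u : ℕ) : Bool :=
  Bool.rec (motive := fun _ => Bool) (dp_z_214 j u) (dp_z_215 j u) (Nat.ble (nat_lit 227) j)
noncomputable def dp_z_217 (j u : ℕ) : Bool :=
  Bool.rec (motive := fun _ => Bool) (lF [T_y, T_z, T_yi, T_q, T_z, T_yi, T_yi, T_q, T_z, T_yi, T_z, T_y, T_q, T_z, T_y, T_y, T_q] M (Nat.sub (T_z u) (Nat.mod (T_z u) M)) (Nat.mod (T_z u) M) u) (lS MG [T_q, T_z, T_q, T_yi, T_yi, T_yi, T_z, T_q, T_z, T_q, T_yi, T_yi, T_yi] M (Nat.sub (T_z u) (Nat.mod (T_z u) M)) (nat_lit 40) (Nat.mod (T_z u) M) u) (Nat.ble (nat_lit 230) j)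
noncomputable def dp_z_218 (j u : ℕ) : Bool :=
  Bool.rec (motive := fun _ => Bool) (lF [T_q, T_yi, T_yi, T_z, T_q, T_yi, T_z, T_y, T_z, T_q, T_y, T_y, T_z, T_q, T_y, T_z, T_yi] M (Nat.sub (T_z u) (Nat.mod (T_z u) M)) (Nat.mod (T_z u) M) u) (lS MG [T_q, T_z, T_y, T_y, T_q, T_yi, T_yi, T_z, T_q, T_z, T_y, T_y, T_q, T_yi, T_yi] M (Nat.sub (T_z u) (Nat.mod (T_z u) M)) (nat_lit 40) (Nat.mod (T_z u) M) u) (Nat.ble (nat_lit 233) j)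
noncomputable def dp_z_219 (j u : ℕ) : Bool :=
  Bool.rec (motive := fun _ => Bool) (lS MG [T_q, T_z, T_yi, T_yi, T_q, T_y, T_y, T_z, T_q, T_z, T_yi, T_yi, T_q, T_y, T_y] M (Nat.sub (T_z u) (Nat.mod (T_z u) M)) (nat_lit 40) (Nat.mod (T_z u) M) u) (dp_z_218 j u) (Nat.ble (nat_lit 232) j)
noncomputable def dp_z_220 (j u : ℕ) : Bool :=
  Bool.rec (motive := fun _ => Bool) (dp_z_217 j u) (dp_z_219 j u) (Nat.ble (nat_lit 231) j)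
noncomputable def dp_z_221 (j u : ℕ) : Bool :=
  Bool.rec (motive := fun _ => Bool) (dp_z_216 j u) (dp_z_220 j u) (Nat.ble (nat_lit 229) j)
noncomputable def dp_z_222 (j u : ℕ) : Bool :=
  Bool.rec (motive := fun _ => Bool) (dp_z_213 j u) (dp_z_221 j u) (Nat.ble (nat_lit 225) j)
noncomputable def dp_z_223 (j u : ℕ) : Bool :=
  Bool.rec (motive := fun _ => Bool) (lS MG [T_yi, T_q, T_z, T_y, T_z, T_yi, T_z, T_q, T_y, T_z, T_q, T_yi, T_z, T_y, T_q] M (Nat.sub (T_z u) (Nat.mod (T_z u) M)) (nat_lit 40) (Nat.mod (T_z u) M) u) (lS MG [T_yi, T_q, T_z, T_yi, T_z, T_y, T_z, T_q, T_y, T_z, T_q, T_y, T_y, T_z, T_q, T_yi, T_q, T_z, T_q, T_y, T_q, T_z, T_yi, T_yi, T_q] M (Nat.sub (T_z u) (Nat.mod (T_z u) M)) (nat_lit 40) (Nat.mod (T_z u) M) u) (Nat.ble (nat_lit 235) j)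
noncomputable def dp_z_224 (j u : ℕ) : Bool :=
  Bool.rec (motive := fun _ => Bool) (lS MG [T_q, T_y, T_q, T_z, T_yi, T_z, T_y, T_q, T_z, T_yi, T_z, T_q, T_y, T_z, T_yi] M (Nat.sub (T_z u) (Nat.mod (T_z u) M)) (nat_lit 40) (Nat.mod (T_z u) M) u) (lS MG [T_yi, T_z, T_q, T_z, T_q, T_v, T_y, T_v, T_q, T_z, T_q] M (Nat.sub (T_z u) (Nat.mod (T_z u) M)) (nat_lit 40) (Nat.mod (T_z u) M) u) (Nat.ble (nat_lit 238) j)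
noncomputable def dp_z_225 (j u : ℕ) : Bool :=
  Bool.rec (motive := fun _ => Bool) (lS MG [T_y, T_z, T_q, T_yi, T_z, T_y, T_z, T_q, T_yi, T_q, T_z, T_y, T_z, T_yi, T_q] M (Nat.sub (T_z u) (Nat.mod (T_z u) M)) (nat_lit 40) (Nat.mod (T_z u) M) u) (dp_z_224 j u) (Nat.ble (nat_lit 237) j)
noncomputable def dp_z_226 (j u : ℕ) : Bool :=
  Bool.rec (motive := fun _ => Bool) (dp_z_223 j u) (dp_z_225 j u) (Nat.ble (nat_lit 236) j)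
noncomputable def dp_z_227 (j u : ℕ) : Bool :=
  Bool.rec (motive := fun _ => Bool) (lS MG [T_q, T_yi, T_z, T_y, T_z, T_q, T_yi, T_q, T_z, T_y, T_z, T_yi, T_q, T_z, T_y] M (Nat.sub (T_z u) (Nat.mod (T_z u) M)) (nat_lit 40) (Nat.mod (T_z u) M) u) (lF [T_q, T_y, T_z, T_q, T_y, T_z, T_q, T_y, T_z, T_q, T_y, T_z, T_q, T_y, T_z, T_q, T_y, T_z, T_q, T_y, T_z, T_q, T_y] M (Nat.sub (T_z u) (Nat.mod (T_z u) M)) (Nat.mod (T_z u) M) u) (Nat.ble (nat_lit 240) j)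
noncomputable def dp_z_228 (j u : ℕ) : Bool :=
  Bool.rec (motive := fun _ => Bool) (lF [T_yi, T_yi, T_z, T_q, T_yi, T_yi, T_yi, T_q, T_z, T_yi, T_yi, T_z, T_q, T_yi, T_yi, T_yi, T_q, T_z, T_yi, T_yi, T_z, T_q, T_yi, T_yi, T_yi, T_q] M (Nat.sub (T_z u) (Nat.mod (T_z u) M)) (Nat.mod (T_z u) M) u) (lS MG [T_yi, T_q, T_z, T_yi, T_q, T_z, T_yi, T_q, T_z, T_yi, T_q, T_z, T_yi, T_q, T_z, T_yi, T_q, T_z, T_yi, T_q, T_z, T_yi, T_q] M (Nat.sub (T_z u) (Nat.mod (T_z u) M)) (nat_lit 40) (Nat.mod (T_z u) M) u) (Nat.ble (nat_lit 243) j)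
noncomputable def dp_z_229 (j u : ℕ) : Bool :=
  Bool.rec (motive := fun _ => Bool) (lS MG [T_q, T_y, T_y, T_z, T_q, T_yi, T_q, T_z, T_q, T_y, T_q, T_z, T_yi, T_yi, T_q, T_z, T_yi, T_q, T_z, T_yi, T_z, T_y, T_z, T_q, T_y] M (Nat.sub (T_z u) (Nat.mod (T_z u) M)) (nat_lit 40) (Nat.mod (T_z u) M) u) (dp_z_228 j u) (Nat.ble (nat_lit 242) j)
noncomputable def dp_z_230 (j u : ℕ) : Bool :=
  Bool.rec (motive := fun _ => Bool) (dp_z_227 j u) (dp_z_229 j u) (Nat.ble (nat_lit 241) j)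
noncomputable def dp_z_231 (j u : ℕ) : Bool :=
  Bool.rec (motive := fun _ => Bool) (dp_z_226 j u) (dp_z_230 j u) (Nat.ble (nat_lit 239) j)
noncomputable def dp_z_232 (j u : ℕ) : Bool :=
  Bool.rec (motive := fun _ => Bool) (lS MG [T_q, T_yi, T_yi, T_z, T_q, T_yi, T_z, T_y, T_z, T_q, T_y, T_y, T_z, T_q, T_y, T_z, T_yi] M (Nat.sub (T_z u) (Nat.mod (T_z u) M)) (nat_lit 40) (Nat.mod (T_z u) M) u) (lF [T_q, T_y, T_q, T_z, T_yi, T_z, T_q, T_y, T_q, T_z, T_yi, T_z, T_q, T_y, T_q, T_z, T_yi] M (Nat.sub (T_z u) (Nat.mod (T_z u) M)) (Nat.mod (T_z u) M) u) (Nat.ble (nat_lit 246) j)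
noncomputable def dp_z_233 (j u : ℕ) : Bool :=
  Bool.rec (motive := fun _ => Bool) (lS MG [T_yi, T_z, T_y, T_q, T_z, T_yi, T_z, T_q, T_y, T_z, T_yi, T_z, T_q, T_y, T_q] M (Nat.sub (T_z u) (Nat.mod (T_z u) M)) (nat_lit 40) (Nat.mod (T_z u) M) u) (dp_z_232 j u) (Nat.ble (nat_lit 245) j)
noncomputable def dp_z_234 (j u : ℕ) : Bool :=
  Bool.rec (motive := fun _ => Bool) (lS MG [T_y, T_z, T_q, T_z, T_q, T_v, T_yi, T_v, T_q, T_z, T_q] M (Nat.sub (T_z u) (Nat.mod (T_z u) M)) (nat_lit 40) (Nat.mod (T_z u) M) u) (lS MG [T_q, T_y, T_z, T_yi, T_z, T_q, T_yi, T_yi, T_z, T_q, T_yi, T_z, T_y, T_z, T_q, T_y, T_y] M (Nat.sub (T_z u) (Nat.mod (T_z u) M)) (nat_lit 40) (Nat.mod (T_z u) M) u) (Nat.ble (nat_lit 249) j)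
noncomputable def dp_z_235 (j u : ℕ) : Bool :=
  Bool.rec (motive := fun _ => Bool) (lS MG [T_yi, T_q, T_z, T_yi, T_yi, T_q, T_z, T_yi, T_z, T_y, T_q, T_z, T_y, T_y, T_q, T_z, T_y] M (Nat.sub (T_z u) (Nat.mod (T_z u) M)) (nat_lit 40) (Nat.mod (T_z u) M) u) (dp_z_234 j u) (Nat.ble (nat_lit 248) j)
noncomputable def dp_z_236 (j u : ℕ) : Bool :=
  Bool.rec (motive := fun _ => Bool) (dp_z_233 j u) (dp_z_235 j u) (Nat.ble (nat_lit 247) j)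
noncomputable def dp_z_237 (j u : ℕ) : Bool :=
  Bool.rec (motive := fun _ => Bool) (lF [T_q, T_v, T_y, T_v, T_q, T_z, T_q, T_z, T_yi, T_z, T_q] M (Nat.sub (T_z u) (Nat.mod (T_z u) M)) (Nat.mod (T_z u) M) u) (lF [T_y, T_z, T_q, T_yi, T_q, T_z, T_y, T_z, T_q, T_yi, T_q, T_z, T_y, T_z, T_q, T_yi, T_q] M (Nat.sub (T_z u) (Nat.mod (T_z u) M)) (Nat.mod (T_z u) M) u) (Nat.ble (nat_lit 252) j)
noncomputable def dp_z_238 (j u : ℕ) : Bool :=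
  Bool.rec (motive := fun _ => Bool) (lS MG [T_y, T_y, T_q, T_z, T_y, T_z, T_yi, T_q, T_z, T_yi, T_yi, T_q, T_z, T_yi, T_z, T_y, T_q] M (Nat.sub (T_z u) (Nat.mod (T_z u) M)) (nat_lit 40) (Nat.mod (T_z u) M) u) (dp_z_237 j u) (Nat.ble (nat_lit 251) j)
noncomputable def dp_z_239 (j u : ℕ) : Bool :=
  Bool.rec (motive := fun _ => Bool) (lS MG [T_yi, T_yi, T_q, T_z, T_yi, T_z, T_y, T_q, T_z, T_y, T_y, T_q, T_z, T_y, T_z, T_yi, T_q] M (Nat.sub (T_z u) (Nat.mod (T_z u) M)) (nat_lit 40) (Nat.mod (T_z u) M) u) (lF [T_yi, T_z, T_q, T_y, T_q, T_z, T_yi, T_z, T_q, T_y, T_q, T_z, T_yi, T_z, T_q, T_y, T_q] M (Nat.sub (T_z u) (Nat.mod (T_z u) M)) (Nat.mod (T_z u) M) u) (Nat.ble (nat_lit 255) j)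
noncomputable def dp_z_240 (j u : ℕ) : Bool :=
  Bool.rec (motive := fun _ => Bool) (lS MG [T_y, T_z, T_q, T_yi, T_z, T_q, T_y, T_z, T_yi, T_q, T_z, T_y, T_q, T_z, T_yi] M (Nat.sub (T_z u) (Nat.mod (T_z u) M)) (nat_lit 40) (Nat.mod (T_z u) M) u) (dp_z_239 j u) (Nat.ble (nat_lit 254) j)
noncomputable def dp_z_241 (j u : ℕ) : Bool :=
  Bool.rec (motive := fun _ => Bool) (dp_z_238 j u) (dp_z_240 j u) (Nat.ble (nat_lit 253) j)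
noncomputable def dp_z_242 (j u : ℕ) : Bool :=
  Bool.rec (motive := fun _ => Bool) (dp_z_236 j u) (dp_z_241 j u) (Nat.ble (nat_lit 250) j)
noncomputable def dp_z_243 (j u : ℕ) : Bool :=
  Bool.rec (motive := fun _ => Bool) (dp_z_231 j u) (dp_z_242 j u) (Nat.ble (nat_lit 244) j)
noncomputable def dp_z_244 (j u : ℕ) : Bool :=
  Bool.rec (motive := fun _ => Bool) (dp_z_222 j u) (dp_z_243 j u) (Nat.ble (nat_lit 234) j)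
noncomputable def dp_z_245 (j u : ℕ) : Bool :=
  Bool.rec (motive := fun _ => Bool) (lS MG [T_yi, T_q, T_z, T_y, T_q, T_z, T_yi, T_z, T_y, T_z, T_q, T_yi, T_z, T_q, T_y] M (Nat.sub (T_z u) (Nat.mod (T_z u) M)) (nat_lit 40) (Nat.mod (T_z u) M) u) (lF [T_q, T_y, T_y, T_z, T_q, T_yi, T_q, T_z, T_q, T_y, T_q, T_z, T_yi, T_yi, T_q, T_z, T_yi, T_q, T_z, T_yi, T_z, T_y, T_z, T_q, T_y] M (Nat.sub (T_z u) (Nat.mod (T_z u) M)) (Nat.mod (T_z u) M) u) (Nat.ble (nat_lit 258) j)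
noncomputable def dp_z_246 (j u : ℕ) : Bool :=
  Bool.rec (motive := fun _ => Bool) (lS MG [T_v, T_z, T_v, T_z, T_q, T_z, T_v, T_q, T_v, T_q, T_v, T_z, T_q] M (Nat.sub (T_z u) (Nat.mod (T_z u) M)) (nat_lit 40) (Nat.mod (T_z u) M) u) (dp_z_245 j u) (Nat.ble (nat_lit 257) j)
noncomputable def dp_z_247 (j u : ℕ) : Bool :=
  Bool.rec (motive := fun _ => Bool) (lS MG [T_q, T_y, T_z, T_q, T_y, T_z, T_q, T_y, T_z, T_q, T_y, T_z, T_q, T_y, T_z, T_q, T_y, T_z, T_q, T_y, T_z, T_q, T_y] M (Nat.sub (T_z u) (Nat.mod (T_z u) M)) (nat_lit 40) (Nat.mod (T_z u) M) u) (lS MG [T_q, T_y, T_z, T_yi, T_q, T_z, T_y, T_q, T_z, T_yi, T_z, T_y, T_z, T_q, T_yi] M (Nat.sub (T_z u) (Nat.mod (T_z u) M)) (nat_lit 40) (Nat.mod (T_z u) M) u) (Nat.ble (nat_lit 261) j)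
noncomputable def dp_z_248 (j u : ℕ) : Bool :=
  Bool.rec (motive := fun _ => Bool) (lS MG [T_yi, T_yi, T_q, T_y, T_y, T_z, T_q, T_z, T_yi, T_yi, T_q, T_y, T_y, T_z, T_q] M (Nat.sub (T_z u) (Nat.mod (T_z u) M)) (nat_lit 40) (Nat.mod (T_z u) M) u) (dp_z_247 j u) (Nat.ble (nat_lit 260) j)
noncomputable def dp_z_249 (j u : ℕ) : Bool :=
  Bool.rec (motive := fun _ => Bool) (dp_z_246 j u) (dp_z_248 j u) (Nat.ble (nat_lit 259) j)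
noncomputable def dp_z_250 (j u : ℕ) : Bool :=
  Bool.rec (motive := fun _ => Bool) (lS MG [T_q, T_z, T_y, T_q, T_y, T_q, T_y, T_z, T_q, T_z, T_y, T_q, T_y, T_q, T_y] M (Nat.sub (T_z u) (Nat.mod (T_z u) M)) (nat_lit 40) (Nat.mod (T_z u) M) u) (lS MG [T_y, T_q, T_z, T_yi, T_z, T_y, T_z, T_q, T_yi, T_z, T_q, T_y, T_z, T_yi, T_q] M (Nat.sub (T_z u) (Nat.mod (T_z u) M)) (nat_lit 40) (Nat.mod (T_z u) M) u) (Nat.ble (nat_lit 264) j)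
noncomputable def dp_z_251 (j u : ℕ) : Bool :=
  Bool.rec (motive := fun _ => Bool) (lS MG [T_y, T_q, T_z, T_y, T_y, T_q, T_z, T_y, T_z, T_yi, T_q, T_z, T_yi, T_yi, T_q, T_z, T_yi] M (Nat.sub (T_z u) (Nat.mod (T_z u) M)) (nat_lit 40) (Nat.mod (T_z u) M) u) (dp_z_250 j u) (Nat.ble (nat_lit 263) j)
noncomputable def dp_z_252 (j u : ℕ) : Bool :=
  Bool.rec (motive := fun _ => Bool) (lS MG [T_y, T_y, T_y, T_q, T_z, T_q, T_z, T_y, T_y, T_y, T_q, T_z, T_q] M (Nat.sub (T_z u) (Nat.mod (T_z u) M)) (nat_lit 40) (Nat.mod (T_z u) M) u) (lS MG [T_yi, T_z, T_q, T_yi, T_yi, T_z, T_q, T_yi, T_z, T_y, T_z, T_q, T_y, T_y, T_z, T_q, T_y] M (Nat.sub (T_z u) (Nat.mod (T_z u) M)) (nat_lit 40) (Nat.mod (T_z u) M) u) (Nat.ble (nat_lit 266) j)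
noncomputable def dp_z_253 (j u : ℕ) : Bool :=
  Bool.rec (motive := fun _ => Bool) (lS MG [T_y, T_y, T_q, T_yi, T_yi, T_z, T_q, T_z, T_y, T_y, T_q, T_yi, T_yi, T_z, T_q] M (Nat.sub (T_z u) (Nat.mod (T_z u) M)) (nat_lit 40) (Nat.mod (T_z u) M) u) (lS MG [T_q, T_yi, T_z, T_y, T_z, T_q, T_y, T_y, T_z, T_q, T_y, T_z, T_yi, T_z, T_q, T_yi, T_yi] M (Nat.sub (T_z u) (Nat.mod (T_z u) M)) (nat_lit 40) (Nat.mod (T_z u) M) u) (Nat.ble (nat_lit 268) j)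
noncomputable def dp_z_254 (j u : ℕ) : Bool :=
  Bool.rec (motive := fun _ => Bool) (dp_z_252 j u) (dp_z_253 j u) (Nat.ble (nat_lit 267) j)
noncomputable def dp_z_255 (j u : ℕ) : Bool :=
  Bool.rec (motive := fun _ => Bool) (dp_z_251 j u) (dp_z_254 j u) (Nat.ble (nat_lit 265) j)
noncomputable def dp_z_256 (j u : ℕ) : Bool :=
  Bool.rec (motive := fun _ => Bool) (dp_z_249 j u) (dp_z_255 j u) (Nat.ble (nat_lit 262) j)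
noncomputable def dp_z_257 (j u : ℕ) : Bool :=
  Bool.rec (motive := fun _ => Bool) (lS MG [T_yi, T_z, T_y, T_q, T_z, T_y, T_y, T_q, T_z, T_y, T_z, T_yi, T_q, T_z, T_yi, T_yi, T_q] M (Nat.sub (T_z u) (Nat.mod (T_z u) M)) (nat_lit 40) (Nat.mod (T_z u) M) u) (lF [T_q, T_yi, T_q, T_z, T_y, T_z, T_q, T_yi, T_q, T_z, T_y, T_z, T_q, T_yi, T_q, T_z, T_y] M (Nat.sub (T_z u) (Nat.mod (T_z u) M)) (Nat.mod (T_z u) M) u) (Nat.ble (nat_lit 271) j)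
noncomputable def dp_z_258 (j u : ℕ) : Bool :=
  Bool.rec (motive := fun _ => Bool) (lS MG [T_yi, T_z, T_q, T_y, T_z, T_yi, T_z, T_q, T_y, T_q, T_z, T_yi, T_z, T_y, T_q] M (Nat.sub (T_z u) (Nat.mod (T_z u) M)) (nat_lit 40) (Nat.mod (T_z u) M) u) (dp_z_257 j u) (Nat.ble (nat_lit 270) j)
noncomputable def dp_z_259 (j u : ℕ) : Bool :=
  Bool.rec (motive := fun _ => Bool) (lF [T_q, T_v, T_yi, T_v, T_q, T_z, T_q, T_z, T_y, T_z, T_q] M (Nat.sub (T_z u) (Nat.mod (T_z u) M)) (Nat.mod (T_z u) M) u) (lS MG [T_y, T_z, T_yi, T_q, T_z, T_yi, T_yi, T_q, T_z, T_yi, T_z, T_y, T_q, T_z, T_y, T_y, T_q] M (Nat.sub (T_z u) (Nat.mod (T_z u) M)) (nat_lit 40) (Nat.mod (T_z u) M) u) (Nat.ble (nat_lit 273) j)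
noncomputable def dp_z_260 (j u : ℕ) : Bool :=
  Bool.rec (motive := fun _ => Bool) (lS MG [T_y, T_q, T_y, T_q, T_y, T_z, T_q, T_z, T_y, T_q, T_y, T_q, T_y, T_z, T_q] M (Nat.sub (T_z u) (Nat.mod (T_z u) M)) (nat_lit 40) (Nat.mod (T_z u) M) u) (lF [T_q, T_z, T_y, T_y, T_y, T_q, T_z, T_q, T_z, T_y, T_y, T_y, T_q] M (Nat.sub (T_z u) (Nat.mod (T_z u) M)) (Nat.mod (T_z u) M) u) (Nat.ble (nat_lit 275) j)
noncomputable def dp_z_261 (j u : ℕ) : Bool :=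
  Bool.rec (motive := fun _ => Bool) (dp_z_259 j u) (dp_z_260 j u) (Nat.ble (nat_lit 274) j)
noncomputable def dp_z_262 (j u : ℕ) : Bool :=
  Bool.rec (motive := fun _ => Bool) (dp_z_258 j u) (dp_z_261 j u) (Nat.ble (nat_lit 272) j)
noncomputable def dp_z_263 (j u : ℕ) : Bool :=
  Bool.rec (motive := fun _ => Bool) (lS MG [T_q, T_z, T_v, T_z, T_v, T_z, T_q, T_z, T_v, T_q, T_v, T_q, T_v] M (Nat.sub (T_z u) (Nat.mod (T_z u) M)) (nat_lit 40) (Nat.mod (T_z u) M) u) (lS MG [T_y, T_z, T_q, T_y, T_y, T_z, T_q, T_y, T_z, T_yi, T_z, T_q, T_yi, T_yi, T_z, T_q, T_yi] M (Nat.sub (T_z u) (Nat.mod (T_z u) M)) (nat_lit 40) (Nat.mod (T_z u) M) u) (Nat.ble (nat_lit 277) j)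
noncomputable def dp_z_264 (j u : ℕ) : Bool :=
  Bool.rec (motive := fun _ => Bool) (lF [T_q, T_yi, T_yi, T_yi, T_z, T_q, T_z, T_q, T_yi, T_yi, T_yi, T_z, T_q] M (Nat.sub (T_z u) (Nat.mod (T_z u) M)) (Nat.mod (T_z u) M) u) (lS MG [T_q, T_yi, T_q, T_z, T_y, T_z, T_q, T_yi, T_q, T_z, T_y, T_z, T_q, T_yi, T_q, T_z, T_y] M (Nat.sub (T_z u) (Nat.mod (T_z u) M)) (nat_lit 40) (Nat.mod (T_z u) M) u) (Nat.ble (nat_lit 279) j)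
noncomputable def dp_z_265 (j u : ℕ) : Bool :=
  Bool.rec (motive := fun _ => Bool) (dp_z_263 j u) (dp_z_264 j u) (Nat.ble (nat_lit 278) j)
noncomputable def dp_z_266 (j u : ℕ) : Bool :=
  Bool.rec (motive := fun _ => Bool) (lS MG [T_yi, T_z, T_y, T_z, T_q, T_yi, T_z, T_q, T_y, T_z, T_yi, T_q, T_z, T_y, T_q] M (Nat.sub (T_z u) (Nat.mod (T_z u) M)) (nat_lit 40) (Nat.mod (T_z u) M) u) (lF [T_q, T_z, T_y, T_z, T_q, T_z, T_q, T_v, T_yi, T_v, T_q] M (Nat.sub (T_z u) (Nat.mod (T_z u) M)) (Nat.mod (T_z u) M) u) (Nat.ble (nat_lit 281) j)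
noncomputable def dp_z_267 (j u : ℕ) : Bool :=
  Bool.rec (motive := fun _ => Bool) (lS MG [T_y, T_z, T_q, T_y, T_z, T_q, T_y, T_y, T_z, T_q, T_yi, T_q, T_z, T_q, T_y, T_q, T_z, T_yi, T_yi, T_q, T_z, T_yi, T_q, T_z, T_yi] M (Nat.sub (T_z u) (Nat.mod (T_z u) M)) (nat_lit 40) (Nat.mod (T_z u) M) u) (lS MG [T_y, T_z, T_yi, T_q, T_z, T_y, T_z, T_q, T_yi, T_z, T_y, T_z, T_q, T_yi, T_q] M (Nat.sub (T_z u) (Nat.mod (T_z u) M)) (nat_lit 40) (Nat.mod (T_z u) M) u) (Nat.ble (nat_lit 284) j)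
noncomputable def dp_z_268 (j u : ℕ) : Bool :=
  Bool.rec (motive := fun _ => Bool) (lF [T_y, T_z, T_q, T_y, T_z, T_q, T_y, T_y, T_z, T_q, T_yi, T_q, T_z, T_q, T_y, T_q, T_z, T_yi, T_yi, T_q, T_z, T_yi, T_q, T_z, T_yi] M (Nat.sub (T_z u) (Nat.mod (T_z u) M)) (Nat.mod (T_z u) M) u) (dp_z_267 j u) (Nat.ble (nat_lit 283) j)
noncomputable def dp_z_269 (j u : ℕ) : Bool :=
  Bool.rec (motive := fun _ => Bool) (dp_z_266 j u) (dp_z_268 j u) (Nat.ble (nat_lit 282) j)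
noncomputable def dp_z_270 (j u : ℕ) : Bool :=
  Bool.rec (motive := fun _ => Bool) (dp_z_265 j u) (dp_z_269 j u) (Nat.ble (nat_lit 280) j)
noncomputable def dp_z_271 (j u : ℕ) : Bool :=
  Bool.rec (motive := fun _ => Bool) (dp_z_262 j u) (dp_z_270 j u) (Nat.ble (nat_lit 276) j)
noncomputable def dp_z_272 (j u : ℕ) : Bool :=
  Bool.rec (motive := fun _ => Bool) (dp_z_256 j u) (dp_z_271 j u) (Nat.ble (nat_lit 269) j)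
noncomputable def dp_z_273 (j u : ℕ) : Bool :=
  Bool.rec (motive := fun _ => Bool) (lF [T_q, T_z, T_q, T_z, T_q, T_v, T_z, T_q, T_z, T_q, T_v, T_z, T_q, T_v] M (Nat.sub (T_z u) (Nat.mod (T_z u) M)) (Nat.mod (T_z u) M) u) (lF [T_yi, T_yi, T_q, T_z, T_yi, T_q, T_z, T_yi, T_z, T_y, T_z, T_q, T_y, T_z, T_q, T_y, T_y, T_z, T_q, T_yi, T_q, T_z, T_q, T_y, T_q] M (Nat.sub (T_z u) (Nat.mod (T_z u) M)) (Nat.mod (T_z u) M) u) (Nat.ble (nat_lit 286) j)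
noncomputable def dp_z_274 (j u : ℕ) : Bool :=
  Bool.rec (motive := fun _ => Bool) (lS MG [T_q, T_y, T_y, T_z, T_q, T_y, T_z, T_yi, T_z, T_q, T_yi, T_yi, T_z, T_q, T_yi, T_z, T_y] M (Nat.sub (T_z u) (Nat.mod (T_z u) M)) (nat_lit 40) (Nat.mod (T_z u) M) u) (lS MG [T_q, T_z, T_v, T_q, T_v, T_q, T_v, T_z, T_q, T_z, T_v, T_z, T_v] M (Nat.sub (T_z u) (Nat.mod (T_z u) M)) (nat_lit 40) (Nat.mod (T_z u) M) u) (Nat.ble (nat_lit 288) j)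
noncomputable def dp_z_275 (j u : ℕ) : Bool :=
  Bool.rec (motive := fun _ => Bool) (dp_z_273 j u) (dp_z_274 j u) (Nat.ble (nat_lit 287) j)
noncomputable def dp_z_276 (j u : ℕ) : Bool :=
  Bool.rec (motive := fun _ => Bool) (lS MG [T_q, T_y, T_y, T_y, T_z, T_q, T_y, T_z, T_q, T_y, T_y, T_y, T_z, T_q, T_y, T_z, T_q, T_y, T_y, T_y, T_z, T_q, T_y, T_z, T_q, T_y, T_y, T_y, T_z, T_q, T_y] M (Nat.sub (T_z u) (Nat.mod (T_z u) M)) (nat_lit 40) (Nat.mod (T_z u) M) u) (lS MG [T_q, T_z, T_yi, T_q, T_yi, T_q, T_yi, T_z, T_q, T_z, T_yi, T_q, T_yi, T_q, T_yi] M (Nat.sub (T_z u) (Nat.mod (T_z u) M)) (nat_lit 40) (Nat.mod (T_z u) M) u) (Nat.ble (nat_lit 290) j)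
noncomputable def dp_z_277 (j u : ℕ) : Bool :=
  Bool.rec (motive := fun _ => Bool) (lF [T_q, T_yi, T_z, T_y, T_q, T_yi, T_q, T_z, T_q, T_y, T_z, T_yi, T_q, T_y, T_q] M (Nat.sub (T_z u) (Nat.mod (T_z u) M)) (Nat.mod (T_z u) M) u) (lF [T_q, T_yi, T_q, T_z, T_q, T_y, T_q, T_z, T_yi, T_yi, T_q, T_z, T_yi, T_q, T_z, T_yi, T_z, T_y, T_z, T_q, T_y, T_z, T_q, T_y, T_y] M (Nat.sub (T_z u) (Nat.mod (T_z u) M)) (Nat.mod (T_z u) M) u) (Nat.ble (nat_lit 293) j)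
noncomputable def dp_z_278 (j u : ℕ) : Bool :=
  Bool.rec (motive := fun _ => Bool) (lF [T_q, T_z, T_yi, T_z, T_q, T_z, T_q, T_v, T_y, T_v, T_q] M (Nat.sub (T_z u) (Nat.mod (T_z u) M)) (Nat.mod (T_z u) M) u) (dp_z_277 j u) (Nat.ble (nat_lit 292) j)
noncomputable def dp_z_279 (j u : ℕ) : Bool :=
  Bool.rec (motive := fun _ => Bool) (dp_z_276 j u) (dp_z_278 j u) (Nat.ble (nat_lit 291) j)
noncomputable def dp_z_280 (j u : ℕ) : Bool :=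
  Bool.rec (motive := fun _ => Bool) (dp_z_275 j u) (dp_z_279 j u) (Nat.ble (nat_lit 289) j)
noncomputable def dp_z_281 (j u : ℕ) : Bool :=
  Bool.rec (motive := fun _ => Bool) (lF [T_q, T_y, T_z, T_yi, T_q, T_y, T_q, T_z, T_q, T_yi, T_z, T_y, T_q, T_yi, T_q] M (Nat.sub (T_z u) (Nat.mod (T_z u) M)) (Nat.mod (T_z u) M) u) (lS MG [T_yi, T_z, T_q, T_y, T_q, T_z, T_yi, T_z, T_q, T_y, T_q, T_z, T_yi, T_z, T_q, T_y, T_q] M (Nat.sub (T_z u) (Nat.mod (T_z u) M)) (nat_lit 40) (Nat.mod (T_z u) M) u) (Nat.ble (nat_lit 295) j)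
noncomputable def dp_z_282 (j u : ℕ) : Bool :=
  Bool.rec (motive := fun _ => Bool) (lF [T_v, T_q, T_z, T_q, T_z, T_v, T_q, T_z, T_q, T_z, T_q, T_z, T_v, T_q] M (Nat.sub (T_z u) (Nat.mod (T_z u) M)) (Nat.mod (T_z u) M) u) (lF [T_y, T_z, T_q, T_z, T_yi, T_z, T_q, T_z, T_y, T_z, T_q, T_z, T_yi, T_z, T_q] M (Nat.sub (T_z u) (Nat.mod (T_z u) M)) (Nat.mod (T_z u) M) u) (Nat.ble (nat_lit 298) j)
noncomputable def dp_z_283 (j u : ℕ) : Bool :=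
  Bool.rec (motive := fun _ => Bool) (lS MG [T_q, T_yi, T_z, T_q, T_y, T_z, T_yi, T_q, T_z, T_y, T_q, T_z, T_yi, T_z, T_y] M (Nat.sub (T_z u) (Nat.mod (T_z u) M)) (nat_lit 40) (Nat.mod (T_z u) M) u) (dp_z_282 j u) (Nat.ble (nat_lit 297) j)
noncomputable def dp_z_284 (j u : ℕ) : Bool :=
  Bool.rec (motive := fun _ => Bool) (dp_z_281 j u) (dp_z_283 j u) (Nat.ble (nat_lit 296) j)
noncomputable def dp_z_285 (j u : ℕ) : Bool :=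
  Bool.rec (motive := fun _ => Bool) (lS MG [T_v, T_q, T_v, T_q, T_v, T_z, T_q, T_z, T_v, T_z, T_v, T_z, T_q] M (Nat.sub (T_z u) (Nat.mod (T_z u) M)) (nat_lit 40) (Nat.mod (T_z u) M) u) (lS MG [T_y, T_z, T_q, T_yi, T_q, T_z, T_y, T_z, T_q, T_yi, T_q, T_z, T_y, T_z, T_q, T_yi, T_q] M (Nat.sub (T_z u) (Nat.mod (T_z u) M)) (nat_lit 40) (Nat.mod (T_z u) M) u) (Nat.ble (nat_lit 301) j)
noncomputable def dp_z_286 (j u : ℕ) : Bool :=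
  Bool.rec (motive := fun _ => Bool) (lS MG [T_yi, T_q, T_yi, T_q, T_yi, T_z, T_q, T_z, T_yi, T_q, T_yi, T_q, T_yi, T_z, T_q] M (Nat.sub (T_z u) (Nat.mod (T_z u) M)) (nat_lit 40) (Nat.mod (T_z u) M) u) (dp_z_285 j u) (Nat.ble (nat_lit 300) j)
noncomputable def dp_z_287 (j u : ℕ) : Bool :=
  Bool.rec (motive := fun _ => Bool) (lS MG [T_yi, T_q, T_z, T_yi, T_yi, T_yi, T_q, T_z, T_yi, T_q, T_z, T_yi, T_yi, T_yi, T_q, T_z, T_yi, T_q, T_z, T_yi, T_yi, T_yi, T_q, T_z, T_yi, T_q, T_z, T_yi, T_yi, T_yi, T_q] M (Nat.sub (T_z u) (Nat.mod (T_z u) M)) (nat_lit 40) (Nat.mod (T_z u) M) u) (lS MG [T_yi, T_yi, T_yi, T_q, T_z, T_yi, T_q, T_z, T_yi, T_yi, T_yi, T_q, T_z, T_yi, T_q, T_z, T_yi, T_yi, T_yi, T_q, T_z, T_yi, T_q, T_z, T_yi, T_yi, T_yi, T_q, T_z, T_yi, T_q] M (Nat.sub (T_z u) (Nat.mod (T_z u) M)) (nat_lit 40) (Nat.mod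 (T_z u) M) u) (Nat.ble (nat_lit 304) j)
noncomputable def dp_z_288 (j u : ℕ) : Bool :=
  Bool.rec (motive := fun _ => Bool) (lF [T_q, T_z, T_yi, T_z, T_q, T_z, T_y, T_z, T_q, T_z, T_yi, T_z, T_q, T_z, T_y] M (Nat.sub (T_z u) (Nat.mod (T_z u) M)) (Nat.mod (T_z u) M) u) (dp_z_287 j u) (Nat.ble (nat_lit 303) j)
noncomputable def dp_z_289 (j u : ℕ) : Bool :=
  Bool.rec (motive := fun _ => Bool) (dp_z_286 j u) (dp_z_288 j u) (Nat.ble (nat_lit 302) j)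
noncomputable def dp_z_290 (j u : ℕ) : Bool :=
  Bool.rec (motive := fun _ => Bool) (dp_z_284 j u) (dp_z_289 j u) (Nat.ble (nat_lit 299) j)
noncomputable def dp_z_291 (j u : ℕ) : Bool :=
  Bool.rec (motive := fun _ => Bool) (dp_z_280 j u) (dp_z_290 j u) (Nat.ble (nat_lit 294) j)
noncomputable def dp_z_292 (j u : ℕ) : Bool :=
  Bool.rec (motive := fun _ => Bool) (lS MG [T_yi, T_yi, T_q, T_z, T_yi, T_q, T_z, T_yi, T_z, T_y, T_z, T_q, T_y, T_z, T_q, T_y, T_y, T_z, T_q, T_yi, T_q, T_z, T_q, T_y, T_q] M (Nat.sub (T_z u) (Nat.mod (T_z u) M)) (nat_lit 40) (Nat.mod (T_z u) M) u) (lS MG [T_q, T_y, T_z, T_q, T_y, T_y, T_y, T_z, T_q, T_y, T_z, T_q, T_y, T_y, T_y, T_z, T_q, T_y, T_z, T_q, T_y, T_y, T_y, T_z, T_q, T_y, T_z, T_q, T_y, T_y, T_y] M (Nat.sub (T_z u) (Nat.mod (T_z u) M)) (nat_lit 40) (Nat.mod (T_z u) M) u)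 (Nat.ble (nat_lit 307) j)
noncomputable def dp_z_293 (j u : ℕ) : Bool :=
  Bool.rec (motive := fun _ => Bool) (lF [T_v, T_q, T_z, T_v, T_q, T_z, T_q, T_z, T_v, T_q, T_z, T_q, T_z, T_q] M (Nat.sub (T_z u) (Nat.mod (T_z u) M)) (Nat.mod (T_z u) M) u) (dp_z_292 j u) (Nat.ble (nat_lit 306) j)
noncomputable def dp_z_294 (j u : ℕ) : Bool :=
  Bool.rec (motive := fun _ => Bool) (lF [T_yi, T_z, T_q, T_z, T_y, T_z, T_q, T_z, T_yi, T_z, T_q, T_z, T_y, T_z, T_q] M (Nat.sub (T_z u) (Nat.mod (T_z u) M)) (Nat.mod (T_z u) M) u) (lF [T_q, T_y, T_y, T_y, T_z, T_q, T_y, T_z, T_q, T_y, T_y, T_y, T_z, T_q, T_y, T_z, T_q, T_y, T_y, T_y, T_z, T_q, T_y, T_z, T_q, T_y, T_y, T_y, T_z, T_q, T_y] M (Nat.sub (T_z u) (Nat.mod (T_z u) M)) (Nat.mod (T_z u) M) u) (Nat.ble (nat_lit 309) j)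
noncomputable def dp_z_295 (j u : ℕ) : Bool :=
  Bool.rec (motive := fun _ => Bool) (lF [T_yi, T_yi, T_yi, T_q, T_z, T_yi, T_q, T_z, T_yi, T_yi, T_yi, T_q, T_z, T_yi, T_q, T_z, T_yi, T_yi, T_yi, T_q, T_z, T_yi, T_q, T_z, T_yi, T_yi, T_yi, T_q, T_z, T_yi, T_q] M (Nat.sub (T_z u) (Nat.mod (T_z u) M)) (Nat.mod (T_z u) M) u) (lF [T_q, T_y, T_z, T_q, T_y, T_y, T_z, T_q, T_yi, T_q, T_z, T_q, T_y, T_q, T_z, T_yi, T_yi, T_q, T_z, T_yi, T_q, T_z, T_yi, T_z, T_y] M (Nat.sub (T_z u) (Nat.mod (T_z u) M)) (Nat.mod (T_z u) M) u) (Nat.ble (nat_lit 311) j)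
noncomputable def dp_z_296 (j u : ℕ) : Bool :=
  Bool.rec (motive := fun _ => Bool) (dp_z_294 j u) (dp_z_295 j u) (Nat.ble (nat_lit 310) j)
noncomputable def dp_z_297 (j u : ℕ) : Bool :=
  Bool.rec (motive := fun _ => Bool) (dp_z_293 j u) (dp_z_296 j u) (Nat.ble (nat_lit 308) j)
noncomputable def dp_z_298 (j u : ℕ) : Bool :=
  Bool.rec (motive := fun _ => Bool) (lF [T_yi, T_z, T_y, T_z, T_q, T_y, T_z, T_q, T_y, T_y, T_z, T_q, T_yi, T_q, T_z, T_q, T_y, T_q, T_z, T_yi, T_yi, T_q, T_z, T_yi, T_q] M (Nat.sub (T_z u) (Nat.mod (T_z u) M)) (Nat.mod (T_z u) M) u) (lS MG [T_q, T_y, T_q, T_z, T_yi, T_z, T_q, T_y, T_q, T_z, T_yi, T_z, T_q, T_y, T_q, T_z, T_yi] M (Nat.sub (T_z u) (Nat.mod (T_z u) M)) (nat_lit 40) (Nat.mod (T_z u) M) u) (Nat.ble (nat_lit 313) j)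
noncomputable def dp_z_299 (j u : ℕ) : Bool :=
  Bool.rec (motive := fun _ => Bool) (lS MG [T_yi, T_z, T_y, T_z, T_q, T_y, T_z, T_q, T_y, T_y, T_z, T_q, T_yi, T_q, T_z, T_q, T_y, T_q, T_z, T_yi, T_yi, T_q, T_z, T_yi, T_q] M (Nat.sub (T_z u) (Nat.mod (T_z u) M)) (nat_lit 40) (Nat.mod (T_z u) M) u) (lF [T_q, T_yi, T_q, T_y, T_z, T_yi, T_q, T_z, T_q, T_y, T_q, T_yi, T_z, T_y, T_q] M (Nat.sub (T_z u) (Nat.mod (T_z u) M)) (Nat.mod (T_z u) M) u) (Nat.ble (nat_lit 315) j)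
noncomputable def dp_z_300 (j u : ℕ) : Bool :=
  Bool.rec (motive := fun _ => Bool) (dp_z_298 j u) (dp_z_299 j u) (Nat.ble (nat_lit 314) j)
noncomputable def dp_z_301 (j u : ℕ) : Bool :=
  Bool.rec (motive := fun _ => Bool) (lS MG [T_v, T_q, T_z, T_q, T_z, T_v, T_q, T_z, T_q, T_z, T_q, T_z, T_v, T_q] M (Nat.sub (T_z u) (Nat.mod (T_z u) M)) (nat_lit 40) (Nat.mod (T_z u) M) u) (lF [T_yi, T_q, T_z, T_yi, T_yi, T_yi, T_q, T_z, T_yi, T_q, T_z, T_yi, T_yi, T_yi, T_q, T_z, T_yi, T_q, T_z, T_yi, T_yi, T_yi, T_q, T_z, T_yi, T_q, T_z, T_yi, T_yi, T_yi, T_q] M (Nat.sub (T_z u) (Nat.mod (T_z u) M)) (Nat.mod (T_z u) M) u) (Nat.ble (nat_lit 317) j)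
noncomputable def dp_z_302 (j u : ℕ) : Bool :=
  Bool.rec (motive := fun _ => Bool) (lS MG [T_q, T_z, T_yi, T_z, T_q, T_z, T_y, T_z, T_q, T_z, T_yi, T_z, T_q, T_z, T_y] M (Nat.sub (T_z u) (Nat.mod (T_z u) M)) (nat_lit 40) (Nat.mod (T_z u) M) u) (lF [T_q, T_z, T_y, T_z, T_q, T_z, T_yi, T_z, T_q, T_z, T_y, T_z, T_q, T_z, T_yi] M (Nat.sub (T_z u) (Nat.mod (T_z u) M)) (Nat.mod (T_z u) M) u) (Nat.ble (nat_lit 319) j)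
noncomputable def dp_z_303 (j u : ℕ) : Bool :=
  Bool.rec (motive := fun _ => Bool) (dp_z_301 j u) (dp_z_302 j u) (Nat.ble (nat_lit 318) j)
noncomputable def dp_z_304 (j u : ℕ) : Bool :=
  Bool.rec (motive := fun _ => Bool) (dp_z_300 j u) (dp_z_303 j u) (Nat.ble (nat_lit 316) j)
noncomputable def dp_z_305 (j u : ℕ) : Bool :=
  Bool.rec (motive := fun _ => Bool) (dp_z_297 j u) (dp_z_304 j u) (Nat.ble (nat_lit 312) j)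
noncomputable def dp_z_306 (j u : ℕ) : Bool :=
  Bool.rec (motive := fun _ => Bool) (lS MG [T_q, T_yi, T_q, T_z, T_q, T_y, T_q, T_z, T_yi, T_yi, T_q, T_z, T_yi, T_q, T_z, T_yi, T_z, T_y, T_z, T_q, T_y, T_z, T_q, T_y, T_y] M (Nat.sub (T_z u) (Nat.mod (T_z u) M)) (nat_lit 40) (Nat.mod (T_z u) M) u) (lS MG [T_q, T_z, T_q, T_z, T_q, T_v, T_z, T_q, T_z, T_q, T_v, T_z, T_q, T_v] M (Nat.sub (T_z u) (Nat.mod (T_z u) M)) (nat_lit 40) (Nat.mod (T_z u) M) u) (Nat.ble (nat_lit 321) j)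
noncomputable def dp_z_307 (j u : ℕ) : Bool :=
  Bool.rec (motive := fun _ => Bool) (lS MG [T_q, T_y, T_z, T_q, T_y, T_y, T_z, T_q, T_yi, T_q, T_z, T_q, T_y, T_q, T_z, T_yi, T_yi, T_q, T_z, T_yi, T_q, T_z, T_yi, T_z, T_y] M (Nat.sub (T_z u) (Nat.mod (T_z u) M)) (nat_lit 40) (Nat.mod (T_z u) M) u) (lS MG [T_q, T_y, T_z, T_yi, T_q, T_y, T_q, T_z, T_q, T_yi, T_z, T_y, T_q, T_yi, T_q] M (Nat.sub (T_z u) (Nat.mod (T_z u) M)) (nat_lit 40) (Nat.mod (T_z u) M) u) (Nat.ble (nat_lit 324) j)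
noncomputable def dp_z_308 (j u : ℕ) : Bool :=
  Bool.rec (motive := fun _ => Bool) (lF [T_q, T_y, T_q, T_yi, T_z, T_y, T_q, T_z, T_q, T_yi, T_q, T_y, T_z, T_yi, T_q] M (Nat.sub (T_z u) (Nat.mod (T_z u) M)) (Nat.mod (T_z u) M) u) (dp_z_307 j u) (Nat.ble (nat_lit 323) j)
noncomputable def dp_z_309 (j u : ℕ) : Bool :=
  Bool.rec (motive := fun _ => Bool) (dp_z_306 j u) (dp_z_308 j u) (Nat.ble (nat_lit 322) j)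
noncomputable def dp_z_310 (j u : ℕ) : Bool :=
  Bool.rec (motive := fun _ => Bool) (lS MG [T_q, T_v, T_z, T_q, T_z, T_q, T_z, T_q, T_v, T_z, T_q, T_z, T_q, T_v] M (Nat.sub (T_z u) (Nat.mod (T_z u) M)) (nat_lit 40) (Nat.mod (T_z u) M) u) (lS MG [T_q, T_z, T_y, T_y, T_y, T_q, T_z, T_q, T_z, T_y, T_y, T_y, T_q] M (Nat.sub (T_z u) (Nat.mod (T_z u) M)) (nat_lit 40) (Nat.mod (T_z u) M) u) (Nat.ble (nat_lit 327) j)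
noncomputable def dp_z_311 (j u : ℕ) : Bool :=
  Bool.rec (motive := fun _ => Bool) (lF [T_q, T_y, T_z, T_q, T_y, T_y, T_y, T_z, T_q, T_y, T_z, T_q, T_y, T_y, T_y, T_z, T_q, T_y, T_z, T_q, T_y, T_y, T_y, T_z, T_q, T_y, T_z, T_q, T_y, T_y, T_y] M (Nat.sub (T_z u) (Nat.mod (T_z u) M)) (Nat.mod (T_z u) M) u) (dp_z_310 j u) (Nat.ble (nat_lit 326) j)
noncomputable def dp_z_312 (j u : ℕ) : Bool :=
  Bool.rec (motive := fun _ => Bool) (lS MG [T_q, T_z, T_y, T_z, T_q, T_z, T_yi, T_z, T_q, T_z, T_y, T_z, T_q, T_z, T_yi] M (Nat.sub (T_z u) (Nat.mod (T_z u) M)) (nat_lit 40) (Nat.mod (T_z u) M) u) (lS MG [T_q, T_yi, T_yi, T_yi, T_z, T_q, T_z, T_q, T_yi, T_yi, T_yi, T_z, T_q] M (Nat.sub (T_z u) (Nat.mod (T_z u) M)) (nat_lit 40) (Nat.mod (T_z u) M) u) (Nat.ble (nat_lit 330) j)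
noncomputable def dp_z_313 (j u : ℕ) : Bool :=
  Bool.rec (motive := fun _ => Bool) (lS MG [T_q, T_v, T_y, T_v, T_q, T_z, T_q, T_z, T_yi, T_z, T_q] M (Nat.sub (T_z u) (Nat.mod (T_z u) M)) (nat_lit 40) (Nat.mod (T_z u) M) u) (dp_z_312 j u) (Nat.ble (nat_lit 329) j)
noncomputable def dp_z_314 (j u : ℕ) : Bool :=
  Bool.rec (motive := fun _ => Bool) (dp_z_311 j u) (dp_z_313 j u) (Nat.ble (nat_lit 328) j)
noncomputable def dp_z_315 (j u : ℕ) : Bool :=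
  Bool.rec (motive := fun _ => Bool) (dp_z_309 j u) (dp_z_314 j u) (Nat.ble (nat_lit 325) j)
noncomputable def dp_z_316 (j u : ℕ) : Bool :=
  Bool.rec (motive := fun _ => Bool) (lS MG [T_q, T_yi, T_z, T_y, T_q, T_yi, T_q, T_z, T_q, T_y, T_z, T_yi, T_q, T_y, T_q] M (Nat.sub (T_z u) (Nat.mod (T_z u) M)) (nat_lit 40) (Nat.mod (T_z u) M) u) (lS MG [T_q, T_z, T_yi, T_z, T_q, T_z, T_q, T_v, T_y, T_v, T_q] M (Nat.sub (T_z u) (Nat.mod (T_z u) M)) (nat_lit 40) (Nat.mod (T_z u) M) u) (Nat.ble (nat_lit 332) j)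
noncomputable def dp_z_317 (j u : ℕ) : Bool :=
  Bool.rec (motive := fun _ => Bool) (lS MG [T_q, T_v, T_yi, T_v, T_q, T_z, T_q, T_z, T_y, T_z, T_q] M (Nat.sub (T_z u) (Nat.mod (T_z u) M)) (nat_lit 40) (Nat.mod (T_z u) M) u) (lS MG [T_y, T_y, T_y, T_z, T_q, T_y, T_z, T_q, T_y, T_q, T_z, T_yi, T_q, T_z, T_yi, T_q, T_z, T_yi, T_yi, T_yi, T_z, T_y, T_y, T_y, T_z, T_q, T_y, T_z, T_q, T_y, T_z, T_q, T_z, T_yi, T_q, T_z, T_yi, T_q, T_z, T_yi, T_yi, T_yi, T_z, T_y, T_y, T_y, T_z, T_q, T_y, T_z, T_q, T_y, T_q, T_z, T_yi, T_q, T_z, T_yi, T_q, T_z, T_yi, T_yi, T_yi] M (Nat.sub (T_z u) (Nat.mod (T_z u) M)) (nat_lit 40) (Nat.mod (T_z u) M) u) (Nat.ble (nat_lit 334) j)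
noncomputable def dp_z_318 (j u : ℕ) : Bool :=
  Bool.rec (motive := fun _ => Bool) (dp_z_316 j u) (dp_z_317 j u) (Nat.ble (nat_lit 333) j)
noncomputable def dp_z_319 (j u : ℕ) : Bool :=
  Bool.rec (motive := fun _ => Bool) (lS MG [T_y, T_y, T_y, T_z, T_q, T_y, T_z, T_q, T_y, T_z, T_q, T_yi, T_q, T_z, T_yi, T_q, T_z, T_yi, T_yi, T_yi, T_z, T_y, T_y, T_y, T_z, T_q, T_y, T_z, T_q, T_y, T_z, T_q, T_yi, T_q, T_z, T_yi, T_q, T_z, T_yi, T_yi, T_yi, T_z, T_y, T_y, T_y, T_z, T_q, T_y, T_z, T_q, T_y, T_z, T_q, T_z, T_yi, T_q, T_z, T_yi, T_q, T_z, T_yi, T_yi, T_yi] M (Nat.sub (T_z u) (Nat.mod (T_z u) M)) (nat_lit 40) (Nat.mod (T_z u) M) u) (lS MG [T_q, T_yi, T_q, T_y, T_z, T_yi, T_q, T_z, T_q, T_y, T_q, T_yi, T_z, T_y, T_q] M (Nat.sub (T_z u) (Nat.mod (T_z u) M)) (nat_lit 40) (Nat.mod (T_z u) M) u) (Nat.ble (nat_lit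 336) j)
noncomputable def dp_z_320 (j u : ℕ) : Bool :=
  Bool.rec (motive := fun _ => Bool) (lS MG [T_v, T_q, T_z, T_v, T_q, T_z, T_q, T_z, T_v, T_q, T_z, T_q, T_z, T_q] M (Nat.sub (T_z u) (Nat.mod (T_z u) M)) (nat_lit 40) (Nat.mod (T_z u) M) u) (lS MG [T_q, T_y, T_q, T_yi, T_z, T_y, T_q, T_z, T_q, T_yi, T_q, T_y, T_z, T_yi, T_q] M (Nat.sub (T_z u) (Nat.mod (T_z u) M)) (nat_lit 40) (Nat.mod (T_z u) M) u) (Nat.ble (nat_lit 339) j)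
noncomputable def dp_z_321 (j u : ℕ) : Bool :=
  Bool.rec (motive := fun _ => Bool) (lS MG [T_y, T_z, T_q, T_z, T_yi, T_z, T_q, T_z, T_y, T_z, T_q, T_z, T_yi, T_z, T_q] M (Nat.sub (T_z u) (Nat.mod (T_z u) M)) (nat_lit 40) (Nat.mod (T_z u) M) u) (dp_z_320 j u) (Nat.ble (nat_lit 338) j)
noncomputable def dp_z_322 (j u : ℕ) : Bool :=
  Bool.rec (motive := fun _ => Bool) (dp_z_319 j u) (dp_z_321 j u) (Nat.ble (nat_lit 337) j)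
noncomputable def dp_z_323 (j u : ℕ) : Bool :=
  Bool.rec (motive := fun _ => Bool) (dp_z_318 j u) (dp_z_322 j u) (Nat.ble (nat_lit 335) j)
noncomputable def dp_z_324 (j u : ℕ) : Bool :=
  Bool.rec (motive := fun _ => Bool) (lS MG [T_yi, T_z, T_q, T_z, T_y, T_z, T_q, T_z, T_yi, T_z, T_q, T_z, T_y, T_z, T_q] M (Nat.sub (T_z u) (Nat.mod (T_z u) M)) (nat_lit 40) (Nat.mod (T_z u) M) u) (lS MG [T_y, T_y, T_y, T_z, T_q, T_y, T_z, T_q, T_y, T_z, T_q, T_z, T_yi, T_q, T_z, T_yi, T_q, T_z, T_yi, T_yi, T_yi, T_z, T_y, T_y, T_y, T_z, T_q, T_y, T_z, T_q, T_y, T_z, T_q, T_yi, T_q, T_z, T_yi, T_q, T_z, T_yi, T_yi, T_yi, T_z, T_y, T_y, T_y, T_z, T_q, T_y, T_z, T_q, T_y, T_z, T_q, T_yi, T_q, T_z, T_yi, T_q, T_z, T_yi, T_yi, T_yi] M (Nat.sub (T_z u) (Nat.mod (T_z u) M)) (nat_lit 40) (Nat.mod (T_z u) M) u) (Nat.ble (nat_lit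 342) j)
noncomputable def dp_z_325 (j u : ℕ) : Bool :=
  Bool.rec (motive := fun _ => Bool) (lS MG [T_y, T_y, T_y, T_z, T_q, T_y, T_z, T_q, T_y, T_z, T_q, T_yi, T_q, T_z, T_yi, T_q, T_z, T_yi, T_yi, T_yi, T_z, T_y, T_y, T_y, T_z, T_q, T_y, T_z, T_q, T_y, T_z, T_q, T_z, T_yi, T_q, T_z, T_yi, T_q, T_z, T_yi, T_yi, T_yi, T_z, T_y, T_y, T_y, T_z, T_q, T_y, T_z, T_q, T_y, T_z, T_q, T_yi, T_q, T_z, T_yi, T_q, T_z, T_yi, T_yi, T_yi] M (Nat.sub (T_z u) (Nat.mod (T_z u) M)) (nat_lit 40) (Nat.mod (T_z u) M) u) (dp_z_324 j u) (Nat.ble (nat_lit 341) j)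
noncomputable def dp_z_326 (j u : ℕ) : Bool :=
  Bool.rec (motive := fun _ => Bool) (lS MG [T_q, T_z, T_y, T_z, T_q, T_z, T_q, T_v, T_yi, T_v, T_q] M (Nat.sub (T_z u) (Nat.mod (T_z u) M)) (nat_lit 40) (Nat.mod (T_z u) M) u) (lF [T_y, T_y, T_y, T_z, T_q, T_y, T_z, T_q, T_y, T_q, T_z, T_yi, T_q, T_z, T_yi, T_q, T_z, T_yi, T_yi, T_yi, T_z, T_y, T_y, T_y, T_z, T_q, T_y, T_z, T_q, T_y, T_z, T_q, T_z, T_yi, T_q, T_z, T_yi, T_q, T_z, T_yi, T_yi, T_yi, T_z, T_y, T_y, T_y, T_z, T_q, T_y, T_z, T_q, T_y, T_q, T_z, T_yi, T_q, T_z, T_yi, T_q, T_z, T_yi, T_yi, T_yi] M (Nat.sub (T_z u) (Nat.mod (T_z u) M)) (Nat.mod (T_z u) M) u) (Nat.ble (nat_lit 344) j)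
noncomputable def dp_z_327 (j u : ℕ) : Bool :=
  Bool.rec (motive := fun _ => Bool) (lS MG [T_q, T_y, T_q, T_z, T_yi, T_yi, T_q, T_z, T_yi, T_q, T_z, T_yi, T_z, T_y, T_z, T_q, T_y, T_z, T_q, T_y, T_y, T_z, T_q, T_yi, T_q] M (Nat.sub (T_z u) (Nat.mod (T_z u) M)) (nat_lit 40) (Nat.mod (T_z u) M) u) (lS MG [T_y, T_y, T_y, T_z, T_q, T_y, T_z, T_q, T_y, T_q, T_z, T_yi, T_q, T_z, T_yi, T_q, T_z, T_yi, T_yi, T_yi, T_z, T_y, T_y, T_y, T_z, T_q, T_y, T_z, T_q, T_y, T_q, T_z, T_yi, T_q, T_z, T_yi, T_q, T_z, T_yi, T_yi, T_yi, T_z, T_y, T_y, T_y, T_z, T_q, T_y, T_z, T_q, T_y, T_z, T_q, T_z, T_yi, T_q, T_z, T_yi, T_q, T_z, T_yi, T_yi, T_yi] M (Nat.sub (T_z u) (Nat.mod (T_z u) M)) (nat_lit 40) (Nat.mod (T_z u) M) u) (Nat.ble (nat_lit 346) j)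
noncomputable def dp_z_328 (j u : ℕ) : Bool :=
  Bool.rec (motive := fun _ => Bool) (dp_z_326 j u) (dp_z_327 j u) (Nat.ble (nat_lit 345) j)
noncomputable def dp_z_329 (j u : ℕ) : Bool :=
  Bool.rec (motive := fun _ => Bool) (dp_z_325 j u) (dp_z_328 j u) (Nat.ble (nat_lit 343) j)
noncomputable def dp_z_330 (j u : ℕ) : Bool :=
  Bool.rec (motive := fun _ => Bool) (lS MG [T_yi, T_q, T_z, T_yi, T_yi, T_yi, T_z, T_y, T_y, T_y, T_z, T_q, T_y, T_z, T_q, T_y, T_z, T_q, T_yi, T_q, T_z, T_yi, T_q, T_z, T_yi, T_yi, T_yi, T_z, T_y, T_y, T_y, T_z, T_q, T_y, T_z, T_q, T_y, T_z, T_q, T_z, T_yi, T_q, T_z, T_yi, T_q, T_z, T_yi, T_yi, T_yi, T_z, T_y, T_y, T_y, T_z, T_q, T_y, T_z, T_q, T_y, T_z, T_q, T_yi, T_q] M (Nat.sub (T_z u) (Nat.mod (T_z u) M)) (nat_lit 40) (Nat.mod (T_z u) M) u) (lF [T_q, T_z, T_v, T_q, T_z, T_v, T_q,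 T_z, T_q, T_z, T_v, T_q, T_z, T_q] M (Nat.sub (T_z u) (Nat.mod (T_z u) M)) (Nat.mod (T_z u) M) u) (Nat.ble (nat_lit 350) j)
noncomputable def dp_z_331 (j u : ℕ) : Bool :=
  Bool.rec (motive := fun _ => Bool) (lS MG [T_yi, T_q, T_z, T_yi, T_q, T_z, T_yi, T_yi, T_yi, T_z, T_y, T_y, T_y, T_z, T_q, T_y, T_z, T_q, T_y, T_q, T_z, T_yi, T_q, T_z, T_yi, T_q, T_z, T_yi, T_yi, T_yi, T_z, T_y, T_y, T_y, T_z, T_q, T_y, T_z, T_q, T_y, T_z, T_q, T_z, T_yi, T_q, T_z, T_yi, T_q, T_z, T_yi, T_yi, T_yi, T_z, T_y, T_y, T_y, T_z, T_q, T_y, T_z, T_q, T_y, T_q] M (Nat.sub (T_z u) (Nat.mod (T_z u) M)) (nat_lit 40) (Nat.mod (T_z u) M) u) (dp_z_330 j u) (Nat.ble (nat_lit 349) j)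
noncomputable def dp_z_332 (j u : ℕ) : Bool :=
  Bool.rec (motive := fun _ => Bool) (lF [T_q, T_y, T_q, T_z, T_yi, T_yi, T_q, T_z, T_yi, T_q, T_z, T_yi, T_z, T_y, T_z, T_q, T_y, T_z, T_q, T_y, T_y, T_z, T_q, T_yi, T_q] M (Nat.sub (T_z u) (Nat.mod (T_z u) M)) (Nat.mod (T_z u) M) u) (dp_z_331 j u) (Nat.ble (nat_lit 348) j)
noncomputable def dp_z_333 (j u : ℕ) : Bool :=
  Bool.rec (motive := fun _ => Bool) (lS MG [T_yi, T_q, T_z, T_yi, T_yi, T_yi, T_z, T_y, T_y, T_y, T_z, T_q, T_y, T_z, T_q, T_y, T_z, T_q, T_z, T_yi, T_q, T_z, T_yi, T_q, T_z, T_yi, T_yi, T_yi, T_z, T_y, T_y, T_y, T_z, T_q, T_y, T_z, T_q, T_y, T_z, T_q, T_yi, T_q, T_z, T_yi, T_q, T_z, T_yi, T_yi, T_yi, T_z, T_y, T_y, T_y, T_z, T_q, T_y, T_z, T_q, T_y, T_z, T_q, T_yi, T_q] M (Nat.sub (T_z u) (Nat.mod (T_z u) M)) (nat_lit 40) (Nat.mod (T_z u) M)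 u) (lS MG [T_y, T_y, T_y, T_z, T_q, T_y, T_z, T_q, T_y, T_z, T_q, T_z, T_yi, T_q, T_z, T_yi, T_q, T_z, T_yi, T_yi, T_yi, T_z, T_y, T_y, T_y, T_z, T_q, T_y, T_z, T_q, T_y, T_q, T_z, T_yi, T_q, T_z, T_yi, T_q, T_z, T_yi, T_yi, T_yi, T_z, T_y, T_y, T_y, T_z, T_q, T_y, T_z, T_q, T_y, T_q, T_z, T_yi, T_q, T_z, T_yi, T_q, T_z, T_yi, T_yi, T_yi] M (Nat.sub (T_z u) (Nat.mod (T_z u) M)) (nat_lit 40) (Nat.mod (T_z u) M) u) (Nat.ble (nat_lit 352) j)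
noncomputable def dp_z_334 (j u : ℕ) : Bool :=
  Bool.rec (motive := fun _ => Bool) (lS MG [T_yi, T_q, T_z, T_yi, T_q, T_z, T_yi, T_yi, T_yi, T_z, T_y, T_y, T_y, T_z, T_q, T_y, T_z, T_q, T_y, T_z, T_q, T_yi, T_q, T_z, T_yi, T_q, T_z, T_yi, T_yi, T_yi, T_z, T_y, T_y, T_y, T_z, T_q, T_y, T_z, T_q, T_y, T_z, T_q, T_yi, T_q, T_z, T_yi, T_q, T_z, T_yi, T_yi, T_yi, T_z, T_y, T_y, T_y, T_z, T_q, T_y, T_z, T_q, T_y, T_z, T_q] M (Nat.sub (T_z u) (Nat.mod (T_z u) M)) (nat_lit 40) (Nat.mod (T_z u) M) u) (lS MG [T_q, T_y, T_z, T_q, T_yi, T_q, T_z, T_yi, T_q, T_z, T_yi, T_yi, T_yi, T_z, T_y, T_y, T_y, T_z, T_q, T_y, T_z, T_q, T_y, T_z, T_q, T_yi, T_q, T_z, T_yi, T_q, T_z, T_yi, T_yi, T_yi, T_z, T_y, T_y, T_y, T_z, T_q, T_y, T_z, T_q, T_y, T_z, T_q, T_z, T_yi, T_q, T_z, T_yi, T_q, T_z, T_yi, T_yi, T_yi, T_z, T_y, T_y, T_y,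 T_z, T_q, T_y] M (Nat.sub (T_z u) (Nat.mod (T_z u) M)) (nat_lit 40) (Nat.mod (T_z u) M) u) (Nat.ble (nat_lit 355) j)
noncomputable def dp_z_335 (j u : ℕ) : Bool :=
  Bool.rec (motive := fun _ => Bool) (lF [T_y, T_y, T_y, T_z, T_q, T_y, T_z, T_q, T_y, T_z, T_q, T_yi, T_q, T_z, T_yi, T_q, T_z, T_yi, T_yi, T_yi, T_z, T_y, T_y, T_y, T_z, T_q, T_y, T_z, T_q, T_y, T_z, T_q, T_z, T_yi, T_q, T_z, T_yi, T_q, T_z, T_yi, T_yi, T_yi, T_z, T_y, T_y, T_y, T_z, T_q, T_y, T_z, T_q, T_y, T_z, T_q, T_yi, T_q, T_z, T_yi, T_q, T_z, T_yi, T_yi, T_yi] M (Nat.sub (T_z u) (Nat.mod (T_z u) M)) (Nat.mod (T_z u) M) u) (dp_z_334 j u) (Nat.ble (nat_lit 354) j)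
noncomputable def dp_z_336 (j u : ℕ) : Bool :=
  Bool.rec (motive := fun _ => Bool) (dp_z_333 j u) (dp_z_335 j u) (Nat.ble (nat_lit 353) j)
noncomputable def dp_z_337 (j u : ℕ) : Bool :=
  Bool.rec (motive := fun _ => Bool) (dp_z_332 j u) (dp_z_336 j u) (Nat.ble (nat_lit 351) j)
noncomputable def dp_z_338 (j u : ℕ) : Bool :=
  Bool.rec (motive := fun _ => Bool) (lS MG [T_yi, T_q, T_z, T_yi, T_yi, T_yi, T_z, T_y, T_y, T_y, T_z, T_q, T_y, T_z, T_q, T_y, T_q, T_z, T_yi, T_q, T_z, T_yi, T_q, T_z, T_yi, T_yi, T_yi, T_z, T_y, T_y, T_y, T_z, T_q, T_y, T_z, T_q, T_y, T_q, T_z, T_yi, T_q, T_z, T_yi, T_q, T_z, T_yi, T_yi, T_yi, T_z, T_y, T_y, T_y, T_z, T_q, T_y, T_z, T_q, T_y, T_z, T_q, T_z, T_yi, T_q] M (Nat.sub (T_z u) (Nat.mod (T_z u) M)) (nat_lit 40) (Nat.mod (T_z u) M) u) (lS MG [T_q, T_yi, T_q, T_z, T_yi, T_q,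 T_z, T_yi, T_yi, T_yi, T_z, T_y, T_y, T_y, T_z, T_q, T_y, T_z, T_q, T_y, T_z, T_q, T_yi, T_q, T_z, T_yi, T_q, T_z, T_yi, T_yi, T_yi, T_z, T_y, T_y, T_y, T_z, T_q, T_y, T_z, T_q, T_y, T_z, T_q, T_z, T_yi, T_q, T_z, T_yi, T_q, T_z, T_yi, T_yi, T_yi, T_z, T_y, T_y, T_y, T_z, T_q, T_y, T_z, T_q, T_y] M (Nat.sub (T_z u) (Nat.mod (T_z u) M)) (nat_lit 40) (Nat.mod (T_z u) M) u) (Nat.ble (nat_lit 358) j)
noncomputable def dp_z_339 (j u : ℕ) : Bool :=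
  Bool.rec (motive := fun _ => Bool) (lF [T_y, T_y, T_y, T_z, T_q, T_y, T_z, T_q, T_y, T_z, T_q, T_yi, T_q, T_z, T_yi, T_q, T_z, T_yi, T_yi, T_yi, T_z, T_y, T_y, T_y, T_z, T_q, T_y, T_z, T_q, T_y, T_z, T_q, T_yi, T_q, T_z, T_yi, T_q, T_z, T_yi, T_yi, T_yi, T_z, T_y, T_y, T_y, T_z, T_q, T_y, T_z, T_q, T_y, T_z, T_q, T_z, T_yi, T_q, T_z, T_yi, T_q, T_z, T_yi, T_yi, T_yi] M (Nat.sub (T_z u) (Nat.mod (T_z u) M)) (Nat.mod (T_z u) M) u) (dp_z_338 j u) (Nat.ble (nat_lit 357) j)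
noncomputable def dp_z_340 (j u : ℕ) : Bool :=
  Bool.rec (motive := fun _ => Bool) (lH [] [] M (Nat.sub (T_z u) (Nat.mod (T_z u) M)) (Nat.mod (T_z u) M) u) (lS MG [T_yi, T_q, T_z, T_yi, T_q, T_z, T_yi, T_yi, T_yi, T_z, T_y, T_y, T_y, T_z, T_q, T_y, T_z, T_q, T_y, T_z, T_q, T_z, T_yi, T_q, T_z, T_yi, T_q, T_z, T_yi, T_yi, T_yi, T_z, T_y, T_y, T_y, T_z, T_q, T_y, T_z, T_q, T_y, T_q, T_z, T_yi, T_q, T_z, T_yi, T_q, T_z, T_yi, T_yi, T_yi, T_z, T_y, T_y, T_y, T_z, T_q, T_y, T_z, T_q, T_y, T_q] M (Nat.sub (T_z u) (Nat.mod (T_z u) M)) (nat_lit 40) (Nat.mod (T_z u) M) u) (Nat.ble (nat_lit 360) j)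
noncomputable def dp_z_341 (j u : ℕ) : Bool :=
  Bool.rec (motive := fun _ => Bool) (lS MG [T_yi, T_yi, T_yi, T_z, T_y, T_y, T_y, T_z, T_q, T_y, T_z, T_q, T_y, T_z, T_q, T_z, T_yi, T_q, T_z, T_yi, T_q, T_z, T_yi, T_yi, T_yi, T_z, T_y, T_y, T_y, T_z, T_q, T_y, T_z, T_q, T_y, T_z, T_q, T_yi, T_q, T_z, T_yi, T_q, T_z, T_yi, T_yi, T_yi, T_z, T_y, T_y, T_y, T_z, T_q, T_y, T_z, T_q, T_y, T_z, T_q, T_yi, T_q, T_z, T_yi, T_q] M (Nat.sub (T_z u) (Nat.mod (T_z u) M)) (nat_lit 40) (Nat.mod (T_z u) M) u) (lS MG [T_q, T_y, T_z, T_q, T_y, T_z, T_q, T_yi, T_q, T_z, T_yi, T_q, T_z, T_yi, T_yi, T_yi, T_z, T_y, T_y, T_y, T_z, T_q, T_y, T_z, T_q, T_y, T_z, T_q, T_z, T_yi, T_q, T_z, T_yi, T_q, T_z, T_yi, T_yi, T_yi, T_z, T_y, T_y, T_y, T_z, T_q, T_y, T_z, T_q, T_y, T_z, T_q, T_yi, T_q, T_z, T_yi, T_q, T_z, T_yi, T_yi, T_yi, T_z,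 T_y, T_y, T_y] M (Nat.sub (T_z u) (Nat.mod (T_z u) M)) (nat_lit 40) (Nat.mod (T_z u) M) u) (Nat.ble (nat_lit 363) j)
noncomputable def dp_z_342 (j u : ℕ) : Bool :=
  Bool.rec (motive := fun _ => Bool) (lF [T_y, T_y, T_y, T_z, T_q, T_y, T_z, T_q, T_y, T_q, T_z, T_yi, T_q, T_z, T_yi, T_q, T_z, T_yi, T_yi, T_yi, T_z, T_y, T_y, T_y, T_z, T_q, T_y, T_z, T_q, T_y, T_q, T_z, T_yi, T_q, T_z, T_yi, T_q, T_z, T_yi, T_yi, T_yi, T_z, T_y, T_y, T_y, T_z, T_q, T_y, T_z, T_q, T_y, T_z, T_q, T_z, T_yi, T_q, T_z, T_yi, T_q, T_z, T_yi, T_yi, T_yi] M (Nat.sub (T_z u) (Nat.mod (T_z u) M)) (Nat.mod (T_z u) M) u) (dp_z_341 j u) (Nat.ble (nat_lit 362) j)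
noncomputable def dp_z_343 (j u : ℕ) : Bool :=
  Bool.rec (motive := fun _ => Bool) (dp_z_340 j u) (dp_z_342 j u) (Nat.ble (nat_lit 361) j)
noncomputable def dp_z_344 (j u : ℕ) : Bool :=
  Bool.rec (motive := fun _ => Bool) (dp_z_339 j u) (dp_z_343 j u) (Nat.ble (nat_lit 359) j)
noncomputable def dp_z_345 (j u : ℕ) : Bool :=
  Bool.rec (motive := fun _ => Bool) (lF [T_yi, T_q, T_z, T_yi, T_q, T_z, T_yi, T_yi, T_yi, T_z, T_y, T_y, T_y, T_z, T_q, T_y, T_z, T_q, T_y, T_q, T_z, T_yi, T_q, T_z, T_yi, T_q, T_z, T_yi, T_yi, T_yi, T_z, T_y, T_y, T_y, T_z, T_q, T_y, T_z, T_q, T_y, T_z, T_q, T_z, T_yi, T_q, T_z, T_yi, T_q, T_z, T_yi, T_yi, T_yi, T_z, T_y, T_y, T_y, T_z, T_q, T_y, T_z, T_q, T_y, T_q] M (Nat.sub (T_z u) (Nat.mod (T_z u) M)) (Nat.mod (T_z u) M) u) (lF [T_q, T_yi, T_q, T_z, T_yi, T_q, T_z, T_yi, T_yi, T_yi,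 T_z, T_y, T_y, T_y, T_z, T_q, T_y, T_z, T_q, T_y, T_z, T_q, T_z, T_yi, T_q, T_z, T_yi, T_q, T_z, T_yi, T_yi, T_yi, T_z, T_y, T_y, T_y, T_z, T_q, T_y, T_z, T_q, T_y, T_z, T_q, T_yi, T_q, T_z, T_yi, T_q, T_z, T_yi, T_yi, T_yi, T_z, T_y, T_y, T_y, T_z, T_q, T_y, T_z, T_q, T_y] M (Nat.sub (T_z u) (Nat.mod (T_z u) M)) (Nat.mod (T_z u) M) u) (Nat.ble (nat_lit 365) j)
noncomputable def dp_z_346 (j u : ℕ) : Bool :=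
  Bool.rec (motive := fun _ => Bool) (lF [T_q, T_v, T_z, T_q, T_z, T_q, T_v, T_z, T_q, T_v, T_z, T_q, T_z, T_q] M (Nat.sub (T_z u) (Nat.mod (T_z u) M)) (Nat.mod (T_z u) M) u) (lS MG [T_q, T_y, T_z, T_q, T_y, T_q, T_z, T_yi, T_q, T_z, T_yi, T_q, T_z, T_yi, T_yi, T_yi, T_z, T_y, T_y, T_y, T_z, T_q, T_y, T_z, T_q, T_y, T_z, T_q, T_z, T_yi, T_q, T_z, T_yi, T_q, T_z, T_yi, T_yi, T_yi, T_z, T_y, T_y, T_y, T_z, T_q, T_y, T_z, T_q, T_y, T_q, T_z, T_yi, T_q, T_z, T_yi, T_q, T_z, T_yi, T_yi, T_yi, T_z, T_y, T_y, T_y] M (Nat.sub (T_z u) (Nat.mod (T_z u) M)) (nat_lit 40) (Nat.mod (T_z u) M) u) (Nat.ble (nat_lit 368) j)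
noncomputable def dp_z_347 (j u : ℕ) : Bool :=
  Bool.rec (motive := fun _ => Bool) (lS MG [T_q, T_z, T_q, T_z, T_q, T_v, T_z, T_q, T_z, T_q, T_z, T_q, T_z, T_q, T_v, T_z, T_q] M (Nat.sub (T_z u) (Nat.mod (T_z u) M)) (nat_lit 40) (Nat.mod (T_z u) M) u) (dp_z_346 j u) (Nat.ble (nat_lit 367) j)
noncomputable def dp_z_348 (j u : ℕ) : Bool :=
  Bool.rec (motive := fun _ => Bool) (dp_z_345 j u) (dp_z_347 j u) (Nat.ble (nat_lit 366) j)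
noncomputable def dp_z_349 (j u : ℕ) : Bool :=
  Bool.rec (motive := fun _ => Bool) (lF [T_yi, T_yi, T_yi, T_z, T_y, T_y, T_y, T_z, T_q, T_y, T_z, T_q, T_y, T_z, T_q, T_z, T_yi, T_q, T_z, T_yi, T_q, T_z, T_yi, T_yi, T_yi, T_z, T_y, T_y, T_y, T_z, T_q, T_y, T_z, T_q, T_y, T_z, T_q, T_yi, T_q, T_z, T_yi, T_q, T_z, T_yi, T_yi, T_yi, T_z, T_y, T_y, T_y, T_z, T_q, T_y, T_z, T_q, T_y, T_z, T_q, T_yi, T_q, T_z, T_yi, T_q] M (Nat.sub (T_z u) (Nat.mod (T_z u) M)) (Nat.mod (T_z u) M) u) (lS MG [T_yi, T_yi, T_yi, T_z, T_y, T_y, T_y, T_z, T_q, T_y, T_z, T_q, T_y, T_q, T_z, T_yi, T_q, T_z, T_yi, T_q, T_z, T_yi, T_yi, T_yi, T_z, T_y, T_y, T_y, T_z, T_q, T_y, T_z, T_q, T_y, T_z, T_q, T_z, T_yi, T_q, T_z, T_yi, T_q, T_z, T_yi, T_yi, T_yi, T_z, T_y, T_y, T_y, T_z, T_q, T_y, T_z, T_q, T_y, T_q, T_z, T_yi, T_q, T_z, T_yi, T_q]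 M (Nat.sub (T_z u) (Nat.mod (T_z u) M)) (nat_lit 40) (Nat.mod (T_z u) M) u) (Nat.ble (nat_lit 371) j)
noncomputable def dp_z_350 (j u : ℕ) : Bool :=
  Bool.rec (motive := fun _ => Bool) (lF [T_q, T_z, T_q, T_v, T_z, T_q, T_v, T_z, T_q, T_z, T_q, T_z, T_q, T_v] M (Nat.sub (T_z u) (Nat.mod (T_z u) M)) (Nat.mod (T_z u) M) u) (dp_z_349 j u) (Nat.ble (nat_lit 370) j)
noncomputable def dp_z_351 (j u : ℕ) : Bool :=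
  Bool.rec (motive := fun _ => Bool) (lS MG [T_yi, T_yi, T_yi, T_z, T_y, T_y, T_y, T_z, T_q, T_y, T_z, T_q, T_y, T_z, T_q, T_yi, T_q, T_z, T_yi, T_q, T_z, T_yi, T_yi, T_yi, T_z, T_y, T_y, T_y, T_z, T_q, T_y, T_z, T_q, T_y, T_z, T_q, T_yi, T_q, T_z, T_yi, T_q, T_z, T_yi, T_yi, T_yi, T_z, T_y, T_y, T_y, T_z, T_q, T_y, T_z, T_q, T_y, T_z, T_q, T_z, T_yi, T_q, T_z, T_yi, T_q] M (Nat.sub (T_z u) (Nat.mod (T_z u) M)) (nat_lit 40) (Nat.mod (T_z u) M) u) (lF [T_y, T_y, T_y, T_z, T_q, T_y, T_z, T_q, T_y, T_z, T_q, T_z, T_yi, T_q, T_z, T_yi, T_q, T_z, T_yi, T_yi, T_yi, T_z, T_y, T_y, T_y, T_z, T_q, T_y, T_z, T_q, T_y, T_z, T_q, T_yi, T_q, T_z, T_yi, T_q, T_z, T_yi, T_yi, T_yi, T_z, T_y, T_y, T_y, T_z, T_q, T_y, T_z, T_q, T_y, T_z, T_q, T_yi, T_q, T_z, T_yi, T_q, T_z, T_yi, T_yi, T_yi] M (Nat.sub (T_z u) (Nat.mod (T_z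 u) M)) (Nat.mod (T_z u) M) u) (Nat.ble (nat_lit 374) j)
noncomputable def dp_z_352 (j u : ℕ) : Bool :=
  Bool.rec (motive := fun _ => Bool) (lS MG [T_q, T_v, T_z, T_q, T_z, T_q, T_v, T_z, T_q, T_v, T_z, T_q, T_z, T_q] M (Nat.sub (T_z u) (Nat.mod (T_z u) M)) (nat_lit 40) (Nat.mod (T_z u) M) u) (dp_z_351 j u) (Nat.ble (nat_lit 373) j)
noncomputable def dp_z_353 (j u : ℕ) : Bool :=
  Bool.rec (motive := fun _ => Bool) (dp_z_350 j u) (dp_z_352 j u) (Nat.ble (nat_lit 372) j)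
noncomputable def dp_z_354 (j u : ℕ) : Bool :=
  Bool.rec (motive := fun _ => Bool) (dp_z_348 j u) (dp_z_353 j u) (Nat.ble (nat_lit 369) j)
noncomputable def dp_z_355 (j u : ℕ) : Bool :=
  Bool.rec (motive := fun _ => Bool) (dp_z_344 j u) (dp_z_354 j u) (Nat.ble (nat_lit 364) j)
noncomputable def dp_z_356 (j u : ℕ) : Bool :=
  Bool.rec (motive := fun _ => Bool) (dp_z_337 j u) (dp_z_355 j u) (Nat.ble (nat_lit 356) j)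
noncomputable def dp_z_357 (j u : ℕ) : Bool :=
  Bool.rec (motive := fun _ => Bool) (dp_z_329 j u) (dp_z_356 j u) (Nat.ble (nat_lit 347) j)
noncomputable def dp_z_358 (j u : ℕ) : Bool :=
  Bool.rec (motive := fun _ => Bool) (dp_z_323 j u) (dp_z_357 j u) (Nat.ble (nat_lit 340) j)
noncomputable def dp_z_359 (j u : ℕ) : Bool :=
  Bool.rec (motive := fun _ => Bool) (dp_z_315 j u) (dp_z_358 j u) (Nat.ble (nat_lit 331) j)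
noncomputable def dp_z_360 (j u : ℕ) : Bool :=
  Bool.rec (motive := fun _ => Bool) (dp_z_305 j u) (dp_z_359 j u) (Nat.ble (nat_lit 320) j)
noncomputable def dp_z_361 (j u : ℕ) : Bool :=
  Bool.rec (motive := fun _ => Bool) (dp_z_291 j u) (dp_z_360 j u) (Nat.ble (nat_lit 305) j)
noncomputable def dp_z_362 (j u : ℕ) : Bool :=
  Bool.rec (motive := fun _ => Bool) (dp_z_272 j u) (dp_z_361 j u) (Nat.ble (nat_lit 285) j)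
noncomputable def dp_z_363 (j u : ℕ) : Bool :=
  Bool.rec (motive := fun _ => Bool) (dp_z_244 j u) (dp_z_362 j u) (Nat.ble (nat_lit 256) j)
noncomputable def dp_z_364 (j u : ℕ) : Bool :=
  Bool.rec (motive := fun _ => Bool) (dp_z_206 j u) (dp_z_363 j u) (Nat.ble (nat_lit 217) j)
noncomputable def dp_z_365 (j u : ℕ) : Bool :=
  Bool.rec (motive := fun _ => Bool) (dp_z_158 j u) (dp_z_364 j u) (Nat.ble (nat_lit 168) j)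
noncomputable def dp_z_366 (j u : ℕ) : Bool :=
  Bool.rec (motive := fun _ => Bool) (dp_z_100 j u) (dp_z_365 j u) (Nat.ble (nat_lit 109) j)
noncomputable def dp_z_367 (j u : ℕ) : Bool :=
  Bool.rec (motive := fun _ => Bool) (dp_z_47 j u) (dp_z_366 j u) (Nat.ble (nat_lit 55) j)
noncomputable def dp_z_368 (j u : ℕ) : Bool :=
  Bool.rec (motive := fun _ => Bool) (dp_z_17 j u) (dp_z_367 j u) (Nat.ble (nat_lit 24) j)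
noncomputable def dp_z_369 (j u : ℕ) : Bool :=
  Bool.rec (motive := fun _ => Bool) (dp_z_5 j u) (dp_z_368 j u) (Nat.ble (nat_lit 11) j)
noncomputable def disp_z (j u : ℕ) : Bool :=
  Bool.rec (motive := fun _ => Bool) (Bool.rec (motive := fun _ => Bool) (lF1 T_z M (Nat.sub (T_z u) (Nat.mod (T_z u) M)) (Nat.mod (T_z u) M) u) (lDef P (nat_lit 2) (Nat.mod (T_z u) M) u) (Nat.ble (nat_lit 1) j)) (Bool.rec (motive := fun _ => Bool) (Bool.rec (motive := fun _ => Bool) (lDef P (nat_lit 2) u (Nat.mod (T_z u) M)) (lF [T_v, T_q, T_v, T_z, T_v, T_q, T_v] M (Nat.sub (T_z u) (Nat.mod (T_z u) M)) (Nat.mod (T_z u) M) u) (Nat.ble (nat_lit 3) j)) (dp_z_369 j u) (Nat.ble (nat_lit 4) j)) (Nat.ble (nat_lit 2) j)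
noncomputable def chk_z (j u : ℕ) : Bool :=
  Bool.rec (motive := fun _ => Bool) (disp_z j u) (Nat.ble (Nat.succ (MG u)) A) (Nat.ble A (T_z u))
noncomputable def dp_q_0 (j u : ℕ) : Bool :=
  Bool.rec (motive := fun _ => Bool) (lF [T_y, T_q, T_yi, T_q, T_y, T_q, T_yi] M (Nat.sub (T_q u) (Nat.mod (T_q u) M)) (Nat.mod (T_q u) M) u) (lF [T_yi, T_q, T_y, T_q, T_yi, T_q, T_y] M (Nat.sub (T_q u) (Nat.mod (T_q u) M)) (Nat.mod (T_q u) M) u) (Nat.ble (nat_lit 5) j)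
noncomputable def dp_q_1 (j u : ℕ) : Bool :=
  Bool.rec (motive := fun _ => Bool) (lF [T_z, T_q, T_z, T_q, T_z, T_q, T_z] M (Nat.sub (T_q u) (Nat.mod (T_q u) M)) (Nat.mod (T_q u) M) u) (lS MG [T_q] M (Nat.sub (T_q u) (Nat.mod (T_q u) M)) (nat_lit 40) (Nat.mod (T_q u) M) u) (Nat.ble (nat_lit 7) j)
noncomputable def dp_q_2 (j u : ℕ) : Bool :=
  Bool.rec (motive := fun _ => Bool) (lF [T_z, T_q, T_yi, T_z, T_q, T_z, T_q, T_y, T_z] M (Nat.sub (T_q u) (Nat.mod (T_q u) M)) (Nat.mod (T_q u) M) u) (lF [T_z, T_y, T_q, T_z, T_q, T_z, T_yi, T_q, T_z] M (Nat.sub (T_q u) (Nat.mod (T_q u) M)) (Nat.mod (T_q u) M) u) (Nat.ble (nat_lit 9) j)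
noncomputable def dp_q_3 (j u : ℕ) : Bool :=
  Bool.rec (motive := fun _ => Bool) (lF [T_z, T_v, T_q, T_z, T_q, T_z, T_v, T_z, T_q, T_v] M (Nat.sub (T_q u) (Nat.mod (T_q u) M)) (Nat.mod (T_q u) M) u) (lF [T_z, T_q, T_z, T_y, T_q, T_z, T_q, T_z, T_yi] M (Nat.sub (T_q u) (Nat.mod (T_q u) M)) (Nat.mod (T_q u) M) u) (Nat.ble (nat_lit 12) j)
noncomputable def dp_q_4 (j u : ℕ) : Bool :=
  Bool.rec (motive := fun _ => Bool) (lF [T_yi, T_z, T_q, T_z, T_q, T_y, T_z, T_q, T_z] M (Nat.sub (T_q u) (Nat.mod (T_q u) M)) (Nat.mod (T_q u) M) u) (dp_q_3 j u) (Nat.ble (nat_lit 11) j)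
noncomputable def dp_q_5 (j u : ℕ) : Bool :=
  Bool.rec (motive := fun _ => Bool) (dp_q_2 j u) (dp_q_4 j u) (Nat.ble (nat_lit 10) j)
noncomputable def dp_q_6 (j u : ℕ) : Bool :=
  Bool.rec (motive := fun _ => Bool) (lS MG [T_v, T_z, T_v, T_q, T_v, T_z, T_v] M (Nat.sub (T_q u) (Nat.mod (T_q u) M)) (nat_lit 40) (Nat.mod (T_q u) M) u) (lF [T_v, T_q, T_z, T_v, T_q, T_z, T_q, T_z, T_v, T_z] M (Nat.sub (T_q u) (Nat.mod (T_q u) M)) (Nat.mod (T_q u) M) u) (Nat.ble (nat_lit 15) j)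
noncomputable def dp_q_7 (j u : ℕ) : Bool :=
  Bool.rec (motive := fun _ => Bool) (lF [T_z, T_q, T_z, T_yi, T_q, T_z, T_q, T_z, T_y] M (Nat.sub (T_q u) (Nat.mod (T_q u) M)) (Nat.mod (T_q u) M) u) (dp_q_6 j u) (Nat.ble (nat_lit 14) j)
noncomputable def dp_q_8 (j u : ℕ) : Bool :=
  Bool.rec (motive := fun _ => Bool) (lF [T_y, T_z, T_q, T_z, T_q, T_yi, T_z, T_q, T_z] M (Nat.sub (T_q u) (Nat.mod (T_q u) M)) (Nat.mod (T_q u) M) u) (lS MG [T_y, T_q, T_yi, T_q, T_y, T_q, T_yi] M (Nat.sub (T_q u) (Nat.mod (T_q u) M)) (nat_lit 40) (Nat.mod (T_q u) M) u) (Nat.ble (nat_lit 17) j)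
noncomputable def dp_q_9 (j u : ℕ) : Bool :=
  Bool.rec (motive := fun _ => Bool) (lS MG [T_yi, T_q, T_y, T_q, T_yi, T_q, T_y] M (Nat.sub (T_q u) (Nat.mod (T_q u) M)) (nat_lit 40) (Nat.mod (T_q u) M) u) (lF [T_z, T_q, T_y, T_z, T_q, T_z, T_q, T_yi, T_z] M (Nat.sub (T_q u) (Nat.mod (T_q u) M)) (Nat.mod (T_q u) M) u) (Nat.ble (nat_lit 19) j)
noncomputable def dp_q_10 (j u : ℕ) : Bool :=
  Bool.rec (motive := fun _ => Bool) (dp_q_8 j u) (dp_q_9 j u) (Nat.ble (nat_lit 18) j)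
noncomputable def dp_q_11 (j u : ℕ) : Bool :=
  Bool.rec (motive := fun _ => Bool) (dp_q_7 j u) (dp_q_10 j u) (Nat.ble (nat_lit 16) j)
noncomputable def dp_q_12 (j u : ℕ) : Bool :=
  Bool.rec (motive := fun _ => Bool) (dp_q_5 j u) (dp_q_11 j u) (Nat.ble (nat_lit 13) j)
noncomputable def dp_q_13 (j u : ℕ) : Bool :=
  Bool.rec (motive := fun _ => Bool) (lF [T_z, T_yi, T_q, T_z, T_q, T_z, T_y, T_q, T_z] M (Nat.sub (T_q u) (Nat.mod (T_q u) M)) (Nat.mod (T_q u) M) u) (lS MG [T_z, T_q, T_z, T_q, T_z, T_q, T_z] M (Nat.sub (T_q u) (Nat.mod (T_q u) M)) (nat_lit 40) (Nat.mod (T_q u) M) u) (Nat.ble (nat_lit 21) j)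
noncomputable def dp_q_14 (j u : ℕ) : Bool :=
  Bool.rec (motive := fun _ => Bool) (lF [T_y, T_q, T_y, T_q, T_y, T_q, T_y, T_q, T_y, T_q, T_y] M (Nat.sub (T_q u) (Nat.mod (T_q u) M)) (Nat.mod (T_q u) M) u) (lF [T_yi, T_q, T_yi, T_q, T_yi, T_q, T_yi, T_q, T_yi, T_q, T_yi] M (Nat.sub (T_q u) (Nat.mod (T_q u) M)) (Nat.mod (T_q u) M) u) (Nat.ble (nat_lit 23) j)
noncomputable def dp_q_15 (j u : ℕ) : Bool :=
  Bool.rec (motive := fun _ => Bool) (lF [T_y, T_y, T_q, T_yi, T_yi, T_q, T_y, T_y, T_q, T_yi, T_yi] M (Nat.sub (T_q u) (Nat.mod (T_q u) M)) (Nat.mod (T_q u) M) u) (lF [T_yi, T_yi, T_q, T_y, T_y, T_q, T_yi, T_yi, T_q, T_y, T_y] M (Nat.sub (T_q u) (Nat.mod (T_q u) M)) (Nat.mod (T_q u) M) u) (Nat.ble (nat_lit 25) j)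
noncomputable def dp_q_16 (j u : ℕ) : Bool :=
  Bool.rec (motive := fun _ => Bool) (dp_q_14 j u) (dp_q_15 j u) (Nat.ble (nat_lit 24) j)
noncomputable def dp_q_17 (j u : ℕ) : Bool :=
  Bool.rec (motive := fun _ => Bool) (dp_q_13 j u) (dp_q_16 j u) (Nat.ble (nat_lit 22) j)
noncomputable def dp_q_18 (j u : ℕ) : Bool :=
  Bool.rec (motive := fun _ => Bool) (lF [T_y, T_z, T_yi, T_z, T_y, T_q, T_yi, T_z, T_y, T_z, T_yi] M (Nat.sub (T_q u) (Nat.mod (T_q u) M)) (Nat.mod (T_q u) M) u) (lF [T_yi, T_z, T_q, T_z, T_y, T_q, T_yi, T_z, T_q, T_z, T_y] M (Nat.sub (T_q u) (Nat.mod (T_q u) M)) (Nat.mod (T_q u) M) u) (Nat.ble (nat_lit 28) j)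
noncomputable def dp_q_19 (j u : ℕ) : Bool :=
  Bool.rec (motive := fun _ => Bool) (lF [T_yi, T_z, T_y, T_z, T_yi, T_q, T_y, T_z, T_yi, T_z, T_y] M (Nat.sub (T_q u) (Nat.mod (T_q u) M)) (Nat.mod (T_q u) M) u) (dp_q_18 j u) (Nat.ble (nat_lit 27) j)
noncomputable def dp_q_20 (j u : ℕ) : Bool :=
  Bool.rec (motive := fun _ => Bool) (lS MG [T_z, T_v, T_q, T_z, T_q, T_z, T_v, T_z, T_q, T_v] M (Nat.sub (T_q u) (Nat.mod (T_q u) M)) (nat_lit 40) (Nat.mod (T_q u) M) u) (lS MG [T_z, T_q, T_yi, T_z, T_q, T_z, T_q, T_y, T_z] M (Nat.sub (T_q u) (Nat.mod (T_q u) M)) (nat_lit 40) (Nat.mod (T_q u) M) u) (Nat.ble (nat_lit 31) j)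
noncomputable def dp_q_21 (j u : ℕ) : Bool :=
  Bool.rec (motive := fun _ => Bool) (lF [T_y, T_z, T_q, T_z, T_yi, T_q, T_y, T_z, T_q, T_z, T_yi] M (Nat.sub (T_q u) (Nat.mod (T_q u) M)) (Nat.mod (T_q u) M) u) (dp_q_20 j u) (Nat.ble (nat_lit 30) j)
noncomputable def dp_q_22 (j u : ℕ) : Bool :=
  Bool.rec (motive := fun _ => Bool) (dp_q_19 j u) (dp_q_21 j u) (Nat.ble (nat_lit 29) j)
noncomputable def dp_q_23 (j u : ℕ) : Bool :=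
  Bool.rec (motive := fun _ => Bool) (lS MG [T_v, T_q, T_z, T_v, T_q, T_z, T_q, T_z, T_v, T_z] M (Nat.sub (T_q u) (Nat.mod (T_q u) M)) (nat_lit 40) (Nat.mod (T_q u) M) u) (lS MG [T_yi, T_z, T_q, T_z, T_q, T_y, T_z, T_q, T_z] M (Nat.sub (T_q u) (Nat.mod (T_q u) M)) (nat_lit 40) (Nat.mod (T_q u) M) u) (Nat.ble (nat_lit 33) j)
noncomputable def dp_q_24 (j u : ℕ) : Bool :=
  Bool.rec (motive := fun _ => Bool) (lF [T_z, T_q, T_v, T_q, T_z, T_q, T_v, T_q, T_z, T_q, T_v] M (Nat.sub (T_q u) (Nat.mod (T_q u) M)) (Nat.mod (T_q u) M) u) (lS MG [T_z, T_y, T_q, T_z, T_q, T_z, T_yi, T_q, T_z] M (Nat.sub (T_q u) (Nat.mod (T_q u) M)) (nat_lit 40) (Nat.mod (T_q u) M) u) (Nat.ble (nat_lit 35) j)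
noncomputable def dp_q_25 (j u : ℕ) : Bool :=
  Bool.rec (motive := fun _ => Bool) (dp_q_23 j u) (dp_q_24 j u) (Nat.ble (nat_lit 34) j)
noncomputable def dp_q_26 (j u : ℕ) : Bool :=
  Bool.rec (motive := fun _ => Bool) (lS MG [T_z, T_q, T_z, T_y, T_q, T_z, T_q, T_z, T_yi] M (Nat.sub (T_q u) (Nat.mod (T_q u) M)) (nat_lit 40) (Nat.mod (T_q u) M) u) (lS MG [T_y, T_q, T_y, T_q, T_y, T_q, T_y, T_q, T_y, T_q, T_y] M (Nat.sub (T_q u) (Nat.mod (T_q u) M)) (nat_lit 40) (Nat.mod (T_q u) M) u) (Nat.ble (nat_lit 37) j)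
noncomputable def dp_q_27 (j u : ℕ) : Bool :=
  Bool.rec (motive := fun _ => Bool) (lF [T_v, T_q, T_z, T_q, T_v, T_q, T_z, T_q, T_v, T_q, T_z] M (Nat.sub (T_q u) (Nat.mod (T_q u) M)) (Nat.mod (T_q u) M) u) (lS MG [T_z, T_q, T_z, T_yi, T_q, T_z, T_q, T_z, T_y] M (Nat.sub (T_q u) (Nat.mod (T_q u) M)) (nat_lit 40) (Nat.mod (T_q u) M) u) (Nat.ble (nat_lit 39) j)
noncomputable def dp_q_28 (j u : ℕ) : Bool :=
  Bool.rec (motive := fun _ => Bool) (dp_q_26 j u) (dp_q_27 j u) (Nat.ble (nat_lit 38) j)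
noncomputable def dp_q_29 (j u : ℕ) : Bool :=
  Bool.rec (motive := fun _ => Bool) (dp_q_25 j u) (dp_q_28 j u) (Nat.ble (nat_lit 36) j)
noncomputable def dp_q_30 (j u : ℕ) : Bool :=
  Bool.rec (motive := fun _ => Bool) (dp_q_22 j u) (dp_q_29 j u) (Nat.ble (nat_lit 32) j)
noncomputable def dp_q_31 (j u : ℕ) : Bool :=
  Bool.rec (motive := fun _ => Bool) (dp_q_17 j u) (dp_q_30 j u) (Nat.ble (nat_lit 26) j)
noncomputable def dp_q_32 (j u : ℕ) : Bool :=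
  Bool.rec (motive := fun _ => Bool) (lF [T_z, T_v, T_z, T_q, T_z, T_q, T_v, T_z, T_q, T_v] M (Nat.sub (T_q u) (Nat.mod (T_q u) M)) (Nat.mod (T_q u) M) u) (lS MG [T_yi, T_q, T_yi, T_q, T_yi, T_q, T_yi, T_q, T_yi, T_q, T_yi] M (Nat.sub (T_q u) (Nat.mod (T_q u) M)) (nat_lit 40) (Nat.mod (T_q u) M) u) (Nat.ble (nat_lit 41) j)
noncomputable def dp_q_33 (j u : ℕ) : Bool :=
  Bool.rec (motive := fun _ => Bool) (lF [T_z, T_q, T_z, T_v, T_z, T_q, T_v, T_q, T_z, T_v] M (Nat.sub (T_q u) (Nat.mod (T_q u) M)) (Nat.mod (T_q u) M) u) (lF [T_v, T_z, T_q, T_v, T_q, T_z, T_v, T_z, T_q, T_z] M (Nat.sub (T_q u) (Nat.mod (T_q u) M)) (Nat.mod (T_q u) M) u) (Nat.ble (nat_lit 44) j)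
noncomputable def dp_q_34 (j u : ℕ) : Bool :=
  Bool.rec (motive := fun _ => Bool) (lS MG [T_y, T_z, T_q, T_z, T_q, T_yi, T_z, T_q, T_z] M (Nat.sub (T_q u) (Nat.mod (T_q u) M)) (nat_lit 40) (Nat.mod (T_q u) M) u) (dp_q_33 j u) (Nat.ble (nat_lit 43) j)
noncomputable def dp_q_35 (j u : ℕ) : Bool :=
  Bool.rec (motive := fun _ => Bool) (dp_q_32 j u) (dp_q_34 j u) (Nat.ble (nat_lit 42) j)
noncomputable def dp_q_36 (j u : ℕ) : Bool :=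
  Bool.rec (motive := fun _ => Bool) (lF [T_v, T_q, T_v, T_q, T_v, T_q, T_v, T_q, T_v, T_q, T_v] M (Nat.sub (T_q u) (Nat.mod (T_q u) M)) (Nat.mod (T_q u) M) u) (lF [T_v, T_q, T_z, T_v, T_z, T_q, T_z, T_q, T_v, T_z] M (Nat.sub (T_q u) (Nat.mod (T_q u) M)) (Nat.mod (T_q u) M) u) (Nat.ble (nat_lit 47) j)
noncomputable def dp_q_37 (j u : ℕ) : Bool :=
  Bool.rec (motive := fun _ => Bool) (lS MG [T_yi, T_yi, T_q, T_y, T_y, T_q, T_yi, T_yi, T_q, T_y, T_y] M (Nat.sub (T_q u) (Nat.mod (T_q u) M)) (nat_lit 40) (Nat.mod (T_q u) M) u) (dp_q_36 j u) (Nat.ble (nat_lit 46) j)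
noncomputable def dp_q_38 (j u : ℕ) : Bool :=
  Bool.rec (motive := fun _ => Bool) (lS MG [T_y, T_y, T_q, T_yi, T_yi, T_q, T_y, T_y, T_q, T_yi, T_yi] M (Nat.sub (T_q u) (Nat.mod (T_q u) M)) (nat_lit 40) (Nat.mod (T_q u) M) u) (lS MG [T_z, T_q, T_y, T_z, T_q, T_z, T_q, T_yi, T_z] M (Nat.sub (T_q u) (Nat.mod (T_q u) M)) (nat_lit 40) (Nat.mod (T_q u) M) u) (Nat.ble (nat_lit 49) j)
noncomputable def dp_q_39 (j u : ℕ) : Bool :=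
  Bool.rec (motive := fun _ => Bool) (lS MG [T_y, T_z, T_yi, T_z, T_y, T_q, T_yi, T_z, T_y, T_z, T_yi] M (Nat.sub (T_q u) (Nat.mod (T_q u) M)) (nat_lit 40) (Nat.mod (T_q u) M) u) (lS MG [T_yi, T_z, T_y, T_z, T_yi, T_q, T_y, T_z, T_yi, T_z, T_y] M (Nat.sub (T_q u) (Nat.mod (T_q u) M)) (nat_lit 40) (Nat.mod (T_q u) M) u) (Nat.ble (nat_lit 51) j)
noncomputable def dp_q_40 (j u : ℕ) : Bool :=
  Bool.rec (motive := fun _ => Bool) (dp_q_38 j u) (dp_q_39 j u) (Nat.ble (nat_lit 50) j)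
noncomputable def dp_q_41 (j u : ℕ) : Bool :=
  Bool.rec (motive := fun _ => Bool) (dp_q_37 j u) (dp_q_40 j u) (Nat.ble (nat_lit 48) j)
noncomputable def dp_q_42 (j u : ℕ) : Bool :=
  Bool.rec (motive := fun _ => Bool) (dp_q_35 j u) (dp_q_41 j u) (Nat.ble (nat_lit 45) j)
noncomputable def dp_q_43 (j u : ℕ) : Bool :=
  Bool.rec (motive := fun _ => Bool) (lS MG [T_z, T_yi, T_q, T_z, T_q, T_z, T_y, T_q, T_z] M (Nat.sub (T_q u) (Nat.mod (T_q u) M)) (nat_lit 40) (Nat.mod (T_q u) M) u) (lF [T_yi, T_q, T_z, T_y, T_q, T_yi, T_q, T_z, T_y, T_z, T_q, T_yi, T_q, T_y, T_z] M (Nat.sub (T_q u) (Nat.mod (T_q u) M)) (Nat.mod (T_q u) M) u) (Nat.ble (nat_lit 53) j)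
noncomputable def dp_q_44 (j u : ℕ) : Bool :=
  Bool.rec (motive := fun _ => Bool) (lF [T_y, T_q, T_yi, T_z, T_q, T_y, T_q, T_z, T_yi, T_q, T_y, T_q, T_z, T_yi, T_z] M (Nat.sub (T_q u) (Nat.mod (T_q u) M)) (Nat.mod (T_q u) M) u) (lS MG [T_yi, T_z, T_q, T_z, T_y, T_q, T_yi, T_z, T_q, T_z, T_y] M (Nat.sub (T_q u) (Nat.mod (T_q u) M)) (nat_lit 40) (Nat.mod (T_q u) M) u) (Nat.ble (nat_lit 56) j)
noncomputable def dp_q_45 (j u : ℕ) : Bool :=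
  Bool.rec (motive := fun _ => Bool) (lF [T_y, T_q, T_z, T_yi, T_q, T_y, T_q, T_z, T_yi, T_z, T_q, T_y, T_q, T_yi, T_z] M (Nat.sub (T_q u) (Nat.mod (T_q u) M)) (Nat.mod (T_q u) M) u) (dp_q_44 j u) (Nat.ble (nat_lit 55) j)
noncomputable def dp_q_46 (j u : ℕ) : Bool :=
  Bool.rec (motive := fun _ => Bool) (dp_q_43 j u) (dp_q_45 j u) (Nat.ble (nat_lit 54) j)
noncomputable def dp_q_47 (j u : ℕ) : Bool :=
  Bool.rec (motive := fun _ => Bool) (lS MG [T_y, T_z, T_q, T_z, T_yi, T_q, T_y, T_z, T_q, T_z, T_yi] M (Nat.sub (T_q u) (Nat.mod (T_q u) M)) (nat_lit 40) (Nat.mod (T_q u) M) u) (lF [T_yi, T_z, T_yi, T_z, T_y, T_z, T_y, T_q, T_yi, T_z, T_yi, T_z, T_y, T_z, T_y] M (Nat.sub (T_q u) (Nat.mod (T_q u) M)) (Nat.mod (T_q u) M) u) (Nat.ble (nat_lit 59) j)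
noncomputable def dp_q_48 (j u : ℕ) : Bool :=
  Bool.rec (motive := fun _ => Bool) (lF [T_z, T_v, T_z, T_q, T_v, T_q, T_z, T_v, T_q, T_z] M (Nat.sub (T_q u) (Nat.mod (T_q u) M)) (Nat.mod (T_q u) M) u) (dp_q_47 j u) (Nat.ble (nat_lit 58) j)
noncomputable def dp_q_49 (j u : ℕ) : Bool :=
  Bool.rec (motive := fun _ => Bool) (lS MG [T_z, T_q, T_v, T_q, T_z, T_q, T_v, T_q, T_z, T_q, T_v] M (Nat.sub (T_q u) (Nat.mod (T_q u) M)) (nat_lit 40) (Nat.mod (T_q u) M) u) (lF [T_z, T_y, T_q, T_yi, T_z, T_q, T_z, T_y, T_q, T_yi, T_z] M (Nat.sub (T_q u) (Nat.mod (T_q u) M)) (Nat.mod (T_q u) M) u) (Nat.ble (nat_lit 61) j)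
noncomputable def dp_q_50 (j u : ℕ) : Bool :=
  Bool.rec (motive := fun _ => Bool) (lS MG [T_v, T_q, T_v, T_q, T_v, T_q, T_v, T_q, T_v, T_q, T_v] M (Nat.sub (T_q u) (Nat.mod (T_q u) M)) (nat_lit 40) (Nat.mod (T_q u) M) u) (lF [T_y, T_z, T_y, T_z, T_yi, T_z, T_yi, T_q, T_y, T_z, T_y, T_z, T_yi, T_z, T_yi] M (Nat.sub (T_q u) (Nat.mod (T_q u) M)) (Nat.mod (T_q u) M) u) (Nat.ble (nat_lit 63) j)
noncomputable def dp_q_51 (j u : ℕ) : Bool :=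
  Bool.rec (motive := fun _ => Bool) (dp_q_49 j u) (dp_q_50 j u) (Nat.ble (nat_lit 62) j)
noncomputable def dp_q_52 (j u : ℕ) : Bool :=
  Bool.rec (motive := fun _ => Bool) (dp_q_48 j u) (dp_q_51 j u) (Nat.ble (nat_lit 60) j)
noncomputable def dp_q_53 (j u : ℕ) : Bool :=
  Bool.rec (motive := fun _ => Bool) (dp_q_46 j u) (dp_q_52 j u) (Nat.ble (nat_lit 57) j)
noncomputable def dp_q_54 (j u : ℕ) : Bool :=
  Bool.rec (motive := fun _ => Bool) (lF [T_z, T_y, T_q, T_yi, T_q, T_z, T_y, T_z, T_q, T_yi, T_q, T_y, T_z, T_q, T_yi] M (Nat.sub (T_q u) (Nat.mod (T_q u) M)) (Nat.mod (T_q u) M) u) (lF [T_z, T_yi, T_q, T_y, T_q, T_z, T_yi, T_z, T_q, T_y, T_q, T_yi, T_z, T_q, T_y] M (Nat.sub (T_q u) (Nat.mod (T_q u) M)) (Nat.mod (T_q u) M) u) (Nat.ble (nat_lit 65) j)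
noncomputable def dp_q_55 (j u : ℕ) : Bool :=
  Bool.rec (motive := fun _ => Bool) (lF [T_yi, T_yi, T_yi, T_q, T_yi, T_yi, T_yi, T_q, T_y, T_y, T_y, T_q, T_yi, T_yi, T_yi] M (Nat.sub (T_q u) (Nat.mod (T_q u) M)) (Nat.mod (T_q u) M) u) (lF [T_z, T_yi, T_q, T_y, T_z, T_q, T_z, T_yi, T_q, T_y, T_z] M (Nat.sub (T_q u) (Nat.mod (T_q u) M)) (Nat.mod (T_q u) M) u) (Nat.ble (nat_lit 67) j)
noncomputable def dp_q_56 (j u : ℕ) : Bool :=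
  Bool.rec (motive := fun _ => Bool) (dp_q_54 j u) (dp_q_55 j u) (Nat.ble (nat_lit 66) j)
noncomputable def dp_q_57 (j u : ℕ) : Bool :=
  Bool.rec (motive := fun _ => Bool) (lF [T_yi, T_q, T_y, T_z, T_q, T_yi, T_q, T_z, T_y, T_q, T_yi, T_q, T_z, T_y, T_z] M (Nat.sub (T_q u) (Nat.mod (T_q u) M)) (Nat.mod (T_q u) M) u) (lF [T_v, T_q, T_v, T_z, T_q, T_z, T_v, T_z, T_v, T_z, T_q, T_z, T_v] M (Nat.sub (T_q u) (Nat.mod (T_q u) M)) (Nat.mod (T_q u) M) u) (Nat.ble (nat_lit 69) j)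
noncomputable def dp_q_58 (j u : ℕ) : Bool :=
  Bool.rec (motive := fun _ => Bool) (lS MG [T_yi, T_q, T_z, T_y, T_q, T_yi, T_q, T_z, T_y, T_z, T_q, T_yi, T_q, T_y, T_z] M (Nat.sub (T_q u) (Nat.mod (T_q u) M)) (nat_lit 40) (Nat.mod (T_q u) M) u) (lS MG [T_v, T_q, T_z, T_q, T_v, T_q, T_z, T_q, T_v, T_q, T_z] M (Nat.sub (T_q u) (Nat.mod (T_q u) M)) (nat_lit 40) (Nat.mod (T_q u) M) u) (Nat.ble (nat_lit 72) j)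
noncomputable def dp_q_59 (j u : ℕ) : Bool :=
  Bool.rec (motive := fun _ => Bool) (lF [T_v, T_z, T_q, T_z, T_v, T_z, T_v, T_z, T_q, T_z, T_v, T_q, T_v] M (Nat.sub (T_q u) (Nat.mod (T_q u) M)) (Nat.mod (T_q u) M) u) (dp_q_58 j u) (Nat.ble (nat_lit 71) j)
noncomputable def dp_q_60 (j u : ℕ) : Bool :=
  Bool.rec (motive := fun _ => Bool) (dp_q_57 j u) (dp_q_59 j u) (Nat.ble (nat_lit 70) j)
noncomputable def dp_q_61 (j u : ℕ) : Bool :=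
  Bool.rec (motive := fun _ => Bool) (dp_q_56 j u) (dp_q_60 j u) (Nat.ble (nat_lit 68) j)
noncomputable def dp_q_62 (j u : ℕ) : Bool :=
  Bool.rec (motive := fun _ => Bool) (lF [T_z, T_yi, T_z, T_q, T_y, T_q, T_yi, T_z, T_q, T_y, T_q, T_z, T_yi, T_q, T_y] M (Nat.sub (T_q u) (Nat.mod (T_q u) M)) (Nat.mod (T_q u) M) u) (lF [T_y, T_y, T_y, T_q, T_y, T_y, T_y, T_q, T_yi, T_yi, T_yi, T_q, T_y, T_y, T_y] M (Nat.sub (T_q u) (Nat.mod (T_q u) M)) (Nat.mod (T_q u) M) u) (Nat.ble (nat_lit 74) j)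
noncomputable def dp_q_63 (j u : ℕ) : Bool :=
  Bool.rec (motive := fun _ => Bool) (lF [T_y, T_y, T_q, T_z, T_y, T_z, T_yi, T_z, T_q, T_yi, T_yi, T_q, T_z, T_yi, T_z, T_y, T_z] M (Nat.sub (T_q u) (Nat.mod (T_q u) M)) (Nat.mod (T_q u) M) u) (lF [T_y, T_z, T_q, T_yi, T_z, T_y, T_q, T_z, T_yi, T_q, T_z, T_y, T_z, T_yi, T_z] M (Nat.sub (T_q u) (Nat.mod (T_q u) M)) (Nat.mod (T_q u) M) u) (Nat.ble (nat_lit 77) j)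
noncomputable def dp_q_64 (j u : ℕ) : Bool :=
  Bool.rec (motive := fun _ => Bool) (lF [T_z, T_q, T_z, T_y, T_y, T_y, T_q, T_z, T_q, T_z, T_y, T_y, T_y] M (Nat.sub (T_q u) (Nat.mod (T_q u) M)) (Nat.mod (T_q u) M) u) (dp_q_63 j u) (Nat.ble (nat_lit 76) j)
noncomputable def dp_q_65 (j u : ℕ) : Bool :=
  Bool.rec (motive := fun _ => Bool) (dp_q_62 j u) (dp_q_64 j u) (Nat.ble (nat_lit 75) j)
noncomputable def dp_q_66 (j u : ℕ) : Bool :=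
  Bool.rec (motive := fun _ => Bool) (lS MG [T_y, T_q, T_z, T_yi, T_q, T_y, T_q, T_z, T_yi, T_z, T_q, T_y, T_q, T_yi, T_z] M (Nat.sub (T_q u) (Nat.mod (T_q u) M)) (nat_lit 40) (Nat.mod (T_q u) M) u) (lS MG [T_yi, T_z, T_yi, T_z, T_y, T_z, T_y, T_q, T_yi, T_z, T_yi, T_z, T_y, T_z, T_y] M (Nat.sub (T_q u) (Nat.mod (T_q u) M)) (nat_lit 40) (Nat.mod (T_q u) M) u) (Nat.ble (nat_lit 79) j)
noncomputable def dp_q_67 (j u : ℕ) : Bool :=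
  Bool.rec (motive := fun _ => Bool) (lF [T_yi, T_yi, T_q, T_z, T_yi, T_z, T_y, T_z, T_q, T_y, T_y, T_q, T_z, T_y, T_z, T_yi, T_z] M (Nat.sub (T_q u) (Nat.mod (T_q u) M)) (Nat.mod (T_q u) M) u) (lF [T_y, T_z, T_y, T_z, T_yi, T_z, T_y, T_y, T_q, T_y, T_y, T_z, T_yi, T_z, T_y, T_z, T_y] M (Nat.sub (T_q u) (Nat.mod (T_q u) M)) (Nat.mod (T_q u) M) u) (Nat.ble (nat_lit 82) j)
noncomputable def dp_q_68 (j u : ℕ) : Bool :=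
  Bool.rec (motive := fun _ => Bool) (lF [T_yi, T_yi, T_yi, T_q, T_yi, T_yi, T_yi, T_q, T_yi, T_yi, T_yi, T_q, T_y, T_y, T_y] M (Nat.sub (T_q u) (Nat.mod (T_q u) M)) (Nat.mod (T_q u) M) u) (dp_q_67 j u) (Nat.ble (nat_lit 81) j)
noncomputable def dp_q_69 (j u : ℕ) : Bool :=
  Bool.rec (motive := fun _ => Bool) (dp_q_66 j u) (dp_q_68 j u) (Nat.ble (nat_lit 80) j)
noncomputable def dp_q_70 (j u : ℕ) : Bool :=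
  Bool.rec (motive := fun _ => Bool) (dp_q_65 j u) (dp_q_69 j u) (Nat.ble (nat_lit 78) j)
noncomputable def dp_q_71 (j u : ℕ) : Bool :=
  Bool.rec (motive := fun _ => Bool) (dp_q_61 j u) (dp_q_70 j u) (Nat.ble (nat_lit 73) j)
noncomputable def dp_q_72 (j u : ℕ) : Bool :=
  Bool.rec (motive := fun _ => Bool) (dp_q_53 j u) (dp_q_71 j u) (Nat.ble (nat_lit 64) j)
noncomputable def dp_q_73 (j u : ℕ) : Bool :=
  Bool.rec (motive := fun _ => Bool) (dp_q_42 j u) (dp_q_72 j u) (Nat.ble (nat_lit 52) j)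
noncomputable def dp_q_74 (j u : ℕ) : Bool :=
  Bool.rec (motive := fun _ => Bool) (lF [T_yi, T_z, T_y, T_q, T_z, T_y, T_y, T_z, T_q, T_y, T_z, T_yi, T_q, T_z, T_yi, T_yi, T_z] M (Nat.sub (T_q u) (Nat.mod (T_q u) M)) (Nat.mod (T_q u) M) u) (lS MG [T_z, T_q, T_z, T_v, T_z, T_q, T_v, T_q, T_z, T_v] M (Nat.sub (T_q u) (Nat.mod (T_q u) M)) (nat_lit 40) (Nat.mod (T_q u) M) u) (Nat.ble (nat_lit 85) j)
noncomputable def dp_q_75 (j u : ℕ) : Bool :=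
  Bool.rec (motive := fun _ => Bool) (lF [T_yi, T_yi, T_q, T_y, T_q, T_y, T_y, T_q, T_y, T_q, T_y, T_q, T_yi, T_yi, T_yi] M (Nat.sub (T_q u) (Nat.mod (T_q u) M)) (Nat.mod (T_q u) M) u) (dp_q_74 j u) (Nat.ble (nat_lit 84) j)
noncomputable def dp_q_76 (j u : ℕ) : Bool :=
  Bool.rec (motive := fun _ => Bool) (lS MG [T_v, T_z, T_q, T_v, T_q, T_z, T_v, T_z, T_q, T_z] M (Nat.sub (T_q u) (Nat.mod (T_q u) M)) (nat_lit 40) (Nat.mod (T_q u) M) u) (lS MG [T_z, T_v, T_z, T_q, T_z, T_q, T_v, T_z, T_q, T_v] M (Nat.sub (T_q u) (Nat.mod (T_q u) M)) (nat_lit 40) (Nat.mod (T_q u) M) u) (Nat.ble (nat_lit 88) j)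
noncomputable def dp_q_77 (j u : ℕ) : Bool :=
  Bool.rec (motive := fun _ => Bool) (lF [T_z, T_y, T_z, T_yi, T_z, T_q, T_yi, T_yi, T_q, T_z, T_yi, T_z, T_y, T_z, T_q, T_y, T_y] M (Nat.sub (T_q u) (Nat.mod (T_q u) M)) (Nat.mod (T_q u) M) u) (dp_q_76 j u) (Nat.ble (nat_lit 87) j)
noncomputable def dp_q_78 (j u : ℕ) : Bool :=
  Bool.rec (motive := fun _ => Bool) (dp_q_75 j u) (dp_q_77 j u) (Nat.ble (nat_lit 86) j)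
noncomputable def dp_q_79 (j u : ℕ) : Bool :=
  Bool.rec (motive := fun _ => Bool) (lS MG [T_y, T_z, T_y, T_z, T_yi, T_z, T_y, T_y, T_q, T_y, T_y, T_z, T_yi, T_z, T_y, T_z, T_y] M (Nat.sub (T_q u) (Nat.mod (T_q u) M)) (nat_lit 40) (Nat.mod (T_q u) M) u) (lF [T_y, T_y, T_q, T_y, T_q, T_y, T_q, T_yi, T_yi, T_yi, T_q, T_yi, T_yi, T_q, T_y] M (Nat.sub (T_q u) (Nat.mod (T_q u) M)) (Nat.mod (T_q u) M) u) (Nat.ble (nat_lit 91) j)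
noncomputable def dp_q_80 (j u : ℕ) : Bool :=
  Bool.rec (motive := fun _ => Bool) (lF [T_yi, T_z, T_y, T_q, T_z, T_yi, T_q, T_z, T_y, T_z, T_yi, T_z, T_q, T_y, T_z] M (Nat.sub (T_q u) (Nat.mod (T_q u) M)) (Nat.mod (T_q u) M) u) (dp_q_79 j u) (Nat.ble (nat_lit 90) j)
noncomputable def dp_q_81 (j u : ℕ) : Bool :=
  Bool.rec (motive := fun _ => Bool) (lS MG [T_y, T_z, T_y, T_z, T_yi, T_z, T_yi, T_q, T_y, T_z, T_y, T_z, T_yi, T_z, T_yi] M (Nat.sub (T_q u) (Nat.mod (T_q u) M)) (nat_lit 40) (Nat.mod (T_q u) M) u) (lF [T_z, T_yi, T_z, T_y, T_z, T_q, T_y, T_y, T_q, T_z, T_y, T_z, T_yi, T_z, T_q, T_yi, T_yi] M (Nat.sub (T_q u) (Nat.mod (T_q u) M)) (Nat.mod (T_q u) M) u) (Nat.ble (nat_lit 93) j)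
noncomputable def dp_q_82 (j u : ℕ) : Bool :=
  Bool.rec (motive := fun _ => Bool) (lF [T_z, T_q, T_v, T_z, T_q, T_v, T_q, T_z, T_v, T_z] M (Nat.sub (T_q u) (Nat.mod (T_q u) M)) (Nat.mod (T_q u) M) u) (lF [T_z, T_yi, T_yi, T_z, T_q, T_yi, T_z, T_y, T_q, T_z, T_y, T_y, T_z, T_q, T_y, T_z, T_yi] M (Nat.sub (T_q u) (Nat.mod (T_q u) M)) (Nat.mod (T_q u) M) u) (Nat.ble (nat_lit 95) j)
noncomputable def dp_q_83 (j u : ℕ) : Bool :=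
  Bool.rec (motive := fun _ => Bool) (dp_q_81 j u) (dp_q_82 j u) (Nat.ble (nat_lit 94) j)
noncomputable def dp_q_84 (j u : ℕ) : Bool :=
  Bool.rec (motive := fun _ => Bool) (dp_q_80 j u) (dp_q_83 j u) (Nat.ble (nat_lit 92) j)
noncomputable def dp_q_85 (j u : ℕ) : Bool :=
  Bool.rec (motive := fun _ => Bool) (dp_q_78 j u) (dp_q_84 j u) (Nat.ble (nat_lit 89) j)
noncomputable def dp_q_86 (j u : ℕ) : Bool :=
  Bool.rec (motive := fun _ => Bool) (lF [T_yi, T_q, T_y, T_y, T_q, T_y, T_y, T_y, T_q, T_yi, T_q, T_yi, T_q, T_yi, T_yi] M (Nat.sub (T_q u) (Nat.mod (T_q u) M)) (Nat.mod (T_q u) M) u) (lF [T_yi, T_z, T_yi, T_z, T_y, T_z, T_yi, T_yi, T_q, T_yi, T_yi, T_z, T_y, T_z, T_yi, T_z, T_yi] M (Nat.sub (T_q u) (Nat.mod (T_q u) M)) (Nat.mod (T_q u) M) u) (Nat.ble (nat_lit 98) j)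
noncomputable def dp_q_87 (j u : ℕ) : Bool :=
  Bool.rec (motive := fun _ => Bool) (lF [T_y, T_z, T_yi, T_q, T_z, T_yi, T_yi, T_z, T_q, T_yi, T_z, T_y, T_q, T_z, T_y, T_y, T_z] M (Nat.sub (T_q u) (Nat.mod (T_q u) M)) (Nat.mod (T_q u) M) u) (dp_q_86 j u) (Nat.ble (nat_lit 97) j)
noncomputable def dp_q_88 (j u : ℕ) : Bool :=
  Bool.rec (motive := fun _ => Bool) (lF [T_yi, T_yi, T_z, T_y, T_z, T_yi, T_z, T_yi, T_q, T_yi, T_z, T_yi, T_z, T_y, T_z, T_yi, T_yi] M (Nat.sub (T_q u) (Nat.mod (T_q u) M)) (Nat.mod (T_q u) M) u) (lF [T_z, T_y, T_z, T_q, T_yi, T_q, T_y, T_z, T_q, T_yi, T_q, T_z, T_y, T_q, T_yi] M (Nat.sub (T_q u) (Nat.mod (T_q u) M)) (Nat.mod (T_q u) M) u) (Nat.ble (nat_lit 100) j)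
noncomputable def dp_q_89 (j u : ℕ) : Bool :=
  Bool.rec (motive := fun _ => Bool) (lS MG [T_z, T_y, T_q, T_yi, T_q, T_z, T_y, T_z, T_q, T_yi, T_q, T_y, T_z, T_q, T_yi] M (Nat.sub (T_q u) (Nat.mod (T_q u) M)) (nat_lit 40) (Nat.mod (T_q u) M) u) (lF [T_z, T_y, T_y, T_z, T_q, T_y, T_z, T_yi, T_q, T_z, T_yi, T_yi, T_z, T_q, T_yi, T_z, T_y] M (Nat.sub (T_q u) (Nat.mod (T_q u) M)) (Nat.mod (T_q u) M) u) (Nat.ble (nat_lit 102) j)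
noncomputable def dp_q_90 (j u : ℕ) : Bool :=
  Bool.rec (motive := fun _ => Bool) (dp_q_88 j u) (dp_q_89 j u) (Nat.ble (nat_lit 101) j)
noncomputable def dp_q_91 (j u : ℕ) : Bool :=
  Bool.rec (motive := fun _ => Bool) (dp_q_87 j u) (dp_q_90 j u) (Nat.ble (nat_lit 99) j)
noncomputable def dp_q_92 (j u : ℕ) : Bool :=
  Bool.rec (motive := fun _ => Bool) (lS MG [T_y, T_q, T_yi, T_z, T_q, T_y, T_q, T_z, T_yi, T_q, T_y, T_q, T_z, T_yi, T_z] M (Nat.sub (T_q u) (Nat.mod (T_q u) M)) (nat_lit 40) (Nat.mod (T_q u) M) u) (lF [T_y, T_q, T_y, T_q, T_yi, T_yi, T_yi, T_q, T_yi, T_yi, T_q, T_y, T_q, T_y, T_y] M (Nat.sub (T_q u) (Nat.mod (T_q u) M)) (Nat.mod (T_q u) M) u) (Nat.ble (nat_lit 105) j)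
noncomputable def dp_q_93 (j u : ℕ) : Bool :=
  Bool.rec (motive := fun _ => Bool) (lS MG [T_yi, T_yi, T_q, T_z, T_yi, T_z, T_y, T_z, T_q, T_y, T_y, T_q, T_z, T_y, T_z, T_yi, T_z] M (Nat.sub (T_q u) (Nat.mod (T_q u) M)) (nat_lit 40) (Nat.mod (T_q u) M) u) (dp_q_92 j u) (Nat.ble (nat_lit 104) j)
noncomputable def dp_q_94 (j u : ℕ) : Bool :=
  Bool.rec (motive := fun _ => Bool) (lS MG [T_y, T_y, T_q, T_z, T_y, T_z, T_yi, T_z, T_q, T_yi, T_yi, T_q, T_z, T_yi, T_z, T_y, T_z] M (Nat.sub (T_q u) (Nat.mod (T_q u) M)) (nat_lit 40) (Nat.mod (T_q u) M) u) (lF [T_z, T_yi, T_q, T_z, T_y, T_z, T_yi, T_z, T_q, T_y, T_z, T_q, T_yi, T_z, T_y] M (Nat.sub (T_q u) (Nat.mod (T_q u) M)) (Nat.mod (T_q u) M) u) (Nat.ble (nat_lit 107) j)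
noncomputable def dp_q_95 (j u : ℕ) : Bool :=
  Bool.rec (motive := fun _ => Bool) (lF [T_yi, T_q, T_yi, T_z, T_q, T_z, T_yi, T_q, T_yi, T_q, T_yi, T_z, T_q, T_z, T_yi] M (Nat.sub (T_q u) (Nat.mod (T_q u) M)) (Nat.mod (T_q u) M) u) (lF [T_y, T_y, T_y, T_q, T_yi, T_q, T_yi, T_q, T_yi, T_yi, T_q, T_yi, T_q, T_y, T_y] M (Nat.sub (T_q u) (Nat.mod (T_q u) M)) (Nat.mod (T_q u) M) u) (Nat.ble (nat_lit 109) j)
noncomputable def dp_q_96 (j u : ℕ) : Bool :=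
  Bool.rec (motive := fun _ => Bool) (dp_q_94 j u) (dp_q_95 j u) (Nat.ble (nat_lit 108) j)
noncomputable def dp_q_97 (j u : ℕ) : Bool :=
  Bool.rec (motive := fun _ => Bool) (dp_q_93 j u) (dp_q_96 j u) (Nat.ble (nat_lit 106) j)
noncomputable def dp_q_98 (j u : ℕ) : Bool :=
  Bool.rec (motive := fun _ => Bool) (dp_q_91 j u) (dp_q_97 j u) (Nat.ble (nat_lit 103) j)
noncomputable def dp_q_99 (j u : ℕ) : Bool :=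
  Bool.rec (motive := fun _ => Bool) (dp_q_85 j u) (dp_q_98 j u) (Nat.ble (nat_lit 96) j)
noncomputable def dp_q_100 (j u : ℕ) : Bool :=
  Bool.rec (motive := fun _ => Bool) (lF [T_y, T_q, T_y, T_z, T_q, T_z, T_y, T_q, T_y, T_q, T_y, T_z, T_q, T_z, T_y] M (Nat.sub (T_q u) (Nat.mod (T_q u) M)) (Nat.mod (T_q u) M) u) (lF [T_z, T_y, T_z, T_q, T_yi, T_z, T_y, T_z, T_q, T_yi, T_q, T_z, T_y, T_z, T_yi] M (Nat.sub (T_q u) (Nat.mod (T_q u) M)) (Nat.mod (T_q u) M) u) (Nat.ble (nat_lit 111) j)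
noncomputable def dp_q_101 (j u : ℕ) : Bool :=
  Bool.rec (motive := fun _ => Bool) (lS MG [T_yi, T_z, T_yi, T_z, T_y, T_z, T_yi, T_yi, T_q, T_yi, T_yi, T_z, T_y, T_z, T_yi, T_z, T_yi] M (Nat.sub (T_q u) (Nat.mod (T_q u) M)) (nat_lit 40) (Nat.mod (T_q u) M) u) (lF [T_y, T_z, T_yi, T_z, T_q, T_y, T_q, T_z, T_yi, T_z, T_y, T_q, T_z, T_yi, T_z] M (Nat.sub (T_q u) (Nat.mod (T_q u) M)) (Nat.mod (T_q u) M) u) (Nat.ble (nat_lit 113) j)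
noncomputable def dp_q_102 (j u : ℕ) : Bool :=
  Bool.rec (motive := fun _ => Bool) (dp_q_100 j u) (dp_q_101 j u) (Nat.ble (nat_lit 112) j)
noncomputable def dp_q_103 (j u : ℕ) : Bool :=
  Bool.rec (motive := fun _ => Bool) (lF [T_y, T_q, T_yi, T_yi, T_q, T_yi, T_yi, T_yi, T_q, T_y, T_q, T_y, T_q, T_y, T_y] M (Nat.sub (T_q u) (Nat.mod (T_q u) M)) (Nat.mod (T_q u) M) u) (lS MG [T_z, T_yi, T_q, T_y, T_q, T_z, T_yi, T_z, T_q, T_y, T_q, T_yi, T_z, T_q, T_y] M (Nat.sub (T_q u) (Nat.mod (T_q u) M)) (nat_lit 40) (Nat.mod (T_q u) M) u) (Nat.ble (nat_lit 115) j)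
noncomputable def dp_q_104 (j u : ℕ) : Bool :=
  Bool.rec (motive := fun _ => Bool) (lS MG [T_v, T_q, T_z, T_v, T_z, T_q, T_z, T_q, T_v, T_z] M (Nat.sub (T_q u) (Nat.mod (T_q u) M)) (nat_lit 40) (Nat.mod (T_q u) M) u) (lS MG [T_yi, T_yi, T_z, T_y, T_z, T_yi, T_z, T_yi, T_q, T_yi, T_z, T_yi, T_z, T_y, T_z, T_yi, T_yi] M (Nat.sub (T_q u) (Nat.mod (T_q u) M)) (nat_lit 40) (Nat.mod (T_q u) M) u) (Nat.ble (nat_lit 118) j)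
noncomputable def dp_q_105 (j u : ℕ) : Bool :=
  Bool.rec (motive := fun _ => Bool) (lF [T_yi, T_yi, T_q, T_yi, T_q, T_y, T_y, T_q, T_y, T_y, T_y, T_q, T_yi, T_q, T_yi] M (Nat.sub (T_q u) (Nat.mod (T_q u) M)) (Nat.mod (T_q u) M) u) (dp_q_104 j u) (Nat.ble (nat_lit 117) j)
noncomputable def dp_q_106 (j u : ℕ) : Bool :=
  Bool.rec (motive := fun _ => Bool) (dp_q_103 j u) (dp_q_105 j u) (Nat.ble (nat_lit 116) j)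
noncomputable def dp_q_107 (j u : ℕ) : Bool :=
  Bool.rec (motive := fun _ => Bool) (dp_q_102 j u) (dp_q_106 j u) (Nat.ble (nat_lit 114) j)
noncomputable def dp_q_108 (j u : ℕ) : Bool :=
  Bool.rec (motive := fun _ => Bool) (lS MG [T_yi, T_yi, T_yi, T_q, T_yi, T_yi, T_yi, T_q, T_yi, T_yi, T_yi, T_q, T_y, T_y, T_y] M (Nat.sub (T_q u) (Nat.mod (T_q u) M)) (nat_lit 40) (Nat.mod (T_q u) M) u) (lF [T_y, T_y, T_z, T_yi, T_z, T_y, T_z, T_y, T_q, T_y, T_z, T_y, T_z, T_yi, T_z, T_y, T_y] M (Nat.sub (T_q u) (Nat.mod (T_q u) M)) (Nat.mod (T_q u) M) u) (Nat.ble (nat_lit 120) j)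
noncomputable def dp_q_109 (j u : ℕ) : Bool :=
  Bool.rec (motive := fun _ => Bool) (lF [T_z, T_y, T_z, T_yi, T_z, T_q, T_y, T_z, T_q, T_yi, T_z, T_y, T_q, T_z, T_yi] M (Nat.sub (T_q u) (Nat.mod (T_q u) M)) (Nat.mod (T_q u) M) u) (lS MG [T_y, T_z, T_yi, T_q, T_z, T_yi, T_yi, T_z, T_q, T_yi, T_z, T_y, T_q, T_z, T_y, T_y, T_z] M (Nat.sub (T_q u) (Nat.mod (T_q u) M)) (nat_lit 40) (Nat.mod (T_q u) M) u) (Nat.ble (nat_lit 122) j)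
noncomputable def dp_q_110 (j u : ℕ) : Bool :=
  Bool.rec (motive := fun _ => Bool) (dp_q_108 j u) (dp_q_109 j u) (Nat.ble (nat_lit 121) j)
noncomputable def dp_q_111 (j u : ℕ) : Bool :=
  Bool.rec (motive := fun _ => Bool) (lF [T_z, T_q, T_yi, T_q, T_y, T_z, T_yi, T_q, T_z, T_q, T_y, T_q, T_yi, T_z, T_y] M (Nat.sub (T_q u) (Nat.mod (T_q u) M)) (Nat.mod (T_q u) M) u) (lS MG [T_z, T_y, T_z, T_yi, T_z, T_q, T_yi, T_yi, T_q, T_z, T_yi, T_z, T_y, T_z, T_q, T_y, T_y] M (Nat.sub (T_q u) (Nat.mod (T_q u) M)) (nat_lit 40) (Nat.mod (T_q u) M) u) (Nat.ble (nat_lit 124) j)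
noncomputable def dp_q_112 (j u : ℕ) : Bool :=
  Bool.rec (motive := fun _ => Bool) (lS MG [T_yi, T_yi, T_yi, T_q, T_yi, T_yi, T_yi, T_q, T_y, T_y, T_y, T_q, T_yi, T_yi, T_yi] M (Nat.sub (T_q u) (Nat.mod (T_q u) M)) (nat_lit 40) (Nat.mod (T_q u) M) u) (lF [T_yi, T_q, T_z, T_y, T_z, T_yi, T_q, T_z, T_y, T_z, T_q, T_yi, T_z, T_y, T_z] M (Nat.sub (T_q u) (Nat.mod (T_q u) M)) (Nat.mod (T_q u) M) u) (Nat.ble (nat_lit 127) j)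
noncomputable def dp_q_113 (j u : ℕ) : Bool :=
  Bool.rec (motive := fun _ => Bool) (lF [T_y, T_y, T_y, T_q, T_yi, T_yi, T_yi, T_q, T_yi, T_yi, T_yi, T_q, T_yi, T_yi, T_yi] M (Nat.sub (T_q u) (Nat.mod (T_q u) M)) (Nat.mod (T_q u) M) u) (dp_q_112 j u) (Nat.ble (nat_lit 126) j)
noncomputable def dp_q_114 (j u : ℕ) : Bool :=
  Bool.rec (motive := fun _ => Bool) (dp_q_111 j u) (dp_q_113 j u) (Nat.ble (nat_lit 125) j)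
noncomputable def dp_q_115 (j u : ℕ) : Bool :=
  Bool.rec (motive := fun _ => Bool) (dp_q_110 j u) (dp_q_114 j u) (Nat.ble (nat_lit 123) j)
noncomputable def dp_q_116 (j u : ℕ) : Bool :=
  Bool.rec (motive := fun _ => Bool) (dp_q_107 j u) (dp_q_115 j u) (Nat.ble (nat_lit 119) j)
noncomputable def dp_q_117 (j u : ℕ) : Bool :=
  Bool.rec (motive := fun _ => Bool) (lS MG [T_yi, T_z, T_y, T_q, T_z, T_y, T_y, T_z, T_q, T_y, T_z, T_yi, T_q, T_z, T_yi, T_yi, T_z] M (Nat.sub (T_q u) (Nat.mod (T_q u) M)) (nat_lit 40) (Nat.mod (T_q u) M) u) (lS MG [T_z, T_yi, T_yi, T_z, T_q, T_yi, T_z, T_y, T_q, T_z, T_y, T_y, T_z, T_q, T_y, T_z, T_yi] M (Nat.sub (T_q u) (Nat.mod (T_q u) M)) (nat_lit 40) (Nat.mod (T_q u) M) u) (Nat.ble (nat_lit 129) j)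
noncomputable def dp_q_118 (j u : ℕ) : Bool :=
  Bool.rec (motive := fun _ => Bool) (lF [T_yi, T_q, T_z, T_y, T_z, T_q, T_yi, T_q, T_y, T_z, T_q, T_yi, T_q, T_z, T_y] M (Nat.sub (T_q u) (Nat.mod (T_q u) M)) (Nat.mod (T_q u) M) u) (lF [T_y, T_q, T_yi, T_yi, T_yi, T_q, T_yi, T_yi, T_q, T_y, T_q, T_y, T_y, T_q, T_y] M (Nat.sub (T_q u) (Nat.mod (T_q u) M)) (Nat.mod (T_q u) M) u) (Nat.ble (nat_lit 132) j)
noncomputable def dp_q_119 (j u : ℕ) : Bool :=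
  Bool.rec (motive := fun _ => Bool) (lF [T_yi, T_q, T_yi, T_yi, T_q, T_yi, T_q, T_yi, T_q, T_y, T_y, T_y, T_q, T_y, T_y] M (Nat.sub (T_q u) (Nat.mod (T_q u) M)) (Nat.mod (T_q u) M) u) (dp_q_118 j u) (Nat.ble (nat_lit 131) j)
noncomputable def dp_q_120 (j u : ℕ) : Bool :=
  Bool.rec (motive := fun _ => Bool) (dp_q_117 j u) (dp_q_119 j u) (Nat.ble (nat_lit 130) j)
noncomputable def dp_q_121 (j u : ℕ) : Bool :=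
  Bool.rec (motive := fun _ => Bool) (lF [T_yi, T_yi, T_yi, T_z, T_q, T_z, T_q, T_yi, T_yi, T_yi, T_z, T_q, T_z] M (Nat.sub (T_q u) (Nat.mod (T_q u) M)) (Nat.mod (T_q u) M) u) (lF [T_y, T_q, T_z, T_yi, T_z, T_q, T_y, T_q, T_yi, T_z, T_q, T_y, T_q, T_z, T_yi] M (Nat.sub (T_q u) (Nat.mod (T_q u) M)) (Nat.mod (T_q u) M) u) (Nat.ble (nat_lit 135) j)
noncomputable def dp_q_122 (j u : ℕ) : Bool :=
  Bool.rec (motive := fun _ => Bool) (lF [T_yi, T_q, T_yi, T_yi, T_q, T_yi, T_q, T_y, T_y, T_q, T_y, T_y, T_y, T_q, T_yi] M (Nat.sub (T_q u) (Nat.mod (T_q u) M)) (Nat.mod (T_q u) M) u) (dp_q_121 j u) (Nat.ble (nat_lit 134) j)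
noncomputable def dp_q_123 (j u : ℕ) : Bool :=
  Bool.rec (motive := fun _ => Bool) (lS MG [T_z, T_yi, T_z, T_y, T_z, T_q, T_y, T_y, T_q, T_z, T_y, T_z, T_yi, T_z, T_q, T_yi, T_yi] M (Nat.sub (T_q u) (Nat.mod (T_q u) M)) (nat_lit 40) (Nat.mod (T_q u) M) u) (lF [T_y, T_y, T_z, T_q, T_z, T_yi, T_yi, T_q, T_y, T_y, T_z, T_q, T_z, T_yi, T_yi] M (Nat.sub (T_q u) (Nat.mod (T_q u) M)) (Nat.mod (T_q u) M) u) (Nat.ble (nat_lit 138) j)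
noncomputable def dp_q_124 (j u : ℕ) : Bool :=
  Bool.rec (motive := fun _ => Bool) (lF [T_z, T_q, T_y, T_q, T_yi, T_z, T_y, T_q, T_z, T_q, T_yi, T_q, T_y, T_z, T_yi] M (Nat.sub (T_q u) (Nat.mod (T_q u) M)) (Nat.mod (T_q u) M) u) (dp_q_123 j u) (Nat.ble (nat_lit 137) j)
noncomputable def dp_q_125 (j u : ℕ) : Bool :=
  Bool.rec (motive := fun _ => Bool) (dp_q_122 j u) (dp_q_124 j u) (Nat.ble (nat_lit 136) j)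
noncomputable def dp_q_126 (j u : ℕ) : Bool :=
  Bool.rec (motive := fun _ => Bool) (dp_q_120 j u) (dp_q_125 j u) (Nat.ble (nat_lit 133) j)
noncomputable def dp_q_127 (j u : ℕ) : Bool :=
  Bool.rec (motive := fun _ => Bool) (lF [T_z, T_q, T_z, T_yi, T_z, T_q, T_z, T_q, T_v, T_y, T_v] M (Nat.sub (T_q u) (Nat.mod (T_q u) M)) (Nat.mod (T_q u) M) u) (lS MG [T_z, T_yi, T_z, T_q, T_y, T_q, T_yi, T_z, T_q, T_y, T_q, T_z, T_yi, T_q, T_y] M (Nat.sub (T_q u) (Nat.mod (T_q u) M)) (nat_lit 40) (Nat.mod (T_q u) M) u) (Nat.ble (nat_lit 140) j)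
noncomputable def dp_q_128 (j u : ℕ) : Bool :=
  Bool.rec (motive := fun _ => Bool) (lF [T_yi, T_yi, T_yi, T_q, T_y, T_y, T_y, T_q, T_yi, T_yi, T_yi, T_q, T_yi, T_yi, T_yi] M (Nat.sub (T_q u) (Nat.mod (T_q u) M)) (Nat.mod (T_q u) M) u) (lF [T_yi, T_z, T_y, T_z, T_q, T_yi, T_q, T_z, T_y, T_z, T_yi, T_q, T_z, T_y, T_z] M (Nat.sub (T_q u) (Nat.mod (T_q u) M)) (Nat.mod (T_q u) M) u) (Nat.ble (nat_lit 143) j)
noncomputable def dp_q_129 (j u : ℕ) : Bool :=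
  Bool.rec (motive := fun _ => Bool) (lS MG [T_z, T_y, T_y, T_z, T_q, T_y, T_z, T_yi, T_q, T_z, T_yi, T_yi, T_z, T_q, T_yi, T_z, T_y] M (Nat.sub (T_q u) (Nat.mod (T_q u) M)) (nat_lit 40) (Nat.mod (T_q u) M) u) (dp_q_128 j u) (Nat.ble (nat_lit 142) j)
noncomputable def dp_q_130 (j u : ℕ) : Bool :=
  Bool.rec (motive := fun _ => Bool) (dp_q_127 j u) (dp_q_129 j u) (Nat.ble (nat_lit 141) j)
noncomputable def dp_q_131 (j u : ℕ) : Bool :=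
  Bool.rec (motive := fun _ => Bool) (lF [T_y, T_q, T_y, T_y, T_q, T_y, T_q, T_y, T_q, T_yi, T_yi, T_yi, T_q, T_yi, T_yi] M (Nat.sub (T_q u) (Nat.mod (T_q u) M)) (Nat.mod (T_q u) M) u) (lF [T_yi, T_z, T_q, T_z, T_yi, T_q, T_yi, T_q, T_yi, T_z, T_q, T_z, T_yi, T_q, T_yi] M (Nat.sub (T_q u) (Nat.mod (T_q u) M)) (Nat.mod (T_q u) M) u) (Nat.ble (nat_lit 146) j)
noncomputable def dp_q_132 (j u : ℕ) : Bool :=
  Bool.rec (motive := fun _ => Bool) (lF [T_yi, T_z, T_q, T_y, T_q, T_z, T_yi, T_q, T_y, T_q, T_z, T_yi, T_z, T_q, T_y] M (Nat.sub (T_q u) (Nat.mod (T_q u) M)) (Nat.mod (T_q u) M) u) (dp_q_131 j u) (Nat.ble (nat_lit 145) j)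
noncomputable def dp_q_133 (j u : ℕ) : Bool :=
  Bool.rec (motive := fun _ => Bool) (lF [T_yi, T_yi, T_z, T_q, T_z, T_y, T_y, T_q, T_yi, T_yi, T_z, T_q, T_z, T_y, T_y] M (Nat.sub (T_q u) (Nat.mod (T_q u) M)) (Nat.mod (T_q u) M) u) (lF [T_yi, T_yi, T_yi, T_q, T_y, T_q, T_y, T_q, T_y, T_y, T_q, T_y, T_q, T_yi, T_yi] M (Nat.sub (T_q u) (Nat.mod (T_q u) M)) (Nat.mod (T_q u) M) u) (Nat.ble (nat_lit 149) j)
noncomputable def dp_q_134 (j u : ℕ) : Bool :=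
  Bool.rec (motive := fun _ => Bool) (lF [T_yi, T_z, T_q, T_y, T_z, T_yi, T_q, T_z, T_y, T_q, T_z, T_yi, T_z, T_y, T_z] M (Nat.sub (T_q u) (Nat.mod (T_q u) M)) (Nat.mod (T_q u) M) u) (dp_q_133 j u) (Nat.ble (nat_lit 148) j)
noncomputable def dp_q_135 (j u : ℕ) : Bool :=
  Bool.rec (motive := fun _ => Bool) (dp_q_132 j u) (dp_q_134 j u) (Nat.ble (nat_lit 147) j)
noncomputable def dp_q_136 (j u : ℕ) : Bool :=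
  Bool.rec (motive := fun _ => Bool) (dp_q_130 j u) (dp_q_135 j u) (Nat.ble (nat_lit 144) j)
noncomputable def dp_q_137 (j u : ℕ) : Bool :=
  Bool.rec (motive := fun _ => Bool) (dp_q_126 j u) (dp_q_136 j u) (Nat.ble (nat_lit 139) j)
noncomputable def dp_q_138 (j u : ℕ) : Bool :=
  Bool.rec (motive := fun _ => Bool) (dp_q_116 j u) (dp_q_137 j u) (Nat.ble (nat_lit 128) j)
noncomputable def dp_q_139 (j u : ℕ) : Bool :=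
  Bool.rec (motive := fun _ => Bool) (dp_q_99 j u) (dp_q_138 j u) (Nat.ble (nat_lit 110) j)
noncomputable def dp_q_140 (j u : ℕ) : Bool :=
  Bool.rec (motive := fun _ => Bool) (lS MG [T_y, T_y, T_z, T_yi, T_z, T_y, T_z, T_y, T_q, T_y, T_z, T_y, T_z, T_yi, T_z, T_y, T_y] M (Nat.sub (T_q u) (Nat.mod (T_q u) M)) (nat_lit 40) (Nat.mod (T_q u) M) u) (lS MG [T_y, T_y, T_q, T_y, T_q, T_y, T_q, T_yi, T_yi, T_yi, T_q, T_yi, T_yi, T_q, T_y] M (Nat.sub (T_q u) (Nat.mod (T_q u) M)) (nat_lit 40) (Nat.mod (T_q u) M) u) (Nat.ble (nat_lit 152) j)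
noncomputable def dp_q_141 (j u : ℕ) : Bool :=
  Bool.rec (motive := fun _ => Bool) (lF [T_yi, T_yi, T_q, T_yi, T_q, T_yi, T_q, T_y, T_y, T_y, T_q, T_y, T_y, T_q, T_yi] M (Nat.sub (T_q u) (Nat.mod (T_q u) M)) (Nat.mod (T_q u) M) u) (dp_q_140 j u) (Nat.ble (nat_lit 151) j)
noncomputable def dp_q_142 (j u : ℕ) : Bool :=
  Bool.rec (motive := fun _ => Bool) (lF [T_y, T_z, T_q, T_y, T_z, T_q, T_y, T_z, T_q, T_y, T_z, T_q, T_y, T_z, T_q, T_y, T_z, T_q, T_y, T_z, T_q, T_y, T_z] M (Nat.sub (T_q u) (Nat.mod (T_q u) M)) (Nat.mod (T_q u) M) u) (lF [T_y, T_y, T_y, T_q, T_yi, T_yi, T_yi, T_q, T_y, T_y, T_y, T_q, T_y, T_y, T_y] M (Nat.sub (T_q u) (Nat.mod (T_q u) M)) (Nat.mod (T_q u) M) u) (Nat.ble (nat_lit 155) j)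
noncomputable def dp_q_143 (j u : ℕ) : Bool :=
  Bool.rec (motive := fun _ => Bool) (lF [T_y, T_z, T_q, T_z, T_y, T_q, T_y, T_q, T_y, T_z, T_q, T_z, T_y, T_q, T_y] M (Nat.sub (T_q u) (Nat.mod (T_q u) M)) (Nat.mod (T_q u) M) u) (dp_q_142 j u) (Nat.ble (nat_lit 154) j)
noncomputable def dp_q_144 (j u : ℕ) : Bool :=
  Bool.rec (motive := fun _ => Bool) (dp_q_141 j u) (dp_q_143 j u) (Nat.ble (nat_lit 153) j)
noncomputable def dp_q_145 (j u : ℕ) : Bool :=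
  Bool.rec (motive := fun _ => Bool) (lS MG [T_y, T_q, T_y, T_q, T_yi, T_yi, T_yi, T_q, T_yi, T_yi, T_q, T_y, T_q, T_y, T_y] M (Nat.sub (T_q u) (Nat.mod (T_q u) M)) (nat_lit 40) (Nat.mod (T_q u) M) u) (lF [T_y, T_z, T_yi, T_q, T_z, T_y, T_q, T_z, T_yi, T_z, T_y, T_z, T_q, T_yi, T_z] M (Nat.sub (T_q u) (Nat.mod (T_q u) M)) (Nat.mod (T_q u) M) u) (Nat.ble (nat_lit 158) j)
noncomputable def dp_q_146 (j u : ℕ) : Bool :=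
  Bool.rec (motive := fun _ => Bool) (lF [T_z, T_v, T_z, T_v, T_z, T_q, T_z, T_v, T_q, T_v, T_q, T_v, T_z] M (Nat.sub (T_q u) (Nat.mod (T_q u) M)) (Nat.mod (T_q u) M) u) (dp_q_145 j u) (Nat.ble (nat_lit 157) j)
noncomputable def dp_q_147 (j u : ℕ) : Bool :=
  Bool.rec (motive := fun _ => Bool) (lS MG [T_y, T_z, T_q, T_yi, T_z, T_y, T_q, T_z, T_yi, T_q, T_z, T_y, T_z, T_yi, T_z] M (Nat.sub (T_q u) (Nat.mod (T_q u) M)) (nat_lit 40) (Nat.mod (T_q u) M) u) (lS MG [T_yi, T_yi, T_q, T_y, T_q, T_y, T_y, T_q, T_y, T_q, T_y, T_q, T_yi, T_yi, T_yi] M (Nat.sub (T_q u) (Nat.mod (T_q u) M)) (nat_lit 40) (Nat.mod (T_q u) M) u) (Nat.ble (nat_lit 160) j)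
noncomputable def dp_q_148 (j u : ℕ) : Bool :=
  Bool.rec (motive := fun _ => Bool) (lF [T_z, T_q, T_z, T_y, T_z, T_q, T_z, T_q, T_v, T_yi, T_v] M (Nat.sub (T_q u) (Nat.mod (T_q u) M)) (Nat.mod (T_q u) M) u) (lS MG [T_yi, T_z, T_y, T_q, T_z, T_yi, T_q, T_z, T_y, T_z, T_yi, T_z, T_q, T_y, T_z] M (Nat.sub (T_q u) (Nat.mod (T_q u) M)) (nat_lit 40) (Nat.mod (T_q u) M) u) (Nat.ble (nat_lit 162) j)
noncomputable def dp_q_149 (j u : ℕ) : Bool :=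
  Bool.rec (motive := fun _ => Bool) (dp_q_147 j u) (dp_q_148 j u) (Nat.ble (nat_lit 161) j)
noncomputable def dp_q_150 (j u : ℕ) : Bool :=
  Bool.rec (motive := fun _ => Bool) (dp_q_146 j u) (dp_q_149 j u) (Nat.ble (nat_lit 159) j)
noncomputable def dp_q_151 (j u : ℕ) : Bool :=
  Bool.rec (motive := fun _ => Bool) (dp_q_144 j u) (dp_q_150 j u) (Nat.ble (nat_lit 156) j)
noncomputable def dp_q_152 (j u : ℕ) : Bool :=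
  Bool.rec (motive := fun _ => Bool) (lS MG [T_yi, T_q, T_y, T_z, T_q, T_yi, T_q, T_z, T_y, T_q, T_yi, T_q, T_z, T_y, T_z] M (Nat.sub (T_q u) (Nat.mod (T_q u) M)) (nat_lit 40) (Nat.mod (T_q u) M) u) (lS MG [T_y, T_y, T_y, T_q, T_y, T_y, T_y, T_q, T_yi, T_yi, T_yi, T_q, T_y, T_y, T_y] M (Nat.sub (T_q u) (Nat.mod (T_q u) M)) (nat_lit 40) (Nat.mod (T_q u) M) u) (Nat.ble (nat_lit 165) j)
noncomputable def dp_q_153 (j u : ℕ) : Bool :=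
  Bool.rec (motive := fun _ => Bool) (lF [T_z, T_yi, T_z, T_q, T_y, T_z, T_yi, T_z, T_q, T_y, T_q, T_z, T_yi, T_z, T_y] M (Nat.sub (T_q u) (Nat.mod (T_q u) M)) (Nat.mod (T_q u) M) u) (dp_q_152 j u) (Nat.ble (nat_lit 164) j)
noncomputable def dp_q_154 (j u : ℕ) : Bool :=
  Bool.rec (motive := fun _ => Bool) (lF [T_v, T_y, T_v, T_q, T_z, T_q, T_z, T_yi, T_z, T_q, T_z] M (Nat.sub (T_q u) (Nat.mod (T_q u) M)) (Nat.mod (T_q u) M) u) (lS MG [T_z, T_v, T_z, T_q, T_v, T_q, T_z, T_v, T_q, T_z] M (Nat.sub (T_q u) (Nat.mod (T_q u) M)) (nat_lit 40) (Nat.mod (T_q u) M) u) (Nat.ble (nat_lit 167) j)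
noncomputable def dp_q_155 (j u : ℕ) : Bool :=
  Bool.rec (motive := fun _ => Bool) (lF [T_y, T_q, T_z, T_q, T_yi, T_z, T_y, T_q, T_yi, T_q, T_z, T_q, T_y, T_z, T_yi] M (Nat.sub (T_q u) (Nat.mod (T_q u) M)) (Nat.mod (T_q u) M) u) (lF [T_y, T_y, T_q, T_yi, T_q, T_yi, T_yi, T_q, T_yi, T_q, T_yi, T_q, T_y, T_y, T_y] M (Nat.sub (T_q u) (Nat.mod (T_q u) M)) (Nat.mod (T_q u) M) u) (Nat.ble (nat_lit 169) j)
noncomputable def dp_q_156 (j u : ℕ) : Bool :=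
  Bool.rec (motive := fun _ => Bool) (dp_q_154 j u) (dp_q_155 j u) (Nat.ble (nat_lit 168) j)
noncomputable def dp_q_157 (j u : ℕ) : Bool :=
  Bool.rec (motive := fun _ => Bool) (dp_q_153 j u) (dp_q_156 j u) (Nat.ble (nat_lit 166) j)
noncomputable def dp_q_158 (j u : ℕ) : Bool :=
  Bool.rec (motive := fun _ => Bool) (lF [T_v, T_yi, T_v, T_q, T_z, T_q, T_z, T_y, T_z, T_q, T_z] M (Nat.sub (T_q u) (Nat.mod (T_q u) M)) (Nat.mod (T_q u) M) u) (lS MG [T_z, T_y, T_q, T_yi, T_z, T_q, T_z, T_y, T_q, T_yi, T_z] M (Nat.sub (T_q u) (Nat.mod (T_q u) M)) (nat_lit 40) (Nat.mod (T_q u) M) u) (Nat.ble (nat_lit 172) j)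
noncomputable def dp_q_159 (j u : ℕ) : Bool :=
  Bool.rec (motive := fun _ => Bool) (lS MG [T_z, T_y, T_z, T_q, T_yi, T_q, T_y, T_z, T_q, T_yi, T_q, T_z, T_y, T_q, T_yi] M (Nat.sub (T_q u) (Nat.mod (T_q u) M)) (nat_lit 40) (Nat.mod (T_q u) M) u) (dp_q_158 j u) (Nat.ble (nat_lit 171) j)
noncomputable def dp_q_160 (j u : ℕ) : Bool :=
  Bool.rec (motive := fun _ => Bool) (lS MG [T_z, T_q, T_z, T_y, T_y, T_y, T_q, T_z, T_q, T_z, T_y, T_y, T_y] M (Nat.sub (T_q u) (Nat.mod (T_q u) M)) (nat_lit 40) (Nat.mod (T_q u) M) u) (lS MG [T_y, T_q, T_z, T_yi, T_z, T_q, T_y, T_q, T_yi, T_z, T_q, T_y, T_q, T_z, T_yi] M (Nat.sub (T_q u) (Nat.mod (T_q u) M)) (nat_lit 40) (Nat.mod (T_q u) M) u) (Nat.ble (nat_lit 174) j)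
noncomputable def dp_q_161 (j u : ℕ) : Bool :=
  Bool.rec (motive := fun _ => Bool) (lS MG [T_z, T_y, T_z, T_q, T_yi, T_z, T_y, T_z, T_q, T_yi, T_q, T_z, T_y, T_z, T_yi] M (Nat.sub (T_q u) (Nat.mod (T_q u) M)) (nat_lit 40) (Nat.mod (T_q u) M) u) (lS MG [T_y, T_y, T_z, T_q, T_yi, T_q, T_z, T_q, T_y, T_q, T_z, T_yi, T_yi, T_q, T_z, T_yi, T_q, T_z, T_yi, T_z, T_y, T_z, T_q, T_y, T_z] M (Nat.sub (T_q u) (Nat.mod (T_q u) M)) (nat_lit 40) (Nat.mod (T_q u) M) u) (Nat.ble (nat_lit 176) j)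
noncomputable def dp_q_162 (j u : ℕ) : Bool :=
  Bool.rec (motive := fun _ => Bool) (dp_q_160 j u) (dp_q_161 j u) (Nat.ble (nat_lit 175) j)
noncomputable def dp_q_163 (j u : ℕ) : Bool :=
  Bool.rec (motive := fun _ => Bool) (dp_q_159 j u) (dp_q_162 j u) (Nat.ble (nat_lit 173) j)
noncomputable def dp_q_164 (j u : ℕ) : Bool :=
  Bool.rec (motive := fun _ => Bool) (dp_q_157 j u) (dp_q_163 j u) (Nat.ble (nat_lit 170) j)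
noncomputable def dp_q_165 (j u : ℕ) : Bool :=
  Bool.rec (motive := fun _ => Bool) (dp_q_151 j u) (dp_q_164 j u) (Nat.ble (nat_lit 163) j)
noncomputable def dp_q_166 (j u : ℕ) : Bool :=
  Bool.rec (motive := fun _ => Bool) (lF [T_y, T_q, T_z, T_yi, T_z, T_y, T_q, T_z, T_yi, T_z, T_q, T_y, T_z, T_yi, T_z] M (Nat.sub (T_q u) (Nat.mod (T_q u) M)) (Nat.mod (T_q u) M) u) (lF [T_z, T_y, T_y, T_q, T_yi, T_yi, T_z, T_q, T_z, T_y, T_y, T_q, T_yi, T_yi, T_z] M (Nat.sub (T_q u) (Nat.mod (T_q u) M)) (Nat.mod (T_q u) M) u) (Nat.ble (nat_lit 178) j)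
noncomputable def dp_q_167 (j u : ℕ) : Bool :=
  Bool.rec (motive := fun _ => Bool) (lF [T_y, T_z, T_q, T_yi, T_q, T_z, T_y, T_q, T_yi, T_q, T_z, T_y, T_z, T_q, T_yi] M (Nat.sub (T_q u) (Nat.mod (T_q u) M)) (Nat.mod (T_q u) M) u) (lF [T_z, T_yi, T_z, T_y, T_q, T_z, T_yi, T_z, T_q, T_y, T_z, T_yi, T_z, T_q, T_y] M (Nat.sub (T_q u) (Nat.mod (T_q u) M)) (Nat.mod (T_q u) M) u) (Nat.ble (nat_lit 180) j)
noncomputable def dp_q_168 (j u : ℕ) : Bool :=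
  Bool.rec (motive := fun _ => Bool) (dp_q_166 j u) (dp_q_167 j u) (Nat.ble (nat_lit 179) j)
noncomputable def dp_q_169 (j u : ℕ) : Bool :=
  Bool.rec (motive := fun _ => Bool) (lS MG [T_z, T_yi, T_q, T_y, T_z, T_q, T_z, T_yi, T_q, T_y, T_z] M (Nat.sub (T_q u) (Nat.mod (T_q u) M)) (nat_lit 40) (Nat.mod (T_q u) M) u) (lS MG [T_y, T_z, T_yi, T_z, T_q, T_y, T_q, T_z, T_yi, T_z, T_y, T_q, T_z, T_yi, T_z] M (Nat.sub (T_q u) (Nat.mod (T_q u) M)) (nat_lit 40) (Nat.mod (T_q u) M) u) (Nat.ble (nat_lit 182) j)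
noncomputable def dp_q_170 (j u : ℕ) : Bool :=
  Bool.rec (motive := fun _ => Bool) (lF [T_y, T_y, T_z, T_q, T_y, T_z, T_yi, T_z, T_q, T_yi, T_yi, T_z, T_q, T_yi, T_z, T_y, T_z] M (Nat.sub (T_q u) (Nat.mod (T_q u) M)) (Nat.mod (T_q u) M) u) (lS MG [T_y, T_z, T_q, T_y, T_z, T_q, T_y, T_z, T_q, T_y, T_z, T_q, T_y, T_z, T_q, T_y, T_z, T_q, T_y, T_z, T_q, T_y, T_z] M (Nat.sub (T_q u) (Nat.mod (T_q u) M)) (nat_lit 40) (Nat.mod (T_q u) M) u) (Nat.ble (nat_lit 184) j)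
noncomputable def dp_q_171 (j u : ℕ) : Bool :=
  Bool.rec (motive := fun _ => Bool) (dp_q_169 j u) (dp_q_170 j u) (Nat.ble (nat_lit 183) j)
noncomputable def dp_q_172 (j u : ℕ) : Bool :=
  Bool.rec (motive := fun _ => Bool) (dp_q_168 j u) (dp_q_171 j u) (Nat.ble (nat_lit 181) j)
noncomputable def dp_q_173 (j u : ℕ) : Bool :=
  Bool.rec (motive := fun _ => Bool) (lF [T_yi, T_q, T_z, T_q, T_y, T_z, T_yi, T_q, T_y, T_q, T_z, T_q, T_yi, T_z, T_y] M (Nat.sub (T_q u) (Nat.mod (T_q u) M)) (Nat.mod (T_q u) M) u) (lS MG [T_yi, T_yi, T_q, T_yi, T_q, T_y, T_y, T_q, T_y, T_y, T_y, T_q, T_yi, T_q, T_yi] M (Nat.sub (T_q u) (Nat.mod (T_q u) M)) (nat_lit 40) (Nat.mod (T_q u) M) u) (Nat.ble (nat_lit 186) j)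
noncomputable def dp_q_174 (j u : ℕ) : Bool :=
  Bool.rec (motive := fun _ => Bool) (lF [T_z, T_yi, T_z, T_y, T_z, T_q, T_yi, T_z, T_q, T_y, T_z, T_yi, T_q, T_z, T_y] M (Nat.sub (T_q u) (Nat.mod (T_q u) M)) (Nat.mod (T_q u) M) u) (lS MG [T_z, T_yi, T_q, T_z, T_y, T_z, T_yi, T_z, T_q, T_y, T_z, T_q, T_yi, T_z, T_y] M (Nat.sub (T_q u) (Nat.mod (T_q u) M)) (nat_lit 40) (Nat.mod (T_q u) M) u) (Nat.ble (nat_lit 188) j)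
noncomputable def dp_q_175 (j u : ℕ) : Bool :=
  Bool.rec (motive := fun _ => Bool) (dp_q_173 j u) (dp_q_174 j u) (Nat.ble (nat_lit 187) j)
noncomputable def dp_q_176 (j u : ℕ) : Bool :=
  Bool.rec (motive := fun _ => Bool) (lS MG [T_v, T_z, T_q, T_z, T_v, T_z, T_v, T_z, T_q, T_z, T_v, T_q, T_v] M (Nat.sub (T_q u) (Nat.mod (T_q u) M)) (nat_lit 40) (Nat.mod (T_q u) M) u) (lS MG [T_y, T_q, T_y, T_z, T_q, T_z, T_y, T_q, T_y, T_q, T_y, T_z, T_q, T_z, T_y] M (Nat.sub (T_q u) (Nat.mod (T_q u) M)) (nat_lit 40) (Nat.mod (T_q u) M) u) (Nat.ble (nat_lit 190) j)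
noncomputable def dp_q_177 (j u : ℕ) : Bool :=
  Bool.rec (motive := fun _ => Bool) (lF [T_v, T_z, T_q, T_z, T_q, T_z, T_q, T_v, T_z, T_q, T_z, T_q, T_v, T_z] M (Nat.sub (T_q u) (Nat.mod (T_q u) M)) (Nat.mod (T_q u) M) u) (lF [T_y, T_z, T_yi, T_z, T_q, T_yi, T_yi, T_z, T_q, T_yi, T_z, T_y, T_z, T_q, T_y, T_y, T_z] M (Nat.sub (T_q u) (Nat.mod (T_q u) M)) (Nat.mod (T_q u) M) u) (Nat.ble (nat_lit 193) j)
noncomputable def dp_q_178 (j u : ℕ) : Bool :=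
  Bool.rec (motive := fun _ => Bool) (lS MG [T_yi, T_q, T_z, T_y, T_z, T_yi, T_q, T_z, T_y, T_z, T_q, T_yi, T_z, T_y, T_z] M (Nat.sub (T_q u) (Nat.mod (T_q u) M)) (nat_lit 40) (Nat.mod (T_q u) M) u) (dp_q_177 j u) (Nat.ble (nat_lit 192) j)
noncomputable def dp_q_179 (j u : ℕ) : Bool :=
  Bool.rec (motive := fun _ => Bool) (dp_q_176 j u) (dp_q_178 j u) (Nat.ble (nat_lit 191) j)
noncomputable def dp_q_180 (j u : ℕ) : Bool :=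
  Bool.rec (motive := fun _ => Bool) (dp_q_175 j u) (dp_q_179 j u) (Nat.ble (nat_lit 189) j)
noncomputable def dp_q_181 (j u : ℕ) : Bool :=
  Bool.rec (motive := fun _ => Bool) (dp_q_172 j u) (dp_q_180 j u) (Nat.ble (nat_lit 185) j)
noncomputable def dp_q_182 (j u : ℕ) : Bool :=
  Bool.rec (motive := fun _ => Bool) (lS MG [T_yi, T_q, T_y, T_y, T_q, T_y, T_y, T_y, T_q, T_yi, T_q, T_yi, T_q, T_yi, T_yi] M (Nat.sub (T_q u) (Nat.mod (T_q u) M)) (nat_lit 40) (Nat.mod (T_q u) M) u) (lF [T_y, T_y, T_q, T_y, T_q, T_yi, T_yi, T_q, T_yi, T_yi, T_yi, T_q, T_y, T_q, T_y] M (Nat.sub (T_q u) (Nat.mod (T_q u) M)) (Nat.mod (T_q u) M) u) (Nat.ble (nat_lit 195) j)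
noncomputable def dp_q_183 (j u : ℕ) : Bool :=
  Bool.rec (motive := fun _ => Bool) (lF [T_yi, T_q, T_yi, T_q, T_yi, T_yi, T_q, T_yi, T_q, T_y, T_y, T_q, T_y, T_y, T_y] M (Nat.sub (T_q u) (Nat.mod (T_q u) M)) (Nat.mod (T_q u) M) u) (lS MG [T_v, T_q, T_v, T_z, T_q, T_z, T_v, T_z, T_v, T_z, T_q, T_z, T_v] M (Nat.sub (T_q u) (Nat.mod (T_q u) M)) (nat_lit 40) (Nat.mod (T_q u) M) u) (Nat.ble (nat_lit 197) j)
noncomputable def dp_q_184 (j u : ℕ) : Bool :=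
  Bool.rec (motive := fun _ => Bool) (dp_q_182 j u) (dp_q_183 j u) (Nat.ble (nat_lit 196) j)
noncomputable def dp_q_185 (j u : ℕ) : Bool :=
  Bool.rec (motive := fun _ => Bool) (lF [T_z, T_y, T_q, T_z, T_yi, T_z, T_y, T_z, T_q, T_yi, T_z, T_q, T_y, T_z, T_yi] M (Nat.sub (T_q u) (Nat.mod (T_q u) M)) (Nat.mod (T_q u) M) u) (lF [T_y, T_y, T_q, T_y, T_y, T_y, T_q, T_yi, T_q, T_yi, T_q, T_yi, T_yi, T_q, T_yi] M (Nat.sub (T_q u) (Nat.mod (T_q u) M)) (Nat.mod (T_q u) M) u) (Nat.ble (nat_lit 199) j)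
noncomputable def dp_q_186 (j u : ℕ) : Bool :=
  Bool.rec (motive := fun _ => Bool) (lF [T_yi, T_q, T_yi, T_q, T_y, T_y, T_y, T_q, T_y, T_y, T_q, T_yi, T_q, T_yi, T_yi] M (Nat.sub (T_q u) (Nat.mod (T_q u) M)) (Nat.mod (T_q u) M) u) (lS MG [T_y, T_y, T_y, T_q, T_yi, T_yi, T_yi, T_q, T_yi, T_yi, T_yi, T_q, T_yi, T_yi, T_yi] M (Nat.sub (T_q u) (Nat.mod (T_q u) M)) (nat_lit 40) (Nat.mod (T_q u) M) u) (Nat.ble (nat_lit 202) j)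
noncomputable def dp_q_187 (j u : ℕ) : Bool :=
  Bool.rec (motive := fun _ => Bool) (lF [T_z, T_y, T_z, T_yi, T_q, T_z, T_yi, T_yi, T_q, T_z, T_yi, T_z, T_y, T_q, T_z, T_y, T_y] M (Nat.sub (T_q u) (Nat.mod (T_q u) M)) (Nat.mod (T_q u) M) u) (dp_q_186 j u) (Nat.ble (nat_lit 201) j)
noncomputable def dp_q_188 (j u : ℕ) : Bool :=
  Bool.rec (motive := fun _ => Bool) (dp_q_185 j u) (dp_q_187 j u) (Nat.ble (nat_lit 200) j)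
noncomputable def dp_q_189 (j u : ℕ) : Bool :=
  Bool.rec (motive := fun _ => Bool) (dp_q_184 j u) (dp_q_188 j u) (Nat.ble (nat_lit 198) j)
noncomputable def dp_q_190 (j u : ℕ) : Bool :=
  Bool.rec (motive := fun _ => Bool) (lS MG [T_yi, T_z, T_y, T_z, T_q, T_yi, T_q, T_z, T_y, T_z, T_yi, T_q, T_z, T_y, T_z] M (Nat.sub (T_q u) (Nat.mod (T_q u) M)) (nat_lit 40) (Nat.mod (T_q u) M) u) (lS MG [T_z, T_y, T_z, T_yi, T_z, T_q, T_y, T_z, T_q, T_yi, T_z, T_y, T_q, T_z, T_yi] M (Nat.sub (T_q u) (Nat.mod (T_q u) M)) (nat_lit 40) (Nat.mod (T_q u) M) u) (Nat.ble (nat_lit 204) j)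
noncomputable def dp_q_191 (j u : ℕ) : Bool :=
  Bool.rec (motive := fun _ => Bool) (lS MG [T_y, T_y, T_y, T_q, T_yi, T_q, T_yi, T_q, T_yi, T_yi, T_q, T_yi, T_q, T_y, T_y] M (Nat.sub (T_q u) (Nat.mod (T_q u) M)) (nat_lit 40) (Nat.mod (T_q u) M) u) (lF [T_yi, T_yi, T_z, T_q, T_yi, T_z, T_y, T_z, T_q, T_y, T_y, T_z, T_q, T_y, T_z, T_yi, T_z] M (Nat.sub (T_q u) (Nat.mod (T_q u) M)) (Nat.mod (T_q u) M) u) (Nat.ble (nat_lit 206) j)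
noncomputable def dp_q_192 (j u : ℕ) : Bool :=
  Bool.rec (motive := fun _ => Bool) (dp_q_190 j u) (dp_q_191 j u) (Nat.ble (nat_lit 205) j)
noncomputable def dp_q_193 (j u : ℕ) : Bool :=
  Bool.rec (motive := fun _ => Bool) (lS MG [T_z, T_q, T_v, T_z, T_q, T_v, T_q, T_z, T_v, T_z] M (Nat.sub (T_q u) (Nat.mod (T_q u) M)) (nat_lit 40) (Nat.mod (T_q u) M) u) (lF [T_z, T_yi, T_yi, T_q, T_y, T_y, T_z, T_q, T_z, T_yi, T_yi, T_q, T_y, T_y, T_z] M (Nat.sub (T_q u) (Nat.mod (T_q u) M)) (Nat.mod (T_q u) M) u) (Nat.ble (nat_lit 208) j)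
noncomputable def dp_q_194 (j u : ℕ) : Bool :=
  Bool.rec (motive := fun _ => Bool) (lF [T_z, T_yi, T_z, T_y, T_q, T_z, T_y, T_y, T_q, T_z, T_y, T_z, T_yi, T_q, T_z, T_yi, T_yi] M (Nat.sub (T_q u) (Nat.mod (T_q u) M)) (Nat.mod (T_q u) M) u) (lS MG [T_yi, T_q, T_yi, T_z, T_q, T_z, T_yi, T_q, T_yi, T_q, T_yi, T_z, T_q, T_z, T_yi] M (Nat.sub (T_q u) (Nat.mod (T_q u) M)) (nat_lit 40) (Nat.mod (T_q u) M) u) (Nat.ble (nat_lit 211) j)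
noncomputable def dp_q_195 (j u : ℕ) : Bool :=
  Bool.rec (motive := fun _ => Bool) (lF [T_yi, T_q, T_y, T_y, T_y, T_q, T_y, T_y, T_q, T_yi, T_q, T_yi, T_yi, T_q, T_yi] M (Nat.sub (T_q u) (Nat.mod (T_q u) M)) (Nat.mod (T_q u) M) u) (dp_q_194 j u) (Nat.ble (nat_lit 210) j)
noncomputable def dp_q_196 (j u : ℕ) : Bool :=
  Bool.rec (motive := fun _ => Bool) (dp_q_193 j u) (dp_q_195 j u) (Nat.ble (nat_lit 209) j)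
noncomputable def dp_q_197 (j u : ℕ) : Bool :=
  Bool.rec (motive := fun _ => Bool) (dp_q_192 j u) (dp_q_196 j u) (Nat.ble (nat_lit 207) j)
noncomputable def dp_q_198 (j u : ℕ) : Bool :=
  Bool.rec (motive := fun _ => Bool) (dp_q_189 j u) (dp_q_197 j u) (Nat.ble (nat_lit 203) j)
noncomputable def dp_q_199 (j u : ℕ) : Bool :=
  Bool.rec (motive := fun _ => Bool) (dp_q_181 j u) (dp_q_198 j u) (Nat.ble (nat_lit 194) j)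
noncomputable def dp_q_200 (j u : ℕ) : Bool :=
  Bool.rec (motive := fun _ => Bool) (dp_q_165 j u) (dp_q_199 j u) (Nat.ble (nat_lit 177) j)
noncomputable def dp_q_201 (j u : ℕ) : Bool :=
  Bool.rec (motive := fun _ => Bool) (lF [T_yi, T_z, T_y, T_z, T_q, T_y, T_y, T_z, T_q, T_y, T_z, T_yi, T_z, T_q, T_yi, T_yi, T_z] M (Nat.sub (T_q u) (Nat.mod (T_q u) M)) (Nat.mod (T_q u) M) u) (lF [T_z, T_yi, T_yi, T_q, T_z, T_yi, T_z, T_y, T_q, T_z, T_y, T_y, T_q, T_z, T_y, T_z, T_yi] M (Nat.sub (T_q u) (Nat.mod (T_q u) M)) (Nat.mod (T_q u) M) u) (Nat.ble (nat_lit 213) j)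
noncomputable def dp_q_202 (j u : ℕ) : Bool :=
  Bool.rec (motive := fun _ => Bool) (lF [T_y, T_q, T_y, T_y, T_q, T_y, T_q, T_yi, T_yi, T_q, T_yi, T_yi, T_yi, T_q, T_y] M (Nat.sub (T_q u) (Nat.mod (T_q u) M)) (Nat.mod (T_q u) M) u) (lS MG [T_yi, T_yi, T_q, T_yi, T_q, T_yi, T_q, T_y, T_y, T_y, T_q, T_y, T_y, T_q, T_yi] M (Nat.sub (T_q u) (Nat.mod (T_q u) M)) (nat_lit 40) (Nat.mod (T_q u) M) u) (Nat.ble (nat_lit 216) j)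
noncomputable def dp_q_203 (j u : ℕ) : Bool :=
  Bool.rec (motive := fun _ => Bool) (lF [T_yi, T_q, T_z, T_y, T_z, T_q, T_yi, T_q, T_z, T_y, T_z, T_q, T_yi, T_q, T_z, T_y, T_z] M (Nat.sub (T_q u) (Nat.mod (T_q u) M)) (Nat.mod (T_q u) M) u) (dp_q_202 j u) (Nat.ble (nat_lit 215) j)
noncomputable def dp_q_204 (j u : ℕ) : Bool :=
  Bool.rec (motive := fun _ => Bool) (dp_q_201 j u) (dp_q_203 j u) (Nat.ble (nat_lit 214) j)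
noncomputable def dp_q_205 (j u : ℕ) : Bool :=
  Bool.rec (motive := fun _ => Bool) (lS MG [T_yi, T_q, T_z, T_y, T_z, T_q, T_yi, T_q, T_y, T_z, T_q, T_yi, T_q, T_z, T_y] M (Nat.sub (T_q u) (Nat.mod (T_q u) M)) (nat_lit 40) (Nat.mod (T_q u) M) u) (lS MG [T_z, T_yi, T_q, T_z, T_yi, T_q, T_z, T_yi, T_q, T_z, T_yi, T_q, T_z, T_yi, T_q, T_z, T_yi, T_q, T_z, T_yi, T_q, T_z, T_yi] M (Nat.sub (T_q u) (Nat.mod (T_q u) M)) (nat_lit 40) (Nat.mod (T_q u) M) u) (Nat.ble (nat_lit 218) j)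
noncomputable def dp_q_206 (j u : ℕ) : Bool :=
  Bool.rec (motive := fun _ => Bool) (lF [T_y, T_z, T_yi, T_q, T_y, T_q, T_z, T_q, T_yi, T_z, T_y, T_q, T_yi, T_q, T_z] M (Nat.sub (T_q u) (Nat.mod (T_q u) M)) (Nat.mod (T_q u) M) u) (lF [T_y, T_y, T_y, T_q, T_z, T_y, T_y, T_z, T_q, T_y, T_y, T_y, T_q, T_z, T_y, T_y, T_z, T_q, T_y, T_y, T_y, T_q, T_z, T_y, T_y, T_z] M (Nat.sub (T_q u) (Nat.mod (T_q u) M)) (Nat.mod (T_q u) M) u) (Nat.ble (nat_lit 221) j)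
noncomputable def dp_q_207 (j u : ℕ) : Bool :=
  Bool.rec (motive := fun _ => Bool) (lS MG [T_y, T_y, T_y, T_q, T_z, T_y, T_y, T_z, T_q, T_y, T_y, T_y, T_q, T_z, T_y, T_y, T_z, T_q, T_y, T_y, T_y, T_q, T_z, T_y, T_y, T_z] M (Nat.sub (T_q u) (Nat.mod (T_q u) M)) (nat_lit 40) (Nat.mod (T_q u) M) u) (dp_q_206 j u) (Nat.ble (nat_lit 220) j)
noncomputable def dp_q_208 (j u : ℕ) : Bool :=
  Bool.rec (motive := fun _ => Bool) (dp_q_205 j u) (dp_q_207 j u) (Nat.ble (nat_lit 219) j)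
noncomputable def dp_q_209 (j u : ℕ) : Bool :=
  Bool.rec (motive := fun _ => Bool) (dp_q_204 j u) (dp_q_208 j u) (Nat.ble (nat_lit 217) j)
noncomputable def dp_q_210 (j u : ℕ) : Bool :=
  Bool.rec (motive := fun _ => Bool) (lF [T_yi, T_z, T_y, T_q, T_yi, T_q, T_z, T_q, T_y, T_z, T_yi, T_q, T_y, T_q, T_z] M (Nat.sub (T_q u) (Nat.mod (T_q u) M)) (Nat.mod (T_q u) M) u) (lF [T_z, T_q, T_yi, T_yi, T_yi, T_z, T_q, T_z, T_q, T_yi, T_yi, T_yi, T_z] M (Nat.sub (T_q u) (Nat.mod (T_q u) M)) (Nat.mod (T_q u) M) u) (Nat.ble (nat_lit 223) j)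
noncomputable def dp_q_211 (j u : ℕ) : Bool :=
  Bool.rec (motive := fun _ => Bool) (lS MG [T_yi, T_z, T_q, T_y, T_q, T_z, T_yi, T_q, T_y, T_q, T_z, T_yi, T_z, T_q, T_y] M (Nat.sub (T_q u) (Nat.mod (T_q u) M)) (nat_lit 40) (Nat.mod (T_q u) M) u) (lS MG [T_y, T_q, T_yi, T_yi, T_q, T_yi, T_yi, T_yi, T_q, T_y, T_q, T_y, T_q, T_y, T_y] M (Nat.sub (T_q u) (Nat.mod (T_q u) M)) (nat_lit 40) (Nat.mod (T_q u) M) u) (Nat.ble (nat_lit 226) j)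
noncomputable def dp_q_212 (j u : ℕ) : Bool :=
  Bool.rec (motive := fun _ => Bool) (lF [T_y, T_y, T_z, T_q, T_yi, T_q, T_z, T_q, T_y, T_q, T_z, T_yi, T_yi, T_q, T_z, T_yi, T_q, T_z, T_yi, T_z, T_y, T_z, T_q, T_y, T_z] M (Nat.sub (T_q u) (Nat.mod (T_q u) M)) (Nat.mod (T_q u) M) u) (dp_q_211 j u) (Nat.ble (nat_lit 225) j)
noncomputable def dp_q_213 (j u : ℕ) : Bool :=
  Bool.rec (motive := fun _ => Bool) (dp_q_210 j u) (dp_q_212 j u) (Nat.ble (nat_lit 224) j)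
noncomputable def dp_q_214 (j u : ℕ) : Bool :=
  Bool.rec (motive := fun _ => Bool) (lS MG [T_yi, T_q, T_z, T_q, T_y, T_z, T_yi, T_q, T_y, T_q, T_z, T_q, T_yi, T_z, T_y] M (Nat.sub (T_q u) (Nat.mod (T_q u) M)) (nat_lit 40) (Nat.mod (T_q u) M) u) (lS MG [T_yi, T_q, T_yi, T_yi, T_q, T_yi, T_q, T_yi, T_q, T_y, T_y, T_y, T_q, T_y, T_y] M (Nat.sub (T_q u) (Nat.mod (T_q u) M)) (nat_lit 40) (Nat.mod (T_q u) M) u) (Nat.ble (nat_lit 229) j)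
noncomputable def dp_q_215 (j u : ℕ) : Bool :=
  Bool.rec (motive := fun _ => Bool) (lS MG [T_y, T_q, T_y, T_y, T_q, T_y, T_q, T_y, T_q, T_yi, T_yi, T_yi, T_q, T_yi, T_yi] M (Nat.sub (T_q u) (Nat.mod (T_q u) M)) (nat_lit 40) (Nat.mod (T_q u) M) u) (dp_q_214 j u) (Nat.ble (nat_lit 228) j)
noncomputable def dp_q_216 (j u : ℕ) : Bool :=
  Bool.rec (motive := fun _ => Bool) (lS MG [T_y, T_y, T_z, T_q, T_z, T_yi, T_yi, T_q, T_y, T_y, T_z, T_q, T_z, T_yi, T_yi] M (Nat.sub (T_q u) (Nat.mod (T_q u) M)) (nat_lit 40) (Nat.mod (T_q u) M) u) (lF [T_z, T_q, T_yi, T_z, T_y, T_q, T_yi, T_q, T_z, T_q, T_y, T_z, T_yi, T_q, T_y] M (Nat.sub (T_q u) (Nat.mod (T_q u) M)) (Nat.mod (T_q u) M) u) (Nat.ble (nat_lit 232) j)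
noncomputable def dp_q_217 (j u : ℕ) : Bool :=
  Bool.rec (motive := fun _ => Bool) (lF [T_z, T_y, T_y, T_q, T_z, T_y, T_z, T_yi, T_q, T_z, T_yi, T_yi, T_q, T_z, T_yi, T_z, T_y] M (Nat.sub (T_q u) (Nat.mod (T_q u) M)) (Nat.mod (T_q u) M) u) (dp_q_216 j u) (Nat.ble (nat_lit 231) j)
noncomputable def dp_q_218 (j u : ℕ) : Bool :=
  Bool.rec (motive := fun _ => Bool) (dp_q_215 j u) (dp_q_217 j u) (Nat.ble (nat_lit 230) j)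
noncomputable def dp_q_219 (j u : ℕ) : Bool :=
  Bool.rec (motive := fun _ => Bool) (dp_q_213 j u) (dp_q_218 j u) (Nat.ble (nat_lit 227) j)
noncomputable def dp_q_220 (j u : ℕ) : Bool :=
  Bool.rec (motive := fun _ => Bool) (dp_q_209 j u) (dp_q_219 j u) (Nat.ble (nat_lit 222) j)
noncomputable def dp_q_221 (j u : ℕ) : Bool :=
  Bool.rec (motive := fun _ => Bool) (lF [T_z, T_yi, T_q, T_z, T_yi, T_q, T_z, T_yi, T_q, T_z, T_yi, T_q, T_z, T_yi, T_q, T_z, T_yi, T_q, T_z, T_yi, T_q, T_z, T_yi] M (Nat.sub (T_q u) (Nat.mod (T_q u) M)) (Nat.mod (T_q u) M) u) (lF [T_y, T_z, T_yi, T_q, T_z, T_q, T_y, T_q, T_yi, T_z, T_y, T_q, T_z, T_q, T_yi] M (Nat.sub (T_q u) (Nat.mod (T_q u) M)) (Nat.mod (T_q u) M) u) (Nat.ble (nat_lit 235) j)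
noncomputable def dp_q_222 (j u : ℕ) : Bool :=
  Bool.rec (motive := fun _ => Bool) (lS MG [T_yi, T_yi, T_z, T_q, T_z, T_y, T_y, T_q, T_yi, T_yi, T_z, T_q, T_z, T_y, T_y] M (Nat.sub (T_q u) (Nat.mod (T_q u) M)) (nat_lit 40) (Nat.mod (T_q u) M) u) (dp_q_221 j u) (Nat.ble (nat_lit 234) j)
noncomputable def dp_q_223 (j u : ℕ) : Bool :=
  Bool.rec (motive := fun _ => Bool) (lF [T_z, T_y, T_z, T_yi, T_q, T_z, T_y, T_z, T_q, T_yi, T_z, T_y, T_z, T_q, T_yi] M (Nat.sub (T_q u) (Nat.mod (T_q u) M)) (Nat.mod (T_q u) M) u) (lS MG [T_y, T_y, T_z, T_q, T_y, T_z, T_yi, T_z, T_q, T_yi, T_yi, T_z, T_q, T_yi, T_z, T_y, T_z] M (Nat.sub (T_q u) (Nat.mod (T_q u) M)) (nat_lit 40) (Nat.mod (T_q u) M) u) (Nat.ble (nat_lit 238) j)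
noncomputable def dp_q_224 (j u : ℕ) : Bool :=
  Bool.rec (motive := fun _ => Bool) (lS MG [T_z, T_q, T_yi, T_q, T_y, T_z, T_yi, T_q, T_z, T_q, T_y, T_q, T_yi, T_z, T_y] M (Nat.sub (T_q u) (Nat.mod (T_q u) M)) (nat_lit 40) (Nat.mod (T_q u) M) u) (dp_q_223 j u) (Nat.ble (nat_lit 237) j)
noncomputable def dp_q_225 (j u : ℕ) : Bool :=
  Bool.rec (motive := fun _ => Bool) (dp_q_222 j u) (dp_q_224 j u) (Nat.ble (nat_lit 236) j)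
noncomputable def dp_q_226 (j u : ℕ) : Bool :=
  Bool.rec (motive := fun _ => Bool) (lS MG [T_yi, T_q, T_yi, T_yi, T_q, T_yi, T_q, T_y, T_y, T_q, T_y, T_y, T_y, T_q, T_yi] M (Nat.sub (T_q u) (Nat.mod (T_q u) M)) (nat_lit 40) (Nat.mod (T_q u) M) u) (lF [T_yi, T_yi, T_q, T_yi, T_yi, T_yi, T_q, T_y, T_q, T_y, T_q, T_y, T_y, T_q, T_y] M (Nat.sub (T_q u) (Nat.mod (T_q u) M)) (Nat.mod (T_q u) M) u) (Nat.ble (nat_lit 241) j)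
noncomputable def dp_q_227 (j u : ℕ) : Bool :=
  Bool.rec (motive := fun _ => Bool) (lS MG [T_yi, T_yi, T_yi, T_q, T_z, T_yi, T_yi, T_z, T_q, T_yi, T_yi, T_yi, T_q, T_z, T_yi, T_yi, T_z, T_q, T_yi, T_yi, T_yi, T_q, T_z, T_yi, T_yi, T_z] M (Nat.sub (T_q u) (Nat.mod (T_q u) M)) (nat_lit 40) (Nat.mod (T_q u) M) u) (dp_q_226 j u) (Nat.ble (nat_lit 240) j)
noncomputable def dp_q_228 (j u : ℕ) : Bool :=
  Bool.rec (motive := fun _ => Bool) (lF [T_z, T_q, T_v, T_y, T_v, T_q, T_z, T_q, T_z, T_yi, T_z] M (Nat.sub (T_q u) (Nat.mod (T_q u) M)) (Nat.mod (T_q u) M) u) (lF [T_y, T_q, T_z, T_yi, T_z, T_q, T_y, T_q, T_z, T_yi, T_z, T_q, T_y, T_q, T_z, T_yi, T_z] M (Nat.sub (T_q u) (Nat.mod (T_q u) M)) (Nat.mod (T_q u) M) u) (Nat.ble (nat_lit 244) j)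
noncomputable def dp_q_229 (j u : ℕ) : Bool :=
  Bool.rec (motive := fun _ => Bool) (lS MG [T_y, T_z, T_q, T_z, T_y, T_q, T_y, T_q, T_y, T_z, T_q, T_z, T_y, T_q, T_y] M (Nat.sub (T_q u) (Nat.mod (T_q u) M)) (nat_lit 40) (Nat.mod (T_q u) M) u) (dp_q_228 j u) (Nat.ble (nat_lit 243) j)
noncomputable def dp_q_230 (j u : ℕ) : Bool :=
  Bool.rec (motive := fun _ => Bool) (dp_q_227 j u) (dp_q_229 j u) (Nat.ble (nat_lit 242) j)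
noncomputable def dp_q_231 (j u : ℕ) : Bool :=
  Bool.rec (motive := fun _ => Bool) (dp_q_225 j u) (dp_q_230 j u) (Nat.ble (nat_lit 239) j)
noncomputable def dp_q_232 (j u : ℕ) : Bool :=
  Bool.rec (motive := fun _ => Bool) (lS MG [T_z, T_q, T_y, T_q, T_yi, T_z, T_y, T_q, T_z, T_q, T_yi, T_q, T_y, T_z, T_yi] M (Nat.sub (T_q u) (Nat.mod (T_q u) M)) (nat_lit 40) (Nat.mod (T_q u) M) u) (lF [T_yi, T_z, T_y, T_q, T_z, T_q, T_yi, T_q, T_y, T_z, T_yi, T_q, T_z, T_q, T_y] M (Nat.sub (T_q u) (Nat.mod (T_q u) M)) (Nat.mod (T_q u) M) u) (Nat.ble (nat_lit 247) j)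
noncomputable def dp_q_233 (j u : ℕ) : Bool :=
  Bool.rec (motive := fun _ => Bool) (lF [T_y, T_q, T_y, T_q, T_y, T_y, T_q, T_y, T_q, T_yi, T_yi, T_q, T_yi, T_yi, T_yi] M (Nat.sub (T_q u) (Nat.mod (T_q u) M)) (Nat.mod (T_q u) M) u) (dp_q_232 j u) (Nat.ble (nat_lit 246) j)
noncomputable def dp_q_234 (j u : ℕ) : Bool :=
  Bool.rec (motive := fun _ => Bool) (lS MG [T_y, T_q, T_yi, T_yi, T_yi, T_q, T_yi, T_yi, T_q, T_y, T_q, T_y, T_y, T_q, T_y] M (Nat.sub (T_q u) (Nat.mod (T_q u) M)) (nat_lit 40) (Nat.mod (T_q u) M) u) (lF [T_yi, T_yi, T_yi, T_q, T_yi, T_yi, T_q, T_y, T_q, T_y, T_y, T_q, T_y, T_q, T_y] M (Nat.sub (T_q u) (Nat.mod (T_q u) M)) (Nat.mod (T_q u) M) u) (Nat.ble (nat_lit 249) j)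
noncomputable def dp_q_235 (j u : ℕ) : Bool :=
  Bool.rec (motive := fun _ => Bool) (lS MG [T_yi, T_yi, T_z, T_q, T_yi, T_z, T_y, T_z, T_q, T_y, T_y, T_z, T_q, T_y, T_z, T_yi, T_z] M (Nat.sub (T_q u) (Nat.mod (T_q u) M)) (nat_lit 40) (Nat.mod (T_q u) M) u) (lS MG [T_y, T_z, T_yi, T_z, T_q, T_yi, T_yi, T_z, T_q, T_yi, T_z, T_y, T_z, T_q, T_y, T_y, T_z] M (Nat.sub (T_q u) (Nat.mod (T_q u) M)) (nat_lit 40) (Nat.mod (T_q u) M) u) (Nat.ble (nat_lit 251) j)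
noncomputable def dp_q_236 (j u : ℕ) : Bool :=
  Bool.rec (motive := fun _ => Bool) (dp_q_234 j u) (dp_q_235 j u) (Nat.ble (nat_lit 250) j)
noncomputable def dp_q_237 (j u : ℕ) : Bool :=
  Bool.rec (motive := fun _ => Bool) (dp_q_233 j u) (dp_q_236 j u) (Nat.ble (nat_lit 248) j)
noncomputable def dp_q_238 (j u : ℕ) : Bool :=
  Bool.rec (motive := fun _ => Bool) (lS MG [T_z, T_yi, T_z, T_y, T_q, T_z, T_y, T_y, T_q, T_z, T_y, T_z, T_yi, T_q, T_z, T_yi, T_yi] M (Nat.sub (T_q u) (Nat.mod (T_q u) M)) (nat_lit 40) (Nat.mod (T_q u) M) u) (lF [T_z, T_q, T_v, T_yi, T_v, T_q, T_z, T_q, T_z, T_y, T_z] M (Nat.sub (T_q u) (Nat.mod (T_q u) M)) (Nat.mod (T_q u) M) u) (Nat.ble (nat_lit 254) j)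
noncomputable def dp_q_239 (j u : ℕ) : Bool :=
  Bool.rec (motive := fun _ => Bool) (lS MG [T_z, T_y, T_y, T_z, T_q, T_y, T_y, T_y, T_q, T_z, T_y, T_y, T_z, T_q, T_y, T_y, T_y, T_q, T_z, T_y, T_y, T_z, T_q, T_y, T_y, T_y] M (Nat.sub (T_q u) (Nat.mod (T_q u) M)) (nat_lit 40) (Nat.mod (T_q u) M) u) (dp_q_238 j u) (Nat.ble (nat_lit 253) j)
noncomputable def dp_q_240 (j u : ℕ) : Bool :=
  Bool.rec (motive := fun _ => Bool) (lF [T_z, T_q, T_y, T_z, T_yi, T_q, T_y, T_q, T_z, T_q, T_yi, T_z, T_y, T_q, T_yi] M (Nat.sub (T_q u) (Nat.mod (T_q u) M)) (Nat.mod (T_q u) M) u) (lS MG [T_y, T_q, T_z, T_q, T_yi, T_z, T_y, T_q, T_yi, T_q, T_z, T_q, T_y, T_z, T_yi] M (Nat.sub (T_q u) (Nat.mod (T_q u) M)) (nat_lit 40) (Nat.mod (T_q u) M) u) (Nat.ble (nat_lit 256) j)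
noncomputable def dp_q_241 (j u : ℕ) : Bool :=
  Bool.rec (motive := fun _ => Bool) (lF [T_z, T_y, T_z, T_q, T_yi, T_q, T_z, T_y, T_z, T_q, T_yi, T_q, T_z, T_y, T_z, T_q, T_yi] M (Nat.sub (T_q u) (Nat.mod (T_q u) M)) (Nat.mod (T_q u) M) u) (lS MG [T_z, T_yi, T_yi, T_q, T_z, T_yi, T_z, T_y, T_q, T_z, T_y, T_y, T_q, T_z, T_y, T_z, T_yi] M (Nat.sub (T_q u) (Nat.mod (T_q u) M)) (nat_lit 40) (Nat.mod (T_q u) M) u) (Nat.ble (nat_lit 258) j)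
noncomputable def dp_q_242 (j u : ℕ) : Bool :=
  Bool.rec (motive := fun _ => Bool) (dp_q_240 j u) (dp_q_241 j u) (Nat.ble (nat_lit 257) j)
noncomputable def dp_q_243 (j u : ℕ) : Bool :=
  Bool.rec (motive := fun _ => Bool) (dp_q_239 j u) (dp_q_242 j u) (Nat.ble (nat_lit 255) j)
noncomputable def dp_q_244 (j u : ℕ) : Bool :=
  Bool.rec (motive := fun _ => Bool) (dp_q_237 j u) (dp_q_243 j u) (Nat.ble (nat_lit 252) j)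
noncomputable def dp_q_245 (j u : ℕ) : Bool :=
  Bool.rec (motive := fun _ => Bool) (dp_q_231 j u) (dp_q_244 j u) (Nat.ble (nat_lit 245) j)
noncomputable def dp_q_246 (j u : ℕ) : Bool :=
  Bool.rec (motive := fun _ => Bool) (dp_q_220 j u) (dp_q_245 j u) (Nat.ble (nat_lit 233) j)
noncomputable def dp_q_247 (j u : ℕ) : Bool :=
  Bool.rec (motive := fun _ => Bool) (lS MG [T_yi, T_z, T_y, T_z, T_q, T_y, T_y, T_z, T_q, T_y, T_z, T_yi, T_z, T_q, T_yi, T_yi, T_z] M (Nat.sub (T_q u) (Nat.mod (T_q u) M)) (nat_lit 40) (Nat.mod (T_q u) M) u) (lS MG [T_y, T_z, T_yi, T_q, T_z, T_y, T_q, T_z, T_yi, T_z, T_y, T_z, T_q, T_yi, T_z] M (Nat.sub (T_q u) (Nat.mod (T_q u) M)) (nat_lit 40) (Nat.mod (T_q u) M) u) (Nat.ble (nat_lit 260) j)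
noncomputable def dp_q_248 (j u : ℕ) : Bool :=
  Bool.rec (motive := fun _ => Bool) (lF [T_z, T_v, T_q, T_v, T_q, T_v, T_z, T_q, T_z, T_v, T_z, T_v, T_z] M (Nat.sub (T_q u) (Nat.mod (T_q u) M)) (Nat.mod (T_q u) M) u) (lS MG [T_yi, T_yi, T_yi, T_z, T_q, T_z, T_q, T_yi, T_yi, T_yi, T_z, T_q, T_z] M (Nat.sub (T_q u) (Nat.mod (T_q u) M)) (nat_lit 40) (Nat.mod (T_q u) M) u) (Nat.ble (nat_lit 262) j)
noncomputable def dp_q_249 (j u : ℕ) : Bool :=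
  Bool.rec (motive := fun _ => Bool) (dp_q_247 j u) (dp_q_248 j u) (Nat.ble (nat_lit 261) j)
noncomputable def dp_q_250 (j u : ℕ) : Bool :=
  Bool.rec (motive := fun _ => Bool) (lS MG [T_yi, T_z, T_q, T_y, T_z, T_yi, T_q, T_z, T_y, T_q, T_z, T_yi, T_z, T_y, T_z] M (Nat.sub (T_q u) (Nat.mod (T_q u) M)) (nat_lit 40) (Nat.mod (T_q u) M) u) (lS MG [T_z, T_yi, T_q, T_z, T_yi, T_z, T_y, T_z, T_q, T_y, T_z, T_q, T_y, T_y, T_z, T_q, T_yi, T_q, T_z, T_q, T_y, T_q, T_z, T_yi, T_yi] M (Nat.sub (T_q u) (Nat.mod (T_q u) M)) (nat_lit 40) (Nat.mod (T_q u) M) u) (Nat.ble (nat_lit 264) j)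
noncomputable def dp_q_251 (j u : ℕ) : Bool :=
  Bool.rec (motive := fun _ => Bool) (lF [T_z, T_yi, T_q, T_z, T_yi, T_z, T_y, T_z, T_q, T_y, T_z, T_q, T_y, T_y, T_z, T_q, T_yi, T_q, T_z, T_q, T_y, T_q, T_z, T_yi, T_yi] M (Nat.sub (T_q u) (Nat.mod (T_q u) M)) (Nat.mod (T_q u) M) u) (lS MG [T_y, T_q, T_z, T_yi, T_z, T_y, T_q, T_z, T_yi, T_z, T_q, T_y, T_z, T_yi, T_z] M (Nat.sub (T_q u) (Nat.mod (T_q u) M)) (nat_lit 40) (Nat.mod (T_q u) M) u) (Nat.ble (nat_lit 266) j)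
noncomputable def dp_q_252 (j u : ℕ) : Bool :=
  Bool.rec (motive := fun _ => Bool) (dp_q_250 j u) (dp_q_251 j u) (Nat.ble (nat_lit 265) j)
noncomputable def dp_q_253 (j u : ℕ) : Bool :=
  Bool.rec (motive := fun _ => Bool) (dp_q_249 j u) (dp_q_252 j u) (Nat.ble (nat_lit 263) j)
noncomputable def dp_q_254 (j u : ℕ) : Bool :=
  Bool.rec (motive := fun _ => Bool) (lS MG [T_z, T_yi, T_yi, T_q, T_y, T_y, T_z, T_q, T_z, T_yi, T_yi, T_q, T_y, T_y, T_z] M (Nat.sub (T_q u) (Nat.mod (T_q u) M)) (nat_lit 40) (Nat.mod (T_q u) M) u) (lS MG [T_z, T_yi, T_z, T_y, T_q, T_z, T_yi, T_z, T_q, T_y, T_z, T_yi, T_z, T_q, T_y] M (Nat.sub (T_q u) (Nat.mod (T_q u) M)) (nat_lit 40) (Nat.mod (T_q u) M) u) (Nat.ble (nat_lit 268) j)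
noncomputable def dp_q_255 (j u : ℕ) : Bool :=
  Bool.rec (motive := fun _ => Bool) (lS MG [T_yi, T_yi, T_yi, T_q, T_y, T_y, T_y, T_q, T_yi, T_yi, T_yi, T_q, T_yi, T_yi, T_yi] M (Nat.sub (T_q u) (Nat.mod (T_q u) M)) (nat_lit 40) (Nat.mod (T_q u) M) u) (lS MG [T_z, T_y, T_y, T_q, T_z, T_y, T_z, T_yi, T_q, T_z, T_yi, T_yi, T_q, T_z, T_yi, T_z, T_y] M (Nat.sub (T_q u) (Nat.mod (T_q u) M)) (nat_lit 40) (Nat.mod (T_q u) M) u) (Nat.ble (nat_lit 270) j)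
noncomputable def dp_q_256 (j u : ℕ) : Bool :=
  Bool.rec (motive := fun _ => Bool) (dp_q_254 j u) (dp_q_255 j u) (Nat.ble (nat_lit 269) j)
noncomputable def dp_q_257 (j u : ℕ) : Bool :=
  Bool.rec (motive := fun _ => Bool) (lS MG [T_z, T_y, T_z, T_yi, T_q, T_z, T_y, T_z, T_q, T_yi, T_z, T_y, T_z, T_q, T_yi] M (Nat.sub (T_q u) (Nat.mod (T_q u) M)) (nat_lit 40) (Nat.mod (T_q u) M) u) (lS MG [T_yi, T_yi, T_yi, T_q, T_y, T_q, T_y, T_q, T_y, T_y, T_q, T_y, T_q, T_yi, T_yi] M (Nat.sub (T_q u) (Nat.mod (T_q u) M)) (nat_lit 40) (Nat.mod (T_q u) M) u) (Nat.ble (nat_lit 272) j)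
noncomputable def dp_q_258 (j u : ℕ) : Bool :=
  Bool.rec (motive := fun _ => Bool) (lF [T_z, T_y, T_y, T_z, T_q, T_y, T_y, T_y, T_q, T_z, T_y, T_y, T_z, T_q, T_y, T_y, T_y, T_q, T_z, T_y, T_y, T_z, T_q, T_y, T_y, T_y] M (Nat.sub (T_q u) (Nat.mod (T_q u) M)) (Nat.mod (T_q u) M) u) (lF [T_y, T_q, T_yi, T_z, T_y, T_q, T_z, T_q, T_yi, T_q, T_y, T_z, T_yi, T_q, T_z] M (Nat.sub (T_q u) (Nat.mod (T_q u) M)) (Nat.mod (T_q u) M) u) (Nat.ble (nat_lit 274) j)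
noncomputable def dp_q_259 (j u : ℕ) : Bool :=
  Bool.rec (motive := fun _ => Bool) (dp_q_257 j u) (dp_q_258 j u) (Nat.ble (nat_lit 273) j)
noncomputable def dp_q_260 (j u : ℕ) : Bool :=
  Bool.rec (motive := fun _ => Bool) (dp_q_256 j u) (dp_q_259 j u) (Nat.ble (nat_lit 271) j)
noncomputable def dp_q_261 (j u : ℕ) : Bool :=
  Bool.rec (motive := fun _ => Bool) (dp_q_253 j u) (dp_q_260 j u) (Nat.ble (nat_lit 267) j)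
noncomputable def dp_q_262 (j u : ℕ) : Bool :=
  Bool.rec (motive := fun _ => Bool) (lF [T_y, T_y, T_y, T_q, T_y, T_y, T_y, T_q, T_y, T_y, T_y, T_q, T_yi, T_yi, T_yi] M (Nat.sub (T_q u) (Nat.mod (T_q u) M)) (Nat.mod (T_q u) M) u) (lS MG [T_yi, T_z, T_q, T_z, T_yi, T_q, T_yi, T_q, T_yi, T_z, T_q, T_z, T_yi, T_q, T_yi] M (Nat.sub (T_q u) (Nat.mod (T_q u) M)) (nat_lit 40) (Nat.mod (T_q u) M) u) (Nat.ble (nat_lit 276) j)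
noncomputable def dp_q_263 (j u : ℕ) : Bool :=
  Bool.rec (motive := fun _ => Bool) (lS MG [T_y, T_z, T_q, T_yi, T_q, T_z, T_y, T_q, T_yi, T_q, T_z, T_y, T_z, T_q, T_yi] M (Nat.sub (T_q u) (Nat.mod (T_q u) M)) (nat_lit 40) (Nat.mod (T_q u) M) u) (lS MG [T_z, T_yi, T_z, T_q, T_y, T_z, T_yi, T_z, T_q, T_y, T_q, T_z, T_yi, T_z, T_y] M (Nat.sub (T_q u) (Nat.mod (T_q u) M)) (nat_lit 40) (Nat.mod (T_q u) M) u) (Nat.ble (nat_lit 278) j)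
noncomputable def dp_q_264 (j u : ℕ) : Bool :=
  Bool.rec (motive := fun _ => Bool) (dp_q_262 j u) (dp_q_263 j u) (Nat.ble (nat_lit 277) j)
noncomputable def dp_q_265 (j u : ℕ) : Bool :=
  Bool.rec (motive := fun _ => Bool) (lS MG [T_yi, T_q, T_yi, T_q, T_y, T_y, T_y, T_q, T_y, T_y, T_q, T_yi, T_q, T_yi, T_yi] M (Nat.sub (T_q u) (Nat.mod (T_q u) M)) (nat_lit 40) (Nat.mod (T_q u) M) u) (lS MG [T_z, T_y, T_z, T_yi, T_q, T_z, T_yi, T_yi, T_q, T_z, T_yi, T_z, T_y, T_q, T_z, T_y, T_y] M (Nat.sub (T_q u) (Nat.mod (T_q u) M)) (nat_lit 40) (Nat.mod (T_q u) M) u) (Nat.ble (nat_lit 280) j)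
noncomputable def dp_q_266 (j u : ℕ) : Bool :=
  Bool.rec (motive := fun _ => Bool) (lF [T_y, T_y, T_y, T_q, T_y, T_y, T_q, T_yi, T_q, T_yi, T_yi, T_q, T_yi, T_q, T_yi] M (Nat.sub (T_q u) (Nat.mod (T_q u) M)) (Nat.mod (T_q u) M) u) (lF [T_yi, T_q, T_y, T_z, T_yi, T_q, T_z, T_q, T_y, T_q, T_yi, T_z, T_y, T_q, T_z] M (Nat.sub (T_q u) (Nat.mod (T_q u) M)) (Nat.mod (T_q u) M) u) (Nat.ble (nat_lit 282) j)
noncomputable def dp_q_267 (j u : ℕ) : Bool :=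
  Bool.rec (motive := fun _ => Bool) (dp_q_265 j u) (dp_q_266 j u) (Nat.ble (nat_lit 281) j)
noncomputable def dp_q_268 (j u : ℕ) : Bool :=
  Bool.rec (motive := fun _ => Bool) (dp_q_264 j u) (dp_q_267 j u) (Nat.ble (nat_lit 279) j)
noncomputable def dp_q_269 (j u : ℕ) : Bool :=
  Bool.rec (motive := fun _ => Bool) (lS MG [T_y, T_y, T_q, T_y, T_q, T_yi, T_yi, T_q, T_yi, T_yi, T_yi, T_q, T_y, T_q, T_y] M (Nat.sub (T_q u) (Nat.mod (T_q u) M)) (nat_lit 40) (Nat.mod (T_q u) M) u) (lS MG [T_z, T_yi, T_z, T_y, T_z, T_q, T_yi, T_z, T_q, T_y, T_z, T_yi, T_q, T_z, T_y] M (Nat.sub (T_q u) (Nat.mod (T_q u) M)) (nat_lit 40) (Nat.mod (T_q u) M) u) (Nat.ble (nat_lit 284) j)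
noncomputable def dp_q_270 (j u : ℕ) : Bool :=
  Bool.rec (motive := fun _ => Bool) (lS MG [T_yi, T_q, T_yi, T_q, T_yi, T_yi, T_q, T_yi, T_q, T_y, T_y, T_q, T_y, T_y, T_y] M (Nat.sub (T_q u) (Nat.mod (T_q u) M)) (nat_lit 40) (Nat.mod (T_q u) M) u) (lS MG [T_z, T_yi, T_yi, T_z, T_q, T_yi, T_yi, T_yi, T_q, T_z, T_yi, T_yi, T_z, T_q, T_yi, T_yi, T_yi, T_q, T_z, T_yi, T_yi, T_z, T_q, T_yi, T_yi, T_yi] M (Nat.sub (T_q u) (Nat.mod (T_q u) M)) (nat_lit 40) (Nat.mod (T_q u) M) u) (Nat.ble (nat_lit 287) j)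
noncomputable def dp_q_271 (j u : ℕ) : Bool :=
  Bool.rec (motive := fun _ => Bool) (lF [T_yi, T_yi, T_yi, T_q, T_z, T_yi, T_yi, T_z, T_q, T_yi, T_yi, T_yi, T_q, T_z, T_yi, T_yi, T_z, T_q, T_yi, T_yi, T_yi, T_q, T_z, T_yi, T_yi, T_z] M (Nat.sub (T_q u) (Nat.mod (T_q u) M)) (Nat.mod (T_q u) M) u) (dp_q_270 j u) (Nat.ble (nat_lit 286) j)
noncomputable def dp_q_272 (j u : ℕ) : Bool :=
  Bool.rec (motive := fun _ => Bool) (dp_q_269 j u) (dp_q_271 j u) (Nat.ble (nat_lit 285) j)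
noncomputable def dp_q_273 (j u : ℕ) : Bool :=
  Bool.rec (motive := fun _ => Bool) (lS MG [T_y, T_y, T_q, T_yi, T_q, T_yi, T_yi, T_q, T_yi, T_q, T_yi, T_q, T_y, T_y, T_y] M (Nat.sub (T_q u) (Nat.mod (T_q u) M)) (nat_lit 40) (Nat.mod (T_q u) M) u) (lF [T_z, T_yi, T_z, T_q, T_y, T_q, T_z, T_yi, T_z, T_q, T_y, T_q, T_z, T_yi, T_z, T_q, T_y] M (Nat.sub (T_q u) (Nat.mod (T_q u) M)) (Nat.mod (T_q u) M) u) (Nat.ble (nat_lit 289) j)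
noncomputable def dp_q_274 (j u : ℕ) : Bool :=
  Bool.rec (motive := fun _ => Bool) (lS MG [T_y, T_y, T_q, T_y, T_y, T_y, T_q, T_yi, T_q, T_yi, T_q, T_yi, T_yi, T_q, T_yi] M (Nat.sub (T_q u) (Nat.mod (T_q u) M)) (nat_lit 40) (Nat.mod (T_q u) M) u) (lS MG [T_z, T_q, T_yi, T_z, T_y, T_q, T_yi, T_q, T_z, T_q, T_y, T_z, T_yi, T_q, T_y] M (Nat.sub (T_q u) (Nat.mod (T_q u) M)) (nat_lit 40) (Nat.mod (T_q u) M) u) (Nat.ble (nat_lit 292) j)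
noncomputable def dp_q_275 (j u : ℕ) : Bool :=
  Bool.rec (motive := fun _ => Bool) (lS MG [T_v, T_y, T_v, T_q, T_z, T_q, T_z, T_yi, T_z, T_q, T_z] M (Nat.sub (T_q u) (Nat.mod (T_q u) M)) (nat_lit 40) (Nat.mod (T_q u) M) u) (dp_q_274 j u) (Nat.ble (nat_lit 291) j)
noncomputable def dp_q_276 (j u : ℕ) : Bool :=
  Bool.rec (motive := fun _ => Bool) (dp_q_273 j u) (dp_q_275 j u) (Nat.ble (nat_lit 290) j)
noncomputable def dp_q_277 (j u : ℕ) : Bool :=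
  Bool.rec (motive := fun _ => Bool) (dp_q_272 j u) (dp_q_276 j u) (Nat.ble (nat_lit 288) j)
noncomputable def dp_q_278 (j u : ℕ) : Bool :=
  Bool.rec (motive := fun _ => Bool) (dp_q_268 j u) (dp_q_277 j u) (Nat.ble (nat_lit 283) j)
noncomputable def dp_q_279 (j u : ℕ) : Bool :=
  Bool.rec (motive := fun _ => Bool) (dp_q_261 j u) (dp_q_278 j u) (Nat.ble (nat_lit 275) j)
noncomputable def dp_q_280 (j u : ℕ) : Bool :=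
  Bool.rec (motive := fun _ => Bool) (lF [T_z, T_yi, T_q, T_yi, T_q, T_yi, T_z, T_q, T_z, T_yi, T_q, T_yi, T_q, T_yi, T_z] M (Nat.sub (T_q u) (Nat.mod (T_q u) M)) (Nat.mod (T_q u) M) u) (lS MG [T_z, T_y, T_q, T_z, T_yi, T_z, T_y, T_z, T_q, T_yi, T_z, T_q, T_y, T_z, T_yi] M (Nat.sub (T_q u) (Nat.mod (T_q u) M)) (nat_lit 40) (Nat.mod (T_q u) M) u) (Nat.ble (nat_lit 294) j)
noncomputable def dp_q_281 (j u : ℕ) : Bool :=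
  Bool.rec (motive := fun _ => Bool) (lF [T_y, T_z, T_q, T_y, T_y, T_z, T_q, T_yi, T_q, T_z, T_q, T_y, T_q, T_z, T_yi, T_yi, T_q, T_z, T_yi, T_q, T_z, T_yi, T_z, T_y, T_z] M (Nat.sub (T_q u) (Nat.mod (T_q u) M)) (Nat.mod (T_q u) M) u) (lS MG [T_yi, T_q, T_z, T_y, T_z, T_q, T_yi, T_q, T_z, T_y, T_z, T_q, T_yi, T_q, T_z, T_y, T_z] M (Nat.sub (T_q u) (Nat.mod (T_q u) M)) (nat_lit 40) (Nat.mod (T_q u) M) u) (Nat.ble (nat_lit 297) j)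
noncomputable def dp_q_282 (j u : ℕ) : Bool :=
  Bool.rec (motive := fun _ => Bool) (lS MG [T_y, T_q, T_y, T_y, T_q, T_y, T_q, T_yi, T_yi, T_q, T_yi, T_yi, T_yi, T_q, T_y] M (Nat.sub (T_q u) (Nat.mod (T_q u) M)) (nat_lit 40) (Nat.mod (T_q u) M) u) (dp_q_281 j u) (Nat.ble (nat_lit 296) j)
noncomputable def dp_q_283 (j u : ℕ) : Bool :=
  Bool.rec (motive := fun _ => Bool) (dp_q_280 j u) (dp_q_282 j u) (Nat.ble (nat_lit 295) j)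
noncomputable def dp_q_284 (j u : ℕ) : Bool :=
  Bool.rec (motive := fun _ => Bool) (lS MG [T_y, T_y, T_y, T_q, T_yi, T_yi, T_yi, T_q, T_y, T_y, T_y, T_q, T_y, T_y, T_y] M (Nat.sub (T_q u) (Nat.mod (T_q u) M)) (nat_lit 40) (Nat.mod (T_q u) M) u) (lS MG [T_y, T_z, T_q, T_y, T_y, T_y, T_z, T_q, T_y, T_z, T_q, T_y, T_y, T_y, T_z, T_q, T_y, T_z, T_q, T_y, T_y, T_y, T_z, T_q, T_y, T_z, T_q, T_y, T_y, T_y, T_z] M (Nat.sub (T_q u) (Nat.mod (T_q u) M)) (nat_lit 40) (Nat.mod (T_q u) M) u) (Nat.ble (nat_lit 300) j)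
noncomputable def dp_q_285 (j u : ℕ) : Bool :=
  Bool.rec (motive := fun _ => Bool) (lS MG [T_z, T_v, T_z, T_v, T_z, T_q, T_z, T_v, T_q, T_v, T_q, T_v, T_z] M (Nat.sub (T_q u) (Nat.mod (T_q u) M)) (nat_lit 40) (Nat.mod (T_q u) M) u) (dp_q_284 j u) (Nat.ble (nat_lit 299) j)
noncomputable def dp_q_286 (j u : ℕ) : Bool :=
  Bool.rec (motive := fun _ => Bool) (lS MG [T_y, T_z, T_yi, T_q, T_z, T_q, T_y, T_q, T_yi, T_z, T_y, T_q, T_z, T_q, T_yi] M (Nat.sub (T_q u) (Nat.mod (T_q u) M)) (nat_lit 40) (Nat.mod (T_q u) M) u) (lS MG [T_yi, T_q, T_y, T_y, T_y, T_q, T_y, T_y, T_q, T_yi, T_q, T_yi, T_yi, T_q, T_yi] M (Nat.sub (T_q u) (Nat.mod (T_q u) M)) (nat_lit 40) (Nat.mod (T_q u) M) u) (Nat.ble (nat_lit 303) j)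
noncomputable def dp_q_287 (j u : ℕ) : Bool :=
  Bool.rec (motive := fun _ => Bool) (lS MG [T_z, T_q, T_y, T_z, T_yi, T_q, T_y, T_q, T_z, T_q, T_yi, T_z, T_y, T_q, T_yi] M (Nat.sub (T_q u) (Nat.mod (T_q u) M)) (nat_lit 40) (Nat.mod (T_q u) M) u) (dp_q_286 j u) (Nat.ble (nat_lit 302) j)
noncomputable def dp_q_288 (j u : ℕ) : Bool :=
  Bool.rec (motive := fun _ => Bool) (dp_q_285 j u) (dp_q_287 j u) (Nat.ble (nat_lit 301) j)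
noncomputable def dp_q_289 (j u : ℕ) : Bool :=
  Bool.rec (motive := fun _ => Bool) (dp_q_283 j u) (dp_q_288 j u) (Nat.ble (nat_lit 298) j)
noncomputable def dp_q_290 (j u : ℕ) : Bool :=
  Bool.rec (motive := fun _ => Bool) (lS MG [T_z, T_y, T_y, T_q, T_yi, T_yi, T_z, T_q, T_z, T_y, T_y, T_q, T_yi, T_yi, T_z] M (Nat.sub (T_q u) (Nat.mod (T_q u) M)) (nat_lit 40) (Nat.mod (T_q u) M) u) (lF [T_z, T_y, T_q, T_y, T_q, T_y, T_z, T_q, T_z, T_y, T_q, T_y, T_q, T_y, T_z] M (Nat.sub (T_q u) (Nat.mod (T_q u) M)) (Nat.mod (T_q u) M) u) (Nat.ble (nat_lit 306) j)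
noncomputable def dp_q_291 (j u : ℕ) : Bool :=
  Bool.rec (motive := fun _ => Bool) (lS MG [T_z, T_q, T_z, T_yi, T_z, T_q, T_z, T_q, T_v, T_y, T_v] M (Nat.sub (T_q u) (Nat.mod (T_q u) M)) (nat_lit 40) (Nat.mod (T_q u) M) u) (dp_q_290 j u) (Nat.ble (nat_lit 305) j)
noncomputable def dp_q_292 (j u : ℕ) : Bool :=
  Bool.rec (motive := fun _ => Bool) (lS MG [T_z, T_y, T_z, T_q, T_yi, T_q, T_z, T_y, T_z, T_q, T_yi, T_q, T_z, T_y, T_z, T_q, T_yi] M (Nat.sub (T_q u) (Nat.mod (T_q u) M)) (nat_lit 40) (Nat.mod (T_q u) M) u) (lF [T_yi, T_yi, T_yi, T_q, T_y, T_y, T_y, T_q, T_y, T_y, T_y, T_q, T_y, T_y, T_y] M (Nat.sub (T_q u) (Nat.mod (T_q u) M)) (Nat.mod (T_q u) M) u) (Nat.ble (nat_lit 309) j)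
noncomputable def dp_q_293 (j u : ℕ) : Bool :=
  Bool.rec (motive := fun _ => Bool) (lS MG [T_v, T_yi, T_v, T_q, T_z, T_q, T_z, T_y, T_z, T_q, T_z] M (Nat.sub (T_q u) (Nat.mod (T_q u) M)) (nat_lit 40) (Nat.mod (T_q u) M) u) (dp_q_292 j u) (Nat.ble (nat_lit 308) j)
noncomputable def dp_q_294 (j u : ℕ) : Bool :=
  Bool.rec (motive := fun _ => Bool) (dp_q_291 j u) (dp_q_293 j u) (Nat.ble (nat_lit 307) j)
noncomputable def dp_q_295 (j u : ℕ) : Bool :=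
  Bool.rec (motive := fun _ => Bool) (lF [T_y, T_z, T_q, T_y, T_y, T_y, T_z, T_q, T_y, T_z, T_q, T_y, T_y, T_y, T_z, T_q, T_y, T_z, T_q, T_y, T_y, T_y, T_z, T_q, T_y, T_z, T_q, T_y, T_y, T_y, T_z] M (Nat.sub (T_q u) (Nat.mod (T_q u) M)) (Nat.mod (T_q u) M) u) (lS MG [T_y, T_z, T_yi, T_q, T_y, T_q, T_z, T_q, T_yi, T_z, T_y, T_q, T_yi, T_q, T_z] M (Nat.sub (T_q u) (Nat.mod (T_q u) M)) (nat_lit 40) (Nat.mod (T_q u) M) u) (Nat.ble (nat_lit 312) j)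
noncomputable def dp_q_296 (j u : ℕ) : Bool :=
  Bool.rec (motive := fun _ => Bool) (lS MG [T_yi, T_z, T_y, T_q, T_yi, T_q, T_z, T_q, T_y, T_z, T_yi, T_q, T_y, T_q, T_z] M (Nat.sub (T_q u) (Nat.mod (T_q u) M)) (nat_lit 40) (Nat.mod (T_q u) M) u) (dp_q_295 j u) (Nat.ble (nat_lit 311) j)
noncomputable def dp_q_297 (j u : ℕ) : Bool :=
  Bool.rec (motive := fun _ => Bool) (lS MG [T_y, T_q, T_z, T_yi, T_z, T_q, T_y, T_q, T_z, T_yi, T_z, T_q, T_y, T_q, T_z, T_yi, T_z] M (Nat.sub (T_q u) (Nat.mod (T_q u) M)) (nat_lit 40) (Nat.mod (T_q u) M) u) (lS MG [T_yi, T_yi, T_yi, T_q, T_yi, T_yi, T_q, T_y, T_q, T_y, T_y, T_q, T_y, T_q, T_y] M (Nat.sub (T_q u) (Nat.mod (T_q u) M)) (nat_lit 40) (Nat.mod (T_q u) M) u) (Nat.ble (nat_lit 314) j)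
noncomputable def dp_q_298 (j u : ℕ) : Bool :=
  Bool.rec (motive := fun _ => Bool) (lS MG [T_yi, T_yi, T_q, T_yi, T_yi, T_yi, T_q, T_y, T_q, T_y, T_q, T_y, T_y, T_q, T_y] M (Nat.sub (T_q u) (Nat.mod (T_q u) M)) (nat_lit 40) (Nat.mod (T_q u) M) u) (lS MG [T_z, T_yi, T_z, T_y, T_z, T_q, T_y, T_z, T_q, T_y, T_y, T_z, T_q, T_yi, T_q, T_z, T_q, T_y, T_q, T_z, T_yi, T_yi, T_q, T_z, T_yi] M (Nat.sub (T_q u) (Nat.mod (T_q u) M)) (nat_lit 40) (Nat.mod (T_q u) M) u) (Nat.ble (nat_lit 316) j)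
noncomputable def dp_q_299 (j u : ℕ) : Bool :=
  Bool.rec (motive := fun _ => Bool) (dp_q_297 j u) (dp_q_298 j u) (Nat.ble (nat_lit 315) j)
noncomputable def dp_q_300 (j u : ℕ) : Bool :=
  Bool.rec (motive := fun _ => Bool) (dp_q_296 j u) (dp_q_299 j u) (Nat.ble (nat_lit 313) j)
noncomputable def dp_q_301 (j u : ℕ) : Bool :=
  Bool.rec (motive := fun _ => Bool) (dp_q_294 j u) (dp_q_300 j u) (Nat.ble (nat_lit 310) j)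
noncomputable def dp_q_302 (j u : ℕ) : Bool :=
  Bool.rec (motive := fun _ => Bool) (dp_q_289 j u) (dp_q_301 j u) (Nat.ble (nat_lit 304) j)
noncomputable def dp_q_303 (j u : ℕ) : Bool :=
  Bool.rec (motive := fun _ => Bool) (lF [T_z, T_yi, T_yi, T_z, T_q, T_yi, T_yi, T_yi, T_q, T_z, T_yi, T_yi, T_z, T_q, T_yi, T_yi, T_yi, T_q, T_z, T_yi, T_yi, T_z, T_q, T_yi, T_yi, T_yi] M (Nat.sub (T_q u) (Nat.mod (T_q u) M)) (Nat.mod (T_q u) M) u) (lS MG [T_y, T_y, T_y, T_z, T_q, T_y, T_z, T_q, T_y, T_y, T_y, T_z, T_q, T_y, T_z, T_q, T_y, T_y, T_y, T_z, T_q, T_y, T_z, T_q, T_y, T_y, T_y, T_z, T_q, T_y, T_z] M (Nat.sub (T_q u) (Nat.mod (T_q u) M)) (nat_lit 40) (Nat.mod (T_q u) M) u) (Nat.ble (nat_lit 318) j)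
noncomputable def dp_q_304 (j u : ℕ) : Bool :=
  Bool.rec (motive := fun _ => Bool) (lF [T_y, T_y, T_y, T_z, T_q, T_y, T_z, T_q, T_y, T_y, T_y, T_z, T_q, T_y, T_z, T_q, T_y, T_y, T_y, T_z, T_q, T_y, T_z, T_q, T_y, T_y, T_y, T_z, T_q, T_y, T_z] M (Nat.sub (T_q u) (Nat.mod (T_q u) M)) (Nat.mod (T_q u) M) u) (lF [T_z, T_yi, T_z, T_q, T_z, T_q, T_v, T_y, T_v, T_q, T_z] M (Nat.sub (T_q u) (Nat.mod (T_q u) M)) (Nat.mod (T_q u) M) u) (Nat.ble (nat_lit 320) j)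
noncomputable def dp_q_305 (j u : ℕ) : Bool :=
  Bool.rec (motive := fun _ => Bool) (dp_q_303 j u) (dp_q_304 j u) (Nat.ble (nat_lit 319) j)
noncomputable def dp_q_306 (j u : ℕ) : Bool :=
  Bool.rec (motive := fun _ => Bool) (lS MG [T_y, T_q, T_y, T_q, T_y, T_y, T_q, T_y, T_q, T_yi, T_yi, T_q, T_yi, T_yi, T_yi] M (Nat.sub (T_q u) (Nat.mod (T_q u) M)) (nat_lit 40) (Nat.mod (T_q u) M) u) (lS MG [T_y, T_y, T_y, T_q, T_y, T_y, T_q, T_yi, T_q, T_yi, T_yi, T_q, T_yi, T_q, T_yi] M (Nat.sub (T_q u) (Nat.mod (T_q u) M)) (nat_lit 40) (Nat.mod (T_q u) M) u) (Nat.ble (nat_lit 322) j)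
noncomputable def dp_q_307 (j u : ℕ) : Bool :=
  Bool.rec (motive := fun _ => Bool) (lS MG [T_z, T_yi, T_yi, T_yi, T_q, T_z, T_yi, T_q, T_z, T_yi, T_yi, T_yi, T_q, T_z, T_yi, T_q, T_z, T_yi, T_yi, T_yi, T_q, T_z, T_yi, T_q, T_z, T_yi, T_yi, T_yi, T_q, T_z, T_yi] M (Nat.sub (T_q u) (Nat.mod (T_q u) M)) (nat_lit 40) (Nat.mod (T_q u) M) u) (lS MG [T_z, T_yi, T_z, T_q, T_y, T_q, T_z, T_yi, T_z, T_q, T_y, T_q, T_z, T_yi, T_z, T_q, T_y] M (Nat.sub (T_q u) (Nat.mod (T_q u) M)) (nat_lit 40) (Nat.mod (T_q u) M) u) (Nat.ble (nat_lit 324) j)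
noncomputable def dp_q_308 (j u : ℕ) : Bool :=
  Bool.rec (motive := fun _ => Bool) (dp_q_306 j u) (dp_q_307 j u) (Nat.ble (nat_lit 323) j)
noncomputable def dp_q_309 (j u : ℕ) : Bool :=
  Bool.rec (motive := fun _ => Bool) (dp_q_305 j u) (dp_q_308 j u) (Nat.ble (nat_lit 321) j)
noncomputable def dp_q_310 (j u : ℕ) : Bool :=
  Bool.rec (motive := fun _ => Bool) (lS MG [T_z, T_q, T_z, T_y, T_z, T_q, T_z, T_q, T_v, T_yi, T_v] M (Nat.sub (T_q u) (Nat.mod (T_q u) M)) (nat_lit 40) (Nat.mod (T_q u) M) u) (lS MG [T_y, T_z, T_q, T_y, T_y, T_z, T_q, T_yi, T_q, T_z, T_q, T_y, T_q, T_z, T_yi, T_yi, T_q, T_z, T_yi, T_q, T_z, T_yi, T_z, T_y, T_z] M (Nat.sub (T_q u) (Nat.mod (T_q u) M)) (nat_lit 40) (Nat.mod (T_q u) M) u) (Nat.ble (nat_lit 326) j)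
noncomputable def dp_q_311 (j u : ℕ) : Bool :=
  Bool.rec (motive := fun _ => Bool) (lF [T_z, T_yi, T_yi, T_q, T_z, T_yi, T_q, T_z, T_yi, T_z, T_y, T_z, T_q, T_y, T_z, T_q, T_y, T_y, T_z, T_q, T_yi, T_q, T_z, T_q, T_y] M (Nat.sub (T_q u) (Nat.mod (T_q u) M)) (Nat.mod (T_q u) M) u) (lS MG [T_z, T_q, T_v, T_y, T_v, T_q, T_z, T_q, T_z, T_yi, T_z] M (Nat.sub (T_q u) (Nat.mod (T_q u) M)) (nat_lit 40) (Nat.mod (T_q u) M) u) (Nat.ble (nat_lit 328) j)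
noncomputable def dp_q_312 (j u : ℕ) : Bool :=
  Bool.rec (motive := fun _ => Bool) (dp_q_310 j u) (dp_q_311 j u) (Nat.ble (nat_lit 327) j)
noncomputable def dp_q_313 (j u : ℕ) : Bool :=
  Bool.rec (motive := fun _ => Bool) (lF [T_z, T_yi, T_z, T_y, T_z, T_q, T_y, T_z, T_q, T_y, T_y, T_z, T_q, T_yi, T_q, T_z, T_q, T_y, T_q, T_z, T_yi, T_yi, T_q, T_z, T_yi] M (Nat.sub (T_q u) (Nat.mod (T_q u) M)) (Nat.mod (T_q u) M) u) (lS MG [T_y, T_y, T_y, T_q, T_y, T_y, T_y, T_q, T_y, T_y, T_y, T_q, T_yi, T_yi, T_yi] M (Nat.sub (T_q u) (Nat.mod (T_q u) M)) (nat_lit 40) (Nat.mod (T_q u) M) u) (Nat.ble (nat_lit 330) j)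
noncomputable def dp_q_314 (j u : ℕ) : Bool :=
  Bool.rec (motive := fun _ => Bool) (lS MG [T_z, T_q, T_yi, T_yi, T_yi, T_z, T_q, T_z, T_q, T_yi, T_yi, T_yi, T_z] M (Nat.sub (T_q u) (Nat.mod (T_q u) M)) (nat_lit 40) (Nat.mod (T_q u) M) u) (lF [T_yi, T_q, T_z, T_q, T_y, T_q, T_z, T_yi, T_yi, T_q, T_z, T_yi, T_q, T_z, T_yi, T_z, T_y, T_z, T_q, T_y, T_z, T_q, T_y, T_y, T_z] M (Nat.sub (T_q u) (Nat.mod (T_q u) M)) (Nat.mod (T_q u) M) u) (Nat.ble (nat_lit 333) j)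
noncomputable def dp_q_315 (j u : ℕ) : Bool :=
  Bool.rec (motive := fun _ => Bool) (lS MG [T_z, T_yi, T_q, T_z, T_yi, T_yi, T_yi, T_q, T_z, T_yi, T_q, T_z, T_yi, T_yi, T_yi, T_q, T_z, T_yi, T_q, T_z, T_yi, T_yi, T_yi, T_q, T_z, T_yi, T_q, T_z, T_yi, T_yi, T_yi] M (Nat.sub (T_q u) (Nat.mod (T_q u) M)) (nat_lit 40) (Nat.mod (T_q u) M) u) (dp_q_314 j u) (Nat.ble (nat_lit 332) j)
noncomputable def dp_q_316 (j u : ℕ) : Bool :=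
  Bool.rec (motive := fun _ => Bool) (dp_q_313 j u) (dp_q_315 j u) (Nat.ble (nat_lit 331) j)
noncomputable def dp_q_317 (j u : ℕ) : Bool :=
  Bool.rec (motive := fun _ => Bool) (dp_q_312 j u) (dp_q_316 j u) (Nat.ble (nat_lit 329) j)
noncomputable def dp_q_318 (j u : ℕ) : Bool :=
  Bool.rec (motive := fun _ => Bool) (dp_q_309 j u) (dp_q_317 j u) (Nat.ble (nat_lit 325) j)
noncomputable def dp_q_319 (j u : ℕ) : Bool :=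
  Bool.rec (motive := fun _ => Bool) (lS MG [T_yi, T_q, T_y, T_z, T_yi, T_q, T_z, T_q, T_y, T_q, T_yi, T_z, T_y, T_q, T_z] M (Nat.sub (T_q u) (Nat.mod (T_q u) M)) (nat_lit 40) (Nat.mod (T_q u) M) u) (lF [T_z, T_y, T_z, T_q, T_z, T_yi, T_z, T_q, T_z, T_y, T_z, T_q, T_z, T_yi, T_z] M (Nat.sub (T_q u) (Nat.mod (T_q u) M)) (Nat.mod (T_q u) M) u) (Nat.ble (nat_lit 336) j)
noncomputable def dp_q_320 (j u : ℕ) : Bool :=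
  Bool.rec (motive := fun _ => Bool) (lF [T_z, T_q, T_z, T_q, T_z, T_v, T_q, T_z, T_v, T_q, T_z, T_q, T_z, T_v] M (Nat.sub (T_q u) (Nat.mod (T_q u) M)) (Nat.mod (T_q u) M) u) (dp_q_319 j u) (Nat.ble (nat_lit 335) j)
noncomputable def dp_q_321 (j u : ℕ) : Bool :=
  Bool.rec (motive := fun _ => Bool) (lS MG [T_yi, T_yi, T_yi, T_q, T_y, T_y, T_y, T_q, T_y, T_y, T_y, T_q, T_y, T_y, T_y] M (Nat.sub (T_q u) (Nat.mod (T_q u) M)) (nat_lit 40) (Nat.mod (T_q u) M) u) (lF [T_z, T_y, T_z, T_q, T_z, T_q, T_v, T_yi, T_v, T_q, T_z] M (Nat.sub (T_q u) (Nat.mod (T_q u) M)) (Nat.mod (T_q u) M) u) (Nat.ble (nat_lit 339) j)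
noncomputable def dp_q_322 (j u : ℕ) : Bool :=
  Bool.rec (motive := fun _ => Bool) (lF [T_z, T_yi, T_yi, T_yi, T_q, T_z, T_yi, T_q, T_z, T_yi, T_yi, T_yi, T_q, T_z, T_yi, T_q, T_z, T_yi, T_yi, T_yi, T_q, T_z, T_yi, T_q, T_z, T_yi, T_yi, T_yi, T_q, T_z, T_yi] M (Nat.sub (T_q u) (Nat.mod (T_q u) M)) (Nat.mod (T_q u) M) u) (dp_q_321 j u) (Nat.ble (nat_lit 338) j)
noncomputable def dp_q_323 (j u : ℕ) : Bool :=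
  Bool.rec (motive := fun _ => Bool) (dp_q_320 j u) (dp_q_322 j u) (Nat.ble (nat_lit 337) j)
noncomputable def dp_q_324 (j u : ℕ) : Bool :=
  Bool.rec (motive := fun _ => Bool) (lF [T_z, T_v, T_q, T_z, T_q, T_z, T_v, T_q, T_z, T_q, T_z, T_q, T_z, T_v] M (Nat.sub (T_q u) (Nat.mod (T_q u) M)) (Nat.mod (T_q u) M) u) (lS MG [T_z, T_v, T_q, T_v, T_q, T_v, T_z, T_q, T_z, T_v, T_z, T_v, T_z] M (Nat.sub (T_q u) (Nat.mod (T_q u) M)) (nat_lit 40) (Nat.mod (T_q u) M) u) (Nat.ble (nat_lit 342) j)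
noncomputable def dp_q_325 (j u : ℕ) : Bool :=
  Bool.rec (motive := fun _ => Bool) (lS MG [T_yi, T_q, T_z, T_q, T_y, T_q, T_z, T_yi, T_yi, T_q, T_z, T_yi, T_q, T_z, T_yi, T_z, T_y, T_z, T_q, T_y, T_z, T_q, T_y, T_y, T_z] M (Nat.sub (T_q u) (Nat.mod (T_q u) M)) (nat_lit 40) (Nat.mod (T_q u) M) u) (dp_q_324 j u) (Nat.ble (nat_lit 341) j)
noncomputable def dp_q_326 (j u : ℕ) : Bool :=
  Bool.rec (motive := fun _ => Bool) (lS MG [T_yi, T_z, T_y, T_q, T_z, T_q, T_yi, T_q, T_y, T_z, T_yi, T_q, T_z, T_q, T_y] M (Nat.sub (T_q u) (Nat.mod (T_q u) M)) (nat_lit 40) (Nat.mod (T_q u) M) u) (lS MG [T_z, T_yi, T_q, T_yi, T_q, T_yi, T_z, T_q, T_z, T_yi, T_q, T_yi, T_q, T_yi, T_z] M (Nat.sub (T_q u) (Nat.mod (T_q u) M)) (nat_lit 40) (Nat.mod (T_q u) M) u) (Nat.ble (nat_lit 345) j)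
noncomputable def dp_q_327 (j u : ℕ) : Bool :=
  Bool.rec (motive := fun _ => Bool) (lF [T_z, T_y, T_y, T_y, T_q, T_z, T_q, T_z, T_y, T_y, T_y, T_q, T_z] M (Nat.sub (T_q u) (Nat.mod (T_q u) M)) (Nat.mod (T_q u) M) u) (dp_q_326 j u) (Nat.ble (nat_lit 344) j)
noncomputable def dp_q_328 (j u : ℕ) : Bool :=
  Bool.rec (motive := fun _ => Bool) (dp_q_325 j u) (dp_q_327 j u) (Nat.ble (nat_lit 343) j)
noncomputable def dp_q_329 (j u : ℕ) : Bool :=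
  Bool.rec (motive := fun _ => Bool) (dp_q_323 j u) (dp_q_328 j u) (Nat.ble (nat_lit 340) j)
noncomputable def dp_q_330 (j u : ℕ) : Bool :=
  Bool.rec (motive := fun _ => Bool) (lS MG [T_z, T_q, T_v, T_yi, T_v, T_q, T_z, T_q, T_z, T_y, T_z] M (Nat.sub (T_q u) (Nat.mod (T_q u) M)) (nat_lit 40) (Nat.mod (T_q u) M) u) (lS MG [T_y, T_q, T_yi, T_z, T_y, T_q, T_z, T_q, T_yi, T_q, T_y, T_z, T_yi, T_q, T_z] M (Nat.sub (T_q u) (Nat.mod (T_q u) M)) (nat_lit 40) (Nat.mod (T_q u) M) u) (Nat.ble (nat_lit 347) j)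
noncomputable def dp_q_331 (j u : ℕ) : Bool :=
  Bool.rec (motive := fun _ => Bool) (lF [T_z, T_yi, T_z, T_q, T_z, T_y, T_z, T_q, T_z, T_yi, T_z, T_q, T_z, T_y, T_z] M (Nat.sub (T_q u) (Nat.mod (T_q u) M)) (Nat.mod (T_q u) M) u) (lS MG [T_z, T_yi, T_yi, T_q, T_z, T_yi, T_q, T_z, T_yi, T_z, T_y, T_z, T_q, T_y, T_z, T_q, T_y, T_y, T_z, T_q, T_yi, T_q, T_z, T_q, T_y] M (Nat.sub (T_q u) (Nat.mod (T_q u) M)) (nat_lit 40) (Nat.mod (T_q u) M) u) (Nat.ble (nat_lit 349) j)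
noncomputable def dp_q_332 (j u : ℕ) : Bool :=
  Bool.rec (motive := fun _ => Bool) (dp_q_330 j u) (dp_q_331 j u) (Nat.ble (nat_lit 348) j)
noncomputable def dp_q_333 (j u : ℕ) : Bool :=
  Bool.rec (motive := fun _ => Bool) (lS MG [T_z, T_y, T_q, T_y, T_q, T_y, T_z, T_q, T_z, T_y, T_q, T_y, T_q, T_y, T_z] M (Nat.sub (T_q u) (Nat.mod (T_q u) M)) (nat_lit 40) (Nat.mod (T_q u) M) u) (lS MG [T_z, T_v, T_q, T_z, T_q, T_z, T_v, T_q, T_z, T_q, T_z, T_q, T_z, T_v] M (Nat.sub (T_q u) (Nat.mod (T_q u) M)) (nat_lit 40) (Nat.mod (T_q u) M) u) (Nat.ble (nat_lit 351) j)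
noncomputable def dp_q_334 (j u : ℕ) : Bool :=
  Bool.rec (motive := fun _ => Bool) (lS MG [T_v, T_z, T_q, T_z, T_q, T_z, T_q, T_v, T_z, T_q, T_z, T_q, T_v, T_z] M (Nat.sub (T_q u) (Nat.mod (T_q u) M)) (nat_lit 40) (Nat.mod (T_q u) M) u) (lF [T_z, T_q, T_z, T_v, T_q, T_z, T_q, T_z, T_q, T_z, T_v, T_q, T_z, T_v] M (Nat.sub (T_q u) (Nat.mod (T_q u) M)) (Nat.mod (T_q u) M) u) (Nat.ble (nat_lit 353) j)
noncomputable def dp_q_335 (j u : ℕ) : Bool :=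
  Bool.rec (motive := fun _ => Bool) (dp_q_333 j u) (dp_q_334 j u) (Nat.ble (nat_lit 352) j)
noncomputable def dp_q_336 (j u : ℕ) : Bool :=
  Bool.rec (motive := fun _ => Bool) (dp_q_332 j u) (dp_q_335 j u) (Nat.ble (nat_lit 350) j)
noncomputable def dp_q_337 (j u : ℕ) : Bool :=
  Bool.rec (motive := fun _ => Bool) (lF [T_v, T_z, T_q, T_z, T_q, T_v, T_z, T_q, T_v, T_z, T_q, T_z, T_q, T_z] M (Nat.sub (T_q u) (Nat.mod (T_q u) M)) (Nat.mod (T_q u) M) u) (lF [T_z, T_q, T_y, T_q, T_z, T_yi, T_yi, T_q, T_z, T_yi, T_q, T_z, T_yi, T_z, T_y, T_z, T_q, T_y, T_z, T_q, T_y, T_y, T_z, T_q, T_yi] M (Nat.sub (T_q u) (Nat.mod (T_q u) M)) (Nat.mod (T_q u) M) u) (Nat.ble (nat_lit 355) j)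
noncomputable def dp_q_338 (j u : ℕ) : Bool :=
  Bool.rec (motive := fun _ => Bool) (lF [T_y, T_q, T_z, T_yi, T_yi, T_q, T_z, T_yi, T_q, T_z, T_yi, T_z, T_y, T_z, T_q, T_y, T_z, T_q, T_y, T_y, T_z, T_q, T_yi, T_q, T_z] M (Nat.sub (T_q u) (Nat.mod (T_q u) M)) (Nat.mod (T_q u) M) u) (lS MG [T_z, T_yi, T_z, T_q, T_z, T_y, T_z, T_q, T_z, T_yi, T_z, T_q, T_z, T_y, T_z] M (Nat.sub (T_q u) (Nat.mod (T_q u) M)) (nat_lit 40) (Nat.mod (T_q u) M) u) (Nat.ble (nat_lit 357) j)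
noncomputable def dp_q_339 (j u : ℕ) : Bool :=
  Bool.rec (motive := fun _ => Bool) (dp_q_337 j u) (dp_q_338 j u) (Nat.ble (nat_lit 356) j)
noncomputable def dp_q_340 (j u : ℕ) : Bool :=
  Bool.rec (motive := fun _ => Bool) (lF [T_z, T_yi, T_q, T_z, T_yi, T_yi, T_yi, T_q, T_z, T_yi, T_q, T_z, T_yi, T_yi, T_yi, T_q, T_z, T_yi, T_q, T_z, T_yi, T_yi, T_yi, T_q, T_z, T_yi, T_q, T_z, T_yi, T_yi, T_yi] M (Nat.sub (T_q u) (Nat.mod (T_q u) M)) (Nat.mod (T_q u) M) u) (lS MG [T_z, T_y, T_z, T_q, T_z, T_q, T_v, T_yi, T_v, T_q, T_z] M (Nat.sub (T_q u) (Nat.mod (T_q u) M)) (nat_lit 40) (Nat.mod (T_q u) M) u) (Nat.ble (nat_lit 359) j)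
noncomputable def dp_q_341 (j u : ℕ) : Bool :=
  Bool.rec (motive := fun _ => Bool) (lS MG [T_v, T_z, T_q, T_z, T_q, T_v, T_z, T_q, T_v, T_z, T_q, T_z, T_q, T_z] M (Nat.sub (T_q u) (Nat.mod (T_q u) M)) (nat_lit 40) (Nat.mod (T_q u) M) u) (lS MG [T_y, T_q, T_z, T_yi, T_yi, T_q, T_z, T_yi, T_q, T_z, T_yi, T_z, T_y, T_z, T_q, T_y, T_z, T_q, T_y, T_y, T_z, T_q, T_yi, T_q, T_z] M (Nat.sub (T_q u) (Nat.mod (T_q u) M)) (nat_lit 40) (Nat.mod (T_q u) M) u) (Nat.ble (nat_lit 362) j)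
noncomputable def dp_q_342 (j u : ℕ) : Bool :=
  Bool.rec (motive := fun _ => Bool) (lS MG [T_z, T_q, T_z, T_q, T_z, T_v, T_q, T_z, T_v, T_q, T_z, T_q, T_z, T_v] M (Nat.sub (T_q u) (Nat.mod (T_q u) M)) (nat_lit 40) (Nat.mod (T_q u) M) u) (dp_q_341 j u) (Nat.ble (nat_lit 361) j)
noncomputable def dp_q_343 (j u : ℕ) : Bool :=
  Bool.rec (motive := fun _ => Bool) (dp_q_340 j u) (dp_q_342 j u) (Nat.ble (nat_lit 360) j)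
noncomputable def dp_q_344 (j u : ℕ) : Bool :=
  Bool.rec (motive := fun _ => Bool) (dp_q_339 j u) (dp_q_343 j u) (Nat.ble (nat_lit 358) j)
noncomputable def dp_q_345 (j u : ℕ) : Bool :=
  Bool.rec (motive := fun _ => Bool) (lS MG [T_z, T_y, T_y, T_y, T_q, T_z, T_q, T_z, T_y, T_y, T_y, T_q, T_z] M (Nat.sub (T_q u) (Nat.mod (T_q u) M)) (nat_lit 40) (Nat.mod (T_q u) M) u) (lS MG [T_z, T_y, T_z, T_q, T_z, T_yi, T_z, T_q, T_z, T_y, T_z, T_q, T_z, T_yi, T_z] M (Nat.sub (T_q u) (Nat.mod (T_q u) M)) (nat_lit 40) (Nat.mod (T_q u) M) u) (Nat.ble (nat_lit 365) j)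
noncomputable def dp_q_346 (j u : ℕ) : Bool :=
  Bool.rec (motive := fun _ => Bool) (lF [T_z, T_q, T_z, T_q, T_v, T_z, T_q, T_z, T_q, T_v, T_z, T_q, T_v, T_z] M (Nat.sub (T_q u) (Nat.mod (T_q u) M)) (Nat.mod (T_q u) M) u) (dp_q_345 j u) (Nat.ble (nat_lit 364) j)
noncomputable def dp_q_347 (j u : ℕ) : Bool :=
  Bool.rec (motive := fun _ => Bool) (lF [T_y, T_z, T_q, T_yi, T_q, T_z, T_yi, T_q, T_z, T_yi, T_yi, T_yi, T_z, T_y, T_y, T_y, T_z, T_q, T_y, T_z, T_q, T_y, T_z, T_q, T_yi, T_q, T_z, T_yi, T_q, T_z, T_yi, T_yi, T_yi, T_z, T_y, T_y, T_y, T_z, T_q, T_y, T_z, T_q, T_y, T_z, T_q, T_z, T_yi, T_q, T_z, T_yi, T_q, T_z, T_yi, T_yi, T_yi, T_z, T_y, T_y, T_y, T_z, T_q, T_y, T_z] M (Nat.sub (T_q u) (Nat.mod (T_q u) M)) (Nat.mod (T_q u) M) u) (lF [T_z, T_v, T_q, T_z, T_q, T_z, T_q, T_z, T_q, T_z, T_v, T_q, T_z, T_q,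 T_z, T_q, T_z] M (Nat.sub (T_q u) (Nat.mod (T_q u) M)) (Nat.mod (T_q u) M) u) (Nat.ble (nat_lit 368) j)
noncomputable def dp_q_348 (j u : ℕ) : Bool :=
  Bool.rec (motive := fun _ => Bool) (lS MG [T_z, T_yi, T_z, T_q, T_z, T_q, T_v, T_y, T_v, T_q, T_z] M (Nat.sub (T_q u) (Nat.mod (T_q u) M)) (nat_lit 40) (Nat.mod (T_q u) M) u) (dp_q_347 j u) (Nat.ble (nat_lit 367) j)
noncomputable def dp_q_349 (j u : ℕ) : Bool :=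
  Bool.rec (motive := fun _ => Bool) (lH [] [] M (Nat.sub (T_q u) (Nat.mod (T_q u) M)) (Nat.mod (T_q u) M) u) (lS MG [T_z, T_q, T_v, T_z, T_q, T_z, T_q, T_v, T_z, T_q, T_v, T_z, T_q, T_z] M (Nat.sub (T_q u) (Nat.mod (T_q u) M)) (nat_lit 40) (Nat.mod (T_q u) M) u) (Nat.ble (nat_lit 372) j)
noncomputable def dp_q_350 (j u : ℕ) : Bool :=
  Bool.rec (motive := fun _ => Bool) (lS MG [T_yi, T_q, T_z, T_yi, T_q, T_z, T_yi, T_yi, T_yi, T_z, T_y, T_y, T_y, T_z, T_q, T_y, T_z, T_q, T_y, T_z, T_q, T_yi, T_q, T_z, T_yi, T_q, T_z, T_yi, T_yi, T_yi, T_z, T_y, T_y, T_y, T_z, T_q, T_y, T_z, T_q, T_y, T_z, T_q, T_z, T_yi, T_q, T_z, T_yi, T_q, T_z, T_yi, T_yi, T_yi, T_z, T_y, T_y, T_y, T_z, T_q, T_y, T_z, T_q, T_y, T_z] M (Nat.sub (T_q u) (Nat.mod (T_q u) M)) (nat_lit 40) (Nat.mod (T_q u) M) u) (dp_q_349 j u) (Nat.ble (nat_lit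 371) j)
noncomputable def dp_q_351 (j u : ℕ) : Bool :=
  Bool.rec (motive := fun _ => Bool) (lS MG [T_z, T_yi, T_q, T_z, T_yi, T_q, T_z, T_yi, T_yi, T_yi, T_z, T_y, T_y, T_y, T_z, T_q, T_y, T_z, T_q, T_y, T_q, T_z, T_yi, T_q, T_z, T_yi, T_q, T_z, T_yi, T_yi, T_yi, T_z, T_y, T_y, T_y, T_z, T_q, T_y, T_z, T_q, T_y, T_z, T_q, T_z, T_yi, T_q, T_z, T_yi, T_q, T_z, T_yi, T_yi, T_yi, T_z, T_y, T_y, T_y, T_z, T_q, T_y, T_z, T_q, T_y] M (Nat.sub (T_q u) (Nat.mod (T_q u) M)) (nat_lit 40) (Nat.mod (T_q u) M) u) (dp_q_350 j u) (Nat.ble (nat_lit 370) j)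
noncomputable def dp_q_352 (j u : ℕ) : Bool :=
  Bool.rec (motive := fun _ => Bool) (dp_q_348 j u) (dp_q_351 j u) (Nat.ble (nat_lit 369) j)
noncomputable def dp_q_353 (j u : ℕ) : Bool :=
  Bool.rec (motive := fun _ => Bool) (dp_q_346 j u) (dp_q_352 j u) (Nat.ble (nat_lit 366) j)
noncomputable def dp_q_354 (j u : ℕ) : Bool :=
  Bool.rec (motive := fun _ => Bool) (lS MG [T_z, T_q, T_z, T_q, T_v, T_z, T_q, T_z, T_q, T_v, T_z, T_q, T_v, T_z] M (Nat.sub (T_q u) (Nat.mod (T_q u) M)) (nat_lit 40) (Nat.mod (T_q u) M) u) (lS MG [T_yi, T_q, T_z, T_yi, T_q, T_z, T_yi, T_yi, T_yi, T_z, T_y, T_y, T_y, T_z, T_q, T_y, T_z, T_q, T_y, T_z, T_q, T_z, T_yi, T_q, T_z, T_yi, T_q, T_z, T_yi, T_yi, T_yi, T_z, T_y, T_y, T_y, T_z, T_q, T_y, T_z, T_q, T_y, T_z, T_q, T_yi, T_q, T_z, T_yi, T_q, T_z, T_yi, T_yi, T_yi, T_z, T_y, T_y, T_y,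 T_z, T_q, T_y, T_z, T_q, T_y, T_z] M (Nat.sub (T_q u) (Nat.mod (T_q u) M)) (nat_lit 40) (Nat.mod (T_q u) M) u) (Nat.ble (nat_lit 375) j)
noncomputable def dp_q_355 (j u : ℕ) : Bool :=
  Bool.rec (motive := fun _ => Bool) (lF [T_z, T_v, T_q, T_z, T_v, T_q, T_z, T_q, T_z, T_v, T_q, T_z, T_q, T_z] M (Nat.sub (T_q u) (Nat.mod (T_q u) M)) (Nat.mod (T_q u) M) u) (dp_q_354 j u) (Nat.ble (nat_lit 374) j)
noncomputable def dp_q_356 (j u : ℕ) : Bool :=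
  Bool.rec (motive := fun _ => Bool) (lS MG [T_y, T_z, T_q, T_y, T_z, T_q, T_yi, T_q, T_z, T_yi, T_q, T_z, T_yi, T_yi, T_yi, T_z, T_y, T_y, T_y, T_z, T_q, T_y, T_z, T_q, T_y, T_z, T_q, T_yi, T_q, T_z, T_yi, T_q, T_z, T_yi, T_yi, T_yi, T_z, T_y, T_y, T_y, T_z, T_q, T_y, T_z, T_q, T_y, T_z, T_q, T_z, T_yi, T_q, T_z, T_yi, T_q, T_z, T_yi, T_yi, T_yi, T_z, T_y, T_y, T_y, T_z] M (Nat.sub (T_q u) (Nat.mod (T_q u) M)) (nat_lit 40) (Nat.mod (T_q u) M) u) (lF [T_z, T_q, T_z, T_q, T_z, T_q, T_v, T_z, T_q, T_z, T_q, T_z, T_q, T_z, T_q, T_v, T_z] M (Nat.sub (T_q u) (Nat.mod (T_q u) M)) (Nat.mod (T_q u) M) u) (Nat.ble (nat_lit 378) j)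
noncomputable def dp_q_357 (j u : ℕ) : Bool :=
  Bool.rec (motive := fun _ => Bool) (lS MG [T_y, T_q, T_z, T_yi, T_q, T_z, T_yi, T_q, T_z, T_yi, T_yi, T_yi, T_z, T_y, T_y, T_y, T_z, T_q, T_y, T_z, T_q, T_y, T_q, T_z, T_yi, T_q, T_z, T_yi, T_q, T_z, T_yi, T_yi, T_yi, T_z, T_y, T_y, T_y, T_z, T_q, T_y, T_z, T_q, T_y, T_z, T_q, T_z, T_yi, T_q, T_z, T_yi, T_q, T_z, T_yi, T_yi, T_yi, T_z, T_y, T_y, T_y, T_z, T_q, T_y, T_z] M (Nat.sub (T_q u) (Nat.mod (T_q u) M)) (nat_lit 40) (Nat.mod (T_q u) M) u) (dp_q_356 j u) (Nat.ble (nat_lit 377) j)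
noncomputable def dp_q_358 (j u : ℕ) : Bool :=
  Bool.rec (motive := fun _ => Bool) (dp_q_355 j u) (dp_q_357 j u) (Nat.ble (nat_lit 376) j)
noncomputable def dp_q_359 (j u : ℕ) : Bool :=
  Bool.rec (motive := fun _ => Bool) (lF [T_z, T_yi, T_q, T_z, T_yi, T_yi, T_yi, T_z, T_y, T_y, T_y, T_z, T_q, T_y, T_z, T_q, T_y, T_z, T_q, T_yi, T_q, T_z, T_yi, T_q, T_z, T_yi, T_yi, T_yi, T_z, T_y, T_y, T_y, T_z, T_q, T_y, T_z, T_q, T_y, T_z, T_q, T_z, T_yi, T_q, T_z, T_yi, T_q, T_z, T_yi, T_yi, T_yi, T_z, T_y, T_y, T_y, T_z, T_q, T_y, T_z, T_q, T_y, T_z, T_q, T_yi] M (Nat.sub (T_q u) (Nat.mod (T_q u) M)) (Nat.mod (T_q u) M) u) (lF [T_z, T_q, T_z, T_v, T_q, T_z, T_v, T_q, T_z, T_q, T_z, T_v, T_q, T_z] M (Nat.sub (T_q u) (Nat.mod (T_q u) M)) (Nat.mod (T_q u) M) u) (Nat.ble (nat_lit 381) j)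
noncomputable def dp_q_360 (j u : ℕ) : Bool :=
  Bool.rec (motive := fun _ => Bool) (lS MG [T_z, T_q, T_z, T_v, T_q, T_z, T_q, T_z, T_q, T_z, T_v, T_q, T_z, T_v] M (Nat.sub (T_q u) (Nat.mod (T_q u) M)) (nat_lit 40) (Nat.mod (T_q u) M) u) (dp_q_359 j u) (Nat.ble (nat_lit 380) j)
noncomputable def dp_q_361 (j u : ℕ) : Bool :=
  Bool.rec (motive := fun _ => Bool) (lS MG [T_y, T_q, T_z, T_yi, T_q, T_z, T_yi, T_q, T_z, T_yi, T_yi, T_yi, T_z, T_y, T_y, T_y, T_z, T_q, T_y, T_z, T_q, T_y, T_z, T_q, T_z, T_yi, T_q, T_z, T_yi, T_q, T_z, T_yi, T_yi, T_yi, T_z, T_y, T_y, T_y, T_z, T_q, T_y, T_z, T_q, T_y, T_q, T_z, T_yi, T_q, T_z, T_yi, T_q, T_z, T_yi, T_yi, T_yi, T_z, T_y, T_y, T_y, T_z, T_q, T_y, T_z] M (Nat.sub (T_q u) (Nat.mod (T_q u) M)) (nat_lit 40) (Nat.mod (T_q u) M) u) (lF [T_v, T_z, T_q, T_z, T_q, T_z, T_q,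 T_z, T_q, T_v, T_z, T_q, T_z, T_q, T_z, T_q, T_z] M (Nat.sub (T_q u) (Nat.mod (T_q u) M)) (Nat.mod (T_q u) M) u) (Nat.ble (nat_lit 384) j)
noncomputable def dp_q_362 (j u : ℕ) : Bool :=
  Bool.rec (motive := fun _ => Bool) (lS MG [T_v, T_z, T_q, T_v, T_z, T_q, T_z, T_q, T_z, T_q, T_v, T_z, T_q, T_z] M (Nat.sub (T_q u) (Nat.mod (T_q u) M)) (nat_lit 40) (Nat.mod (T_q u) M) u) (dp_q_361 j u) (Nat.ble (nat_lit 383) j)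
noncomputable def dp_q_363 (j u : ℕ) : Bool :=
  Bool.rec (motive := fun _ => Bool) (dp_q_360 j u) (dp_q_362 j u) (Nat.ble (nat_lit 382) j)
noncomputable def dp_q_364 (j u : ℕ) : Bool :=
  Bool.rec (motive := fun _ => Bool) (dp_q_358 j u) (dp_q_363 j u) (Nat.ble (nat_lit 379) j)
noncomputable def dp_q_365 (j u : ℕ) : Bool :=
  Bool.rec (motive := fun _ => Bool) (lF [T_z, T_yi, T_q, T_z, T_yi, T_yi, T_yi, T_z, T_y, T_y, T_y, T_z, T_q, T_y, T_z, T_q, T_y, T_z, T_q, T_yi, T_q, T_z, T_yi, T_q, T_z, T_yi, T_yi, T_yi, T_z, T_y, T_y, T_y, T_z, T_q, T_y, T_z, T_q, T_y, T_z, T_q, T_yi, T_q, T_z, T_yi, T_q, T_z, T_yi, T_yi, T_yi, T_z, T_y, T_y, T_y, T_z, T_q, T_y, T_z, T_q, T_y, T_z, T_q, T_z, T_yi] M (Nat.sub (T_q u) (Nat.mod (T_q u) M)) (Nat.mod (T_q u) M) u) (lS MG [T_y, T_z, T_q, T_yi, T_q, T_z, T_yi, T_q, T_z,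 T_yi, T_yi, T_yi, T_z, T_y, T_y, T_y, T_z, T_q, T_y, T_z, T_q, T_y, T_z, T_q, T_z, T_yi, T_q, T_z, T_yi, T_q, T_z, T_yi, T_yi, T_yi, T_z, T_y, T_y, T_y, T_z, T_q, T_y, T_z, T_q, T_y, T_z, T_q, T_yi, T_q, T_z, T_yi, T_q, T_z, T_yi, T_yi, T_yi, T_z, T_y, T_y, T_y, T_z, T_q, T_y, T_z] M (Nat.sub (T_q u) (Nat.mod (T_q u) M)) (nat_lit 40) (Nat.mod (T_q u) M) u) (Nat.ble (nat_lit 387) j)
noncomputable def dp_q_366 (j u : ℕ) : Bool :=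
  Bool.rec (motive := fun _ => Bool) (lS MG [T_z, T_yi, T_yi, T_yi, T_z, T_y, T_y, T_y, T_z, T_q, T_y, T_z, T_q, T_y, T_z, T_q, T_z, T_yi, T_q, T_z, T_yi, T_q, T_z, T_yi, T_yi, T_yi, T_z, T_y, T_y, T_y, T_z, T_q, T_y, T_z, T_q, T_y, T_q, T_z, T_yi, T_q, T_z, T_yi, T_q, T_z, T_yi, T_yi, T_yi, T_z, T_y, T_y, T_y, T_z, T_q, T_y, T_z, T_q, T_y, T_q, T_z, T_yi, T_q, T_z, T_yi] M (Nat.sub (T_q u) (Nat.mod (T_q u) M)) (nat_lit 40) (Nat.mod (T_q u) M) u) (dp_q_365 j u) (Nat.ble (nat_lit 386) j)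
noncomputable def dp_q_367 (j u : ℕ) : Bool :=
  Bool.rec (motive := fun _ => Bool) (lS MG [T_z, T_yi, T_q, T_z, T_yi, T_q, T_z, T_yi, T_yi, T_yi, T_z, T_y, T_y, T_y, T_z, T_q, T_y, T_z, T_q, T_y, T_z, T_q, T_yi, T_q, T_z, T_yi, T_q, T_z, T_yi, T_yi, T_yi, T_z, T_y, T_y, T_y, T_z, T_q, T_y, T_z, T_q, T_y, T_z, T_q, T_yi, T_q, T_z, T_yi, T_q, T_z, T_yi, T_yi, T_yi, T_z, T_y, T_y, T_y, T_z, T_q, T_y, T_z, T_q, T_y, T_z] M (Nat.sub (T_q u) (Nat.mod (T_q u) M)) (nat_lit 40) (Nat.mod (T_q u) M) u) (lS MG [T_z, T_q, T_y, T_q, T_z, T_yi, T_yi, T_q, T_z, T_yi, T_q, T_z, T_yi, T_z, T_y, T_z, T_q, T_y, T_z, T_q, T_y, T_y, T_z, T_q, T_yi] M (Nat.sub (T_q u) (Nat.mod (T_q u) M)) (nat_lit 40) (Nat.mod (T_q u) M) u) (Nat.ble (nat_lit 390) j)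
noncomputable def dp_q_368 (j u : ℕ) : Bool :=
  Bool.rec (motive := fun _ => Bool) (lS MG [T_z, T_yi, T_q, T_z, T_yi, T_yi, T_yi, T_z, T_y, T_y, T_y, T_z, T_q, T_y, T_z, T_q, T_y, T_z, T_q, T_z, T_yi, T_q, T_z, T_yi, T_q, T_z, T_yi, T_yi, T_yi, T_z, T_y, T_y, T_y, T_z, T_q, T_y, T_z, T_q, T_y, T_q, T_z, T_yi, T_q, T_z, T_yi, T_q, T_z, T_yi, T_yi, T_yi, T_z, T_y, T_y, T_y, T_z, T_q, T_y, T_z, T_q, T_y, T_q, T_z, T_yi] M (Nat.sub (T_q u) (Nat.mod (T_q u) M)) (nat_lit 40) (Nat.mod (T_q u) M) u) (dp_q_367 j u) (Nat.ble (nat_lit 389) j)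
noncomputable def dp_q_369 (j u : ℕ) : Bool :=
  Bool.rec (motive := fun _ => Bool) (dp_q_366 j u) (dp_q_368 j u) (Nat.ble (nat_lit 388) j)
noncomputable def dp_q_370 (j u : ℕ) : Bool :=
  Bool.rec (motive := fun _ => Bool) (lS MG [T_z, T_q, T_z, T_v, T_q, T_z, T_q, T_z, T_v, T_q, T_z, T_q, T_z, T_v, T_q, T_z, T_q, T_z, T_v, T_q, T_z, T_q, T_z, T_v] M (Nat.sub (T_q u) (Nat.mod (T_q u) M)) (nat_lit 40) (Nat.mod (T_q u) M) u) (lF [T_z, T_q, T_v, T_z, T_q, T_v, T_z, T_q, T_z, T_q, T_z, T_q, T_v, T_z] M (Nat.sub (T_q u) (Nat.mod (T_q u) M)) (Nat.mod (T_q u) M) u) (Nat.ble (nat_lit 393) j)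
noncomputable def dp_q_371 (j u : ℕ) : Bool :=
  Bool.rec (motive := fun _ => Bool) (lS MG [T_y, T_z, T_q, T_z, T_yi, T_q, T_z, T_yi, T_q, T_z, T_yi, T_yi, T_yi, T_z, T_y, T_y, T_y, T_z, T_q, T_y, T_z, T_q, T_y, T_q, T_z, T_yi, T_q, T_z, T_yi, T_q, T_z, T_yi, T_yi, T_yi, T_z, T_y, T_y, T_y, T_z, T_q, T_y, T_z, T_q, T_y, T_q, T_z, T_yi, T_q, T_z, T_yi, T_q, T_z, T_yi, T_yi, T_yi, T_z, T_y, T_y, T_y, T_z, T_q, T_y, T_z] M (Nat.sub (T_q u) (Nat.mod (T_q u) M)) (nat_lit 40) (Nat.mod (T_q u) M) u) (dp_q_370 j u) (Nat.ble (nat_lit 392) j)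
noncomputable def dp_q_372 (j u : ℕ) : Bool :=
  Bool.rec (motive := fun _ => Bool) (lS MG [T_y, T_z, T_q, T_yi, T_q, T_z, T_yi, T_q, T_z, T_yi, T_yi, T_yi, T_z, T_y, T_y, T_y, T_z, T_q, T_y, T_z, T_q, T_y, T_z, T_q, T_yi, T_q, T_z, T_yi, T_q, T_z, T_yi, T_yi, T_yi, T_z, T_y, T_y, T_y, T_z, T_q, T_y, T_z, T_q, T_y, T_z, T_q, T_z, T_yi, T_q, T_z, T_yi, T_q, T_z, T_yi, T_yi, T_yi, T_z, T_y, T_y, T_y, T_z, T_q, T_y, T_z] M (Nat.sub (T_q u) (Nat.mod (T_q u) M)) (nat_lit 40) (Nat.mod (T_q u) M) u) (lF [T_y, T_q, T_z, T_yi, T_q, T_z, T_yi, T_q, T_z, T_yi, T_yi, T_yi, T_z, T_y, T_y, T_y, T_z, T_q, T_y, T_z, T_q, T_y, T_z, T_q, T_z, T_yi, T_q, T_z, T_yi, T_q, T_z, T_yi, T_yi, T_yi, T_z, T_y, T_y, T_y, T_z, T_q, T_y, T_z, T_q, T_y, T_q, T_z, T_yi, T_q, T_z, T_yi, T_q, T_z, T_yi, T_yi, T_yi, T_z, T_y, T_y, T_y, T_z,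 T_q, T_y, T_z] M (Nat.sub (T_q u) (Nat.mod (T_q u) M)) (Nat.mod (T_q u) M) u) (Nat.ble (nat_lit 396) j)
noncomputable def dp_q_373 (j u : ℕ) : Bool :=
  Bool.rec (motive := fun _ => Bool) (lF [T_z, T_yi, T_yi, T_yi, T_z, T_y, T_y, T_y, T_z, T_q, T_y, T_z, T_q, T_y, T_q, T_z, T_yi, T_q, T_z, T_yi, T_q, T_z, T_yi, T_yi, T_yi, T_z, T_y, T_y, T_y, T_z, T_q, T_y, T_z, T_q, T_y, T_q, T_z, T_yi, T_q, T_z, T_yi, T_q, T_z, T_yi, T_yi, T_yi, T_z, T_y, T_y, T_y, T_z, T_q, T_y, T_z, T_q, T_y, T_z, T_q, T_z, T_yi, T_q, T_z, T_yi] M (Nat.sub (T_q u) (Nat.mod (T_q u) M)) (Nat.mod (T_q u) M) u) (dp_q_372 j u) (Nat.ble (nat_lit 395) j)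
noncomputable def dp_q_374 (j u : ℕ) : Bool :=
  Bool.rec (motive := fun _ => Bool) (dp_q_371 j u) (dp_q_373 j u) (Nat.ble (nat_lit 394) j)
noncomputable def dp_q_375 (j u : ℕ) : Bool :=
  Bool.rec (motive := fun _ => Bool) (dp_q_369 j u) (dp_q_374 j u) (Nat.ble (nat_lit 391) j)
noncomputable def dp_q_376 (j u : ℕ) : Bool :=
  Bool.rec (motive := fun _ => Bool) (dp_q_364 j u) (dp_q_375 j u) (Nat.ble (nat_lit 385) j)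
noncomputable def dp_q_377 (j u : ℕ) : Bool :=
  Bool.rec (motive := fun _ => Bool) (dp_q_353 j u) (dp_q_376 j u) (Nat.ble (nat_lit 373) j)
noncomputable def dp_q_378 (j u : ℕ) : Bool :=
  Bool.rec (motive := fun _ => Bool) (dp_q_344 j u) (dp_q_377 j u) (Nat.ble (nat_lit 363) j)
noncomputable def dp_q_379 (j u : ℕ) : Bool :=
  Bool.rec (motive := fun _ => Bool) (dp_q_336 j u) (dp_q_378 j u) (Nat.ble (nat_lit 354) j)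
noncomputable def dp_q_380 (j u : ℕ) : Bool :=
  Bool.rec (motive := fun _ => Bool) (dp_q_329 j u) (dp_q_379 j u) (Nat.ble (nat_lit 346) j)
noncomputable def dp_q_381 (j u : ℕ) : Bool :=
  Bool.rec (motive := fun _ => Bool) (dp_q_318 j u) (dp_q_380 j u) (Nat.ble (nat_lit 334) j)
noncomputable def dp_q_382 (j u : ℕ) : Bool :=
  Bool.rec (motive := fun _ => Bool) (dp_q_302 j u) (dp_q_381 j u) (Nat.ble (nat_lit 317) j)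
noncomputable def dp_q_383 (j u : ℕ) : Bool :=
  Bool.rec (motive := fun _ => Bool) (dp_q_279 j u) (dp_q_382 j u) (Nat.ble (nat_lit 293) j)
noncomputable def dp_q_384 (j u : ℕ) : Bool :=
  Bool.rec (motive := fun _ => Bool) (dp_q_246 j u) (dp_q_383 j u) (Nat.ble (nat_lit 259) j)
noncomputable def dp_q_385 (j u : ℕ) : Bool :=
  Bool.rec (motive := fun _ => Bool) (dp_q_200 j u) (dp_q_384 j u) (Nat.ble (nat_lit 212) j)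
noncomputable def dp_q_386 (j u : ℕ) : Bool :=
  Bool.rec (motive := fun _ => Bool) (dp_q_139 j u) (dp_q_385 j u) (Nat.ble (nat_lit 150) j)
noncomputable def dp_q_387 (j u : ℕ) : Bool :=
  Bool.rec (motive := fun _ => Bool) (dp_q_73 j u) (dp_q_386 j u) (Nat.ble (nat_lit 83) j)
noncomputable def dp_q_388 (j u : ℕ) : Bool :=
  Bool.rec (motive := fun _ => Bool) (dp_q_31 j u) (dp_q_387 j u) (Nat.ble (nat_lit 40) j)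
noncomputable def dp_q_389 (j u : ℕ) : Bool :=
  Bool.rec (motive := fun _ => Bool) (dp_q_12 j u) (dp_q_388 j u) (Nat.ble (nat_lit 20) j)
noncomputable def dp_q_390 (j u : ℕ) : Bool :=
  Bool.rec (motive := fun _ => Bool) (Bool.rec (motive := fun _ => Bool) (dp_q_0 j u) (dp_q_1 j u) (Nat.ble (nat_lit 6) j)) (dp_q_389 j u) (Nat.ble (nat_lit 8) j)
noncomputable def disp_q (j u : ℕ) : Bool :=
  Bool.rec (motive := fun _ => Bool) (Bool.rec (motive := fun _ => Bool) (lF1 T_q M (Nat.sub (T_q u) (Nat.mod (T_q u) M)) (Nat.mod (T_q u) M) u) (lDef P (nat_lit 3) (Nat.mod (T_q u) M) u) (Nat.ble (nat_lit 1) j)) (Bool.rec (motive := fun _ => Bool) (Bool.rec (motive := fun _ => Bool) (lDef P (nat_lit 3) u (Nat.mod (T_q u) M)) (lF [T_v, T_z, T_v, T_q, T_v, T_z, T_v] M (Nat.sub (T_q u) (Nat.mod (T_q u) M)) (Nat.mod (T_q u)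 M) u) (Nat.ble (nat_lit 3) j)) (dp_q_390 j u) (Nat.ble (nat_lit 4) j)) (Nat.ble (nat_lit 2) j)
noncomputable def chk_q (j u : ℕ) : Bool :=
  Bool.rec (motive := fun _ => Bool) (disp_q j u) (Nat.ble (Nat.succ (MG u)) A) (Nat.ble A (T_q u))
noncomputable def dp_v_0 (j u : ℕ) : Bool :=
  Bool.rec (motive := fun _ => Bool) (lF [T_q, T_v, T_z, T_v, T_q, T_v, T_z] M (Nat.sub (T_v u) (Nat.mod (T_v u) M)) (Nat.mod (T_v u) M) u) (lF [T_z, T_v, T_q, T_v, T_z, T_v, T_q] M (Nat.sub (T_v u) (Nat.mod (T_v u) M)) (Nat.mod (T_v u) M) u) (Nat.ble (nat_lit 6) j)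
noncomputable def dp_v_1 (j u : ℕ) : Bool :=
  Bool.rec (motive := fun _ => Bool) (lS MG [T_v] M (Nat.sub (T_v u) (Nat.mod (T_v u) M)) (nat_lit 40) (Nat.mod (T_v u) M) u) (lF [T_z, T_v, T_z, T_v, T_z, T_v, T_z, T_v, T_z] M (Nat.sub (T_v u) (Nat.mod (T_v u) M)) (Nat.mod (T_v u) M) u) (Nat.ble (nat_lit 8) j)
noncomputable def dp_v_2 (j u : ℕ) : Bool :=
  Bool.rec (motive := fun _ => Bool) (lF [T_q, T_z, T_v, T_q, T_z, T_q, T_z, T_v, T_z, T_q] M (Nat.sub (T_v u) (Nat.mod (T_v u) M)) (Nat.mod (T_v u) M) u) (lS MG [T_q, T_v, T_z, T_v, T_q, T_v, T_z] M (Nat.sub (T_v u) (Nat.mod (T_v u) M)) (nat_lit 40) (Nat.mod (T_v u) M) u) (Nat.ble (nat_lit 10) j)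
noncomputable def dp_v_3 (j u : ℕ) : Bool :=
  Bool.rec (motive := fun _ => Bool) (dp_v_1 j u) (dp_v_2 j u) (Nat.ble (nat_lit 9) j)
noncomputable def dp_v_4 (j u : ℕ) : Bool :=
  Bool.rec (motive := fun _ => Bool) (lS MG [T_z, T_v, T_q, T_v, T_z, T_v, T_q] M (Nat.sub (T_v u) (Nat.mod (T_v u) M)) (nat_lit 40) (Nat.mod (T_v u) M) u) (lS MG [T_yi, T_v, T_y] M (Nat.sub (T_v u) (Nat.mod (T_v u) M)) (nat_lit 40) (Nat.mod (T_v u) M) u) (Nat.ble (nat_lit 12) j)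
noncomputable def dp_v_5 (j u : ℕ) : Bool :=
  Bool.rec (motive := fun _ => Bool) (lS MG [T_y, T_v, T_yi] M (Nat.sub (T_v u) (Nat.mod (T_v u) M)) (nat_lit 40) (Nat.mod (T_v u) M) u) (lF [T_q, T_z, T_q, T_z, T_v, T_z, T_q, T_v, T_q, T_z] M (Nat.sub (T_v u) (Nat.mod (T_v u) M)) (Nat.mod (T_v u) M) u) (Nat.ble (nat_lit 14) j)
noncomputable def dp_v_6 (j u : ℕ) : Bool :=
  Bool.rec (motive := fun _ => Bool) (dp_v_4 j u) (dp_v_5 j u) (Nat.ble (nat_lit 13) j)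
noncomputable def dp_v_7 (j u : ℕ) : Bool :=
  Bool.rec (motive := fun _ => Bool) (lF [T_z, T_q, T_v, T_q, T_z, T_v, T_q, T_z, T_q, T_z] M (Nat.sub (T_v u) (Nat.mod (T_v u) M)) (Nat.mod (T_v u) M) u) (lF [T_q, T_z, T_q, T_v, T_q, T_z, T_q, T_v, T_q, T_z, T_q] M (Nat.sub (T_v u) (Nat.mod (T_v u) M)) (Nat.mod (T_v u) M) u) (Nat.ble (nat_lit 16) j)
noncomputable def dp_v_8 (j u : ℕ) : Bool :=
  Bool.rec (motive := fun _ => Bool) (lS MG [T_q, T_z, T_v, T_q, T_z, T_q, T_z, T_v, T_z, T_q] M (Nat.sub (T_v u) (Nat.mod (T_v u) M)) (nat_lit 40) (Nat.mod (T_v u) M) u) (lF [T_z, T_q, T_z, T_q, T_v, T_z, T_q, T_v, T_q, T_z] M (Nat.sub (T_v u) (Nat.mod (T_v u) M)) (Nat.mod (T_v u) M) u) (Nat.ble (nat_lit 19) j)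
noncomputable def dp_v_9 (j u : ℕ) : Bool :=
  Bool.rec (motive := fun _ => Bool) (lS MG [T_z, T_v, T_z, T_v, T_z, T_v, T_z, T_v, T_z] M (Nat.sub (T_v u) (Nat.mod (T_v u) M)) (nat_lit 40) (Nat.mod (T_v u) M) u) (dp_v_8 j u) (Nat.ble (nat_lit 18) j)
noncomputable def dp_v_10 (j u : ℕ) : Bool :=
  Bool.rec (motive := fun _ => Bool) (dp_v_7 j u) (dp_v_9 j u) (Nat.ble (nat_lit 17) j)
noncomputable def dp_v_11 (j u : ℕ) : Bool :=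
  Bool.rec (motive := fun _ => Bool) (lF [T_z, T_q, T_v, T_q, T_z, T_v, T_z, T_q, T_z, T_q] M (Nat.sub (T_v u) (Nat.mod (T_v u) M)) (Nat.mod (T_v u) M) u) (lF [T_q, T_z, T_v, T_z, T_q, T_z, T_q, T_v, T_z, T_q] M (Nat.sub (T_v u) (Nat.mod (T_v u) M)) (Nat.mod (T_v u) M) u) (Nat.ble (nat_lit 21) j)
noncomputable def dp_v_12 (j u : ℕ) : Bool :=
  Bool.rec (motive := fun _ => Bool) (lS MG [T_q, T_z, T_q, T_z, T_v, T_z, T_q, T_v, T_q, T_z] M (Nat.sub (T_v u) (Nat.mod (T_v u) M)) (nat_lit 40) (Nat.mod (T_v u) M) u) (lS MG [T_q, T_z, T_q, T_v, T_q, T_z, T_q, T_v, T_q, T_z, T_q] M (Nat.sub (T_v u) (Nat.mod (T_v u) M)) (nat_lit 40) (Nat.mod (T_v u) M) u) (Nat.ble (nat_lit 24) j)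
noncomputable def dp_v_13 (j u : ℕ) : Bool :=
  Bool.rec (motive := fun _ => Bool) (lF [T_q, T_v, T_q, T_v, T_q, T_v, T_q, T_v, T_q, T_v, T_q] M (Nat.sub (T_v u) (Nat.mod (T_v u) M)) (Nat.mod (T_v u) M) u) (dp_v_12 j u) (Nat.ble (nat_lit 23) j)
noncomputable def dp_v_14 (j u : ℕ) : Bool :=
  Bool.rec (motive := fun _ => Bool) (dp_v_11 j u) (dp_v_13 j u) (Nat.ble (nat_lit 22) j)
noncomputable def dp_v_15 (j u : ℕ) : Bool :=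
  Bool.rec (motive := fun _ => Bool) (lS MG [T_z, T_q, T_v, T_q, T_z, T_v, T_q, T_z, T_q, T_z] M (Nat.sub (T_v u) (Nat.mod (T_v u) M)) (nat_lit 40) (Nat.mod (T_v u) M) u) (lF [T_z, T_q, T_z, T_v, T_q, T_v, T_q, T_v, T_z, T_q, T_z, T_v, T_z] M (Nat.sub (T_v u) (Nat.mod (T_v u) M)) (Nat.mod (T_v u) M) u) (Nat.ble (nat_lit 26) j)
noncomputable def dp_v_16 (j u : ℕ) : Bool :=
  Bool.rec (motive := fun _ => Bool) (lF [T_q, T_v, T_z, T_q, T_z, T_v, T_z, T_v, T_z, T_q, T_z, T_v, T_q] M (Nat.sub (T_v u) (Nat.mod (T_v u) M)) (Nat.mod (T_v u) M) u) (lF [T_z, T_v, T_z, T_q, T_z, T_v, T_q, T_v, T_q, T_v, T_z, T_q, T_z] M (Nat.sub (T_v u) (Nat.mod (T_v u) M)) (Nat.mod (T_v u) M) u) (Nat.ble (nat_lit 28) j)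
noncomputable def dp_v_17 (j u : ℕ) : Bool :=
  Bool.rec (motive := fun _ => Bool) (lS MG [T_z, T_q, T_v, T_q, T_z, T_v, T_z, T_q, T_z, T_q] M (Nat.sub (T_v u) (Nat.mod (T_v u) M)) (nat_lit 40) (Nat.mod (T_v u) M) u) (lS MG [T_q, T_v, T_q, T_v, T_q, T_v, T_q, T_v, T_q, T_v, T_q] M (Nat.sub (T_v u) (Nat.mod (T_v u) M)) (nat_lit 40) (Nat.mod (T_v u) M) u) (Nat.ble (nat_lit 30) j)
noncomputable def dp_v_18 (j u : ℕ) : Bool :=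
  Bool.rec (motive := fun _ => Bool) (dp_v_16 j u) (dp_v_17 j u) (Nat.ble (nat_lit 29) j)
noncomputable def dp_v_19 (j u : ℕ) : Bool :=
  Bool.rec (motive := fun _ => Bool) (dp_v_15 j u) (dp_v_18 j u) (Nat.ble (nat_lit 27) j)
noncomputable def dp_v_20 (j u : ℕ) : Bool :=
  Bool.rec (motive := fun _ => Bool) (lF [T_z, T_q, T_z, T_v, T_z, T_v, T_z, T_q, T_z, T_v, T_q, T_v, T_q] M (Nat.sub (T_v u) (Nat.mod (T_v u) M)) (Nat.mod (T_v u) M) u) (lS MG [T_q, T_z, T_v, T_z, T_q, T_z, T_q, T_v, T_z, T_q] M (Nat.sub (T_v u) (Nat.mod (T_v u) M)) (nat_lit 40) (Nat.mod (T_v u) M) u) (Nat.ble (nat_lit 33) j)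
noncomputable def dp_v_21 (j u : ℕ) : Bool :=
  Bool.rec (motive := fun _ => Bool) (lF [T_q, T_v, T_q, T_v, T_z, T_q, T_z, T_v, T_z, T_v, T_z, T_q, T_z] M (Nat.sub (T_v u) (Nat.mod (T_v u) M)) (Nat.mod (T_v u) M) u) (dp_v_20 j u) (Nat.ble (nat_lit 32) j)
noncomputable def dp_v_22 (j u : ℕ) : Bool :=
  Bool.rec (motive := fun _ => Bool) (lF [T_z, T_q, T_z, T_q, T_z, T_q, T_v, T_z, T_q, T_z, T_q, T_v, T_z, T_q] M (Nat.sub (T_v u) (Nat.mod (T_v u) M)) (Nat.mod (T_v u) M) u) (lF [T_y, T_v, T_q, T_z, T_q, T_z, T_yi, T_z, T_q, T_z, T_q] M (Nat.sub (T_v u) (Nat.mod (T_v u) M)) (Nat.mod (T_v u) M) u) (Nat.ble (nat_lit 36) j)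
noncomputable def dp_v_23 (j u : ℕ) : Bool :=
  Bool.rec (motive := fun _ => Bool) (lS MG [T_z, T_q, T_z, T_q, T_v, T_z, T_q, T_v, T_q, T_z] M (Nat.sub (T_v u) (Nat.mod (T_v u) M)) (nat_lit 40) (Nat.mod (T_v u) M) u) (dp_v_22 j u) (Nat.ble (nat_lit 35) j)
noncomputable def dp_v_24 (j u : ℕ) : Bool :=
  Bool.rec (motive := fun _ => Bool) (dp_v_21 j u) (dp_v_23 j u) (Nat.ble (nat_lit 34) j)
noncomputable def dp_v_25 (j u : ℕ) : Bool :=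
  Bool.rec (motive := fun _ => Bool) (lS MG [T_z, T_v, T_z, T_q, T_z, T_v, T_q, T_v, T_q, T_v, T_z, T_q, T_z] M (Nat.sub (T_v u) (Nat.mod (T_v u) M)) (nat_lit 40) (Nat.mod (T_v u) M) u) (lF [T_q, T_z, T_v, T_q, T_z, T_q, T_z, T_v, T_q, T_z, T_q, T_z, T_q, T_z] M (Nat.sub (T_v u) (Nat.mod (T_v u) M)) (Nat.mod (T_v u) M) u) (Nat.ble (nat_lit 39) j)
noncomputable def dp_v_26 (j u : ℕ) : Bool :=
  Bool.rec (motive := fun _ => Bool) (lF [T_yi, T_v, T_q, T_z, T_q, T_z, T_y, T_z, T_q, T_z, T_q] M (Nat.sub (T_v u) (Nat.mod (T_v u) M)) (Nat.mod (T_v u) M) u) (dp_v_25 j u) (Nat.ble (nat_lit 38) j)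
noncomputable def dp_v_27 (j u : ℕ) : Bool :=
  Bool.rec (motive := fun _ => Bool) (lS MG [T_q, T_v, T_q, T_v, T_z, T_q, T_z, T_v, T_z, T_v, T_z, T_q, T_z] M (Nat.sub (T_v u) (Nat.mod (T_v u) M)) (nat_lit 40) (Nat.mod (T_v u) M) u) (lF [T_q, T_z, T_q, T_z, T_y, T_z, T_q, T_z, T_q, T_v, T_yi] M (Nat.sub (T_v u) (Nat.mod (T_v u) M)) (Nat.mod (T_v u) M) u) (Nat.ble (nat_lit 42) j)
noncomputable def dp_v_28 (j u : ℕ) : Bool :=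
  Bool.rec (motive := fun _ => Bool) (lS MG [T_z, T_q, T_z, T_v, T_q, T_v, T_q, T_v, T_z, T_q, T_z, T_v, T_z] M (Nat.sub (T_v u) (Nat.mod (T_v u) M)) (nat_lit 40) (Nat.mod (T_v u) M) u) (dp_v_27 j u) (Nat.ble (nat_lit 41) j)
noncomputable def dp_v_29 (j u : ℕ) : Bool :=
  Bool.rec (motive := fun _ => Bool) (dp_v_26 j u) (dp_v_28 j u) (Nat.ble (nat_lit 40) j)
noncomputable def dp_v_30 (j u : ℕ) : Bool :=
  Bool.rec (motive := fun _ => Bool) (lS MG [T_q, T_v, T_z, T_q, T_z, T_v, T_z, T_v, T_z, T_q, T_z, T_v, T_q] M (Nat.sub (T_v u) (Nat.mod (T_v u) M)) (nat_lit 40) (Nat.mod (T_v u) M) u) (lF [T_q, T_z, T_q, T_z, T_yi, T_z, T_q, T_z, T_q, T_v, T_y] M (Nat.sub (T_v u) (Nat.mod (T_v u) M)) (Nat.mod (T_v u) M) u) (Nat.ble (nat_lit 44) j)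
noncomputable def dp_v_31 (j u : ℕ) : Bool :=
  Bool.rec (motive := fun _ => Bool) (lS MG [T_z, T_q, T_z, T_v, T_z, T_v, T_z, T_q, T_z, T_v, T_q, T_v, T_q] M (Nat.sub (T_v u) (Nat.mod (T_v u) M)) (nat_lit 40) (Nat.mod (T_v u) M) u) (lS MG [T_z, T_q, T_z, T_q, T_z, T_q, T_v, T_z, T_q, T_z, T_q, T_v, T_z, T_q] M (Nat.sub (T_v u) (Nat.mod (T_v u) M)) (nat_lit 40) (Nat.mod (T_v u) M) u) (Nat.ble (nat_lit 46) j)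
noncomputable def dp_v_32 (j u : ℕ) : Bool :=
  Bool.rec (motive := fun _ => Bool) (dp_v_30 j u) (dp_v_31 j u) (Nat.ble (nat_lit 45) j)
noncomputable def dp_v_33 (j u : ℕ) : Bool :=
  Bool.rec (motive := fun _ => Bool) (lS MG [T_y, T_v, T_q, T_z, T_q, T_z, T_yi, T_z, T_q, T_z, T_q] M (Nat.sub (T_v u) (Nat.mod (T_v u) M)) (nat_lit 40) (Nat.mod (T_v u) M) u) (lF [T_q, T_z, T_q, T_z, T_q, T_z, T_v, T_q, T_z, T_v, T_q, T_z, T_q, T_z] M (Nat.sub (T_v u) (Nat.mod (T_v u) M)) (Nat.mod (T_v u) M) u) (Nat.ble (nat_lit 48) j)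
noncomputable def dp_v_34 (j u : ℕ) : Bool :=
  Bool.rec (motive := fun _ => Bool) (lF [T_q, T_z, T_q, T_z, T_v, T_q, T_z, T_q, T_z, T_q, T_z, T_v, T_q, T_z] M (Nat.sub (T_v u) (Nat.mod (T_v u) M)) (Nat.mod (T_v u) M) u) (lS MG [T_yi, T_v, T_q, T_z, T_q, T_z, T_y, T_z, T_q, T_z, T_q] M (Nat.sub (T_v u) (Nat.mod (T_v u) M)) (nat_lit 40) (Nat.mod (T_v u) M) u) (Nat.ble (nat_lit 50) j)
noncomputable def dp_v_35 (j u : ℕ) : Bool :=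
  Bool.rec (motive := fun _ => Bool) (dp_v_33 j u) (dp_v_34 j u) (Nat.ble (nat_lit 49) j)
noncomputable def dp_v_36 (j u : ℕ) : Bool :=
  Bool.rec (motive := fun _ => Bool) (lF [T_z, T_q, T_v, T_z, T_q, T_z, T_q, T_z, T_q, T_v, T_z, T_q, T_z, T_q] M (Nat.sub (T_v u) (Nat.mod (T_v u) M)) (Nat.mod (T_v u) M) u) (lS MG [T_q, T_z, T_v, T_q, T_z, T_q, T_z, T_v, T_q, T_z, T_q, T_z, T_q, T_z] M (Nat.sub (T_v u) (Nat.mod (T_v u) M)) (nat_lit 40) (Nat.mod (T_v u) M) u) (Nat.ble (nat_lit 52) j)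
noncomputable def dp_v_37 (j u : ℕ) : Bool :=
  Bool.rec (motive := fun _ => Bool) (lF [T_z, T_q, T_z, T_q, T_v, T_z, T_q, T_v, T_z, T_q, T_z, T_q, T_z, T_q] M (Nat.sub (T_v u) (Nat.mod (T_v u) M)) (Nat.mod (T_v u) M) u) (lS MG [T_q, T_z, T_q, T_z, T_yi, T_z, T_q, T_z, T_q, T_v, T_y] M (Nat.sub (T_v u) (Nat.mod (T_v u) M)) (nat_lit 40) (Nat.mod (T_v u) M) u) (Nat.ble (nat_lit 54) j)
noncomputable def dp_v_38 (j u : ℕ) : Bool :=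
  Bool.rec (motive := fun _ => Bool) (lS MG [T_q, T_z, T_q, T_z, T_y, T_z, T_q, T_z, T_q, T_v, T_yi] M (Nat.sub (T_v u) (Nat.mod (T_v u) M)) (nat_lit 40) (Nat.mod (T_v u) M) u) (lS MG [T_q, T_z, T_q, T_z, T_q, T_z, T_v, T_q, T_z, T_v, T_q, T_z, T_q, T_z] M (Nat.sub (T_v u) (Nat.mod (T_v u) M)) (nat_lit 40) (Nat.mod (T_v u) M) u) (Nat.ble (nat_lit 56) j)
noncomputable def dp_v_39 (j u : ℕ) : Bool :=
  Bool.rec (motive := fun _ => Bool) (lS MG [T_z, T_q, T_v, T_z, T_q, T_z, T_q, T_z, T_q, T_v, T_z, T_q, T_z, T_q] M (Nat.sub (T_v u) (Nat.mod (T_v u) M)) (nat_lit 40) (Nat.mod (T_v u) M) u) (lS MG [T_z, T_q, T_z, T_q, T_v, T_z, T_q, T_v, T_z, T_q, T_z, T_q, T_z, T_q] M (Nat.sub (T_v u) (Nat.mod (T_v u) M)) (nat_lit 40) (Nat.mod (T_v u) M) u) (Nat.ble (nat_lit 59) j)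
noncomputable def dp_v_40 (j u : ℕ) : Bool :=
  Bool.rec (motive := fun _ => Bool) (lS MG [T_q, T_z, T_q, T_z, T_v, T_q, T_z, T_q, T_z, T_q, T_z, T_v, T_q, T_z] M (Nat.sub (T_v u) (Nat.mod (T_v u) M)) (nat_lit 40) (Nat.mod (T_v u) M) u) (dp_v_39 j u) (Nat.ble (nat_lit 58) j)
noncomputable def dp_v_41 (j u : ℕ) : Bool :=
  Bool.rec (motive := fun _ => Bool) (dp_v_38 j u) (dp_v_40 j u) (Nat.ble (nat_lit 57) j)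
noncomputable def dp_v_42 (j u : ℕ) : Bool :=
  Bool.rec (motive := fun _ => Bool) (dp_v_37 j u) (dp_v_41 j u) (Nat.ble (nat_lit 55) j)
noncomputable def dp_v_43 (j u : ℕ) : Bool :=
  Bool.rec (motive := fun _ => Bool) (dp_v_36 j u) (dp_v_42 j u) (Nat.ble (nat_lit 53) j)
noncomputable def dp_v_44 (j u : ℕ) : Bool :=
  Bool.rec (motive := fun _ => Bool) (dp_v_35 j u) (dp_v_43 j u) (Nat.ble (nat_lit 51) j)
noncomputable def dp_v_45 (j u : ℕ) : Bool :=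
  Bool.rec (motive := fun _ => Bool) (dp_v_32 j u) (dp_v_44 j u) (Nat.ble (nat_lit 47) j)
noncomputable def dp_v_46 (j u : ℕ) : Bool :=
  Bool.rec (motive := fun _ => Bool) (dp_v_29 j u) (dp_v_45 j u) (Nat.ble (nat_lit 43) j)
noncomputable def dp_v_47 (j u : ℕ) : Bool :=
  Bool.rec (motive := fun _ => Bool) (dp_v_24 j u) (dp_v_46 j u) (Nat.ble (nat_lit 37) j)
noncomputable def dp_v_48 (j u : ℕ) : Bool :=
  Bool.rec (motive := fun _ => Bool) (dp_v_19 j u) (dp_v_47 j u) (Nat.ble (nat_lit 31) j)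
noncomputable def dp_v_49 (j u : ℕ) : Bool :=
  Bool.rec (motive := fun _ => Bool) (dp_v_14 j u) (dp_v_48 j u) (Nat.ble (nat_lit 25) j)
noncomputable def dp_v_50 (j u : ℕ) : Bool :=
  Bool.rec (motive := fun _ => Bool) (dp_v_10 j u) (dp_v_49 j u) (Nat.ble (nat_lit 20) j)
noncomputable def dp_v_51 (j u : ℕ) : Bool :=
  Bool.rec (motive := fun _ => Bool) (dp_v_6 j u) (dp_v_50 j u) (Nat.ble (nat_lit 15) j)
noncomputable def dp_v_52 (j u : ℕ) : Bool :=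
  Bool.rec (motive := fun _ => Bool) (dp_v_3 j u) (dp_v_51 j u) (Nat.ble (nat_lit 11) j)
noncomputable def dp_v_53 (j u : ℕ) : Bool :=
  Bool.rec (motive := fun _ => Bool) (dp_v_0 j u) (dp_v_52 j u) (Nat.ble (nat_lit 7) j)
noncomputable def dp_v_54 (j u : ℕ) : Bool :=
  Bool.rec (motive := fun _ => Bool) (Bool.rec (motive := fun _ => Bool) (lF3 T_y T_v T_yi M (Nat.sub (T_v u) (Nat.mod (T_v u) M)) (Nat.mod (T_v u) M) u) (lF3 T_yi T_v T_y M (Nat.sub (T_v u) (Nat.mod (T_v u) M)) (Nat.mod (T_v u) M) u) (Nat.ble (nat_lit 4) j)) (dp_v_53 j u) (Nat.ble (nat_lit 5) j)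
noncomputable def dp_v_55 (j u : ℕ) : Bool :=
  Bool.rec (motive := fun _ => Bool) (lF1 T_v M (Nat.sub (T_v u) (Nat.mod (T_v u) M)) (Nat.mod (T_v u) M) u) (dp_v_54 j u) (Nat.ble (nat_lit 3) j)
noncomputable def disp_v (j u : ℕ) : Bool :=
  Bool.rec (motive := fun _ => Bool) (Bool.rec (motive := fun _ => Bool) (lDef P (nat_lit 4) (Nat.mod (T_v u) M) u) (lDef P (nat_lit 4) u (Nat.mod (T_v u) M)) (Nat.ble (nat_lit 1) j)) (dp_v_55 j u) (Nat.ble (nat_lit 2) j)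
noncomputable def chk_v (j u : ℕ) : Bool :=
  Bool.rec (motive := fun _ => Bool) (disp_v j u) (Nat.ble (Nat.succ (MG u)) A) (Nat.ble A (T_v u))
noncomputable def dM_0 (j z1 z2 u : ℕ) : Bool :=
  Bool.rec (motive := fun _ => Bool) (Bool.rec (motive := fun _ => Bool) (mCo MG T_q M (Nat.sub (MG u) (Nat.mod (MG u) M)) (nat_lit 40) z1 z2 u (Nat.mod (MG u) M)) (Bool.rec (motive := fun _ => Bool) (mCo MG T_z M (Nat.sub (MG u) (Nat.mod (MG u) M)) (nat_lit 40) z1 z2 u (Nat.mod (MG u) M)) (mCo MG T_v M (Nat.sub (MG u) (Nat.mod (MG u) M)) (nat_lit 40) z1 z2 u (Nat.mod (MG u) M)) (Nat.ble (nat_lit 2) j)) (Nat.ble (nat_lit 1) j)) (Bool.rec (motive := fun _ => Bool) (Bool.rec (motive := fun _ => Bool) (mCo MG T_yi M (Nat.sub (MG u) (Nat.mod (MG u) M)) (nat_lit 40) z1 z2 u (Nat.mod (MG u) M)) (mCo MG T_y M (Nat.sub (MG u)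 (Nat.mod (MG u) M)) (nat_lit 40) z1 z2 u (Nat.mod (MG u) M)) (Nat.ble (nat_lit 4) j)) (Bool.rec (motive := fun _ => Bool) (Bool.rec (motive := fun _ => Bool) (H9.TCX.mRelD MG [T_v, T_y, T_v, T_yi] [T_y, T_v, T_yi, T_v] (nat_lit 4) z2 M (Nat.sub (MG u) (Nat.mod (MG u) M)) (nat_lit 40) z1 u (Nat.mod (MG u) M)) (Bool.rec (motive := fun _ => Bool) (H9.TCX.mRelD MG [T_v, T_yi, T_v, T_y] [T_yi, T_v, T_y, T_v] (nat_lit 4) z2 M (Nat.sub (MG u) (Nat.mod (MG u) M)) (nat_lit 40) z1 u (Nat.mod (MG u) M)) (H9.TCX.mRelD MG [T_yi, T_v, T_y, T_v] [T_v, T_yi, T_v, T_y] (nat_lit 4) z2 M (Nat.sub (MG u) (Nat.mod (MG u) M)) (nat_lit 40) z1 u (Nat.mod (MG u) M)) (Nat.ble (nat_lit 7) j)) (Nat.ble (nat_lit 6) j)) (Bool.rec (motive := fun _ => Bool) (H9.TCX.mRelD MG [T_y, T_v, T_yi, T_v] [T_v, T_y, T_v, T_yi] (nat_lit 4) z2 M (Nat.sub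 (MG u) (Nat.mod (MG u) M)) (nat_lit 40) z1 u (Nat.mod (MG u) M)) (Bool.rec (motive := fun _ => Bool) (H9.TCX.mRelD MG [T_z, T_v, T_q, T_v, T_z, T_v, T_q, T_v] [T_v, T_q, T_v, T_z, T_v, T_q, T_v, T_z] (nat_lit 8) z2 M (Nat.sub (MG u) (Nat.mod (MG u) M)) (nat_lit 40) z1 u (Nat.mod (MG u) M)) (H9.TCX.mRelD MG [T_v, T_q, T_v, T_z, T_v, T_q, T_v, T_z] [T_z, T_v, T_q, T_v, T_z, T_v, T_q, T_v] (nat_lit 8) z2 M (Nat.sub (MG u) (Nat.mod (MG u) M)) (nat_lit 40) z1 u (Nat.mod (MG u) M)) (Nat.ble (nat_lit 10) j)) (Nat.ble (nat_lit 9) j)) (Nat.ble (nat_lit 8) j)) (Nat.ble (nat_lit 5) j)) (Nat.ble (nat_lit 3) j)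
noncomputable def dM_1 (j z1 z2 u : ℕ) : Bool :=
  Bool.rec (motive := fun _ => Bool) (Bool.rec (motive := fun _ => Bool) (H9.TCX.mRelD MG [T_v, T_z, T_v, T_q, T_v, T_z, T_v, T_q] [T_q, T_v, T_z, T_v, T_q, T_v, T_z, T_v] (nat_lit 8) z2 M (Nat.sub (MG u) (Nat.mod (MG u) M)) (nat_lit 40) z1 u (Nat.mod (MG u) M)) (H9.TCX.mRelD MG [T_q, T_v, T_z, T_v, T_q, T_v, T_z, T_v] [T_v, T_z, T_v, T_q, T_v, T_z, T_v, T_q] (nat_lit 8) z2 M (Nat.sub (MG u) (Nat.mod (MG u) M)) (nat_lit 40) z1 u (Nat.mod (MG u) M)) (Nat.ble (nat_lit 12) j)) (Bool.rec (motive := fun _ => Bool) (Bool.rec (motive := fun _ => Bool) (H9.TCX.mRelD MG [T_yi, T_q, T_y, T_q, T_yi, T_q, T_y, T_q] [T_q, T_yi, T_q, T_y, T_q, T_yi, T_q, T_y] (nat_lit 8) z2 M (Nat.sub (MG u) (Nat.mod (MG u) M)) (nat_lit 40) z1 u (Nat.mod (MG u) M)) (H9.TCX.mRelD MG [T_y,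 T_q, T_yi, T_q, T_y, T_q, T_yi, T_q] [T_q, T_y, T_q, T_yi, T_q, T_y, T_q, T_yi] (nat_lit 8) z2 M (Nat.sub (MG u) (Nat.mod (MG u) M)) (nat_lit 40) z1 u (Nat.mod (MG u) M)) (Nat.ble (nat_lit 14) j)) (Bool.rec (motive := fun _ => Bool) (H9.TCX.mRelD MG [T_y, T_y, T_y, T_y, T_y, T_y] [T_yi, T_yi, T_yi, T_yi, T_yi, T_yi] (nat_lit 6) z2 M (Nat.sub (MG u) (Nat.mod (MG u) M)) (nat_lit 40) z1 u (Nat.mod (MG u) M)) (H9.TCX.mRelD MG [T_q, T_y, T_q, T_yi, T_q, T_y, T_q, T_yi] [T_y, T_q, T_yi, T_q, T_y, T_q, T_yi, T_q] (nat_lit 8) z2 M (Nat.sub (MG u) (Nat.mod (MG u) M)) (nat_lit 40) z1 u (Nat.mod (MG u) M)) (Nat.ble (nat_lit 16) j)) (Nat.ble (nat_lit 15) j)) (Nat.ble (nat_lit 13) j)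
noncomputable def dM_2 (j z1 z2 u : ℕ) : Bool :=
  Bool.rec (motive := fun _ => Bool) (Bool.rec (motive := fun _ => Bool) (Bool.rec (motive := fun _ => Bool) (H9.TCX.mRelD MG [T_yi, T_yi, T_yi, T_yi, T_yi, T_yi] [T_y, T_y, T_y, T_y, T_y, T_y] (nat_lit 6) z2 M (Nat.sub (MG u) (Nat.mod (MG u) M)) (nat_lit 40) z1 u (Nat.mod (MG u) M)) (H9.TCX.mRelD MG [T_q, T_yi, T_q, T_y, T_q, T_yi, T_q, T_y] [T_yi, T_q, T_y, T_q, T_yi, T_q, T_y, T_q] (nat_lit 8) z2 M (Nat.sub (MG u) (Nat.mod (MG u) M)) (nat_lit 40) z1 u (Nat.mod (MG u) M)) (Nat.ble (nat_lit 18) j)) (Bool.rec (motive := fun _ => Bool) (H9.TCX.mRelD MG [T_yi, T_q, T_z, T_q, T_z, T_y, T_q, T_z, T_q, T_z] [T_z, T_q, T_z, T_q, T_yi, T_z, T_q, T_z, T_q, T_y] (nat_lit 10) z2 M (Nat.sub (MG u) (Nat.mod (MG u) M)) (nat_lit 40) z1 u (Nat.mod (MG u) M)) (H9.TCX.mRelD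 MG [T_y, T_q, T_z, T_q, T_z, T_yi, T_q, T_z, T_q, T_z] [T_z, T_q, T_z, T_q, T_y, T_z, T_q, T_z, T_q, T_yi] (nat_lit 10) z2 M (Nat.sub (MG u) (Nat.mod (MG u) M)) (nat_lit 40) z1 u (Nat.mod (MG u) M)) (Nat.ble (nat_lit 20) j)) (Nat.ble (nat_lit 19) j)) (Bool.rec (motive := fun _ => Bool) (Bool.rec (motive := fun _ => Bool) (H9.TCX.mRelD MG [T_q, T_z, T_q, T_v, T_z, T_q, T_v, T_q, T_z, T_v, T_z] [T_z, T_v, T_z, T_q, T_v, T_q, T_z, T_v, T_q, T_z, T_q] (nat_lit 11) z2 M (Nat.sub (MG u) (Nat.mod (MG u) M)) (nat_lit 40) z1 u (Nat.mod (MG u) M)) (H9.TCX.mRelD MG [T_z, T_v, T_z, T_v, T_z, T_v, T_z, T_v, T_z, T_v] [T_v, T_z, T_v, T_z, T_v, T_z, T_v, T_z, T_v, T_z] (nat_lit 10) z2 M (Nat.sub (MG u) (Nat.mod (MG u) M)) (nat_lit 40) z1 u (Nat.mod (MG u) M)) (Nat.ble (nat_lit 22) j)) (Bool.rec (motive := fun _ => Bool)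 (H9.TCX.mRelD MG [T_v, T_q, T_z, T_q, T_z, T_v, T_z, T_q, T_v, T_q, T_z] [T_z, T_q, T_v, T_q, T_z, T_v, T_z, T_q, T_z, T_q, T_v] (nat_lit 11) z2 M (Nat.sub (MG u) (Nat.mod (MG u) M)) (nat_lit 40) z1 u (Nat.mod (MG u) M)) (Bool.rec (motive := fun _ => Bool) (H9.TCX.mRelD MG [T_v, T_z, T_v, T_z, T_v, T_z, T_v, T_z, T_v, T_z] [T_z, T_v, T_z, T_v, T_z, T_v, T_z, T_v, T_z, T_v] (nat_lit 10) z2 M (Nat.sub (MG u) (Nat.mod (MG u) M)) (nat_lit 40) z1 u (Nat.mod (MG u) M)) (H9.TCX.mRelD MG [T_z, T_q, T_v, T_q, T_z, T_v, T_q, T_z, T_q, T_z, T_v] [T_v, T_z, T_q, T_z, T_q, T_v, T_z, T_q, T_v, T_q, T_z] (nat_lit 11) z2 M (Nat.sub (MG u) (Nat.mod (MG u) M)) (nat_lit 40) z1 u (Nat.mod (MG u) M)) (Nat.ble (nat_lit 25) j)) (Nat.ble (nat_lit 24) j)) (Nat.ble (nat_lit 23) j)) (Nat.ble (nat_lit 21) j)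
noncomputable def dM_3 (j z1 z2 u : ℕ) : Bool :=
  Bool.rec (motive := fun _ => Bool) (dM_1 j z1 z2 u) (dM_2 j z1 z2 u) (Nat.ble (nat_lit 17) j)
noncomputable def dM_4 (j z1 z2 u : ℕ) : Bool :=
  Bool.rec (motive := fun _ => Bool) (Bool.rec (motive := fun _ => Bool) (H9.TCX.mRelD MG [T_z, T_q, T_z, T_q, T_v, T_z, T_q, T_v, T_q, T_z, T_v] [T_v, T_z, T_q, T_v, T_q, T_z, T_v, T_q, T_z, T_q, T_z] (nat_lit 11) z2 M (Nat.sub (MG u) (Nat.mod (MG u) M)) (nat_lit 40) z1 u (Nat.mod (MG u) M)) (Bool.rec (motive := fun _ => Bool) (H9.TCX.mRelD MG [T_z, T_q, T_z, T_q, T_yi, T_z, T_q, T_z, T_q, T_y] [T_yi, T_q, T_z, T_q, T_z, T_y, T_q, T_z, T_q, T_z] (nat_lit 10) z2 M (Nat.sub (MG u) (Nat.mod (MG u) M)) (nat_lit 40) z1 u (Nat.mod (MG u) M)) (H9.TCX.mRelD MG [T_z, T_q, T_z, T_y, T_q, T_z, T_q, T_z, T_yi, T_q] [T_q, T_y,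 T_z, T_q, T_z, T_q, T_yi, T_z, T_q, T_z] (nat_lit 10) z2 M (Nat.sub (MG u) (Nat.mod (MG u) M)) (nat_lit 40) z1 u (Nat.mod (MG u) M)) (Nat.ble (nat_lit 28) j)) (Nat.ble (nat_lit 27) j)) (Bool.rec (motive := fun _ => Bool) (Bool.rec (motive := fun _ => Bool) (H9.TCX.mRelD MG [T_q, T_v, T_q, T_z, T_v, T_q, T_z, T_q, T_z, T_v, T_z] [T_z, T_v, T_z, T_q, T_z, T_q, T_v, T_z, T_q, T_v, T_q] (nat_lit 11) z2 M (Nat.sub (MG u) (Nat.mod (MG u) M)) (nat_lit 40) z1 u (Nat.mod (MG u) M)) (H9.TCX.mRelD MG [T_y, T_z, T_q, T_z, T_q, T_yi, T_z, T_q, T_z, T_q] [T_q, T_z, T_q, T_z, T_y, T_q, T_z, T_q, T_z, T_yi] (nat_lit 10) z2 M (Nat.sub (MG u) (Nat.mod (MG u) M)) (nat_lit 40) z1 u (Nat.mod (MG u) M)) (Nat.ble (nat_lit 30) j)) (Bool.rec (motive := fun _ => Bool) (H9.TCX.mRelD MG [T_z, T_q, T_z, T_q, T_y, T_z, T_q, T_z, T_q, T_yi]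 [T_y, T_q, T_z, T_q, T_z, T_yi, T_q, T_z, T_q, T_z] (nat_lit 10) z2 M (Nat.sub (MG u) (Nat.mod (MG u) M)) (nat_lit 40) z1 u (Nat.mod (MG u) M)) (H9.TCX.mRelD MG [T_q, T_z, T_v, T_q, T_z, T_q, T_z, T_v, T_z, T_q, T_v] [T_v, T_q, T_z, T_v, T_z, T_q, T_z, T_q, T_v, T_z, T_q] (nat_lit 11) z2 M (Nat.sub (MG u) (Nat.mod (MG u) M)) (nat_lit 40) z1 u (Nat.mod (MG u) M)) (Nat.ble (nat_lit 32) j)) (Nat.ble (nat_lit 31) j)) (Nat.ble (nat_lit 29) j)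
noncomputable def dM_5 (j z1 z2 u : ℕ) : Bool :=
  Bool.rec (motive := fun _ => Bool) (Bool.rec (motive := fun _ => Bool) (H9.TCX.mRelD MG [T_z, T_y, T_q, T_z, T_q, T_z, T_yi, T_q, T_z, T_q] [T_q, T_z, T_q, T_y, T_z, T_q, T_z, T_q, T_yi, T_z] (nat_lit 10) z2 M (Nat.sub (MG u) (Nat.mod (MG u) M)) (nat_lit 40) z1 u (Nat.mod (MG u) M)) (Bool.rec (motive := fun _ => Bool) (H9.TCX.mRelD MG [T_yi, T_z, T_q, T_z, T_q, T_y, T_z, T_q, T_z, T_q] [T_q, T_z, T_q, T_z, T_yi, T_q, T_z, T_q, T_z, T_y] (nat_lit 10) z2 M (Nat.sub (MG u) (Nat.mod (MG u) M)) (nat_lit 40) z1 u (Nat.mod (MG u) M)) (H9.TCX.mRelD MG [T_v, T_z, T_q, T_v, T_q, T_z, T_v, T_q, T_z, T_q, T_z] [T_z, T_q, T_z, T_q, T_v, T_z, T_q, T_v, T_q, T_z, T_v] (nat_lit 11) z2 M (Nat.sub (MG u) (Nat.mod (MG u) M)) (nat_lit 40) z1 u (Nat.mod (MG u) M)) (Nat.ble (nat_lit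 35) j)) (Nat.ble (nat_lit 34) j)) (Bool.rec (motive := fun _ => Bool) (Bool.rec (motive := fun _ => Bool) (H9.TCX.mRelD MG [T_v, T_q, T_z, T_q, T_v, T_q, T_z, T_q, T_v, T_q, T_z, T_q] [T_q, T_z, T_q, T_v, T_q, T_z, T_q, T_v, T_q, T_z, T_q, T_v] (nat_lit 12) z2 M (Nat.sub (MG u) (Nat.mod (MG u) M)) (nat_lit 40) z1 u (Nat.mod (MG u) M)) (H9.TCX.mRelD MG [T_z, T_q, T_z, T_yi, T_q, T_z, T_q, T_z, T_y, T_q] [T_q, T_yi, T_z, T_q, T_z, T_q, T_y, T_z, T_q, T_z] (nat_lit 10) z2 M (Nat.sub (MG u) (Nat.mod (MG u) M)) (nat_lit 40) z1 u (Nat.mod (MG u) M)) (Nat.ble (nat_lit 37) j)) (Bool.rec (motive := fun _ => Bool) (H9.TCX.mRelD MG [T_z, T_q, T_v, T_z, T_q, T_v, T_q, T_z, T_v, T_z, T_q] [T_q, T_z, T_v, T_z, T_q, T_v, T_q, T_z, T_v, T_q, T_z] (nat_lit 11) z2 M (Nat.sub (MG u) (Nat.mod (MG u) M)) (nat_lit 40) z1 u (Nat.mod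 (MG u) M)) (H9.TCX.mRelD MG [T_q, T_z, T_q, T_z, T_y, T_q, T_z, T_q, T_z, T_yi] [T_y, T_z, T_q, T_z, T_q, T_yi, T_z, T_q, T_z, T_q] (nat_lit 10) z2 M (Nat.sub (MG u) (Nat.mod (MG u) M)) (nat_lit 40) z1 u (Nat.mod (MG u) M)) (Nat.ble (nat_lit 39) j)) (Nat.ble (nat_lit 38) j)) (Nat.ble (nat_lit 36) j)
noncomputable def dM_6 (j z1 z2 u : ℕ) : Bool :=
  Bool.rec (motive := fun _ => Bool) (dM_4 j z1 z2 u) (dM_5 j z1 z2 u) (Nat.ble (nat_lit 33) j)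
noncomputable def dM_7 (j z1 z2 u : ℕ) : Bool :=
  Bool.rec (motive := fun _ => Bool) (Bool.rec (motive := fun _ => Bool) (Bool.rec (motive := fun _ => Bool) (H9.TCX.mRelD MG [T_z, T_yi, T_q, T_z, T_q, T_z, T_y, T_q, T_z, T_q] [T_q, T_z, T_q, T_yi, T_z, T_q, T_z, T_q, T_y, T_z] (nat_lit 10) z2 M (Nat.sub (MG u) (Nat.mod (MG u) M)) (nat_lit 40) z1 u (Nat.mod (MG u) M)) (H9.TCX.mRelD MG [T_v, T_q, T_z, T_v, T_q, T_z, T_q, T_z, T_v, T_z, T_q] [T_q, T_z, T_v, T_z, T_q, T_z, T_q, T_v, T_z, T_q, T_v] (nat_lit 11) z2 M (Nat.sub (MG u) (Nat.mod (MG u) M)) (nat_lit 40) z1 u (Nat.mod (MG u) M)) (Nat.ble (nat_lit 41) j)) (Bool.rec (motive := fun _ => Bool) (H9.TCX.mRelD MG [T_q, T_z, T_q, T_v, T_q, T_z, T_q, T_v, T_q, T_z, T_q, T_v] [T_v, T_q, T_z, T_q, T_v, T_q, T_z, T_q, T_v, T_q, T_z, T_q] (nat_lit 12) z2 M (Nat.sub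 (MG u) (Nat.mod (MG u) M)) (nat_lit 40) z1 u (Nat.mod (MG u) M)) (H9.TCX.mRelD MG [T_q, T_y, T_z, T_q, T_z, T_q, T_yi, T_z, T_q, T_z] [T_z, T_q, T_z, T_y, T_q, T_z, T_q, T_z, T_yi, T_q] (nat_lit 10) z2 M (Nat.sub (MG u) (Nat.mod (MG u) M)) (nat_lit 40) z1 u (Nat.mod (MG u) M)) (Nat.ble (nat_lit 43) j)) (Nat.ble (nat_lit 42) j)) (Bool.rec (motive := fun _ => Bool) (Bool.rec (motive := fun _ => Bool) (H9.TCX.mRelD MG [T_q, T_z, T_q, T_z, T_yi, T_q, T_z, T_q, T_z, T_y] [T_yi, T_z, T_q, T_z, T_q, T_y, T_z, T_q, T_z, T_q] (nat_lit 10) z2 M (Nat.sub (MG u) (Nat.mod (MG u) M)) (nat_lit 40) z1 u (Nat.mod (MG u) M)) (H9.TCX.mRelD MG [T_q, T_yi, T_z, T_q, T_z, T_q, T_y, T_z, T_q, T_z] [T_z, T_q, T_z, T_yi, T_q, T_z, T_q, T_z, T_y, T_q] (nat_lit 10) z2 M (Nat.sub (MG u) (Nat.mod (MG u) M)) (nat_lit 40) z1 u (Nat.mod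 (MG u) M)) (Nat.ble (nat_lit 45) j)) (Bool.rec (motive := fun _ => Bool) (H9.TCX.mRelD MG [T_y, T_z, T_yi, T_z, T_y, T_z, T_yi, T_z, T_y, T_z, T_yi, T_z] [T_z, T_y, T_z, T_yi, T_z, T_y, T_z, T_yi, T_z, T_y, T_z, T_yi] (nat_lit 12) z2 M (Nat.sub (MG u) (Nat.mod (MG u) M)) (nat_lit 40) z1 u (Nat.mod (MG u) M)) (Bool.rec (motive := fun _ => Bool) (H9.TCX.mRelD MG [T_yi, T_z, T_y, T_z, T_yi, T_z, T_y, T_z, T_yi, T_z, T_y, T_z] [T_z, T_yi, T_z, T_y, T_z, T_yi, T_z, T_y, T_z, T_yi, T_z, T_y] (nat_lit 12) z2 M (Nat.sub (MG u) (Nat.mod (MG u) M)) (nat_lit 40) z1 u (Nat.mod (MG u) M)) (H9.TCX.mRelD MG [T_z, T_q, T_yi, T_z, T_q, T_z, T_q, T_y, T_z, T_q] [T_q, T_z, T_yi, T_q, T_z, T_q, T_z, T_y, T_q, T_z] (nat_lit 10) z2 M (Nat.sub (MG u) (Nat.mod (MG u) M)) (nat_lit 40) z1 u (Nat.mod (MG u) M)) (Nat.ble (nat_lit 48)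 j)) (Nat.ble (nat_lit 47) j)) (Nat.ble (nat_lit 46) j)) (Nat.ble (nat_lit 44) j)
noncomputable def dM_8 (j z1 z2 u : ℕ) : Bool :=
  Bool.rec (motive := fun _ => Bool) (Bool.rec (motive := fun _ => Bool) (Bool.rec (motive := fun _ => Bool) (H9.TCX.mRelD MG [T_z, T_q, T_y, T_z, T_q, T_z, T_q, T_yi, T_z, T_q] [T_q, T_z, T_y, T_q, T_z, T_q, T_z, T_yi, T_q, T_z] (nat_lit 10) z2 M (Nat.sub (MG u) (Nat.mod (MG u) M)) (nat_lit 40) z1 u (Nat.mod (MG u) M)) (H9.TCX.mRelD MG [T_z, T_y, T_z, T_yi, T_z, T_y, T_z, T_yi, T_z, T_y, T_z, T_yi] [T_y, T_z, T_yi, T_z, T_y, T_z, T_yi, T_z, T_y, T_z, T_yi, T_z] (nat_lit 12) z2 M (Nat.sub (MG u) (Nat.mod (MG u) M)) (nat_lit 40) z1 u (Nat.mod (MG u) M)) (Nat.ble (nat_lit 50) j)) (Bool.rec (motive := fun _ => Bool) (H9.TCX.mRelD MG [T_q, T_z, T_q, T_yi, T_z, T_q, T_z, T_q, T_y, T_z]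 [T_z, T_yi, T_q, T_z, T_q, T_z, T_y, T_q, T_z, T_q] (nat_lit 10) z2 M (Nat.sub (MG u) (Nat.mod (MG u) M)) (nat_lit 40) z1 u (Nat.mod (MG u) M)) (Bool.rec (motive := fun _ => Bool) (H9.TCX.mRelD MG [T_z, T_v, T_q, T_z, T_q, T_z, T_v, T_z, T_q, T_v, T_q] [T_q, T_v, T_q, T_z, T_v, T_z, T_q, T_z, T_q, T_v, T_z] (nat_lit 11) z2 M (Nat.sub (MG u) (Nat.mod (MG u) M)) (nat_lit 40) z1 u (Nat.mod (MG u) M)) (H9.TCX.mRelD MG [T_z, T_yi, T_z, T_y, T_z, T_yi, T_z, T_y, T_z, T_yi, T_z, T_y] [T_yi, T_z, T_y, T_z, T_yi, T_z, T_y, T_z, T_yi, T_z, T_y, T_z] (nat_lit 12) z2 M (Nat.sub (MG u) (Nat.mod (MG u) M)) (nat_lit 40) z1 u (Nat.mod (MG u) M)) (Nat.ble (nat_lit 53) j)) (Nat.ble (nat_lit 52) j)) (Nat.ble (nat_lit 51) j)) (Bool.rec (motive := fun _ => Bool) (Bool.rec (motive := fun _ => Bool) (H9.TCX.mRelD MG [T_q, T_z, T_y,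 T_q, T_z, T_q, T_z, T_yi, T_q, T_z] [T_z, T_q, T_y, T_z, T_q, T_z, T_q, T_yi, T_z, T_q] (nat_lit 10) z2 M (Nat.sub (MG u) (Nat.mod (MG u) M)) (nat_lit 40) z1 u (Nat.mod (MG u) M)) (H9.TCX.mRelD MG [T_q, T_z, T_q, T_y, T_z, T_q, T_z, T_q, T_yi, T_z] [T_z, T_y, T_q, T_z, T_q, T_z, T_yi, T_q, T_z, T_q] (nat_lit 10) z2 M (Nat.sub (MG u) (Nat.mod (MG u) M)) (nat_lit 40) z1 u (Nat.mod (MG u) M)) (Nat.ble (nat_lit 55) j)) (Bool.rec (motive := fun _ => Bool) (H9.TCX.mRelD MG [T_yi, T_q, T_yi, T_q, T_yi, T_q, T_yi, T_q, T_yi, T_q, T_yi, T_q] [T_q, T_y, T_q, T_y, T_q, T_y, T_q, T_y, T_q, T_y, T_q, T_y] (nat_lit 12) z2 M (Nat.sub (MG u) (Nat.mod (MG u) M)) (nat_lit 40) z1 u (Nat.mod (MG u) M)) (Bool.rec (motive := fun _ => Bool) (H9.TCX.mRelD MG [T_y, T_y, T_q, T_yi, T_yi, T_q, T_y, T_y, T_q, T_yi, T_yi, T_q] [T_q, T_y,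 T_y, T_q, T_yi, T_yi, T_q, T_y, T_y, T_q, T_yi, T_yi] (nat_lit 12) z2 M (Nat.sub (MG u) (Nat.mod (MG u) M)) (nat_lit 40) z1 u (Nat.mod (MG u) M)) (H9.TCX.mRelD MG [T_q, T_z, T_yi, T_q, T_z, T_q, T_z, T_y, T_q, T_z] [T_z, T_q, T_yi, T_z, T_q, T_z, T_q, T_y, T_z, T_q] (nat_lit 10) z2 M (Nat.sub (MG u) (Nat.mod (MG u) M)) (nat_lit 40) z1 u (Nat.mod (MG u) M)) (Nat.ble (nat_lit 58) j)) (Nat.ble (nat_lit 57) j)) (Nat.ble (nat_lit 56) j)) (Nat.ble (nat_lit 54) j)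
noncomputable def dM_9 (j z1 z2 u : ℕ) : Bool :=
  Bool.rec (motive := fun _ => Bool) (dM_7 j z1 z2 u) (dM_8 j z1 z2 u) (Nat.ble (nat_lit 49) j)
noncomputable def dM_10 (j z1 z2 u : ℕ) : Bool :=
  Bool.rec (motive := fun _ => Bool) (dM_6 j z1 z2 u) (dM_9 j z1 z2 u) (Nat.ble (nat_lit 40) j)
noncomputable def dM_11 (j z1 z2 u : ℕ) : Bool :=
  Bool.rec (motive := fun _ => Bool) (dM_3 j z1 z2 u) (dM_10 j z1 z2 u) (Nat.ble (nat_lit 26) j)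
noncomputable def dM_12 (j z1 z2 u : ℕ) : Bool :=
  Bool.rec (motive := fun _ => Bool) (Bool.rec (motive := fun _ => Bool) (H9.TCX.mRelD MG [T_y, T_q, T_yi, T_yi, T_q, T_y, T_y, T_q, T_yi, T_yi, T_q, T_y] [T_yi, T_q, T_y, T_y, T_q, T_yi, T_yi, T_q, T_y, T_y, T_q, T_yi] (nat_lit 12) z2 M (Nat.sub (MG u) (Nat.mod (MG u) M)) (nat_lit 40) z1 u (Nat.mod (MG u) M)) (Bool.rec (motive := fun _ => Bool) (H9.TCX.mRelD MG [T_yi, T_yi, T_q, T_y, T_y, T_q, T_yi, T_yi, T_q, T_y, T_y, T_q] [T_q, T_yi, T_yi, T_q, T_y, T_y, T_q, T_yi, T_yi, T_q, T_y, T_y] (nat_lit 12) z2 M (Nat.sub (MG u) (Nat.mod (MG u) M)) (nat_lit 40) z1 u (Nat.mod (MG u) M)) (H9.TCX.mRelD MG [T_y, T_q, T_yi, T_z, T_y, T_z, T_yi, T_q, T_y, T_z, T_yi, T_z] [T_z, T_y, T_z, T_yi, T_q, T_y, T_z, T_yi, T_z, T_y, T_q, T_yi] (nat_lit 12) z2 M (Nat.sub (MG u) (Nat.mod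 (MG u) M)) (nat_lit 40) z1 u (Nat.mod (MG u) M)) (Nat.ble (nat_lit 61) j)) (Nat.ble (nat_lit 60) j)) (Bool.rec (motive := fun _ => Bool) (H9.TCX.mRelD MG [T_z, T_q, T_v, T_q, T_z, T_q, T_v, T_q, T_z, T_q, T_v, T_q] [T_q, T_v, T_q, T_z, T_q, T_v, T_q, T_z, T_q, T_v, T_q, T_z] (nat_lit 12) z2 M (Nat.sub (MG u) (Nat.mod (MG u) M)) (nat_lit 40) z1 u (Nat.mod (MG u) M)) (Bool.rec (motive := fun _ => Bool) (H9.TCX.mRelD MG [T_q, T_yi, T_q, T_yi, T_q, T_yi, T_q, T_yi, T_q, T_yi, T_q, T_yi] [T_y, T_q, T_y, T_q, T_y, T_q, T_y, T_q, T_y, T_q, T_y, T_q] (nat_lit 12) z2 M (Nat.sub (MG u) (Nat.mod (MG u) M)) (nat_lit 40) z1 u (Nat.mod (MG u) M)) (H9.TCX.mRelD MG [T_z, T_q, T_z, T_q, T_z, T_q, T_z, T_q] [T_q, T_z, T_q, T_z, T_q, T_z, T_q, T_z] (nat_lit 8) z2 M (Nat.sub (MG u) (Nat.mod (MG u) M)) (nat_lit 40) z1 u (Nat.mod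 (MG u) M)) (Nat.ble (nat_lit 64) j)) (Nat.ble (nat_lit 63) j)) (Nat.ble (nat_lit 62) j)
noncomputable def dM_13 (j z1 z2 u : ℕ) : Bool :=
  Bool.rec (motive := fun _ => Bool) (Bool.rec (motive := fun _ => Bool) (H9.TCX.mRelD MG [T_yi, T_z, T_y, T_z, T_yi, T_q, T_y, T_z, T_yi, T_z, T_y, T_q] [T_q, T_yi, T_z, T_y, T_z, T_yi, T_q, T_y, T_z, T_yi, T_z, T_y] (nat_lit 12) z2 M (Nat.sub (MG u) (Nat.mod (MG u) M)) (nat_lit 40) z1 u (Nat.mod (MG u) M)) (Bool.rec (motive := fun _ => Bool) (H9.TCX.mRelD MG [T_q, T_z, T_q, T_z, T_q, T_z, T_q, T_z] [T_z, T_q, T_z, T_q, T_z, T_q, T_z, T_q] (nat_lit 8) z2 M (Nat.sub (MG u) (Nat.mod (MG u) M)) (nat_lit 40) z1 u (Nat.mod (MG u) M)) (H9.TCX.mRelD MG [T_q, T_yi, T_yi, T_q, T_y, T_y, T_q, T_yi, T_yi, T_q, T_y, T_y] [T_yi, T_yi, T_q, T_y, T_y, T_q, T_yi, T_yi, T_q, T_y, T_y, T_q]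 (nat_lit 12) z2 M (Nat.sub (MG u) (Nat.mod (MG u) M)) (nat_lit 40) z1 u (Nat.mod (MG u) M)) (Nat.ble (nat_lit 67) j)) (Nat.ble (nat_lit 66) j)) (Bool.rec (motive := fun _ => Bool) (Bool.rec (motive := fun _ => Bool) (H9.TCX.mRelD MG [T_y, T_q, T_y, T_q, T_y, T_q, T_y, T_q, T_y, T_q, T_y, T_q] [T_q, T_yi, T_q, T_yi, T_q, T_yi, T_q, T_yi, T_q, T_yi, T_q, T_yi] (nat_lit 12) z2 M (Nat.sub (MG u) (Nat.mod (MG u) M)) (nat_lit 40) z1 u (Nat.mod (MG u) M)) (H9.TCX.mRelD MG [T_q, T_y, T_z, T_yi, T_z, T_y, T_q, T_yi, T_z, T_y, T_z, T_yi] [T_y, T_z, T_yi, T_z, T_y, T_q, T_yi, T_z, T_y, T_z, T_yi, T_q] (nat_lit 12) z2 M (Nat.sub (MG u) (Nat.mod (MG u) M)) (nat_lit 40) z1 u (Nat.mod (MG u) M)) (Nat.ble (nat_lit 69) j)) (Bool.rec (motive := fun _ => Bool) (H9.TCX.mRelD MG [T_q, T_y, T_y, T_q, T_yi, T_yi, T_q, T_y, T_y,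 T_q, T_yi, T_yi] [T_y, T_y, T_q, T_yi, T_yi, T_q, T_y, T_y, T_q, T_yi, T_yi, T_q] (nat_lit 12) z2 M (Nat.sub (MG u) (Nat.mod (MG u) M)) (nat_lit 40) z1 u (Nat.mod (MG u) M)) (H9.TCX.mRelD MG [T_yi, T_q, T_y, T_z, T_yi, T_z, T_y, T_q, T_yi, T_z, T_y, T_z] [T_z, T_yi, T_z, T_y, T_q, T_yi, T_z, T_y, T_z, T_yi, T_q, T_y] (nat_lit 12) z2 M (Nat.sub (MG u) (Nat.mod (MG u) M)) (nat_lit 40) z1 u (Nat.mod (MG u) M)) (Nat.ble (nat_lit 71) j)) (Nat.ble (nat_lit 70) j)) (Nat.ble (nat_lit 68) j)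
noncomputable def dM_14 (j z1 z2 u : ℕ) : Bool :=
  Bool.rec (motive := fun _ => Bool) (dM_12 j z1 z2 u) (dM_13 j z1 z2 u) (Nat.ble (nat_lit 65) j)
noncomputable def dM_15 (j z1 z2 u : ℕ) : Bool :=
  Bool.rec (motive := fun _ => Bool) (Bool.rec (motive := fun _ => Bool) (H9.TCX.mRelD MG [T_q, T_v, T_q, T_z, T_q, T_v, T_q, T_z, T_q, T_v, T_q, T_z] [T_z, T_q, T_v, T_q, T_z, T_q, T_v, T_q, T_z, T_q, T_v, T_q] (nat_lit 12) z2 M (Nat.sub (MG u) (Nat.mod (MG u) M)) (nat_lit 40) z1 u (Nat.mod (MG u) M)) (Bool.rec (motive := fun _ => Bool) (H9.TCX.mRelD MG [T_yi, T_z, T_y, T_q, T_yi, T_z, T_y, T_z, T_yi, T_q, T_y, T_z] [T_z, T_yi, T_q, T_y, T_z, T_yi, T_z, T_y, T_q, T_yi, T_z, T_y] (nat_lit 12) z2 M (Nat.sub (MG u) (Nat.mod (MG u) M)) (nat_lit 40) z1 u (Nat.mod (MG u) M)) (H9.TCX.mRelD MG [T_q, T_z, T_v, T_z, T_q,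 T_v, T_q, T_z, T_v, T_q, T_z] [T_z, T_q, T_v, T_z, T_q, T_v, T_q, T_z, T_v, T_z, T_q] (nat_lit 11) z2 M (Nat.sub (MG u) (Nat.mod (MG u) M)) (nat_lit 40) z1 u (Nat.mod (MG u) M)) (Nat.ble (nat_lit 74) j)) (Nat.ble (nat_lit 73) j)) (Bool.rec (motive := fun _ => Bool) (Bool.rec (motive := fun _ => Bool) (H9.TCX.mRelD MG [T_y, T_z, T_yi, T_z, T_y, T_q, T_yi, T_z, T_y, T_z, T_yi, T_q] [T_q, T_y, T_z, T_yi, T_z, T_y, T_q, T_yi, T_z, T_y, T_z, T_yi] (nat_lit 12) z2 M (Nat.sub (MG u) (Nat.mod (MG u) M)) (nat_lit 40) z1 u (Nat.mod (MG u) M)) (H9.TCX.mRelD MG [T_q, T_yi, T_z, T_y, T_z, T_yi, T_q, T_y, T_z, T_yi, T_z, T_y] [T_yi, T_z, T_y, T_z, T_yi, T_q, T_y, T_z, T_yi, T_z, T_y, T_q] (nat_lit 12) z2 M (Nat.sub (MG u) (Nat.mod (MG u) M)) (nat_lit 40) z1 u (Nat.mod (MG u) M)) (Nat.ble (nat_lit 76) j)) (Bool.rec (motive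 := fun _ => Bool) (H9.TCX.mRelD MG [T_z, T_yi, T_z, T_y, T_q, T_yi, T_z, T_y, T_z, T_yi, T_q, T_y] [T_yi, T_q, T_y, T_z, T_yi, T_z, T_y, T_q, T_yi, T_z, T_y, T_z] (nat_lit 12) z2 M (Nat.sub (MG u) (Nat.mod (MG u) M)) (nat_lit 40) z1 u (Nat.mod (MG u) M)) (H9.TCX.mRelD MG [T_yi, T_q, T_y, T_y, T_q, T_yi, T_yi, T_q, T_y, T_y, T_q, T_yi] [T_y, T_q, T_yi, T_yi, T_q, T_y, T_y, T_q, T_yi, T_yi, T_q, T_y] (nat_lit 12) z2 M (Nat.sub (MG u) (Nat.mod (MG u) M)) (nat_lit 40) z1 u (Nat.mod (MG u) M)) (Nat.ble (nat_lit 78) j)) (Nat.ble (nat_lit 77) j)) (Nat.ble (nat_lit 75) j)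
noncomputable def dM_16 (j z1 z2 u : ℕ) : Bool :=
  Bool.rec (motive := fun _ => Bool) (Bool.rec (motive := fun _ => Bool) (H9.TCX.mRelD MG [T_z, T_y, T_q, T_yi, T_z, T_y, T_z, T_yi, T_q, T_y, T_z, T_yi] [T_y, T_z, T_yi, T_q, T_y, T_z, T_yi, T_z, T_y, T_q, T_yi, T_z] (nat_lit 12) z2 M (Nat.sub (MG u) (Nat.mod (MG u) M)) (nat_lit 40) z1 u (Nat.mod (MG u) M)) (Bool.rec (motive := fun _ => Bool) (H9.TCX.mRelD MG [T_q, T_y, T_q, T_y, T_q, T_y, T_q, T_y, T_q, T_y, T_q, T_y] [T_yi, T_q, T_yi, T_q, T_yi, T_q, T_yi, T_q, T_yi, T_q, T_yi, T_q] (nat_lit 12) z2 M (Nat.sub (MG u) (Nat.mod (MG u) M)) (nat_lit 40) z1 u (Nat.mod (MG u) M)) (H9.TCX.mRelD MG [T_z, T_y, T_z, T_yi, T_q, T_y, T_z, T_yi, T_z, T_y, T_q, T_yi] [T_y, T_q, T_yi, T_z, T_y, T_z, T_yi, T_q, T_y, T_z, T_yi, T_z] (nat_lit 12) z2 M (Nat.sub (MG u) (Nat.mod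 (MG u) M)) (nat_lit 40) z1 u (Nat.mod (MG u) M)) (Nat.ble (nat_lit 81) j)) (Nat.ble (nat_lit 80) j)) (Bool.rec (motive := fun _ => Bool) (Bool.rec (motive := fun _ => Bool) (H9.TCX.mRelD MG [T_q, T_z, T_q, T_z, T_v, T_z, T_q, T_v, T_q, T_z, T_v] [T_v, T_z, T_q, T_v, T_q, T_z, T_v, T_z, T_q, T_z, T_q] (nat_lit 11) z2 M (Nat.sub (MG u) (Nat.mod (MG u) M)) (nat_lit 40) z1 u (Nat.mod (MG u) M)) (H9.TCX.mRelD MG [T_y, T_z, T_yi, T_q, T_y, T_z, T_yi, T_z, T_y, T_q, T_yi, T_z] [T_z, T_y, T_q, T_yi, T_z, T_y, T_z, T_yi, T_q, T_y, T_z, T_yi] (nat_lit 12) z2 M (Nat.sub (MG u) (Nat.mod (MG u) M)) (nat_lit 40) z1 u (Nat.mod (MG u) M)) (Nat.ble (nat_lit 83) j)) (Bool.rec (motive := fun _ => Bool) (H9.TCX.mRelD MG [T_z, T_yi, T_q, T_y, T_z, T_yi, T_z, T_y, T_q, T_yi, T_z, T_y] [T_yi, T_z, T_y, T_q, T_yi, T_z, T_y, T_z,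 T_yi, T_q, T_y, T_z] (nat_lit 12) z2 M (Nat.sub (MG u) (Nat.mod (MG u) M)) (nat_lit 40) z1 u (Nat.mod (MG u) M)) (H9.TCX.mRelD MG [T_yi, T_yi, T_z, T_y, T_y, T_z, T_yi, T_yi, T_z, T_y, T_y, T_z, T_yi, T_yi, T_z, T_y, T_y, T_z] [T_z, T_yi, T_yi, T_z, T_y, T_y, T_z, T_yi, T_yi, T_z, T_y, T_y, T_z, T_yi, T_yi, T_z, T_y, T_y] (nat_lit 18) z2 M (Nat.sub (MG u) (Nat.mod (MG u) M)) (nat_lit 40) z1 u (Nat.mod (MG u) M)) (Nat.ble (nat_lit 85) j)) (Nat.ble (nat_lit 84) j)) (Nat.ble (nat_lit 82) j)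
noncomputable def dM_17 (j z1 z2 u : ℕ) : Bool :=
  Bool.rec (motive := fun _ => Bool) (dM_15 j z1 z2 u) (dM_16 j z1 z2 u) (Nat.ble (nat_lit 79) j)
noncomputable def dM_18 (j z1 z2 u : ℕ) : Bool :=
  Bool.rec (motive := fun _ => Bool) (dM_14 j z1 z2 u) (dM_17 j z1 z2 u) (Nat.ble (nat_lit 72) j)
noncomputable def dM_19 (j z1 z2 u : ℕ) : Bool :=
  Bool.rec (motive := fun _ => Bool) (Bool.rec (motive := fun _ => Bool) (Bool.rec (motive := fun _ => Bool) (H9.TCX.mRelD MG [T_z, T_v, T_z, T_q, T_v, T_q, T_z, T_v, T_q, T_z, T_q] [T_q, T_z, T_q, T_v, T_z, T_q, T_v, T_q, T_z, T_v, T_z] (nat_lit 11) z2 M (Nat.sub (MG u) (Nat.mod (MG u) M)) (nat_lit 40) z1 u (Nat.mod (MG u) M)) (H9.TCX.mRelD MG [T_y, T_z, T_yi, T_yi, T_z, T_y, T_y, T_z, T_yi, T_yi, T_z, T_y, T_y, T_z, T_yi, T_yi, T_z, T_y] [T_yi, T_z, T_y, T_y, T_z,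 T_yi, T_yi, T_z, T_y, T_y, T_z, T_yi, T_yi, T_z, T_y, T_y, T_z, T_yi] (nat_lit 18) z2 M (Nat.sub (MG u) (Nat.mod (MG u) M)) (nat_lit 40) z1 u (Nat.mod (MG u) M)) (Nat.ble (nat_lit 87) j)) (Bool.rec (motive := fun _ => Bool) (H9.TCX.mRelD MG [T_q, T_v, T_z, T_q, T_v, T_q, T_z, T_v, T_z, T_q, T_z] [T_z, T_q, T_z, T_v, T_z, T_q, T_v, T_q, T_z, T_v, T_q] (nat_lit 11) z2 M (Nat.sub (MG u) (Nat.mod (MG u) M)) (nat_lit 40) z1 u (Nat.mod (MG u) M)) (Bool.rec (motive := fun _ => Bool) (H9.TCX.mRelD MG [T_z, T_q, T_z, T_v, T_z, T_q, T_v, T_q, T_z, T_v, T_q] [T_q, T_v, T_z, T_q, T_v, T_q, T_z, T_v, T_z, T_q, T_z] (nat_lit 11) z2 M (Nat.sub (MG u) (Nat.mod (MG u) M)) (nat_lit 40) z1 u (Nat.mod (MG u) M)) (H9.TCX.mRelD MG [T_z, T_y, T_y, T_z, T_yi, T_yi, T_z, T_y, T_y, T_z, T_yi, T_yi, T_z, T_y, T_y, T_z, T_yi, T_yi] [T_y,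 T_y, T_z, T_yi, T_yi, T_z, T_y, T_y, T_z, T_yi, T_yi, T_z, T_y, T_y, T_z, T_yi, T_yi, T_z] (nat_lit 18) z2 M (Nat.sub (MG u) (Nat.mod (MG u) M)) (nat_lit 40) z1 u (Nat.mod (MG u) M)) (Nat.ble (nat_lit 90) j)) (Nat.ble (nat_lit 89) j)) (Nat.ble (nat_lit 88) j)) (Bool.rec (motive := fun _ => Bool) (Bool.rec (motive := fun _ => Bool) (H9.TCX.mRelD MG [T_y, T_y, T_z, T_yi, T_yi, T_z, T_y, T_y, T_z, T_yi, T_yi, T_z, T_y, T_y, T_z, T_yi, T_yi, T_z] [T_z, T_y, T_y, T_z, T_yi, T_yi, T_z, T_y, T_y, T_z, T_yi, T_yi, T_z, T_y, T_y, T_z, T_yi, T_yi] (nat_lit 18) z2 M (Nat.sub (MG u) (Nat.mod (MG u) M)) (nat_lit 40) z1 u (Nat.mod (MG u) M)) (H9.TCX.mRelD MG [T_yi, T_z, T_y, T_y, T_z, T_yi, T_yi, T_z, T_y, T_y, T_z, T_yi, T_yi, T_z, T_y, T_y, T_z, T_yi] [T_y, T_z, T_yi, T_yi, T_z, T_y, T_y, T_z, T_yi, T_yi, T_z, T_y, T_y,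 T_z, T_yi, T_yi, T_z, T_y] (nat_lit 18) z2 M (Nat.sub (MG u) (Nat.mod (MG u) M)) (nat_lit 40) z1 u (Nat.mod (MG u) M)) (Nat.ble (nat_lit 92) j)) (Bool.rec (motive := fun _ => Bool) (H9.TCX.mRelD MG [T_yi, T_q, T_y, T_z, T_y, T_z, T_yi, T_z, T_yi, T_q, T_y, T_z, T_y, T_z, T_yi, T_z] [T_z, T_y, T_z, T_yi, T_z, T_yi, T_q, T_y, T_z, T_y, T_z, T_yi, T_z, T_yi, T_q, T_y] (nat_lit 16) z2 M (Nat.sub (MG u) (Nat.mod (MG u) M)) (nat_lit 40) z1 u (Nat.mod (MG u) M)) (Bool.rec (motive := fun _ => Bool) (H9.TCX.mRelD MG [T_z, T_yi, T_yi, T_z, T_y, T_y, T_z, T_yi, T_yi, T_z, T_y, T_y, T_z, T_yi, T_yi, T_z, T_y, T_y] [T_yi, T_yi, T_z, T_y, T_y, T_z, T_yi, T_yi, T_z, T_y, T_y, T_z, T_yi, T_yi, T_z, T_y, T_y, T_z] (nat_lit 18) z2 M (Nat.sub (MG u) (Nat.mod (MG u) M)) (nat_lit 40) z1 u (Nat.mod (MG u) M)) (H9.TCX.mRelD MG [T_v,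 T_q, T_v, T_q, T_v, T_q, T_v, T_q, T_v, T_q, T_v, T_q] [T_q, T_v, T_q, T_v, T_q, T_v, T_q, T_v, T_q, T_v, T_q, T_v] (nat_lit 12) z2 M (Nat.sub (MG u) (Nat.mod (MG u) M)) (nat_lit 40) z1 u (Nat.mod (MG u) M)) (Nat.ble (nat_lit 95) j)) (Nat.ble (nat_lit 94) j)) (Nat.ble (nat_lit 93) j)) (Nat.ble (nat_lit 91) j)
noncomputable def dM_20 (j z1 z2 u : ℕ) : Bool :=
  Bool.rec (motive := fun _ => Bool) (Bool.rec (motive := fun _ => Bool) (H9.TCX.mRelD MG [T_z, T_yi, T_q, T_y, T_z, T_y, T_z, T_yi, T_z, T_yi, T_q, T_y, T_z, T_y, T_z, T_yi] [T_y, T_z, T_yi, T_z, T_yi, T_q, T_y, T_z, T_y, T_z, T_yi, T_z, T_yi, T_q, T_y, T_z] (nat_lit 16) z2 M (Nat.sub (MG u) (Nat.mod (MG u) M)) (nat_lit 40) z1 u (Nat.mod (MG u) M)) (Bool.rec (motive := fun _ => Bool) (H9.TCX.mRelD MG [T_v, T_z, T_q, T_z, T_q, T_v, T_z, T_q, T_v, T_q,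 T_z] [T_z, T_q, T_v, T_q, T_z, T_v, T_q, T_z, T_q, T_z, T_v] (nat_lit 11) z2 M (Nat.sub (MG u) (Nat.mod (MG u) M)) (nat_lit 40) z1 u (Nat.mod (MG u) M)) (H9.TCX.mRelD MG [T_q, T_yi, T_z, T_yi, T_z, T_y, T_z, T_y, T_q, T_yi, T_z, T_yi, T_z, T_y, T_z, T_y] [T_yi, T_z, T_yi, T_z, T_y, T_z, T_y, T_q, T_yi, T_z, T_yi, T_z, T_y, T_z, T_y, T_q] (nat_lit 16) z2 M (Nat.sub (MG u) (Nat.mod (MG u) M)) (nat_lit 40) z1 u (Nat.mod (MG u) M)) (Nat.ble (nat_lit 98) j)) (Nat.ble (nat_lit 97) j)) (Bool.rec (motive := fun _ => Bool) (H9.TCX.mRelD MG [T_q, T_y, T_z, T_y, T_z, T_yi, T_z, T_yi, T_q, T_y, T_z, T_y, T_z, T_yi, T_z, T_yi] [T_y, T_z, T_y, T_z, T_yi, T_z, T_yi, T_q, T_y, T_z, T_y, T_z, T_yi, T_z, T_yi, T_q] (nat_lit 16) z2 M (Nat.sub (MG u) (Nat.mod (MG u) M)) (nat_lit 40) z1 u (Nat.mod (MG u) M)) (Bool.rec (motive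 := fun _ => Bool) (H9.TCX.mRelD MG [T_yi, T_z, T_yi, T_z, T_y, T_z, T_y, T_q, T_yi, T_z, T_yi, T_z, T_y, T_z, T_y, T_q] [T_q, T_yi, T_z, T_yi, T_z, T_y, T_z, T_y, T_q, T_yi, T_z, T_yi, T_z, T_y, T_z, T_y] (nat_lit 16) z2 M (Nat.sub (MG u) (Nat.mod (MG u) M)) (nat_lit 40) z1 u (Nat.mod (MG u) M)) (H9.TCX.mRelD MG [T_yi, T_z, T_y, T_z, T_y, T_q, T_yi, T_z, T_yi, T_z, T_y, T_z, T_y, T_q, T_yi, T_z] [T_z, T_y, T_q, T_yi, T_z, T_yi, T_z, T_y, T_z, T_y, T_q, T_yi, T_z, T_yi, T_z, T_y] (nat_lit 16) z2 M (Nat.sub (MG u) (Nat.mod (MG u) M)) (nat_lit 40) z1 u (Nat.mod (MG u) M)) (Nat.ble (nat_lit 101) j)) (Nat.ble (nat_lit 100) j)) (Nat.ble (nat_lit 99) j)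
noncomputable def dM_21 (j z1 z2 u : ℕ) : Bool :=
  Bool.rec (motive := fun _ => Bool) (Bool.rec (motive := fun _ => Bool) (H9.TCX.mRelD MG [T_y, T_z, T_y, T_z, T_yi, T_z, T_yi, T_q, T_y, T_z, T_y, T_z, T_yi, T_z, T_yi, T_q] [T_q, T_y, T_z, T_y, T_z, T_yi, T_z, T_yi, T_q, T_y, T_z, T_y, T_z, T_yi, T_z, T_yi] (nat_lit 16) z2 M (Nat.sub (MG u) (Nat.mod (MG u) M)) (nat_lit 40) z1 u (Nat.mod (MG u) M)) (Bool.rec (motive := fun _ => Bool) (H9.TCX.mRelD MG [T_y, T_q, T_yi, T_z, T_yi, T_z, T_y, T_z, T_y, T_q, T_yi, T_z, T_yi, T_z, T_y, T_z] [T_z, T_yi, T_z, T_y, T_z, T_y, T_q, T_yi, T_z, T_yi, T_z, T_y, T_z, T_y, T_q, T_yi] (nat_lit 16) z2 M (Nat.sub (MG u) (Nat.mod (MG u) M)) (nat_lit 40) z1 u (Nat.mod (MG u) M)) (H9.TCX.mRelD MG [T_q, T_v, T_q, T_v, T_q, T_v, T_q, T_v, T_q, T_v, T_q, T_v] [T_v, T_q, T_v, T_q, T_v,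 T_q, T_v, T_q, T_v, T_q, T_v, T_q] (nat_lit 12) z2 M (Nat.sub (MG u) (Nat.mod (MG u) M)) (nat_lit 40) z1 u (Nat.mod (MG u) M)) (Nat.ble (nat_lit 104) j)) (Nat.ble (nat_lit 103) j)) (Bool.rec (motive := fun _ => Bool) (Bool.rec (motive := fun _ => Bool) (H9.TCX.mRelD MG [T_z, T_y, T_q, T_yi, T_z, T_yi, T_z, T_y, T_z, T_y, T_q, T_yi, T_z, T_yi, T_z, T_y] [T_yi, T_z, T_y, T_z, T_y, T_q, T_yi, T_z, T_yi, T_z, T_y, T_z, T_y, T_q, T_yi, T_z] (nat_lit 16) z2 M (Nat.sub (MG u) (Nat.mod (MG u) M)) (nat_lit 40) z1 u (Nat.mod (MG u) M)) (H9.TCX.mRelD MG [T_y, T_z, T_y, T_q, T_yi, T_z, T_yi, T_z, T_y, T_z, T_y, T_q, T_yi, T_z, T_yi, T_z] [T_z, T_y, T_z, T_y, T_q, T_yi, T_z, T_yi, T_z, T_y, T_z, T_y, T_q, T_yi, T_z, T_yi] (nat_lit 16) z2 M (Nat.sub (MG u) (Nat.mod (MG u) M)) (nat_lit 40) z1 u (Nat.mod (MG u) M)) (Nat.ble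 (nat_lit 106) j)) (Bool.rec (motive := fun _ => Bool) (H9.TCX.mRelD MG [T_yi, T_z, T_yi, T_q, T_y, T_z, T_y, T_z, T_yi, T_z, T_yi, T_q, T_y, T_z, T_y, T_z] [T_z, T_yi, T_z, T_yi, T_q, T_y, T_z, T_y, T_z, T_yi, T_z, T_yi, T_q, T_y, T_z, T_y] (nat_lit 16) z2 M (Nat.sub (MG u) (Nat.mod (MG u) M)) (nat_lit 40) z1 u (Nat.mod (MG u) M)) (H9.TCX.mRelD MG [T_z, T_yi, T_z, T_y, T_z, T_y, T_q, T_yi, T_z, T_yi, T_z, T_y, T_z, T_y, T_q, T_yi] [T_y, T_q, T_yi, T_z, T_yi, T_z, T_y, T_z, T_y, T_q, T_yi, T_z, T_yi, T_z, T_y, T_z] (nat_lit 16) z2 M (Nat.sub (MG u) (Nat.mod (MG u) M)) (nat_lit 40) z1 u (Nat.mod (MG u) M)) (Nat.ble (nat_lit 108) j)) (Nat.ble (nat_lit 107) j)) (Nat.ble (nat_lit 105) j)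
noncomputable def dM_22 (j z1 z2 u : ℕ) : Bool :=
  Bool.rec (motive := fun _ => Bool) (dM_20 j z1 z2 u) (dM_21 j z1 z2 u) (Nat.ble (nat_lit 102) j)
noncomputable def dM_23 (j z1 z2 u : ℕ) : Bool :=
  Bool.rec (motive := fun _ => Bool) (dM_19 j z1 z2 u) (dM_22 j z1 z2 u) (Nat.ble (nat_lit 96) j)
noncomputable def dM_24 (j z1 z2 u : ℕ) : Bool :=
  Bool.rec (motive := fun _ => Bool) (Bool.rec (motive := fun _ => Bool) (Bool.rec (motive := fun _ => Bool) (H9.TCX.mRelD MG [T_z, T_y, T_z, T_yi, T_z, T_yi, T_q, T_y, T_z, T_y, T_z, T_yi, T_z, T_yi, T_q, T_y] [T_yi, T_q, T_y, T_z, T_y, T_z, T_yi, T_z, T_yi, T_q, T_y, T_z, T_y, T_z, T_yi, T_z] (nat_lit 16) z2 M (Nat.sub (MG u) (Nat.mod (MG u) M)) (nat_lit 40) z1 u (Nat.mod (MG u) M)) (H9.TCX.mRelD MG [T_q, T_v, T_y, T_v, T_q, T_z, T_q, T_z, T_yi, T_z, T_q, T_z] [T_z,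 T_q, T_z, T_y, T_z, T_q, T_z, T_q, T_v, T_yi, T_v, T_q] (nat_lit 12) z2 M (Nat.sub (MG u) (Nat.mod (MG u) M)) (nat_lit 40) z1 u (Nat.mod (MG u) M)) (Nat.ble (nat_lit 110) j)) (Bool.rec (motive := fun _ => Bool) (H9.TCX.mRelD MG [T_z, T_y, T_z, T_y, T_q, T_yi, T_z, T_yi, T_z, T_y, T_z, T_y, T_q, T_yi, T_z, T_yi] [T_y, T_z, T_y, T_q, T_yi, T_z, T_yi, T_z, T_y, T_z, T_y, T_q, T_yi, T_z, T_yi, T_z] (nat_lit 16) z2 M (Nat.sub (MG u) (Nat.mod (MG u) M)) (nat_lit 40) z1 u (Nat.mod (MG u) M)) (H9.TCX.mRelD MG [T_v, T_z, T_q, T_v, T_q, T_z, T_v, T_z, T_q, T_z, T_q] [T_q, T_z, T_q, T_z, T_v, T_z, T_q, T_v, T_q, T_z, T_v] (nat_lit 11) z2 M (Nat.sub (MG u) (Nat.mod (MG u) M)) (nat_lit 40) z1 u (Nat.mod (MG u) M)) (Nat.ble (nat_lit 112) j)) (Nat.ble (nat_lit 111) j)) (Bool.rec (motive := fun _ => Bool) (Bool.rec (motive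 := fun _ => Bool) (H9.TCX.mRelD MG [T_y, T_z, T_yi, T_z, T_yi, T_q, T_y, T_z, T_y, T_z, T_yi, T_z, T_yi, T_q, T_y, T_z] [T_z, T_yi, T_q, T_y, T_z, T_y, T_z, T_yi, T_z, T_yi, T_q, T_y, T_z, T_y, T_z, T_yi] (nat_lit 16) z2 M (Nat.sub (MG u) (Nat.mod (MG u) M)) (nat_lit 40) z1 u (Nat.mod (MG u) M)) (H9.TCX.mRelD MG [T_q, T_z, T_yi, T_z, T_q, T_z, T_q, T_v, T_y, T_v, T_q, T_z] [T_z, T_q, T_v, T_yi, T_v, T_q, T_z, T_q, T_z, T_y, T_z, T_q] (nat_lit 12) z2 M (Nat.sub (MG u) (Nat.mod (MG u) M)) (nat_lit 40) z1 u (Nat.mod (MG u) M)) (Nat.ble (nat_lit 114) j)) (Bool.rec (motive := fun _ => Bool) (H9.TCX.mRelD MG [T_q, T_yi, T_yi, T_z, T_y, T_z, T_yi, T_z, T_yi, T_q, T_yi, T_z, T_yi, T_z, T_y, T_z, T_yi, T_yi] [T_y, T_y, T_z, T_yi, T_z, T_y, T_z, T_y, T_q, T_y, T_z, T_y, T_z, T_yi, T_z, T_y, T_y, T_q] (nat_lit 18) z2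 M (Nat.sub (MG u) (Nat.mod (MG u) M)) (nat_lit 40) z1 u (Nat.mod (MG u) M)) (Bool.rec (motive := fun _ => Bool) (H9.TCX.mRelD MG [T_y, T_z, T_yi, T_z, T_y, T_z, T_y, T_q, T_y, T_z, T_y, T_z, T_yi, T_z, T_y, T_y, T_q, T_y] [T_yi, T_q, T_yi, T_yi, T_z, T_y, T_z, T_yi, T_z, T_yi, T_q, T_yi, T_z, T_yi, T_z, T_y, T_z, T_yi] (nat_lit 18) z2 M (Nat.sub (MG u) (Nat.mod (MG u) M)) (nat_lit 40) z1 u (Nat.mod (MG u) M)) (H9.TCX.mRelD MG [T_yi, T_yi, T_z, T_y, T_z, T_yi, T_z, T_yi, T_q, T_yi, T_z, T_yi, T_z, T_y, T_z, T_yi, T_yi, T_q] [T_q, T_y, T_y, T_z, T_yi, T_z, T_y, T_z, T_y, T_q, T_y, T_z, T_y, T_z, T_yi, T_z, T_y, T_y] (nat_lit 18) z2 M (Nat.sub (MG u) (Nat.mod (MG u) M)) (nat_lit 40) z1 u (Nat.mod (MG u) M)) (Nat.ble (nat_lit 117) j)) (Nat.ble (nat_lit 116) j)) (Nat.ble (nat_lit 115) j)) (Nat.ble (nat_lit 113)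 j)
noncomputable def dM_25 (j z1 z2 u : ℕ) : Bool :=
  Bool.rec (motive := fun _ => Bool) (Bool.rec (motive := fun _ => Bool) (Bool.rec (motive := fun _ => Bool) (H9.TCX.mRelD MG [T_q, T_v, T_yi, T_v, T_q, T_z, T_q, T_z, T_y, T_z, T_q, T_z] [T_z, T_q, T_z, T_yi, T_z, T_q, T_z, T_q, T_v, T_y, T_v, T_q] (nat_lit 12) z2 M (Nat.sub (MG u) (Nat.mod (MG u) M)) (nat_lit 40) z1 u (Nat.mod (MG u) M)) (H9.TCX.mRelD MG [T_q, T_yi, T_z, T_yi, T_z, T_y, T_z, T_yi, T_yi, T_q, T_yi, T_yi, T_z, T_y, T_z, T_yi, T_z, T_yi] [T_y, T_z, T_y, T_z, T_yi, T_z, T_y, T_y, T_q, T_y, T_y, T_z, T_yi, T_z, T_y, T_z, T_y, T_q] (nat_lit 18) z2 M (Nat.sub (MG u) (Nat.mod (MG u) M)) (nat_lit 40) z1 u (Nat.mod (MG u) M)) (Nat.ble (nat_lit 119) j)) (Bool.rec (motive := fun _ => Bool) (H9.TCX.mRelD MG [T_z, T_y, T_q, T_z, T_y, T_y, T_z, T_q,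 T_y, T_z, T_yi, T_q, T_z, T_yi, T_yi, T_z, T_q, T_yi] [T_y, T_q, T_z, T_y, T_y, T_z, T_q, T_y, T_z, T_yi, T_q, T_z, T_yi, T_yi, T_z, T_q, T_yi, T_z] (nat_lit 18) z2 M (Nat.sub (MG u) (Nat.mod (MG u) M)) (nat_lit 40) z1 u (Nat.mod (MG u) M)) (Bool.rec (motive := fun _ => Bool) (H9.TCX.mRelD MG [T_yi, T_yi, T_z, T_q, T_yi, T_z, T_y, T_q, T_z, T_y, T_y, T_z, T_q, T_y, T_z, T_yi, T_q, T_z] [T_z, T_q, T_y, T_z, T_yi, T_q, T_z, T_yi, T_yi, T_z, T_q, T_yi, T_z, T_y, T_q, T_z, T_y, T_y] (nat_lit 18) z2 M (Nat.sub (MG u) (Nat.mod (MG u) M)) (nat_lit 40) z1 u (Nat.mod (MG u) M)) (H9.TCX.mRelD MG [T_y, T_y, T_q, T_z, T_q, T_z, T_y, T_y, T_y, T_q, T_z, T_q, T_z, T_y] [T_yi, T_z, T_q, T_z, T_q, T_yi, T_yi, T_yi, T_z, T_q, T_z, T_q, T_yi, T_yi] (nat_lit 14) z2 M (Nat.sub (MG u) (Nat.mod (MG u) M)) (nat_lit 40) z1 u (Nat.mod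 (MG u) M)) (Nat.ble (nat_lit 122) j)) (Nat.ble (nat_lit 121) j)) (Nat.ble (nat_lit 120) j)) (Bool.rec (motive := fun _ => Bool) (Bool.rec (motive := fun _ => Bool) (H9.TCX.mRelD MG [T_z, T_yi, T_z, T_yi, T_q, T_y, T_z, T_y, T_z, T_yi, T_z, T_yi, T_q, T_y, T_z, T_y] [T_yi, T_z, T_yi, T_q, T_y, T_z, T_y, T_z, T_yi, T_z, T_yi, T_q, T_y, T_z, T_y, T_z] (nat_lit 16) z2 M (Nat.sub (MG u) (Nat.mod (MG u) M)) (nat_lit 40) z1 u (Nat.mod (MG u) M)) (H9.TCX.mRelD MG [T_y, T_q, T_y, T_z, T_y, T_z, T_yi, T_z, T_y, T_y, T_q, T_y, T_y, T_z, T_yi, T_z, T_y, T_z] [T_z, T_yi, T_z, T_y, T_z, T_yi, T_yi, T_q, T_yi, T_yi, T_z, T_y, T_z, T_yi, T_z, T_yi, T_q, T_yi] (nat_lit 18) z2 M (Nat.sub (MG u) (Nat.mod (MG u) M)) (nat_lit 40) z1 u (Nat.mod (MG u) M)) (Nat.ble (nat_lit 124) j)) (Bool.rec (motive := fun _ => Bool) (H9.TCX.mRelD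 MG [T_y, T_z, T_yi, T_q, T_z, T_yi, T_yi, T_z, T_q, T_yi, T_z, T_y, T_q, T_z, T_y, T_y, T_z, T_q] [T_q, T_z, T_yi, T_yi, T_z, T_q, T_yi, T_z, T_y, T_q, T_z, T_y, T_y, T_z, T_q, T_y, T_z, T_yi] (nat_lit 18) z2 M (Nat.sub (MG u) (Nat.mod (MG u) M)) (nat_lit 40) z1 u (Nat.mod (MG u) M)) (Bool.rec (motive := fun _ => Bool) (H9.TCX.mRelD MG [T_q, T_z, T_y, T_z, T_q, T_z, T_q, T_v, T_yi, T_v, T_q, T_z] [T_z, T_q, T_v, T_y, T_v, T_q, T_z, T_q, T_z, T_yi, T_z, T_q] (nat_lit 12) z2 M (Nat.sub (MG u) (Nat.mod (MG u) M)) (nat_lit 40) z1 u (Nat.mod (MG u) M)) (H9.TCX.mRelD MG [T_y, T_q, T_y, T_y, T_z, T_yi, T_z, T_y, T_z, T_y, T_q, T_y, T_z, T_y, T_z, T_yi, T_z, T_y] [T_yi, T_z, T_y, T_z, T_yi, T_z, T_yi, T_q, T_yi, T_z, T_yi, T_z, T_y, T_z, T_yi, T_yi, T_q, T_yi] (nat_lit 18) z2 M (Nat.sub (MG u) (Nat.mod (MG u) M))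 (nat_lit 40) z1 u (Nat.mod (MG u) M)) (Nat.ble (nat_lit 127) j)) (Nat.ble (nat_lit 126) j)) (Nat.ble (nat_lit 125) j)) (Nat.ble (nat_lit 123) j)
noncomputable def dM_26 (j z1 z2 u : ℕ) : Bool :=
  Bool.rec (motive := fun _ => Bool) (dM_24 j z1 z2 u) (dM_25 j z1 z2 u) (Nat.ble (nat_lit 118) j)
noncomputable def dM_27 (j z1 z2 u : ℕ) : Bool :=
  Bool.rec (motive := fun _ => Bool) (Bool.rec (motive := fun _ => Bool) (Bool.rec (motive := fun _ => Bool) (H9.TCX.mRelD MG [T_yi, T_q, T_yi, T_yi, T_z, T_y, T_z, T_yi, T_z, T_yi, T_q, T_yi, T_z, T_yi, T_z, T_y, T_z, T_yi] [T_y, T_z, T_yi, T_z, T_y, T_z, T_y, T_q, T_y, T_z, T_y, T_z, T_yi, T_z, T_y, T_y, T_q, T_y] (nat_lit 18) z2 M (Nat.sub (MG u) (Nat.mod (MG u) M)) (nat_lit 40) z1 u (Nat.mod (MG u) M)) (H9.TCX.mRelD MG [T_z, T_yi, T_yi, T_q, T_yi, T_yi, T_z, T_y, T_z,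 T_yi, T_z, T_yi, T_q, T_yi, T_z, T_yi, T_z, T_y] [T_yi, T_z, T_y, T_z, T_y, T_q, T_y, T_z, T_y, T_z, T_yi, T_z, T_y, T_y, T_q, T_y, T_y, T_z] (nat_lit 18) z2 M (Nat.sub (MG u) (Nat.mod (MG u) M)) (nat_lit 40) z1 u (Nat.mod (MG u) M)) (Nat.ble (nat_lit 129) j)) (Bool.rec (motive := fun _ => Bool) (H9.TCX.mRelD MG [T_y, T_y, T_z, T_yi, T_z, T_y, T_z, T_y, T_q, T_y, T_z, T_y, T_z, T_yi, T_z, T_y, T_y, T_q] [T_q, T_yi, T_yi, T_z, T_y, T_z, T_yi, T_z, T_yi, T_q, T_yi, T_z, T_yi, T_z, T_y, T_z, T_yi, T_yi] (nat_lit 18) z2 M (Nat.sub (MG u) (Nat.mod (MG u) M)) (nat_lit 40) z1 u (Nat.mod (MG u) M)) (Bool.rec (motive := fun _ => Bool) (H9.TCX.mRelD MG [T_y, T_y, T_q, T_y, T_y, T_z, T_yi, T_z, T_y, T_z, T_y, T_q, T_y, T_z, T_y, T_z, T_yi, T_z] [T_z, T_y, T_z, T_yi, T_z, T_yi, T_q, T_yi, T_z, T_yi, T_z, T_y, T_z, T_yi,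 T_yi, T_q, T_yi, T_yi] (nat_lit 18) z2 M (Nat.sub (MG u) (Nat.mod (MG u) M)) (nat_lit 40) z1 u (Nat.mod (MG u) M)) (H9.TCX.mRelD MG [T_yi, T_z, T_y, T_z, T_yi, T_z, T_yi, T_q, T_yi, T_z, T_yi, T_z, T_y, T_z, T_yi, T_yi, T_q, T_yi] [T_y, T_q, T_y, T_y, T_z, T_yi, T_z, T_y, T_z, T_y, T_q, T_y, T_z, T_y, T_z, T_yi, T_z, T_y] (nat_lit 18) z2 M (Nat.sub (MG u) (Nat.mod (MG u) M)) (nat_lit 40) z1 u (Nat.mod (MG u) M)) (Nat.ble (nat_lit 132) j)) (Nat.ble (nat_lit 131) j)) (Nat.ble (nat_lit 130) j)) (Bool.rec (motive := fun _ => Bool) (Bool.rec (motive := fun _ => Bool) (H9.TCX.mRelD MG [T_q, T_y, T_z, T_y, T_z, T_yi, T_z, T_y, T_y, T_q, T_y, T_y, T_z, T_yi, T_z, T_y, T_z, T_y] [T_yi, T_z, T_yi, T_z, T_y, T_z, T_yi, T_yi, T_q, T_yi, T_yi, T_z, T_y, T_z, T_yi, T_z, T_yi, T_q] (nat_lit 18) z2 M (Nat.sub (MG u) (Nat.mod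 (MG u) M)) (nat_lit 40) z1 u (Nat.mod (MG u) M)) (Bool.rec (motive := fun _ => Bool) (H9.TCX.mRelD MG [T_z, T_yi, T_q, T_z, T_yi, T_yi, T_z, T_q, T_yi, T_z, T_y, T_q, T_z, T_y, T_y, T_z, T_q, T_y] [T_yi, T_q, T_z, T_yi, T_yi, T_z, T_q, T_yi, T_z, T_y, T_q, T_z, T_y, T_y, T_z, T_q, T_y, T_z] (nat_lit 18) z2 M (Nat.sub (MG u) (Nat.mod (MG u) M)) (nat_lit 40) z1 u (Nat.mod (MG u) M)) (H9.TCX.mRelD MG [T_v, T_q, T_v, T_z, T_q, T_z, T_v, T_z, T_v, T_z, T_q, T_z, T_v, T_q] [T_q, T_v, T_z, T_q, T_z, T_v, T_z, T_v, T_z, T_q, T_z, T_v, T_q, T_v] (nat_lit 14) z2 M (Nat.sub (MG u) (Nat.mod (MG u) M)) (nat_lit 40) z1 u (Nat.mod (MG u) M)) (Nat.ble (nat_lit 135) j)) (Nat.ble (nat_lit 134) j)) (Bool.rec (motive := fun _ => Bool) (H9.TCX.mRelD MG [T_y, T_q, T_yi, T_z, T_q, T_z, T_y, T_q, T_yi, T_z, T_q, T_z] [T_z, T_q, T_z,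 T_y, T_q, T_yi, T_z, T_q, T_z, T_y, T_q, T_yi] (nat_lit 12) z2 M (Nat.sub (MG u) (Nat.mod (MG u) M)) (nat_lit 40) z1 u (Nat.mod (MG u) M)) (Bool.rec (motive := fun _ => Bool) (H9.TCX.mRelD MG [T_q, T_y, T_y, T_z, T_yi, T_z, T_y, T_z, T_y, T_q, T_y, T_z, T_y, T_z, T_yi, T_z, T_y, T_y] [T_yi, T_yi, T_z, T_y, T_z, T_yi, T_z, T_yi, T_q, T_yi, T_z, T_yi, T_z, T_y, T_z, T_yi, T_yi, T_q] (nat_lit 18) z2 M (Nat.sub (MG u) (Nat.mod (MG u) M)) (nat_lit 40) z1 u (Nat.mod (MG u) M)) (H9.TCX.mRelD MG [T_y, T_q, T_z, T_y, T_y, T_z, T_q, T_y, T_z, T_yi, T_q, T_z, T_yi, T_yi, T_z, T_q, T_yi, T_z] [T_z, T_y, T_q, T_z, T_y, T_y, T_z, T_q, T_y, T_z, T_yi, T_q, T_z, T_yi, T_yi, T_z, T_q, T_yi] (nat_lit 18) z2 M (Nat.sub (MG u) (Nat.mod (MG u) M)) (nat_lit 40) z1 u (Nat.mod (MG u) M)) (Nat.ble (nat_lit 138) j)) (Nat.ble (nat_lit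 137) j)) (Nat.ble (nat_lit 136) j)) (Nat.ble (nat_lit 133) j)
noncomputable def dM_28 (j z1 z2 u : ℕ) : Bool :=
  Bool.rec (motive := fun _ => Bool) (Bool.rec (motive := fun _ => Bool) (Bool.rec (motive := fun _ => Bool) (H9.TCX.mRelD MG [T_y, T_z, T_q, T_z, T_yi, T_q, T_y, T_z, T_q, T_z, T_yi, T_q] [T_q, T_y, T_z, T_q, T_z, T_yi, T_q, T_y, T_z, T_q, T_z, T_yi] (nat_lit 12) z2 M (Nat.sub (MG u) (Nat.mod (MG u) M)) (nat_lit 40) z1 u (Nat.mod (MG u) M)) (Bool.rec (motive := fun _ => Bool) (H9.TCX.mRelD MG [T_q, T_y, T_z, T_yi, T_q, T_z, T_yi, T_yi, T_z, T_q, T_yi, T_z, T_y, T_q, T_z, T_y, T_y, T_z] [T_z, T_yi, T_yi, T_z, T_q, T_yi, T_z, T_y, T_q, T_z, T_y, T_y, T_z, T_q, T_y, T_z, T_yi, T_q] (nat_lit 18) z2 M (Nat.sub (MG u) (Nat.mod (MG u) M)) (nat_lit 40) z1 u (Nat.mod (MG u) M)) (H9.TCX.mRelD MG [T_yi, T_yi,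 T_q, T_yi, T_yi, T_z, T_y, T_z, T_yi, T_z, T_yi, T_q, T_yi, T_z, T_yi, T_z, T_y, T_z] [T_z, T_yi, T_z, T_y, T_z, T_y, T_q, T_y, T_z, T_y, T_z, T_yi, T_z, T_y, T_y, T_q, T_y, T_y] (nat_lit 18) z2 M (Nat.sub (MG u) (Nat.mod (MG u) M)) (nat_lit 40) z1 u (Nat.mod (MG u) M)) (Nat.ble (nat_lit 141) j)) (Nat.ble (nat_lit 140) j)) (Bool.rec (motive := fun _ => Bool) (H9.TCX.mRelD MG [T_y, T_y, T_y, T_q, T_z, T_q, T_z, T_y, T_y, T_y, T_q, T_z, T_q, T_z] [T_z, T_q, T_z, T_q, T_yi, T_yi, T_yi, T_z, T_q, T_z, T_q, T_yi, T_yi, T_yi] (nat_lit 14) z2 M (Nat.sub (MG u) (Nat.mod (MG u) M)) (nat_lit 40) z1 u (Nat.mod (MG u) M)) (Bool.rec (motive := fun _ => Bool) (H9.TCX.mRelD MG [T_z, T_y, T_q, T_y, T_z, T_y, T_z, T_yi, T_z, T_y, T_y, T_q, T_y, T_y, T_z, T_yi, T_z, T_y] [T_yi, T_z, T_y, T_z, T_yi, T_yi, T_q, T_yi, T_yi, T_z,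 T_y, T_z, T_yi, T_z, T_yi, T_q, T_yi, T_z] (nat_lit 18) z2 M (Nat.sub (MG u) (Nat.mod (MG u) M)) (nat_lit 40) z1 u (Nat.mod (MG u) M)) (H9.TCX.mRelD MG [T_q, T_y, T_y, T_q, T_z, T_y, T_z, T_yi, T_z, T_q, T_yi, T_yi, T_q, T_z, T_yi, T_z, T_y, T_z] [T_z, T_yi, T_z, T_y, T_z, T_q, T_y, T_y, T_q, T_z, T_y, T_z, T_yi, T_z, T_q, T_yi, T_yi, T_q] (nat_lit 18) z2 M (Nat.sub (MG u) (Nat.mod (MG u) M)) (nat_lit 40) z1 u (Nat.mod (MG u) M)) (Nat.ble (nat_lit 144) j)) (Nat.ble (nat_lit 143) j)) (Nat.ble (nat_lit 142) j)) (Bool.rec (motive := fun _ => Bool) (Bool.rec (motive := fun _ => Bool) (H9.TCX.mRelD MG [T_z, T_y, T_z, T_yi, T_z, T_yi, T_q, T_yi, T_z, T_yi, T_z, T_y, T_z, T_yi, T_yi, T_q, T_yi, T_yi] [T_y, T_y, T_q, T_y, T_y, T_z, T_yi, T_z, T_y, T_z, T_y, T_q, T_y, T_z, T_y, T_z, T_yi, T_z] (nat_lit 18) z2 M (Nat.sub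 (MG u) (Nat.mod (MG u) M)) (nat_lit 40) z1 u (Nat.mod (MG u) M)) (Bool.rec (motive := fun _ => Bool) (H9.TCX.mRelD MG [T_yi, T_q, T_z, T_yi, T_yi, T_z, T_q, T_yi, T_z, T_y, T_q, T_z, T_y, T_y, T_z, T_q, T_y, T_z] [T_z, T_yi, T_q, T_z, T_yi, T_yi, T_z, T_q, T_yi, T_z, T_y, T_q, T_z, T_y, T_y, T_z, T_q, T_y] (nat_lit 18) z2 M (Nat.sub (MG u) (Nat.mod (MG u) M)) (nat_lit 40) z1 u (Nat.mod (MG u) M)) (H9.TCX.mRelD MG [T_y, T_y, T_z, T_q, T_y, T_z, T_yi, T_q, T_z, T_yi, T_yi, T_z, T_q, T_yi, T_z, T_y, T_q, T_z] [T_z, T_q, T_yi, T_z, T_y, T_q, T_z, T_y, T_y, T_z, T_q, T_y, T_z, T_yi, T_q, T_z, T_yi, T_yi] (nat_lit 18) z2 M (Nat.sub (MG u) (Nat.mod (MG u) M)) (nat_lit 40) z1 u (Nat.mod (MG u) M)) (Nat.ble (nat_lit 147) j)) (Nat.ble (nat_lit 146) j)) (Bool.rec (motive := fun _ => Bool) (H9.TCX.mRelD MG [T_q, T_yi,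 T_z, T_q, T_z, T_y, T_q, T_yi, T_z, T_q, T_z, T_y] [T_yi, T_z, T_q, T_z, T_y, T_q, T_yi, T_z, T_q, T_z, T_y, T_q] (nat_lit 12) z2 M (Nat.sub (MG u) (Nat.mod (MG u) M)) (nat_lit 40) z1 u (Nat.mod (MG u) M)) (Bool.rec (motive := fun _ => Bool) (H9.TCX.mRelD MG [T_yi, T_z, T_q, T_z, T_y, T_q, T_yi, T_z, T_q, T_z, T_y, T_q] [T_q, T_yi, T_z, T_q, T_z, T_y, T_q, T_yi, T_z, T_q, T_z, T_y] (nat_lit 12) z2 M (Nat.sub (MG u) (Nat.mod (MG u) M)) (nat_lit 40) z1 u (Nat.mod (MG u) M)) (H9.TCX.mRelD MG [T_q, T_yi, T_q, T_z, T_y, T_q, T_yi, T_q, T_z, T_y, T_z, T_q, T_yi, T_q, T_y, T_z] [T_z, T_yi, T_q, T_y, T_q, T_z, T_yi, T_z, T_q, T_y, T_q, T_yi, T_z, T_q, T_y, T_q] (nat_lit 16) z2 M (Nat.sub (MG u) (Nat.mod (MG u) M)) (nat_lit 40) z1 u (Nat.mod (MG u) M)) (Nat.ble (nat_lit 150) j)) (Nat.ble (nat_lit 149) j)) (Nat.ble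 (nat_lit 148) j)) (Nat.ble (nat_lit 145) j)
noncomputable def dM_29 (j z1 z2 u : ℕ) : Bool :=
  Bool.rec (motive := fun _ => Bool) (dM_27 j z1 z2 u) (dM_28 j z1 z2 u) (Nat.ble (nat_lit 139) j)
noncomputable def dM_30 (j z1 z2 u : ℕ) : Bool :=
  Bool.rec (motive := fun _ => Bool) (dM_26 j z1 z2 u) (dM_29 j z1 z2 u) (Nat.ble (nat_lit 128) j)
noncomputable def dM_31 (j z1 z2 u : ℕ) : Bool :=
  Bool.rec (motive := fun _ => Bool) (dM_23 j z1 z2 u) (dM_30 j z1 z2 u) (Nat.ble (nat_lit 109) j)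
noncomputable def dM_32 (j z1 z2 u : ℕ) : Bool :=
  Bool.rec (motive := fun _ => Bool) (dM_18 j z1 z2 u) (dM_31 j z1 z2 u) (Nat.ble (nat_lit 86) j)
noncomputable def dM_33 (j z1 z2 u : ℕ) : Bool :=
  Bool.rec (motive := fun _ => Bool) (Bool.rec (motive := fun _ => Bool) (H9.TCX.mRelD MG [T_y, T_z, T_y, T_z, T_yi, T_z, T_y, T_y, T_q, T_y, T_y, T_z, T_yi, T_z, T_y, T_z, T_y, T_q] [T_q, T_yi, T_z, T_yi, T_z, T_y, T_z, T_yi, T_yi, T_q, T_yi, T_yi, T_z, T_y, T_z, T_yi, T_z, T_yi] (nat_lit 18) z2 M (Nat.sub (MG u) (Nat.mod (MG u) M)) (nat_lit 40) z1 u (Nat.mod (MG u) M)) (Bool.rec (motive := fun _ => Bool) (H9.TCX.mRelD MG [T_z, T_yi, T_q, T_yi, T_z, T_yi, T_z, T_y, T_z, T_yi, T_yi, T_q, T_yi, T_yi, T_z, T_y, T_z, T_yi] [T_y, T_z, T_yi, T_z, T_y, T_y, T_q, T_y, T_y, T_z, T_yi, T_z, T_y, T_z, T_y, T_q, T_y, T_z]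 (nat_lit 18) z2 M (Nat.sub (MG u) (Nat.mod (MG u) M)) (nat_lit 40) z1 u (Nat.mod (MG u) M)) (H9.TCX.mRelD MG [T_q, T_yi, T_z, T_y, T_q, T_z, T_y, T_y, T_z, T_q, T_y, T_z, T_yi, T_q, T_z, T_yi, T_yi, T_z] [T_z, T_y, T_y, T_z, T_q, T_y, T_z, T_yi, T_q, T_z, T_yi, T_yi, T_z, T_q, T_yi, T_z, T_y, T_q] (nat_lit 18) z2 M (Nat.sub (MG u) (Nat.mod (MG u) M)) (nat_lit 40) z1 u (Nat.mod (MG u) M)) (Nat.ble (nat_lit 153) j)) (Nat.ble (nat_lit 152) j)) (Bool.rec (motive := fun _ => Bool) (H9.TCX.mRelD MG [T_yi, T_z, T_q, T_yi, T_z, T_y, T_q, T_z, T_y, T_y, T_z, T_q, T_y, T_z, T_yi, T_q, T_z, T_yi] [T_y, T_z, T_q, T_y, T_z, T_yi, T_q, T_z, T_yi, T_yi, T_z, T_q, T_yi, T_z, T_y, T_q, T_z, T_y] (nat_lit 18) z2 M (Nat.sub (MG u) (Nat.mod (MG u) M)) (nat_lit 40) z1 u (Nat.mod (MG u) M)) (Bool.rec (motive := fun _ => Bool) (H9.TCX.mRelD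 MG [T_z, T_y, T_y, T_q, T_y, T_y, T_z, T_yi, T_z, T_y, T_z, T_y, T_q, T_y, T_z, T_y, T_z, T_yi] [T_y, T_z, T_yi, T_z, T_yi, T_q, T_yi, T_z, T_yi, T_z, T_y, T_z, T_yi, T_yi, T_q, T_yi, T_yi, T_z] (nat_lit 18) z2 M (Nat.sub (MG u) (Nat.mod (MG u) M)) (nat_lit 40) z1 u (Nat.mod (MG u) M)) (H9.TCX.mRelD MG [T_yi, T_z, T_y, T_q, T_z, T_y, T_y, T_z, T_q, T_y, T_z, T_yi, T_q, T_z, T_yi, T_yi, T_z, T_q] [T_q, T_z, T_y, T_y, T_z, T_q, T_y, T_z, T_yi, T_q, T_z, T_yi, T_yi, T_z, T_q, T_yi, T_z, T_y] (nat_lit 18) z2 M (Nat.sub (MG u) (Nat.mod (MG u) M)) (nat_lit 40) z1 u (Nat.mod (MG u) M)) (Nat.ble (nat_lit 156) j)) (Nat.ble (nat_lit 155) j)) (Nat.ble (nat_lit 154) j)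
noncomputable def dM_34 (j z1 z2 u : ℕ) : Bool :=
  Bool.rec (motive := fun _ => Bool) (Bool.rec (motive := fun _ => Bool) (H9.TCX.mRelD MG [T_yi, T_yi, T_z, T_q, T_z, T_q, T_yi, T_yi, T_yi, T_z, T_q, T_z, T_q, T_yi] [T_y, T_q, T_z, T_q, T_z, T_y, T_y, T_y, T_q, T_z, T_q, T_z, T_y, T_y] (nat_lit 14) z2 M (Nat.sub (MG u) (Nat.mod (MG u) M)) (nat_lit 40) z1 u (Nat.mod (MG u) M)) (Bool.rec (motive := fun _ => Bool) (H9.TCX.mRelD MG [T_y, T_q, T_z, T_y, T_z, T_yi, T_z, T_q, T_yi, T_yi, T_q, T_z, T_yi, T_z, T_y, T_z, T_q, T_y] [T_yi, T_q, T_z, T_yi, T_z, T_y, T_z, T_q, T_y, T_y, T_q, T_z, T_y, T_z, T_yi, T_z, T_q, T_yi] (nat_lit 18) z2 M (Nat.sub (MG u) (Nat.mod (MG u) M)) (nat_lit 40) z1 u (Nat.mod (MG u) M)) (H9.TCX.mRelD MG [T_v, T_q, T_v, T_q, T_v, T_z, T_q, T_z, T_v, T_z, T_v, T_z, T_q, T_z] [T_z, T_q, T_z,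 T_v, T_z, T_v, T_z, T_q, T_z, T_v, T_q, T_v, T_q, T_v] (nat_lit 14) z2 M (Nat.sub (MG u) (Nat.mod (MG u) M)) (nat_lit 40) z1 u (Nat.mod (MG u) M)) (Nat.ble (nat_lit 159) j)) (Nat.ble (nat_lit 158) j)) (Bool.rec (motive := fun _ => Bool) (Bool.rec (motive := fun _ => Bool) (H9.TCX.mRelD MG [T_yi, T_q, T_y, T_z, T_q, T_z, T_yi, T_q, T_y, T_z, T_q, T_z] [T_z, T_q, T_z, T_yi, T_q, T_y, T_z, T_q, T_z, T_yi, T_q, T_y] (nat_lit 12) z2 M (Nat.sub (MG u) (Nat.mod (MG u) M)) (nat_lit 40) z1 u (Nat.mod (MG u) M)) (H9.TCX.mRelD MG [T_v, T_z, T_q, T_z, T_v, T_z, T_v, T_z, T_q, T_z, T_v, T_q, T_v, T_q] [T_q, T_v, T_q, T_v, T_z, T_q, T_z, T_v, T_z, T_v, T_z, T_q, T_z, T_v] (nat_lit 14) z2 M (Nat.sub (MG u) (Nat.mod (MG u) M)) (nat_lit 40) z1 u (Nat.mod (MG u) M)) (Nat.ble (nat_lit 161) j)) (Bool.rec (motive := fun _ => Bool)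 (H9.TCX.mRelD MG [T_q, T_y, T_z, T_q, T_z, T_yi, T_q, T_y, T_z, T_q, T_z, T_yi] [T_y, T_z, T_q, T_z, T_yi, T_q, T_y, T_z, T_q, T_z, T_yi, T_q] (nat_lit 12) z2 M (Nat.sub (MG u) (Nat.mod (MG u) M)) (nat_lit 40) z1 u (Nat.mod (MG u) M)) (H9.TCX.mRelD MG [T_q, T_z, T_q, T_z, T_yi, T_z, T_q, T_z, T_q, T_v, T_y, T_v] [T_v, T_yi, T_v, T_q, T_z, T_q, T_z, T_y, T_z, T_q, T_z, T_q] (nat_lit 12) z2 M (Nat.sub (MG u) (Nat.mod (MG u) M)) (nat_lit 40) z1 u (Nat.mod (MG u) M)) (Nat.ble (nat_lit 163) j)) (Nat.ble (nat_lit 162) j)) (Nat.ble (nat_lit 160) j)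
noncomputable def dM_35 (j z1 z2 u : ℕ) : Bool :=
  Bool.rec (motive := fun _ => Bool) (dM_33 j z1 z2 u) (dM_34 j z1 z2 u) (Nat.ble (nat_lit 157) j)
noncomputable def dM_36 (j z1 z2 u : ℕ) : Bool :=
  Bool.rec (motive := fun _ => Bool) (Bool.rec (motive := fun _ => Bool) (H9.TCX.mRelD MG [T_z, T_v, T_z, T_v, T_z, T_q, T_z, T_v, T_q, T_v, T_q, T_v, T_z, T_q] [T_q, T_z, T_v, T_q, T_v, T_q, T_v, T_z, T_q, T_z, T_v, T_z, T_v, T_z] (nat_lit 14) z2 M (Nat.sub (MG u) (Nat.mod (MG u) M)) (nat_lit 40) z1 u (Nat.mod (MG u) M)) (Bool.rec (motive := fun _ => Bool) (H9.TCX.mRelD MG [T_yi, T_z, T_yi, T_z, T_y, T_z, T_yi, T_yi, T_q, T_yi, T_yi, T_z, T_y, T_z, T_yi, T_z, T_yi, T_q] [T_q, T_y, T_z, T_y, T_z, T_yi, T_z, T_y, T_y, T_q, T_y, T_y, T_z, T_yi, T_z, T_y, T_z, T_y] (nat_lit 18) z2 M (Nat.sub (MG u) (Nat.mod (MG u)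 M)) (nat_lit 40) z1 u (Nat.mod (MG u) M)) (H9.TCX.mRelD MG [T_y, T_z, T_q, T_y, T_z, T_yi, T_q, T_z, T_yi, T_yi, T_z, T_q, T_yi, T_z, T_y, T_q, T_z, T_y] [T_yi, T_z, T_q, T_yi, T_z, T_y, T_q, T_z, T_y, T_y, T_z, T_q, T_y, T_z, T_yi, T_q, T_z, T_yi] (nat_lit 18) z2 M (Nat.sub (MG u) (Nat.mod (MG u) M)) (nat_lit 40) z1 u (Nat.mod (MG u) M)) (Nat.ble (nat_lit 166) j)) (Nat.ble (nat_lit 165) j)) (Bool.rec (motive := fun _ => Bool) (Bool.rec (motive := fun _ => Bool) (H9.TCX.mRelD MG [T_v, T_z, T_v, T_z, T_q, T_z, T_v, T_q, T_v, T_q, T_v, T_z, T_q, T_z] [T_z, T_q, T_z, T_v, T_q, T_v, T_q, T_v, T_z, T_q, T_z, T_v, T_z, T_v] (nat_lit 14) z2 M (Nat.sub (MG u) (Nat.mod (MG u) M)) (nat_lit 40) z1 u (Nat.mod (MG u) M)) (H9.TCX.mRelD MG [T_y, T_z, T_y, T_q, T_y, T_z, T_y, T_z, T_yi, T_z, T_y, T_y, T_q, T_y, T_y, T_z,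 T_yi, T_z] [T_z, T_y, T_z, T_yi, T_yi, T_q, T_yi, T_yi, T_z, T_y, T_z, T_yi, T_z, T_yi, T_q, T_yi, T_z, T_yi] (nat_lit 18) z2 M (Nat.sub (MG u) (Nat.mod (MG u) M)) (nat_lit 40) z1 u (Nat.mod (MG u) M)) (Nat.ble (nat_lit 168) j)) (Bool.rec (motive := fun _ => Bool) (H9.TCX.mRelD MG [T_yi, T_q, T_yi, T_z, T_yi, T_z, T_y, T_z, T_yi, T_yi, T_q, T_yi, T_yi, T_z, T_y, T_z, T_yi, T_z] [T_z, T_y, T_z, T_yi, T_z, T_y, T_y, T_q, T_y, T_y, T_z, T_yi, T_z, T_y, T_z, T_y, T_q, T_y] (nat_lit 18) z2 M (Nat.sub (MG u) (Nat.mod (MG u) M)) (nat_lit 40) z1 u (Nat.mod (MG u) M)) (H9.TCX.mRelD MG [T_q, T_z, T_q, T_z, T_y, T_z, T_q, T_z, T_q, T_v, T_yi, T_v] [T_v, T_y, T_v, T_q, T_z, T_q, T_z, T_yi, T_z, T_q, T_z, T_q] (nat_lit 12) z2 M (Nat.sub (MG u) (Nat.mod (MG u) M)) (nat_lit 40) z1 u (Nat.mod (MG u) M)) (Nat.ble (nat_lit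 170) j)) (Nat.ble (nat_lit 169) j)) (Nat.ble (nat_lit 167) j)
noncomputable def dM_37 (j z1 z2 u : ℕ) : Bool :=
  Bool.rec (motive := fun _ => Bool) (Bool.rec (motive := fun _ => Bool) (Bool.rec (motive := fun _ => Bool) (H9.TCX.mRelD MG [T_z, T_q, T_z, T_y, T_z, T_q, T_z, T_q, T_v, T_yi, T_v, T_q] [T_q, T_v, T_y, T_v, T_q, T_z, T_q, T_z, T_yi, T_z, T_q, T_z] (nat_lit 12) z2 M (Nat.sub (MG u) (Nat.mod (MG u) M)) (nat_lit 40) z1 u (Nat.mod (MG u) M)) (H9.TCX.mRelD MG [T_v, T_yi, T_v, T_q, T_z, T_q, T_z, T_y, T_z, T_q, T_z, T_q] [T_q, T_z, T_q, T_z, T_yi, T_z, T_q, T_z, T_q, T_v, T_y, T_v] (nat_lit 12) z2 M (Nat.sub (MG u) (Nat.mod (MG u) M)) (nat_lit 40) z1 u (Nat.mod (MG u) M)) (Nat.ble (nat_lit 172) j)) (Bool.rec (motive := fun _ => Bool) (H9.TCX.mRelD MG [T_q, T_yi, T_yi, T_yi, T_q, T_yi, T_yi, T_yi, T_q,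 T_y, T_y, T_y, T_q, T_yi, T_yi, T_yi] [T_y, T_y, T_y, T_q, T_yi, T_yi, T_yi, T_q, T_y, T_y, T_y, T_q, T_y, T_y, T_y, T_q] (nat_lit 16) z2 M (Nat.sub (MG u) (Nat.mod (MG u) M)) (nat_lit 40) z1 u (Nat.mod (MG u) M)) (H9.TCX.mRelD MG [T_y, T_z, T_q, T_y, T_y, T_q, T_z, T_y, T_z, T_yi, T_z, T_q, T_yi, T_yi, T_q, T_z, T_yi, T_z] [T_z, T_y, T_z, T_q, T_y, T_y, T_q, T_z, T_y, T_z, T_yi, T_z, T_q, T_yi, T_yi, T_q, T_z, T_yi] (nat_lit 18) z2 M (Nat.sub (MG u) (Nat.mod (MG u) M)) (nat_lit 40) z1 u (Nat.mod (MG u) M)) (Nat.ble (nat_lit 174) j)) (Nat.ble (nat_lit 173) j)) (Bool.rec (motive := fun _ => Bool) (Bool.rec (motive := fun _ => Bool) (H9.TCX.mRelD MG [T_z, T_q, T_z, T_yi, T_z, T_q, T_z, T_q, T_v, T_y, T_v, T_q] [T_q, T_v, T_yi, T_v, T_q, T_z, T_q, T_z, T_y, T_z, T_q, T_z] (nat_lit 12) z2 M (Nat.sub (MG u) (Nat.mod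 (MG u) M)) (nat_lit 40) z1 u (Nat.mod (MG u) M)) (H9.TCX.mRelD MG [T_q, T_z, T_q, T_z, T_y, T_y, T_y, T_q, T_z, T_q, T_z, T_y, T_y, T_y] [T_yi, T_yi, T_yi, T_z, T_q, T_z, T_q, T_yi, T_yi, T_yi, T_z, T_q, T_z, T_q] (nat_lit 14) z2 M (Nat.sub (MG u) (Nat.mod (MG u) M)) (nat_lit 40) z1 u (Nat.mod (MG u) M)) (Nat.ble (nat_lit 176) j)) (Bool.rec (motive := fun _ => Bool) (H9.TCX.mRelD MG [T_y, T_y, T_q, T_z, T_y, T_z, T_yi, T_z, T_q, T_yi, T_yi, T_q, T_z, T_yi, T_z, T_y, T_z, T_q] [T_q, T_z, T_yi, T_z, T_y, T_z, T_q, T_y, T_y, T_q, T_z, T_y, T_z, T_yi, T_z, T_q, T_yi, T_yi] (nat_lit 18) z2 M (Nat.sub (MG u) (Nat.mod (MG u) M)) (nat_lit 40) z1 u (Nat.mod (MG u) M)) (H9.TCX.mRelD MG [T_q, T_z, T_v, T_q, T_v, T_q, T_v, T_z, T_q, T_z, T_v, T_z, T_v, T_z] [T_z, T_v, T_z, T_v, T_z, T_q, T_z, T_v, T_q, T_v, T_q, T_v,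 T_z, T_q] (nat_lit 14) z2 M (Nat.sub (MG u) (Nat.mod (MG u) M)) (nat_lit 40) z1 u (Nat.mod (MG u) M)) (Nat.ble (nat_lit 178) j)) (Nat.ble (nat_lit 177) j)) (Nat.ble (nat_lit 175) j)
noncomputable def dM_38 (j z1 z2 u : ℕ) : Bool :=
  Bool.rec (motive := fun _ => Bool) (dM_36 j z1 z2 u) (dM_37 j z1 z2 u) (Nat.ble (nat_lit 171) j)
noncomputable def dM_39 (j z1 z2 u : ℕ) : Bool :=
  Bool.rec (motive := fun _ => Bool) (dM_35 j z1 z2 u) (dM_38 j z1 z2 u) (Nat.ble (nat_lit 164) j)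
noncomputable def dM_40 (j z1 z2 u : ℕ) : Bool :=
  Bool.rec (motive := fun _ => Bool) (Bool.rec (motive := fun _ => Bool) (Bool.rec (motive := fun _ => Bool) (H9.TCX.mRelD MG [T_v, T_y, T_v, T_q, T_z, T_q, T_z, T_yi, T_z, T_q, T_z, T_q] [T_q, T_z, T_q, T_z, T_y, T_z, T_q, T_z, T_q, T_v, T_yi, T_v] (nat_lit 12) z2 M (Nat.sub (MG u) (Nat.mod (MG u) M)) (nat_lit 40) z1 u (Nat.mod (MG u) M)) (H9.TCX.mRelD MG [T_yi, T_z, T_q, T_yi, T_yi, T_q, T_z, T_yi, T_z, T_y, T_z, T_q, T_y, T_y, T_q, T_z, T_y, T_z] [T_z, T_yi, T_z, T_q, T_yi, T_yi, T_q, T_z, T_yi, T_z, T_y, T_z, T_q, T_y, T_y, T_q, T_z, T_y] (nat_lit 18) z2 M (Nat.sub (MG u) (Nat.mod (MG u) M)) (nat_lit 40) z1 u (Nat.mod (MG u) M)) (Nat.ble (nat_lit 180) j)) (Bool.rec (motive := fun _ => Bool) (H9.TCX.mRelD MG [T_yi, T_z, T_yi, T_q, T_yi, T_z, T_yi, T_z, T_y,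 T_z, T_yi, T_yi, T_q, T_yi, T_yi, T_z, T_y, T_z] [T_z, T_yi, T_z, T_y, T_y, T_q, T_y, T_y, T_z, T_yi, T_z, T_y, T_z, T_y, T_q, T_y, T_z, T_y] (nat_lit 18) z2 M (Nat.sub (MG u) (Nat.mod (MG u) M)) (nat_lit 40) z1 u (Nat.mod (MG u) M)) (H9.TCX.mRelD MG [T_q, T_z, T_yi, T_z, T_y, T_z, T_q, T_y, T_y, T_q, T_z, T_y, T_z, T_yi, T_z, T_q, T_yi, T_yi] [T_y, T_y, T_q, T_z, T_y, T_z, T_yi, T_z, T_q, T_yi, T_yi, T_q, T_z, T_yi, T_z, T_y, T_z, T_q] (nat_lit 18) z2 M (Nat.sub (MG u) (Nat.mod (MG u) M)) (nat_lit 40) z1 u (Nat.mod (MG u) M)) (Nat.ble (nat_lit 182) j)) (Nat.ble (nat_lit 181) j)) (Bool.rec (motive := fun _ => Bool) (Bool.rec (motive := fun _ => Bool) (H9.TCX.mRelD MG [T_q, T_z, T_y, T_q, T_yi, T_z, T_q, T_z, T_y, T_q, T_yi, T_z] [T_z, T_y, T_q, T_yi, T_z, T_q, T_z, T_y, T_q, T_yi, T_z, T_q] (nat_lit 12) z2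 M (Nat.sub (MG u) (Nat.mod (MG u) M)) (nat_lit 40) z1 u (Nat.mod (MG u) M)) (H9.TCX.mRelD MG [T_q, T_z, T_y, T_q, T_yi, T_q, T_z, T_y, T_z, T_q, T_yi, T_q, T_y, T_z, T_q, T_yi] [T_y, T_q, T_z, T_yi, T_q, T_y, T_q, T_z, T_yi, T_z, T_q, T_y, T_q, T_yi, T_z, T_q] (nat_lit 16) z2 M (Nat.sub (MG u) (Nat.mod (MG u) M)) (nat_lit 40) z1 u (Nat.mod (MG u) M)) (Nat.ble (nat_lit 184) j)) (Bool.rec (motive := fun _ => Bool) (H9.TCX.mRelD MG [T_q, T_z, T_yi, T_q, T_y, T_z, T_q, T_z, T_yi, T_q, T_y, T_z] [T_z, T_yi, T_q, T_y, T_z, T_q, T_z, T_yi, T_q, T_y, T_z, T_q] (nat_lit 12) z2 M (Nat.sub (MG u) (Nat.mod (MG u) M)) (nat_lit 40) z1 u (Nat.mod (MG u) M)) (H9.TCX.mRelD MG [T_z, T_q, T_y, T_y, T_q, T_z, T_y, T_z, T_yi, T_z, T_q, T_yi, T_yi, T_q, T_z, T_yi, T_z, T_y] [T_yi, T_z, T_y, T_z, T_q, T_y, T_y, T_q, T_z, T_y, T_z,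 T_yi, T_z, T_q, T_yi, T_yi, T_q, T_z] (nat_lit 18) z2 M (Nat.sub (MG u) (Nat.mod (MG u) M)) (nat_lit 40) z1 u (Nat.mod (MG u) M)) (Nat.ble (nat_lit 186) j)) (Nat.ble (nat_lit 185) j)) (Nat.ble (nat_lit 183) j)
noncomputable def dM_41 (j z1 z2 u : ℕ) : Bool :=
  Bool.rec (motive := fun _ => Bool) (Bool.rec (motive := fun _ => Bool) (Bool.rec (motive := fun _ => Bool) (H9.TCX.mRelD MG [T_z, T_yi, T_z, T_y, T_z, T_y, T_q, T_y, T_z, T_y, T_z, T_yi, T_z, T_y, T_y, T_q, T_y, T_y] [T_yi, T_yi, T_q, T_yi, T_yi, T_z, T_y, T_z, T_yi, T_z, T_yi, T_q, T_yi, T_z, T_yi, T_z, T_y, T_z] (nat_lit 18) z2 M (Nat.sub (MG u) (Nat.mod (MG u) M)) (nat_lit 40) z1 u (Nat.mod (MG u) M)) (H9.TCX.mRelD MG [T_yi, T_yi, T_q, T_z, T_yi, T_z, T_y, T_z, T_q, T_y, T_y, T_q, T_z, T_y, T_z, T_yi, T_z, T_q] [T_q, T_z, T_y, T_z, T_yi, T_z, T_q,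 T_yi, T_yi, T_q, T_z, T_yi, T_z, T_y, T_z, T_q, T_y, T_y] (nat_lit 18) z2 M (Nat.sub (MG u) (Nat.mod (MG u) M)) (nat_lit 40) z1 u (Nat.mod (MG u) M)) (Nat.ble (nat_lit 188) j)) (Bool.rec (motive := fun _ => Bool) (H9.TCX.mRelD MG [T_yi, T_q, T_y, T_q, T_z, T_yi, T_z, T_q, T_y, T_q, T_yi, T_z, T_q, T_y, T_q, T_z] [T_z, T_q, T_yi, T_q, T_z, T_y, T_q, T_yi, T_q, T_z, T_y, T_z, T_q, T_yi, T_q, T_y] (nat_lit 16) z2 M (Nat.sub (MG u) (Nat.mod (MG u) M)) (nat_lit 40) z1 u (Nat.mod (MG u) M)) (H9.TCX.mRelD MG [T_q, T_z, T_y, T_z, T_yi, T_z, T_q, T_yi, T_yi, T_q, T_z, T_yi, T_z, T_y, T_z, T_q, T_y, T_y] [T_yi, T_yi, T_q, T_z, T_yi, T_z, T_y, T_z, T_q, T_y, T_y, T_q, T_z, T_y, T_z, T_yi, T_z, T_q] (nat_lit 18) z2 M (Nat.sub (MG u) (Nat.mod (MG u) M)) (nat_lit 40) z1 u (Nat.mod (MG u) M)) (Nat.ble (nat_lit 190) j)) (Nat.ble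 (nat_lit 189) j)) (Bool.rec (motive := fun _ => Bool) (Bool.rec (motive := fun _ => Bool) (H9.TCX.mRelD MG [T_z, T_yi, T_yi, T_z, T_q, T_yi, T_z, T_y, T_q, T_z, T_y, T_y, T_z, T_q, T_y, T_z, T_yi, T_q] [T_q, T_y, T_z, T_yi, T_q, T_z, T_yi, T_yi, T_z, T_q, T_yi, T_z, T_y, T_q, T_z, T_y, T_y, T_z] (nat_lit 18) z2 M (Nat.sub (MG u) (Nat.mod (MG u) M)) (nat_lit 40) z1 u (Nat.mod (MG u) M)) (H9.TCX.mRelD MG [T_z, T_yi, T_z, T_y, T_z, T_yi, T_yi, T_q, T_yi, T_yi, T_z, T_y, T_z, T_yi, T_z, T_yi, T_q, T_yi] [T_y, T_q, T_y, T_z, T_y, T_z, T_yi, T_z, T_y, T_y, T_q, T_y, T_y, T_z, T_yi, T_z, T_y, T_z] (nat_lit 18) z2 M (Nat.sub (MG u) (Nat.mod (MG u) M)) (nat_lit 40) z1 u (Nat.mod (MG u) M)) (Nat.ble (nat_lit 192) j)) (Bool.rec (motive := fun _ => Bool) (H9.TCX.mRelD MG [T_yi, T_z, T_q, T_z, T_q, T_yi, T_yi, T_yi, T_z,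 T_q, T_z, T_q, T_yi, T_yi] [T_y, T_y, T_q, T_z, T_q, T_z, T_y, T_y, T_y, T_q, T_z, T_q, T_z, T_y] (nat_lit 14) z2 M (Nat.sub (MG u) (Nat.mod (MG u) M)) (nat_lit 40) z1 u (Nat.mod (MG u) M)) (H9.TCX.mRelD MG [T_y, T_z, T_yi, T_z, T_yi, T_q, T_yi, T_z, T_yi, T_z, T_y, T_z, T_yi, T_yi, T_q, T_yi, T_yi, T_z] [T_z, T_y, T_y, T_q, T_y, T_y, T_z, T_yi, T_z, T_y, T_z, T_y, T_q, T_y, T_z, T_y, T_z, T_yi] (nat_lit 18) z2 M (Nat.sub (MG u) (Nat.mod (MG u) M)) (nat_lit 40) z1 u (Nat.mod (MG u) M)) (Nat.ble (nat_lit 194) j)) (Nat.ble (nat_lit 193) j)) (Nat.ble (nat_lit 191) j)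
noncomputable def dM_42 (j z1 z2 u : ℕ) : Bool :=
  Bool.rec (motive := fun _ => Bool) (dM_40 j z1 z2 u) (dM_41 j z1 z2 u) (Nat.ble (nat_lit 187) j)
noncomputable def dM_43 (j z1 z2 u : ℕ) : Bool :=
  Bool.rec (motive := fun _ => Bool) (Bool.rec (motive := fun _ => Bool) (Bool.rec (motive := fun _ => Bool) (H9.TCX.mRelD MG [T_y, T_q, T_yi, T_q, T_z, T_y, T_z, T_q, T_yi, T_q, T_y, T_z, T_q, T_yi, T_q, T_z] [T_z, T_q, T_y, T_q, T_z, T_yi, T_q, T_y, T_q, T_z, T_yi, T_z, T_q, T_y, T_q, T_yi] (nat_lit 16) z2 M (Nat.sub (MG u) (Nat.mod (MG u) M)) (nat_lit 40) z1 u (Nat.mod (MG u) M)) (H9.TCX.mRelD MG [T_z, T_q, T_z, T_q, T_v, T_y, T_v, T_q, T_z, T_q, T_z, T_yi] [T_y, T_z, T_q, T_z, T_q, T_v, T_yi, T_v, T_q, T_z, T_q, T_z] (nat_lit 12) z2 M (Nat.sub (MG u) (Nat.mod (MG u) M)) (nat_lit 40) z1 u (Nat.mod (MG u) M))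 (Nat.ble (nat_lit 196) j)) (Bool.rec (motive := fun _ => Bool) (H9.TCX.mRelD MG [T_y, T_y, T_y, T_q, T_yi, T_yi, T_yi, T_q, T_yi, T_yi, T_yi, T_q, T_yi, T_yi, T_yi, T_q] [T_q, T_y, T_y, T_y, T_q, T_y, T_y, T_y, T_q, T_y, T_y, T_y, T_q, T_yi, T_yi, T_yi] (nat_lit 16) z2 M (Nat.sub (MG u) (Nat.mod (MG u) M)) (nat_lit 40) z1 u (Nat.mod (MG u) M)) (H9.TCX.mRelD MG [T_z, T_q, T_z, T_y, T_q, T_yi, T_z, T_q, T_z, T_y, T_q, T_yi] [T_y, T_q, T_yi, T_z, T_q, T_z, T_y, T_q, T_yi, T_z, T_q, T_z] (nat_lit 12) z2 M (Nat.sub (MG u) (Nat.mod (MG u) M)) (nat_lit 40) z1 u (Nat.mod (MG u) M)) (Nat.ble (nat_lit 198) j)) (Nat.ble (nat_lit 197) j)) (Bool.rec (motive := fun _ => Bool) (Bool.rec (motive := fun _ => Bool) (H9.TCX.mRelD MG [T_z, T_y, T_q, T_yi, T_z, T_q, T_z, T_y, T_q, T_yi, T_z, T_q] [T_q, T_z, T_y, T_q, T_yi, T_z,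 T_q, T_z, T_y, T_q, T_yi, T_z] (nat_lit 12) z2 M (Nat.sub (MG u) (Nat.mod (MG u) M)) (nat_lit 40) z1 u (Nat.mod (MG u) M)) (H9.TCX.mRelD MG [T_q, T_z, T_yi, T_yi, T_z, T_q, T_yi, T_z, T_y, T_q, T_z, T_y, T_y, T_z, T_q, T_y, T_z, T_yi] [T_y, T_z, T_yi, T_q, T_z, T_yi, T_yi, T_z, T_q, T_yi, T_z, T_y, T_q, T_z, T_y, T_y, T_z, T_q] (nat_lit 18) z2 M (Nat.sub (MG u) (Nat.mod (MG u) M)) (nat_lit 40) z1 u (Nat.mod (MG u) M)) (Nat.ble (nat_lit 200) j)) (Bool.rec (motive := fun _ => Bool) (H9.TCX.mRelD MG [T_z, T_q, T_v, T_q, T_z, T_v, T_z, T_q, T_z, T_q, T_v] [T_v, T_q, T_z, T_q, T_z, T_v, T_z, T_q, T_v, T_q, T_z] (nat_lit 11) z2 M (Nat.sub (MG u) (Nat.mod (MG u) M)) (nat_lit 40) z1 u (Nat.mod (MG u) M)) (H9.TCX.mRelD MG [T_z, T_q, T_z, T_v, T_q, T_v, T_q, T_v, T_z, T_q, T_z, T_v, T_z, T_v] [T_v, T_z, T_v, T_z, T_q,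 T_z, T_v, T_q, T_v, T_q, T_v, T_z, T_q, T_z] (nat_lit 14) z2 M (Nat.sub (MG u) (Nat.mod (MG u) M)) (nat_lit 40) z1 u (Nat.mod (MG u) M)) (Nat.ble (nat_lit 202) j)) (Nat.ble (nat_lit 201) j)) (Nat.ble (nat_lit 199) j)
noncomputable def dM_44 (j z1 z2 u : ℕ) : Bool :=
  Bool.rec (motive := fun _ => Bool) (Bool.rec (motive := fun _ => Bool) (Bool.rec (motive := fun _ => Bool) (H9.TCX.mRelD MG [T_yi, T_q, T_z, T_yi, T_z, T_y, T_z, T_q, T_y, T_y, T_q, T_z, T_y, T_z, T_yi, T_z, T_q, T_yi] [T_y, T_q, T_z, T_y, T_z, T_yi, T_z, T_q, T_yi, T_yi, T_q, T_z, T_yi, T_z, T_y, T_z, T_q, T_y] (nat_lit 18) z2 M (Nat.sub (MG u) (Nat.mod (MG u) M)) (nat_lit 40) z1 u (Nat.mod (MG u) M)) (H9.TCX.mRelD MG [T_z, T_q, T_yi, T_q, T_z, T_y, T_q, T_yi, T_q, T_z, T_y, T_z, T_q, T_yi, T_q, T_y] [T_yi, T_q, T_y, T_q, T_z, T_yi, T_z, T_q,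 T_y, T_q, T_yi, T_z, T_q, T_y, T_q, T_z] (nat_lit 16) z2 M (Nat.sub (MG u) (Nat.mod (MG u) M)) (nat_lit 40) z1 u (Nat.mod (MG u) M)) (Nat.ble (nat_lit 204) j)) (Bool.rec (motive := fun _ => Bool) (H9.TCX.mRelD MG [T_yi, T_z, T_y, T_z, T_yi, T_yi, T_q, T_yi, T_yi, T_z, T_y, T_z, T_yi, T_z, T_yi, T_q, T_yi, T_z] [T_z, T_y, T_q, T_y, T_z, T_y, T_z, T_yi, T_z, T_y, T_y, T_q, T_y, T_y, T_z, T_yi, T_z, T_y] (nat_lit 18) z2 M (Nat.sub (MG u) (Nat.mod (MG u) M)) (nat_lit 40) z1 u (Nat.mod (MG u) M)) (H9.TCX.mRelD MG [T_q, T_v, T_q, T_v, T_z, T_q, T_z, T_v, T_z, T_v, T_z, T_q, T_z, T_v] [T_v, T_z, T_q, T_z, T_v, T_z, T_v, T_z, T_q, T_z, T_v, T_q, T_v, T_q] (nat_lit 14) z2 M (Nat.sub (MG u) (Nat.mod (MG u) M)) (nat_lit 40) z1 u (Nat.mod (MG u) M)) (Nat.ble (nat_lit 206) j)) (Nat.ble (nat_lit 205) j)) (Bool.rec (motive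 := fun _ => Bool) (Bool.rec (motive := fun _ => Bool) (H9.TCX.mRelD MG [T_z, T_yi, T_q, T_y, T_z, T_q, T_z, T_yi, T_q, T_y, T_z, T_q] [T_q, T_z, T_yi, T_q, T_y, T_z, T_q, T_z, T_yi, T_q, T_y, T_z] (nat_lit 12) z2 M (Nat.sub (MG u) (Nat.mod (MG u) M)) (nat_lit 40) z1 u (Nat.mod (MG u) M)) (H9.TCX.mRelD MG [T_q, T_z, T_v, T_z, T_q, T_z, T_q, T_v, T_z, T_q, T_v] [T_v, T_q, T_z, T_v, T_q, T_z, T_q, T_z, T_v, T_z, T_q] (nat_lit 11) z2 M (Nat.sub (MG u) (Nat.mod (MG u) M)) (nat_lit 40) z1 u (Nat.mod (MG u) M)) (Nat.ble (nat_lit 208) j)) (Bool.rec (motive := fun _ => Bool) (H9.TCX.mRelD MG [T_q, T_z, T_v, T_z, T_v, T_z, T_q, T_z, T_v, T_q, T_v, T_q, T_v, T_z] [T_z, T_v, T_q, T_v, T_q, T_v, T_z, T_q, T_z, T_v, T_z, T_v, T_z, T_q] (nat_lit 14) z2 M (Nat.sub (MG u) (Nat.mod (MG u) M)) (nat_lit 40) z1 u (Nat.mod (MG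 u) M)) (Bool.rec (motive := fun _ => Bool) (H9.TCX.mRelD MG [T_q, T_y, T_q, T_z, T_yi, T_q, T_y, T_q, T_z, T_yi, T_z, T_q, T_y, T_q, T_yi, T_z] [T_z, T_y, T_q, T_yi, T_q, T_z, T_y, T_z, T_q, T_yi, T_q, T_y, T_z, T_q, T_yi, T_q] (nat_lit 16) z2 M (Nat.sub (MG u) (Nat.mod (MG u) M)) (nat_lit 40) z1 u (Nat.mod (MG u) M)) (H9.TCX.mRelD MG [T_v, T_q, T_z, T_q, T_z, T_y, T_z, T_q, T_z, T_q, T_v, T_yi] [T_y, T_v, T_q, T_z, T_q, T_z, T_yi, T_z, T_q, T_z, T_q, T_v] (nat_lit 12) z2 M (Nat.sub (MG u) (Nat.mod (MG u) M)) (nat_lit 40) z1 u (Nat.mod (MG u) M)) (Nat.ble (nat_lit 211) j)) (Nat.ble (nat_lit 210) j)) (Nat.ble (nat_lit 209) j)) (Nat.ble (nat_lit 207) j)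
noncomputable def dM_45 (j z1 z2 u : ℕ) : Bool :=
  Bool.rec (motive := fun _ => Bool) (dM_43 j z1 z2 u) (dM_44 j z1 z2 u) (Nat.ble (nat_lit 203) j)
noncomputable def dM_46 (j z1 z2 u : ℕ) : Bool :=
  Bool.rec (motive := fun _ => Bool) (dM_42 j z1 z2 u) (dM_45 j z1 z2 u) (Nat.ble (nat_lit 195) j)
noncomputable def dM_47 (j z1 z2 u : ℕ) : Bool :=
  Bool.rec (motive := fun _ => Bool) (dM_39 j z1 z2 u) (dM_46 j z1 z2 u) (Nat.ble (nat_lit 179) j)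
noncomputable def dM_48 (j z1 z2 u : ℕ) : Bool :=
  Bool.rec (motive := fun _ => Bool) (Bool.rec (motive := fun _ => Bool) (Bool.rec (motive := fun _ => Bool) (H9.TCX.mRelD MG [T_v, T_q, T_z, T_q, T_z, T_yi, T_z, T_q, T_z, T_q, T_v, T_y] [T_yi, T_v, T_q, T_z, T_q, T_z, T_y, T_z, T_q, T_z, T_q, T_v] (nat_lit 12) z2 M (Nat.sub (MG u) (Nat.mod (MG u) M)) (nat_lit 40) z1 u (Nat.mod (MG u) M)) (H9.TCX.mRelD MG [T_q, T_v, T_z, T_q, T_z, T_v, T_z, T_v, T_z, T_q, T_z, T_v, T_q, T_v] [T_v, T_q, T_v, T_z, T_q, T_z, T_v, T_z, T_v, T_z, T_q, T_z, T_v, T_q] (nat_lit 14) z2 M (Nat.sub (MG u) (Nat.mod (MG u) M)) (nat_lit 40) z1 u (Nat.mod (MG u) M)) (Nat.ble (nat_lit 213) j)) (Bool.rec (motive := fun _ => Bool) (H9.TCX.mRelD MG [T_q, T_z, T_q, T_yi, T_yi, T_yi, T_z, T_q, T_z, T_q, T_yi, T_yi, T_yi, T_z] [T_z, T_y, T_y, T_y,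 T_q, T_z, T_q, T_z, T_y, T_y, T_y, T_q, T_z, T_q] (nat_lit 14) z2 M (Nat.sub (MG u) (Nat.mod (MG u) M)) (nat_lit 40) z1 u (Nat.mod (MG u) M)) (H9.TCX.mRelD MG [T_z, T_y, T_z, T_yi, T_yi, T_q, T_yi, T_yi, T_z, T_y, T_z, T_yi, T_z, T_yi, T_q, T_yi, T_z, T_yi] [T_y, T_z, T_y, T_q, T_y, T_z, T_y, T_z, T_yi, T_z, T_y, T_y, T_q, T_y, T_y, T_z, T_yi, T_z] (nat_lit 18) z2 M (Nat.sub (MG u) (Nat.mod (MG u) M)) (nat_lit 40) z1 u (Nat.mod (MG u) M)) (Nat.ble (nat_lit 215) j)) (Nat.ble (nat_lit 214) j)) (Bool.rec (motive := fun _ => Bool) (Bool.rec (motive := fun _ => Bool) (H9.TCX.mRelD MG [T_v, T_q, T_z, T_v, T_z, T_q, T_z, T_q, T_v, T_z, T_q] [T_q, T_z, T_v, T_q, T_z, T_q, T_z, T_v, T_z, T_q, T_v] (nat_lit 11) z2 M (Nat.sub (MG u) (Nat.mod (MG u) M)) (nat_lit 40) z1 u (Nat.mod (MG u) M)) (H9.TCX.mRelD MG [T_z, T_y,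 T_z, T_yi, T_z, T_y, T_y, T_q, T_y, T_y, T_z, T_yi, T_z, T_y, T_z, T_y, T_q, T_y] [T_yi, T_q, T_yi, T_z, T_yi, T_z, T_y, T_z, T_yi, T_yi, T_q, T_yi, T_yi, T_z, T_y, T_z, T_yi, T_z] (nat_lit 18) z2 M (Nat.sub (MG u) (Nat.mod (MG u) M)) (nat_lit 40) z1 u (Nat.mod (MG u) M)) (Nat.ble (nat_lit 217) j)) (Bool.rec (motive := fun _ => Bool) (H9.TCX.mRelD MG [T_z, T_q, T_z, T_yi, T_q, T_y, T_z, T_q, T_z, T_yi, T_q, T_y] [T_yi, T_q, T_y, T_z, T_q, T_z, T_yi, T_q, T_y, T_z, T_q, T_z] (nat_lit 12) z2 M (Nat.sub (MG u) (Nat.mod (MG u) M)) (nat_lit 40) z1 u (Nat.mod (MG u) M)) (Bool.rec (motive := fun _ => Bool) (H9.TCX.mRelD MG [T_z, T_q, T_y, T_z, T_yi, T_q, T_z, T_yi, T_yi, T_z, T_q, T_yi, T_z, T_y, T_q, T_z, T_y, T_y] [T_yi, T_yi, T_z, T_q, T_yi, T_z, T_y, T_q, T_z, T_y, T_y, T_z, T_q, T_y, T_z, T_yi, T_q, T_z] (nat_lit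 18) z2 M (Nat.sub (MG u) (Nat.mod (MG u) M)) (nat_lit 40) z1 u (Nat.mod (MG u) M)) (H9.TCX.mRelD MG [T_z, T_q, T_y, T_y, T_z, T_q, T_y, T_z, T_yi, T_z, T_q, T_yi, T_yi, T_z, T_q, T_yi, T_z, T_y] [T_yi, T_z, T_y, T_q, T_z, T_y, T_y, T_q, T_z, T_y, T_z, T_yi, T_q, T_z, T_yi, T_yi, T_q, T_z] (nat_lit 18) z2 M (Nat.sub (MG u) (Nat.mod (MG u) M)) (nat_lit 40) z1 u (Nat.mod (MG u) M)) (Nat.ble (nat_lit 220) j)) (Nat.ble (nat_lit 219) j)) (Nat.ble (nat_lit 218) j)) (Nat.ble (nat_lit 216) j)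
noncomputable def dM_49 (j z1 z2 u : ℕ) : Bool :=
  Bool.rec (motive := fun _ => Bool) (Bool.rec (motive := fun _ => Bool) (Bool.rec (motive := fun _ => Bool) (H9.TCX.mRelD MG [T_z, T_v, T_z, T_q, T_z, T_v, T_q, T_v, T_q, T_v, T_z, T_q, T_z, T_v] [T_v, T_z, T_q, T_z, T_v, T_q, T_v, T_q, T_v, T_z, T_q, T_z, T_v, T_z] (nat_lit 14) z2 M (Nat.sub (MG u) (Nat.mod (MG u) M)) (nat_lit 40) z1 u (Nat.mod (MG u) M)) (H9.TCX.mRelD MG [T_yi, T_yi, T_yi, T_z, T_q, T_z, T_q, T_yi, T_yi, T_yi, T_z, T_q, T_z, T_q] [T_q, T_z, T_q, T_z, T_y, T_y, T_y, T_q, T_z, T_q, T_z, T_y, T_y, T_y] (nat_lit 14) z2 M (Nat.sub (MG u) (Nat.mod (MG u) M)) (nat_lit 40) z1 u (Nat.mod (MG u) M)) (Nat.ble (nat_lit 222) j)) (Bool.rec (motive := fun _ => Bool) (H9.TCX.mRelD MG [T_z, T_yi, T_z, T_yi, T_q, T_yi, T_z, T_yi, T_z, T_y, T_z, T_yi, T_yi,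 T_q, T_yi, T_yi, T_z, T_y] [T_yi, T_z, T_y, T_y, T_q, T_y, T_y, T_z, T_yi, T_z, T_y, T_z, T_y, T_q, T_y, T_z, T_y, T_z] (nat_lit 18) z2 M (Nat.sub (MG u) (Nat.mod (MG u) M)) (nat_lit 40) z1 u (Nat.mod (MG u) M)) (H9.TCX.mRelD MG [T_z, T_q, T_v, T_y, T_v, T_q, T_z, T_q, T_z, T_yi, T_z, T_q] [T_q, T_z, T_y, T_z, T_q, T_z, T_q, T_v, T_yi, T_v, T_q, T_z] (nat_lit 12) z2 M (Nat.sub (MG u) (Nat.mod (MG u) M)) (nat_lit 40) z1 u (Nat.mod (MG u) M)) (Nat.ble (nat_lit 224) j)) (Nat.ble (nat_lit 223) j)) (Bool.rec (motive := fun _ => Bool) (Bool.rec (motive := fun _ => Bool) (H9.TCX.mRelD MG [T_z, T_yi, T_z, T_y, T_y, T_q, T_y, T_y, T_z, T_yi, T_z, T_y, T_z, T_y, T_q, T_y, T_z, T_y] [T_yi, T_z, T_yi, T_q, T_yi, T_z, T_yi, T_z, T_y, T_z, T_yi, T_yi, T_q, T_yi, T_yi, T_z, T_y, T_z] (nat_lit 18) z2 M (Nat.sub (MG u) (Nat.mod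 (MG u) M)) (nat_lit 40) z1 u (Nat.mod (MG u) M)) (H9.TCX.mRelD MG [T_z, T_q, T_yi, T_yi, T_q, T_z, T_yi, T_z, T_y, T_z, T_q, T_y, T_y, T_q, T_z, T_y, T_z, T_yi] [T_y, T_z, T_yi, T_z, T_q, T_yi, T_yi, T_q, T_z, T_yi, T_z, T_y, T_z, T_q, T_y, T_y, T_q, T_z] (nat_lit 18) z2 M (Nat.sub (MG u) (Nat.mod (MG u) M)) (nat_lit 40) z1 u (Nat.mod (MG u) M)) (Nat.ble (nat_lit 226) j)) (Bool.rec (motive := fun _ => Bool) (H9.TCX.mRelD MG [T_yi, T_yi, T_q, T_y, T_y, T_z, T_q, T_z, T_yi, T_yi, T_q, T_y, T_y, T_z, T_q, T_z] [T_z, T_q, T_z, T_yi, T_yi, T_q, T_y, T_y, T_z, T_q, T_z, T_yi, T_yi, T_q, T_y, T_y] (nat_lit 16) z2 M (Nat.sub (MG u) (Nat.mod (MG u) M)) (nat_lit 40) z1 u (Nat.mod (MG u) M)) (Bool.rec (motive := fun _ => Bool) (H9.TCX.mRelD MG [T_yi, T_z, T_y, T_y, T_q, T_y, T_y, T_z, T_yi, T_z, T_y, T_z, T_y, T_q, T_y,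 T_z, T_y, T_z] [T_z, T_yi, T_z, T_yi, T_q, T_yi, T_z, T_yi, T_z, T_y, T_z, T_yi, T_yi, T_q, T_yi, T_yi, T_z, T_y] (nat_lit 18) z2 M (Nat.sub (MG u) (Nat.mod (MG u) M)) (nat_lit 40) z1 u (Nat.mod (MG u) M)) (H9.TCX.mRelD MG [T_z, T_y, T_y, T_z, T_q, T_y, T_z, T_yi, T_q, T_z, T_yi, T_yi, T_z, T_q, T_yi, T_z, T_y, T_q] [T_q, T_yi, T_z, T_y, T_q, T_z, T_y, T_y, T_z, T_q, T_y, T_z, T_yi, T_q, T_z, T_yi, T_yi, T_z] (nat_lit 18) z2 M (Nat.sub (MG u) (Nat.mod (MG u) M)) (nat_lit 40) z1 u (Nat.mod (MG u) M)) (Nat.ble (nat_lit 229) j)) (Nat.ble (nat_lit 228) j)) (Nat.ble (nat_lit 227) j)) (Nat.ble (nat_lit 225) j)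
noncomputable def dM_50 (j z1 z2 u : ℕ) : Bool :=
  Bool.rec (motive := fun _ => Bool) (dM_48 j z1 z2 u) (dM_49 j z1 z2 u) (Nat.ble (nat_lit 221) j)
noncomputable def dM_51 (j z1 z2 u : ℕ) : Bool :=
  Bool.rec (motive := fun _ => Bool) (Bool.rec (motive := fun _ => Bool) (Bool.rec (motive := fun _ => Bool) (H9.TCX.mRelD MG [T_y, T_z, T_q, T_z, T_yi, T_yi, T_q, T_y, T_y, T_z, T_q, T_z, T_yi, T_yi, T_q, T_y] [T_yi, T_q, T_y, T_y, T_z, T_q, T_z, T_yi, T_yi, T_q, T_y, T_y, T_z, T_q, T_z, T_yi] (nat_lit 16) z2 M (Nat.sub (MG u) (Nat.mod (MG u) M)) (nat_lit 40) z1 u (Nat.mod (MG u) M)) (H9.TCX.mRelD MG [T_yi, T_z, T_y, T_z, T_y, T_q, T_y, T_z, T_y, T_z, T_yi, T_z, T_y, T_y, T_q, T_y, T_y, T_z] [T_z, T_yi, T_yi, T_q, T_yi, T_yi, T_z, T_y, T_z, T_yi, T_z, T_yi, T_q, T_yi, T_z, T_yi, T_z, T_y] (nat_lit 18) z2 M (Nat.sub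 (MG u) (Nat.mod (MG u) M)) (nat_lit 40) z1 u (Nat.mod (MG u) M)) (Nat.ble (nat_lit 231) j)) (Bool.rec (motive := fun _ => Bool) (H9.TCX.mRelD MG [T_z, T_q, T_z, T_v, T_z, T_v, T_z, T_q, T_z, T_v, T_q, T_v, T_q, T_v] [T_v, T_q, T_v, T_q, T_v, T_z, T_q, T_z, T_v, T_z, T_v, T_z, T_q, T_z] (nat_lit 14) z2 M (Nat.sub (MG u) (Nat.mod (MG u) M)) (nat_lit 40) z1 u (Nat.mod (MG u) M)) (Bool.rec (motive := fun _ => Bool) (H9.TCX.mRelD MG [T_y, T_q, T_z, T_yi, T_q, T_y, T_q, T_z, T_yi, T_z, T_q, T_y, T_q, T_yi, T_z, T_q] [T_q, T_z, T_y, T_q, T_yi, T_q, T_z, T_y, T_z, T_q, T_yi, T_q, T_y, T_z, T_q, T_yi] (nat_lit 16) z2 M (Nat.sub (MG u) (Nat.mod (MG u) M)) (nat_lit 40) z1 u (Nat.mod (MG u) M)) (H9.TCX.mRelD MG [T_z, T_q, T_yi, T_z, T_y, T_q, T_z, T_y, T_y, T_z, T_q, T_y, T_z, T_yi, T_q, T_z, T_yi, T_yi] [T_y, T_y, T_z,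 T_q, T_y, T_z, T_yi, T_q, T_z, T_yi, T_yi, T_z, T_q, T_yi, T_z, T_y, T_q, T_z] (nat_lit 18) z2 M (Nat.sub (MG u) (Nat.mod (MG u) M)) (nat_lit 40) z1 u (Nat.mod (MG u) M)) (Nat.ble (nat_lit 234) j)) (Nat.ble (nat_lit 233) j)) (Nat.ble (nat_lit 232) j)) (Bool.rec (motive := fun _ => Bool) (Bool.rec (motive := fun _ => Bool) (H9.TCX.mRelD MG [T_z, T_q, T_y, T_z, T_yi, T_z, T_q, T_y, T_q, T_z, T_yi, T_z, T_y, T_q, T_z, T_yi] [T_y, T_z, T_q, T_yi, T_z, T_y, T_z, T_q, T_yi, T_q, T_z, T_y, T_z, T_yi, T_q, T_z] (nat_lit 16) z2 M (Nat.sub (MG u) (Nat.mod (MG u) M)) (nat_lit 40) z1 u (Nat.mod (MG u) M)) (H9.TCX.mRelD MG [T_y, T_z, T_yi, T_z, T_y, T_y, T_q, T_y, T_y, T_z, T_yi, T_z, T_y, T_z, T_y, T_q, T_y, T_z] [T_z, T_yi, T_q, T_yi, T_z, T_yi, T_z, T_y, T_z, T_yi, T_yi, T_q, T_yi, T_yi, T_z, T_y, T_z, T_yi] (nat_lit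 18) z2 M (Nat.sub (MG u) (Nat.mod (MG u) M)) (nat_lit 40) z1 u (Nat.mod (MG u) M)) (Nat.ble (nat_lit 236) j)) (Bool.rec (motive := fun _ => Bool) (H9.TCX.mRelD MG [T_q, T_yi, T_yi, T_q, T_z, T_yi, T_z, T_y, T_z, T_q, T_y, T_y, T_q, T_z, T_y, T_z, T_yi, T_z] [T_z, T_y, T_z, T_yi, T_z, T_q, T_yi, T_yi, T_q, T_z, T_yi, T_z, T_y, T_z, T_q, T_y, T_y, T_q] (nat_lit 18) z2 M (Nat.sub (MG u) (Nat.mod (MG u) M)) (nat_lit 40) z1 u (Nat.mod (MG u) M)) (Bool.rec (motive := fun _ => Bool) (H9.TCX.mRelD MG [T_z, T_q, T_y, T_q, T_z, T_yi, T_q, T_y, T_q, T_z, T_yi, T_z, T_q, T_y, T_q, T_yi] [T_y, T_q, T_yi, T_q, T_z, T_y, T_z, T_q, T_yi, T_q, T_y, T_z, T_q, T_yi, T_q, T_z] (nat_lit 16) z2 M (Nat.sub (MG u) (Nat.mod (MG u) M)) (nat_lit 40) z1 u (Nat.mod (MG u) M)) (H9.TCX.mRelD MG [T_z, T_q, T_y, T_z, T_yi, T_z, T_q, T_yi,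 T_yi, T_z, T_q, T_yi, T_z, T_y, T_z, T_q, T_y, T_y] [T_yi, T_yi, T_q, T_z, T_yi, T_z, T_y, T_q, T_z, T_y, T_y, T_q, T_z, T_y, T_z, T_yi, T_q, T_z] (nat_lit 18) z2 M (Nat.sub (MG u) (Nat.mod (MG u) M)) (nat_lit 40) z1 u (Nat.mod (MG u) M)) (Nat.ble (nat_lit 239) j)) (Nat.ble (nat_lit 238) j)) (Nat.ble (nat_lit 237) j)) (Nat.ble (nat_lit 235) j)
noncomputable def dM_52 (j z1 z2 u : ℕ) : Bool :=
  Bool.rec (motive := fun _ => Bool) (Bool.rec (motive := fun _ => Bool) (Bool.rec (motive := fun _ => Bool) (H9.TCX.mRelD MG [T_q, T_z, T_y, T_y, T_z, T_q, T_y, T_z, T_yi, T_q, T_z, T_yi, T_yi, T_z, T_q, T_yi, T_z, T_y] [T_yi, T_z, T_y, T_q, T_z, T_y, T_y, T_z, T_q, T_y, T_z, T_yi, T_q, T_z, T_yi, T_yi, T_z, T_q] (nat_lit 18) z2 M (Nat.sub (MG u) (Nat.mod (MG u) M)) (nat_lit 40) z1 u (Nat.mod (MG u) M)) (H9.TCX.mRelD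 MG [T_z, T_v, T_z, T_q, T_z, T_q, T_v, T_z, T_q, T_v, T_q] [T_q, T_v, T_q, T_z, T_v, T_q, T_z, T_q, T_z, T_v, T_z] (nat_lit 11) z2 M (Nat.sub (MG u) (Nat.mod (MG u) M)) (nat_lit 40) z1 u (Nat.mod (MG u) M)) (Nat.ble (nat_lit 241) j)) (Bool.rec (motive := fun _ => Bool) (H9.TCX.mRelD MG [T_yi, T_q, T_z, T_y, T_q, T_yi, T_q, T_z, T_y, T_z, T_q, T_yi, T_q, T_y, T_z, T_q] [T_q, T_z, T_yi, T_q, T_y, T_q, T_z, T_yi, T_z, T_q, T_y, T_q, T_yi, T_z, T_q, T_y] (nat_lit 16) z2 M (Nat.sub (MG u) (Nat.mod (MG u) M)) (nat_lit 40) z1 u (Nat.mod (MG u) M)) (Bool.rec (motive := fun _ => Bool) (H9.TCX.mRelD MG [T_q, T_z, T_yi, T_q, T_y, T_q, T_z, T_yi, T_z, T_q, T_y, T_q, T_yi, T_z, T_q, T_y] [T_yi, T_q, T_z, T_y, T_q, T_yi, T_q, T_z, T_y, T_z, T_q, T_yi, T_q, T_y, T_z, T_q] (nat_lit 16) z2 M (Nat.sub (MG u) (Nat.mod (MG u)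 M)) (nat_lit 40) z1 u (Nat.mod (MG u) M)) (H9.TCX.mRelD MG [T_y, T_y, T_q, T_yi, T_yi, T_yi, T_q, T_yi, T_yi, T_yi, T_q, T_yi, T_yi, T_yi, T_q, T_y] [T_yi, T_q, T_y, T_y, T_y, T_q, T_y, T_y, T_y, T_q, T_y, T_y, T_y, T_q, T_yi, T_yi] (nat_lit 16) z2 M (Nat.sub (MG u) (Nat.mod (MG u) M)) (nat_lit 40) z1 u (Nat.mod (MG u) M)) (Nat.ble (nat_lit 244) j)) (Nat.ble (nat_lit 243) j)) (Nat.ble (nat_lit 242) j)) (Bool.rec (motive := fun _ => Bool) (Bool.rec (motive := fun _ => Bool) (H9.TCX.mRelD MG [T_y, T_z, T_q, T_z, T_q, T_v, T_yi, T_v, T_q, T_z, T_q, T_z] [T_z, T_q, T_z, T_q, T_v, T_y, T_v, T_q, T_z, T_q, T_z, T_yi] (nat_lit 12) z2 M (Nat.sub (MG u) (Nat.mod (MG u) M)) (nat_lit 40) z1 u (Nat.mod (MG u) M)) (H9.TCX.mRelD MG [T_q, T_z, T_y, T_z, T_yi, T_q, T_z, T_yi, T_yi, T_q, T_z, T_yi, T_z, T_y, T_q, T_z, T_y,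 T_y] [T_yi, T_yi, T_z, T_q, T_yi, T_z, T_y, T_z, T_q, T_y, T_y, T_z, T_q, T_y, T_z, T_yi, T_z, T_q] (nat_lit 18) z2 M (Nat.sub (MG u) (Nat.mod (MG u) M)) (nat_lit 40) z1 u (Nat.mod (MG u) M)) (Nat.ble (nat_lit 246) j)) (Bool.rec (motive := fun _ => Bool) (H9.TCX.mRelD MG [T_y, T_q, T_z, T_q, T_z, T_y, T_y, T_y, T_q, T_z, T_q, T_z, T_y, T_y] [T_yi, T_yi, T_z, T_q, T_z, T_q, T_yi, T_yi, T_yi, T_z, T_q, T_z, T_q, T_yi] (nat_lit 14) z2 M (Nat.sub (MG u) (Nat.mod (MG u) M)) (nat_lit 40) z1 u (Nat.mod (MG u) M)) (Bool.rec (motive := fun _ => Bool) (H9.TCX.mRelD MG [T_q, T_z, T_y, T_y, T_z, T_q, T_y, T_y, T_y, T_q, T_z, T_y, T_y, T_z, T_q, T_y, T_y, T_y, T_q, T_z, T_y, T_y, T_z, T_q, T_y, T_y, T_y] [T_yi, T_yi, T_yi, T_q, T_z, T_yi, T_yi, T_z, T_q, T_yi, T_yi, T_yi, T_q, T_z, T_yi, T_yi, T_z, T_q, T_yi, T_yi, T_yi,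 T_q, T_z, T_yi, T_yi, T_z, T_q] (nat_lit 27) z2 M (Nat.sub (MG u) (Nat.mod (MG u) M)) (nat_lit 40) z1 u (Nat.mod (MG u) M)) (H9.TCX.mRelD MG [T_y, T_y, T_q, T_yi, T_yi, T_z, T_q, T_z, T_y, T_y, T_q, T_yi, T_yi, T_z, T_q, T_z] [T_z, T_q, T_z, T_y, T_y, T_q, T_yi, T_yi, T_z, T_q, T_z, T_y, T_y, T_q, T_yi, T_yi] (nat_lit 16) z2 M (Nat.sub (MG u) (Nat.mod (MG u) M)) (nat_lit 40) z1 u (Nat.mod (MG u) M)) (Nat.ble (nat_lit 249) j)) (Nat.ble (nat_lit 248) j)) (Nat.ble (nat_lit 247) j)) (Nat.ble (nat_lit 245) j)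
noncomputable def dM_53 (j z1 z2 u : ℕ) : Bool :=
  Bool.rec (motive := fun _ => Bool) (dM_51 j z1 z2 u) (dM_52 j z1 z2 u) (Nat.ble (nat_lit 240) j)
noncomputable def dM_54 (j z1 z2 u : ℕ) : Bool :=
  Bool.rec (motive := fun _ => Bool) (dM_50 j z1 z2 u) (dM_53 j z1 z2 u) (Nat.ble (nat_lit 230) j)
noncomputable def dM_55 (j z1 z2 u : ℕ) : Bool :=
  Bool.rec (motive := fun _ => Bool) (Bool.rec (motive := fun _ => Bool) (Bool.rec (motive := fun _ => Bool) (H9.TCX.mRelD MG [T_y, T_y, T_z, T_q, T_z, T_yi, T_yi, T_q, T_y, T_y, T_z, T_q, T_z, T_yi, T_yi, T_q] [T_q, T_y, T_y, T_z, T_q, T_z, T_yi, T_yi, T_q, T_y, T_y, T_z, T_q, T_z, T_yi, T_yi] (nat_lit 16) z2 M (Nat.sub (MG u) (Nat.mod (MG u) M)) (nat_lit 40) z1 u (Nat.mod (MG u) M)) (H9.TCX.mRelD MG [T_y, T_z, T_yi, T_yi, T_q, T_yi, T_yi, T_z, T_y, T_z, T_yi, T_z,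 T_yi, T_q, T_yi, T_z, T_yi, T_z] [T_z, T_y, T_z, T_y, T_q, T_y, T_z, T_y, T_z, T_yi, T_z, T_y, T_y, T_q, T_y, T_y, T_z, T_yi] (nat_lit 18) z2 M (Nat.sub (MG u) (Nat.mod (MG u) M)) (nat_lit 40) z1 u (Nat.mod (MG u) M)) (Nat.ble (nat_lit 251) j)) (Bool.rec (motive := fun _ => Bool) (H9.TCX.mRelD MG [T_yi, T_z, T_y, T_q, T_z, T_y, T_y, T_q, T_z, T_y, T_z, T_yi, T_q, T_z, T_yi, T_yi, T_q, T_z] [T_z, T_q, T_y, T_y, T_z, T_q, T_y, T_z, T_yi, T_z, T_q, T_yi, T_yi, T_z, T_q, T_yi, T_z, T_y] (nat_lit 18) z2 M (Nat.sub (MG u) (Nat.mod (MG u) M)) (nat_lit 40) z1 u (Nat.mod (MG u) M)) (Bool.rec (motive := fun _ => Bool) (H9.TCX.mRelD MG [T_q, T_z, T_q, T_v, T_yi, T_v, T_q, T_z, T_q, T_z, T_y, T_z] [T_z, T_yi, T_z, T_q, T_z, T_q, T_v, T_y, T_v, T_q, T_z, T_q] (nat_lit 12) z2 M (Nat.sub (MG u) (Nat.mod (MG u) M)) (nat_lit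 40) z1 u (Nat.mod (MG u) M)) (H9.TCX.mRelD MG [T_yi, T_z, T_q, T_z, T_y, T_y, T_q, T_yi, T_yi, T_z, T_q, T_z, T_y, T_y, T_q, T_yi] [T_y, T_q, T_yi, T_yi, T_z, T_q, T_z, T_y, T_y, T_q, T_yi, T_yi, T_z, T_q, T_z, T_y] (nat_lit 16) z2 M (Nat.sub (MG u) (Nat.mod (MG u) M)) (nat_lit 40) z1 u (Nat.mod (MG u) M)) (Nat.ble (nat_lit 254) j)) (Nat.ble (nat_lit 253) j)) (Nat.ble (nat_lit 252) j)) (Bool.rec (motive := fun _ => Bool) (Bool.rec (motive := fun _ => Bool) (H9.TCX.mRelD MG [T_q, T_v, T_q, T_z, T_v, T_z, T_q, T_z, T_q, T_v, T_z] [T_z, T_v, T_q, T_z, T_q, T_z, T_v, T_z, T_q, T_v, T_q] (nat_lit 11) z2 M (Nat.sub (MG u) (Nat.mod (MG u) M)) (nat_lit 40) z1 u (Nat.mod (MG u) M)) (Bool.rec (motive := fun _ => Bool) (H9.TCX.mRelD MG [T_z, T_y, T_z, T_yi, T_z, T_q, T_yi, T_yi, T_q, T_z, T_yi, T_z, T_y, T_z, T_q, T_y,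 T_y, T_q] [T_q, T_yi, T_yi, T_q, T_z, T_yi, T_z, T_y, T_z, T_q, T_y, T_y, T_q, T_z, T_y, T_z, T_yi, T_z] (nat_lit 18) z2 M (Nat.sub (MG u) (Nat.mod (MG u) M)) (nat_lit 40) z1 u (Nat.mod (MG u) M)) (H9.TCX.mRelD MG [T_y, T_y, T_q, T_z, T_y, T_y, T_z, T_q, T_y, T_y, T_y, T_q, T_z, T_y, T_y, T_z, T_q, T_y, T_y, T_y, T_q, T_z, T_y, T_y, T_z, T_q, T_y] [T_yi, T_q, T_z, T_yi, T_yi, T_z, T_q, T_yi, T_yi, T_yi, T_q, T_z, T_yi, T_yi, T_z, T_q, T_yi, T_yi, T_yi, T_q, T_z, T_yi, T_yi, T_z, T_q, T_yi, T_yi] (nat_lit 27) z2 M (Nat.sub (MG u) (Nat.mod (MG u) M)) (nat_lit 40) z1 u (Nat.mod (MG u) M)) (Nat.ble (nat_lit 257) j)) (Nat.ble (nat_lit 256) j)) (Bool.rec (motive := fun _ => Bool) (H9.TCX.mRelD MG [T_y, T_z, T_q, T_y, T_z, T_q, T_y, T_z, T_q, T_y, T_z, T_q, T_y, T_z, T_q, T_y, T_z, T_q, T_y, T_z, T_q, T_y, T_z, T_q]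 [T_q, T_z, T_yi, T_q, T_z, T_yi, T_q, T_z, T_yi, T_q, T_z, T_yi, T_q, T_z, T_yi, T_q, T_z, T_yi, T_q, T_z, T_yi, T_q, T_z, T_yi] (nat_lit 24) z2 M (Nat.sub (MG u) (Nat.mod (MG u) M)) (nat_lit 40) z1 u (Nat.mod (MG u) M)) (Bool.rec (motive := fun _ => Bool) (H9.TCX.mRelD MG [T_z, T_y, T_z, T_q, T_y, T_y, T_q, T_z, T_y, T_z, T_yi, T_z, T_q, T_yi, T_yi, T_q, T_z, T_yi] [T_y, T_z, T_q, T_y, T_y, T_q, T_z, T_y, T_z, T_yi, T_z, T_q, T_yi, T_yi, T_q, T_z, T_yi, T_z] (nat_lit 18) z2 M (Nat.sub (MG u) (Nat.mod (MG u) M)) (nat_lit 40) z1 u (Nat.mod (MG u) M)) (H9.TCX.mRelD MG [T_z, T_yi, T_z, T_y, T_q, T_z, T_y, T_y, T_q, T_z, T_y, T_z, T_yi, T_q, T_z, T_yi, T_yi, T_q] [T_q, T_y, T_y, T_z, T_q, T_y, T_z, T_yi, T_z, T_q, T_yi, T_yi, T_z, T_q, T_yi, T_z, T_y, T_z] (nat_lit 18) z2 M (Nat.sub (MG u) (Nat.mod (MG u) M))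 (nat_lit 40) z1 u (Nat.mod (MG u) M)) (Nat.ble (nat_lit 260) j)) (Nat.ble (nat_lit 259) j)) (Nat.ble (nat_lit 258) j)) (Nat.ble (nat_lit 255) j)
noncomputable def dM_56 (j z1 z2 u : ℕ) : Bool :=
  Bool.rec (motive := fun _ => Bool) (Bool.rec (motive := fun _ => Bool) (Bool.rec (motive := fun _ => Bool) (H9.TCX.mRelD MG [T_yi, T_z, T_y, T_z, T_q, T_y, T_y, T_q, T_z, T_y, T_z, T_yi, T_z, T_q, T_yi, T_yi, T_q, T_z] [T_z, T_q, T_y, T_y, T_q, T_z, T_y, T_z, T_yi, T_z, T_q, T_yi, T_yi, T_q, T_z, T_yi, T_z, T_y] (nat_lit 18) z2 M (Nat.sub (MG u) (Nat.mod (MG u) M)) (nat_lit 40) z1 u (Nat.mod (MG u) M)) (H9.TCX.mRelD MG [T_yi, T_q, T_z, T_yi, T_z, T_y, T_q, T_z, T_y, T_y, T_q, T_z, T_y, T_z, T_yi, T_q, T_z, T_yi] [T_y, T_z, T_q, T_y, T_z, T_yi, T_z, T_q, T_yi, T_yi, T_z, T_q, T_yi, T_z, T_y, T_z, T_q, T_y] (nat_lit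 18) z2 M (Nat.sub (MG u) (Nat.mod (MG u) M)) (nat_lit 40) z1 u (Nat.mod (MG u) M)) (Nat.ble (nat_lit 262) j)) (Bool.rec (motive := fun _ => Bool) (H9.TCX.mRelD MG [T_z, T_q, T_y, T_y, T_y, T_q, T_z, T_y, T_y, T_z, T_q, T_y, T_y, T_y, T_q, T_z, T_y, T_y, T_z, T_q, T_y, T_y, T_y, T_q, T_z, T_y, T_y] [T_yi, T_yi, T_z, T_q, T_yi, T_yi, T_yi, T_q, T_z, T_yi, T_yi, T_z, T_q, T_yi, T_yi, T_yi, T_q, T_z, T_yi, T_yi, T_z, T_q, T_yi, T_yi, T_yi, T_q, T_z] (nat_lit 27) z2 M (Nat.sub (MG u) (Nat.mod (MG u) M)) (nat_lit 40) z1 u (Nat.mod (MG u) M)) (Bool.rec (motive := fun _ => Bool) (H9.TCX.mRelD MG [T_y, T_z, T_q, T_yi, T_z, T_y, T_z, T_q, T_yi, T_q, T_z, T_y, T_z, T_yi, T_q, T_z] [T_z, T_q, T_y, T_z, T_yi, T_z, T_q, T_y, T_q, T_z, T_yi, T_z, T_y, T_q, T_z, T_yi] (nat_lit 16) z2 M (Nat.sub (MG u) (Nat.mod (MG u) M))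 (nat_lit 40) z1 u (Nat.mod (MG u) M)) (H9.TCX.mRelD MG [T_z, T_yi, T_z, T_y, T_z, T_q, T_y, T_y, T_q, T_z, T_y, T_z, T_yi, T_z, T_q, T_yi, T_yi, T_q] [T_q, T_y, T_y, T_q, T_z, T_y, T_z, T_yi, T_z, T_q, T_yi, T_yi, T_q, T_z, T_yi, T_z, T_y, T_z] (nat_lit 18) z2 M (Nat.sub (MG u) (Nat.mod (MG u) M)) (nat_lit 40) z1 u (Nat.mod (MG u) M)) (Nat.ble (nat_lit 265) j)) (Nat.ble (nat_lit 264) j)) (Nat.ble (nat_lit 263) j)) (Bool.rec (motive := fun _ => Bool) (Bool.rec (motive := fun _ => Bool) (H9.TCX.mRelD MG [T_yi, T_yi, T_q, T_yi, T_q, T_y, T_y, T_q, T_y, T_y, T_y, T_q, T_yi, T_q, T_yi, T_q] [T_q, T_y, T_q, T_y, T_q, T_yi, T_yi, T_yi, T_q, T_yi, T_yi, T_q, T_y, T_q, T_y, T_y] (nat_lit 16) z2 M (Nat.sub (MG u) (Nat.mod (MG u) M)) (nat_lit 40) z1 u (Nat.mod (MG u) M)) (Bool.rec (motive := fun _ => Bool) (H9.TCX.mRelD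 MG [T_y, T_z, T_q, T_yi, T_z, T_y, T_q, T_z, T_yi, T_q, T_z, T_y, T_z, T_yi, T_z, T_q] [T_q, T_z, T_y, T_z, T_yi, T_z, T_q, T_y, T_z, T_q, T_yi, T_z, T_y, T_q, T_z, T_yi] (nat_lit 16) z2 M (Nat.sub (MG u) (Nat.mod (MG u) M)) (nat_lit 40) z1 u (Nat.mod (MG u) M)) (H9.TCX.mRelD MG [T_q, T_yi, T_yi, T_yi, T_z, T_q, T_z, T_q, T_yi, T_yi, T_yi, T_z, T_q, T_z] [T_z, T_q, T_z, T_y, T_y, T_y, T_q, T_z, T_q, T_z, T_y, T_y, T_y, T_q] (nat_lit 14) z2 M (Nat.sub (MG u) (Nat.mod (MG u) M)) (nat_lit 40) z1 u (Nat.mod (MG u) M)) (Nat.ble (nat_lit 268) j)) (Nat.ble (nat_lit 267) j)) (Bool.rec (motive := fun _ => Bool) (H9.TCX.mRelD MG [T_yi, T_q, T_yi, T_yi, T_yi, T_q, T_yi, T_yi, T_yi, T_q, T_y, T_y, T_y, T_q, T_yi, T_yi] [T_y, T_y, T_q, T_yi, T_yi, T_yi, T_q, T_y, T_y, T_y, T_q, T_y, T_y, T_y, T_q, T_y] (nat_lit 16) z2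 M (Nat.sub (MG u) (Nat.mod (MG u) M)) (nat_lit 40) z1 u (Nat.mod (MG u) M)) (Bool.rec (motive := fun _ => Bool) (H9.TCX.mRelD MG [T_v, T_z, T_q, T_z, T_v, T_q, T_v, T_q, T_v, T_z, T_q, T_z, T_v, T_z] [T_z, T_v, T_z, T_q, T_z, T_v, T_q, T_v, T_q, T_v, T_z, T_q, T_z, T_v] (nat_lit 14) z2 M (Nat.sub (MG u) (Nat.mod (MG u) M)) (nat_lit 40) z1 u (Nat.mod (MG u) M)) (H9.TCX.mRelD MG [T_y, T_z, T_yi, T_z, T_q, T_yi, T_yi, T_q, T_z, T_yi, T_z, T_y, T_z, T_q, T_y, T_y, T_q, T_z] [T_z, T_q, T_yi, T_yi, T_q, T_z, T_yi, T_z, T_y, T_z, T_q, T_y, T_y, T_q, T_z, T_y, T_z, T_yi] (nat_lit 18) z2 M (Nat.sub (MG u) (Nat.mod (MG u) M)) (nat_lit 40) z1 u (Nat.mod (MG u) M)) (Nat.ble (nat_lit 271) j)) (Nat.ble (nat_lit 270) j)) (Nat.ble (nat_lit 269) j)) (Nat.ble (nat_lit 266) j)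
noncomputable def dM_57 (j z1 z2 u : ℕ) : Bool :=
  Bool.rec (motive := fun _ => Bool) (dM_55 j z1 z2 u) (dM_56 j z1 z2 u) (Nat.ble (nat_lit 261) j)
noncomputable def dM_58 (j z1 z2 u : ℕ) : Bool :=
  Bool.rec (motive := fun _ => Bool) (Bool.rec (motive := fun _ => Bool) (Bool.rec (motive := fun _ => Bool) (H9.TCX.mRelD MG [T_q, T_y, T_y, T_z, T_q, T_z, T_yi, T_yi, T_q, T_y, T_y, T_z, T_q, T_z, T_yi, T_yi] [T_y, T_y, T_z, T_q, T_z, T_yi, T_yi, T_q, T_y, T_y, T_z, T_q, T_z, T_yi, T_yi, T_q] (nat_lit 16) z2 M (Nat.sub (MG u) (Nat.mod (MG u) M)) (nat_lit 40) z1 u (Nat.mod (MG u) M)) (Bool.rec (motive := fun _ => Bool) (H9.TCX.mRelD MG [T_q, T_y, T_y, T_z, T_q, T_y, T_z, T_yi, T_z, T_q, T_yi, T_yi, T_z, T_q, T_yi, T_z, T_y, T_z] [T_z, T_yi, T_z, T_y, T_q, T_z, T_y, T_y, T_q, T_z, T_y, T_z, T_yi, T_q, T_z, T_yi,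 T_yi, T_q] (nat_lit 18) z2 M (Nat.sub (MG u) (Nat.mod (MG u) M)) (nat_lit 40) z1 u (Nat.mod (MG u) M)) (H9.TCX.mRelD MG [T_yi, T_q, T_y, T_y, T_z, T_q, T_z, T_yi, T_yi, T_q, T_y, T_y, T_z, T_q, T_z, T_yi] [T_y, T_z, T_q, T_z, T_yi, T_yi, T_q, T_y, T_y, T_z, T_q, T_z, T_yi, T_yi, T_q, T_y] (nat_lit 16) z2 M (Nat.sub (MG u) (Nat.mod (MG u) M)) (nat_lit 40) z1 u (Nat.mod (MG u) M)) (Nat.ble (nat_lit 274) j)) (Nat.ble (nat_lit 273) j)) (Bool.rec (motive := fun _ => Bool) (H9.TCX.mRelD MG [T_y, T_q, T_z, T_y, T_z, T_yi, T_q, T_z, T_yi, T_yi, T_q, T_z, T_yi, T_z, T_y, T_q, T_z, T_y] [T_yi, T_z, T_q, T_yi, T_z, T_y, T_z, T_q, T_y, T_y, T_z, T_q, T_y, T_z, T_yi, T_z, T_q, T_yi] (nat_lit 18) z2 M (Nat.sub (MG u) (Nat.mod (MG u) M)) (nat_lit 40) z1 u (Nat.mod (MG u) M)) (Bool.rec (motive := fun _ => Bool) (H9.TCX.mRelD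 MG [T_z, T_y, T_z, T_y, T_q, T_y, T_z, T_y, T_z, T_yi, T_z, T_y, T_y, T_q, T_y, T_y, T_z, T_yi] [T_y, T_z, T_yi, T_yi, T_q, T_yi, T_yi, T_z, T_y, T_z, T_yi, T_z, T_yi, T_q, T_yi, T_z, T_yi, T_z] (nat_lit 18) z2 M (Nat.sub (MG u) (Nat.mod (MG u) M)) (nat_lit 40) z1 u (Nat.mod (MG u) M)) (H9.TCX.mRelD MG [T_y, T_y, T_z, T_q, T_y, T_y, T_y, T_q, T_z, T_y, T_y, T_z, T_q, T_y, T_y, T_y, T_q, T_z, T_y, T_y, T_z, T_q, T_y, T_y, T_y, T_q, T_z] [T_z, T_q, T_yi, T_yi, T_yi, T_q, T_z, T_yi, T_yi, T_z, T_q, T_yi, T_yi, T_yi, T_q, T_z, T_yi, T_yi, T_z, T_q, T_yi, T_yi, T_yi, T_q, T_z, T_yi, T_yi] (nat_lit 27) z2 M (Nat.sub (MG u) (Nat.mod (MG u) M)) (nat_lit 40) z1 u (Nat.mod (MG u) M)) (Nat.ble (nat_lit 277) j)) (Nat.ble (nat_lit 276) j)) (Nat.ble (nat_lit 275) j)) (Bool.rec (motive := fun _ => Bool) (Bool.rec (motive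 := fun _ => Bool) (H9.TCX.mRelD MG [T_yi, T_yi, T_z, T_q, T_yi, T_yi, T_yi, T_q, T_z, T_yi, T_yi, T_z, T_q, T_yi, T_yi, T_yi, T_q, T_z, T_yi, T_yi, T_z, T_q, T_yi, T_yi, T_yi, T_q, T_z] [T_z, T_q, T_y, T_y, T_y, T_q, T_z, T_y, T_y, T_z, T_q, T_y, T_y, T_y, T_q, T_z, T_y, T_y, T_z, T_q, T_y, T_y, T_y, T_q, T_z, T_y, T_y] (nat_lit 27) z2 M (Nat.sub (MG u) (Nat.mod (MG u) M)) (nat_lit 40) z1 u (Nat.mod (MG u) M)) (Bool.rec (motive := fun _ => Bool) (H9.TCX.mRelD MG [T_y, T_z, T_q, T_yi, T_q, T_y, T_z, T_q, T_yi, T_q, T_z, T_y, T_q, T_yi, T_q, T_z] [T_z, T_q, T_y, T_q, T_yi, T_z, T_q, T_y, T_q, T_z, T_yi, T_q, T_y, T_q, T_z, T_yi] (nat_lit 16) z2 M (Nat.sub (MG u) (Nat.mod (MG u) M)) (nat_lit 40) z1 u (Nat.mod (MG u) M)) (H9.TCX.mRelD MG [T_q, T_y, T_z, T_q, T_y, T_z, T_q, T_y, T_z, T_q, T_y, T_z, T_q, T_y, T_z,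 T_q, T_y, T_z, T_q, T_y, T_z, T_q, T_y, T_z] [T_z, T_yi, T_q, T_z, T_yi, T_q, T_z, T_yi, T_q, T_z, T_yi, T_q, T_z, T_yi, T_q, T_z, T_yi, T_q, T_z, T_yi, T_q, T_z, T_yi, T_q] (nat_lit 24) z2 M (Nat.sub (MG u) (Nat.mod (MG u) M)) (nat_lit 40) z1 u (Nat.mod (MG u) M)) (Nat.ble (nat_lit 280) j)) (Nat.ble (nat_lit 279) j)) (Bool.rec (motive := fun _ => Bool) (H9.TCX.mRelD MG [T_yi, T_z, T_q, T_yi, T_z, T_y, T_z, T_q, T_y, T_y, T_z, T_q, T_y, T_z, T_yi, T_z, T_q, T_yi] [T_y, T_q, T_z, T_y, T_z, T_yi, T_q, T_z, T_yi, T_yi, T_q, T_z, T_yi, T_z, T_y, T_q, T_z, T_y] (nat_lit 18) z2 M (Nat.sub (MG u) (Nat.mod (MG u) M)) (nat_lit 40) z1 u (Nat.mod (MG u) M)) (Bool.rec (motive := fun _ => Bool) (H9.TCX.mRelD MG [T_yi, T_z, T_q, T_z, T_q, T_v, T_y, T_v, T_q, T_z, T_q, T_z] [T_z, T_q, T_z, T_q, T_v, T_yi, T_v, T_q, T_z,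 T_q, T_z, T_y] (nat_lit 12) z2 M (Nat.sub (MG u) (Nat.mod (MG u) M)) (nat_lit 40) z1 u (Nat.mod (MG u) M)) (H9.TCX.mRelD MG [T_z, T_q, T_yi, T_yi, T_z, T_q, T_yi, T_z, T_y, T_z, T_q, T_y, T_y, T_z, T_q, T_y, T_z, T_yi] [T_y, T_z, T_yi, T_q, T_z, T_yi, T_yi, T_q, T_z, T_yi, T_z, T_y, T_q, T_z, T_y, T_y, T_q, T_z] (nat_lit 18) z2 M (Nat.sub (MG u) (Nat.mod (MG u) M)) (nat_lit 40) z1 u (Nat.mod (MG u) M)) (Nat.ble (nat_lit 283) j)) (Nat.ble (nat_lit 282) j)) (Nat.ble (nat_lit 281) j)) (Nat.ble (nat_lit 278) j)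
noncomputable def dM_59 (j z1 z2 u : ℕ) : Bool :=
  Bool.rec (motive := fun _ => Bool) (Bool.rec (motive := fun _ => Bool) (Bool.rec (motive := fun _ => Bool) (H9.TCX.mRelD MG [T_z, T_q, T_y, T_z, T_q, T_y, T_z, T_q, T_y, T_z, T_q, T_y, T_z, T_q, T_y, T_z, T_q, T_y, T_z, T_q, T_y, T_z, T_q, T_y] [T_yi, T_q, T_z, T_yi, T_q, T_z, T_yi, T_q, T_z, T_yi, T_q, T_z, T_yi, T_q, T_z, T_yi, T_q, T_z, T_yi, T_q, T_z, T_yi, T_q, T_z] (nat_lit 24) z2 M (Nat.sub (MG u) (Nat.mod (MG u) M)) (nat_lit 40) z1 u (Nat.mod (MG u) M)) (Bool.rec (motive := fun _ => Bool) (H9.TCX.mRelD MG [T_q, T_yi, T_yi, T_q, T_y, T_q, T_y, T_y, T_q, T_y, T_q, T_y, T_q, T_yi, T_yi, T_yi] [T_y, T_y, T_y, T_q, T_yi, T_q, T_yi, T_q, T_yi, T_yi, T_q, T_yi, T_q, T_y, T_y, T_q] (nat_lit 16) z2 M (Nat.sub (MG u) (Nat.mod (MG u) M)) (nat_lit 40) z1 u (Nat.mod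 (MG u) M)) (H9.TCX.mRelD MG [T_z, T_yi, T_z, T_q, T_yi, T_yi, T_q, T_z, T_yi, T_z, T_y, T_z, T_q, T_y, T_y, T_q, T_z, T_y] [T_yi, T_z, T_q, T_yi, T_yi, T_q, T_z, T_yi, T_z, T_y, T_z, T_q, T_y, T_y, T_q, T_z, T_y, T_z] (nat_lit 18) z2 M (Nat.sub (MG u) (Nat.mod (MG u) M)) (nat_lit 40) z1 u (Nat.mod (MG u) M)) (Nat.ble (nat_lit 286) j)) (Nat.ble (nat_lit 285) j)) (Bool.rec (motive := fun _ => Bool) (H9.TCX.mRelD MG [T_y, T_z, T_q, T_z, T_y, T_q, T_y, T_q, T_y, T_z, T_q, T_z, T_y, T_q, T_y, T_q] [T_q, T_yi, T_q, T_yi, T_z, T_q, T_z, T_yi, T_q, T_yi, T_q, T_yi, T_z, T_q, T_z, T_yi] (nat_lit 16) z2 M (Nat.sub (MG u) (Nat.mod (MG u) M)) (nat_lit 40) z1 u (Nat.mod (MG u) M)) (Bool.rec (motive := fun _ => Bool) (H9.TCX.mRelD MG [T_y, T_q, T_y, T_z, T_q, T_z, T_y, T_q, T_y, T_q, T_y, T_z, T_q, T_z, T_y, T_q] [T_q,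 T_yi, T_z, T_q, T_z, T_yi, T_q, T_yi, T_q, T_yi, T_z, T_q, T_z, T_yi, T_q, T_yi] (nat_lit 16) z2 M (Nat.sub (MG u) (Nat.mod (MG u) M)) (nat_lit 40) z1 u (Nat.mod (MG u) M)) (H9.TCX.mRelD MG [T_y, T_y, T_q, T_z, T_y, T_z, T_yi, T_q, T_z, T_yi, T_yi, T_q, T_z, T_yi, T_z, T_y, T_q, T_z] [T_z, T_q, T_yi, T_z, T_y, T_z, T_q, T_y, T_y, T_z, T_q, T_y, T_z, T_yi, T_z, T_q, T_yi, T_yi] (nat_lit 18) z2 M (Nat.sub (MG u) (Nat.mod (MG u) M)) (nat_lit 40) z1 u (Nat.mod (MG u) M)) (Nat.ble (nat_lit 289) j)) (Nat.ble (nat_lit 288) j)) (Nat.ble (nat_lit 287) j)) (Bool.rec (motive := fun _ => Bool) (Bool.rec (motive := fun _ => Bool) (H9.TCX.mRelD MG [T_y, T_y, T_y, T_q, T_z, T_y, T_y, T_z, T_q, T_y, T_y, T_y, T_q, T_z, T_y, T_y, T_z, T_q, T_y, T_y, T_y, T_q, T_z, T_y, T_y, T_z, T_q] [T_q, T_z, T_yi, T_yi, T_z, T_q, T_yi,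 T_yi, T_yi, T_q, T_z, T_yi, T_yi, T_z, T_q, T_yi, T_yi, T_yi, T_q, T_z, T_yi, T_yi, T_z, T_q, T_yi, T_yi, T_yi] (nat_lit 27) z2 M (Nat.sub (MG u) (Nat.mod (MG u) M)) (nat_lit 40) z1 u (Nat.mod (MG u) M)) (Bool.rec (motive := fun _ => Bool) (H9.TCX.mRelD MG [T_yi, T_z, T_q, T_y, T_q, T_yi, T_z, T_q, T_y, T_q, T_z, T_yi, T_q, T_y, T_q, T_z] [T_z, T_q, T_yi, T_q, T_y, T_z, T_q, T_yi, T_q, T_z, T_y, T_q, T_yi, T_q, T_z, T_y] (nat_lit 16) z2 M (Nat.sub (MG u) (Nat.mod (MG u) M)) (nat_lit 40) z1 u (Nat.mod (MG u) M)) (H9.TCX.mRelD MG [T_q, T_y, T_q, T_y, T_q, T_yi, T_yi, T_yi, T_q, T_yi, T_yi, T_q, T_y, T_q, T_y, T_y] [T_yi, T_yi, T_q, T_yi, T_q, T_y, T_y, T_q, T_y, T_y, T_y, T_q, T_yi, T_q, T_yi, T_q] (nat_lit 16) z2 M (Nat.sub (MG u) (Nat.mod (MG u) M)) (nat_lit 40) z1 u (Nat.mod (MG u) M)) (Nat.ble (nat_lit 292)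 j)) (Nat.ble (nat_lit 291) j)) (Bool.rec (motive := fun _ => Bool) (H9.TCX.mRelD MG [T_z, T_q, T_y, T_z, T_q, T_yi, T_z, T_y, T_q, T_z, T_yi, T_q, T_z, T_y, T_z, T_yi] [T_y, T_z, T_yi, T_z, T_q, T_y, T_z, T_q, T_yi, T_z, T_y, T_q, T_z, T_yi, T_q, T_z] (nat_lit 16) z2 M (Nat.sub (MG u) (Nat.mod (MG u) M)) (nat_lit 40) z1 u (Nat.mod (MG u) M)) (Bool.rec (motive := fun _ => Bool) (H9.TCX.mRelD MG [T_y, T_q, T_yi, T_yi, T_z, T_q, T_z, T_y, T_y, T_q, T_yi, T_yi, T_z, T_q, T_z, T_y] [T_yi, T_z, T_q, T_z, T_y, T_y, T_q, T_yi, T_yi, T_z, T_q, T_z, T_y, T_y, T_q, T_yi] (nat_lit 16) z2 M (Nat.sub (MG u) (Nat.mod (MG u) M)) (nat_lit 40) z1 u (Nat.mod (MG u) M)) (H9.TCX.mRelD MG [T_z, T_y, T_q, T_z, T_yi, T_q, T_z, T_y, T_z, T_yi, T_z, T_q, T_y, T_z, T_q, T_yi] [T_y, T_q, T_z, T_yi, T_q, T_z, T_y, T_z, T_yi, T_z, T_q,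 T_y, T_z, T_q, T_yi, T_z] (nat_lit 16) z2 M (Nat.sub (MG u) (Nat.mod (MG u) M)) (nat_lit 40) z1 u (Nat.mod (MG u) M)) (Nat.ble (nat_lit 295) j)) (Nat.ble (nat_lit 294) j)) (Nat.ble (nat_lit 293) j)) (Nat.ble (nat_lit 290) j)
noncomputable def dM_60 (j z1 z2 u : ℕ) : Bool :=
  Bool.rec (motive := fun _ => Bool) (dM_58 j z1 z2 u) (dM_59 j z1 z2 u) (Nat.ble (nat_lit 284) j)
noncomputable def dM_61 (j z1 z2 u : ℕ) : Bool :=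
  Bool.rec (motive := fun _ => Bool) (dM_57 j z1 z2 u) (dM_60 j z1 z2 u) (Nat.ble (nat_lit 272) j)
noncomputable def dM_62 (j z1 z2 u : ℕ) : Bool :=
  Bool.rec (motive := fun _ => Bool) (dM_54 j z1 z2 u) (dM_61 j z1 z2 u) (Nat.ble (nat_lit 250) j)
noncomputable def dM_63 (j z1 z2 u : ℕ) : Bool :=
  Bool.rec (motive := fun _ => Bool) (dM_47 j z1 z2 u) (dM_62 j z1 z2 u) (Nat.ble (nat_lit 212) j)
noncomputable def dM_64 (j z1 z2 u : ℕ) : Bool :=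
  Bool.rec (motive := fun _ => Bool) (Bool.rec (motive := fun _ => Bool) (H9.TCX.mRelD MG [T_q, T_z, T_y, T_z, T_yi, T_z, T_q, T_y, T_z, T_q, T_yi, T_z, T_y, T_q, T_z, T_yi] [T_y, T_z, T_q, T_yi, T_z, T_y, T_q, T_z, T_yi, T_q, T_z, T_y, T_z, T_yi, T_z, T_q] (nat_lit 16) z2 M (Nat.sub (MG u) (Nat.mod (MG u) M)) (nat_lit 40) z1 u (Nat.mod (MG u) M)) (Bool.rec (motive := fun _ => Bool) (H9.TCX.mRelD MG [T_yi, T_z, T_q, T_y, T_z, T_yi, T_z, T_q, T_y, T_q, T_z, T_yi, T_z, T_y, T_q, T_z] [T_z, T_q, T_yi, T_z, T_y, T_z, T_q, T_yi, T_q, T_z, T_y, T_z, T_yi, T_q, T_z, T_y] (nat_lit 16) z2 M (Nat.sub (MG u) (Nat.mod (MG u) M)) (nat_lit 40) z1 u (Nat.mod (MG u) M)) (H9.TCX.mRelD MG [T_q, T_z, T_yi, T_q, T_z, T_yi, T_q, T_z, T_yi, T_q, T_z, T_yi, T_q, T_z, T_yi, T_q, T_z, T_yi, T_q, T_z, T_yi, T_q, T_z, T_yi] [T_y, T_z,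 T_q, T_y, T_z, T_q, T_y, T_z, T_q, T_y, T_z, T_q, T_y, T_z, T_q, T_y, T_z, T_q, T_y, T_z, T_q, T_y, T_z, T_q] (nat_lit 24) z2 M (Nat.sub (MG u) (Nat.mod (MG u) M)) (nat_lit 40) z1 u (Nat.mod (MG u) M)) (Nat.ble (nat_lit 298) j)) (Nat.ble (nat_lit 297) j)) (Bool.rec (motive := fun _ => Bool) (H9.TCX.mRelD MG [T_z, T_q, T_yi, T_yi, T_yi, T_z, T_q, T_z, T_q, T_yi, T_yi, T_yi, T_z, T_q] [T_q, T_z, T_y, T_y, T_y, T_q, T_z, T_q, T_z, T_y, T_y, T_y, T_q, T_z] (nat_lit 14) z2 M (Nat.sub (MG u) (Nat.mod (MG u) M)) (nat_lit 40) z1 u (Nat.mod (MG u) M)) (Bool.rec (motive := fun _ => Bool) (H9.TCX.mRelD MG [T_z, T_yi, T_q, T_y, T_q, T_z, T_yi, T_z, T_q, T_y, T_q, T_yi, T_z, T_q, T_y, T_q] [T_q, T_yi, T_q, T_z, T_y, T_q, T_yi, T_q, T_z, T_y, T_z, T_q, T_yi, T_q, T_y, T_z] (nat_lit 16) z2 M (Nat.sub (MG u) (Nat.mod (MG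 u) M)) (nat_lit 40) z1 u (Nat.mod (MG u) M)) (H9.TCX.mRelD MG [T_z, T_y, T_y, T_z, T_q, T_y, T_y, T_y, T_q, T_z, T_y, T_y, T_z, T_q, T_y, T_y, T_y, T_q, T_z, T_y, T_y, T_z, T_q, T_y, T_y, T_y, T_q] [T_q, T_yi, T_yi, T_yi, T_q, T_z, T_yi, T_yi, T_z, T_q, T_yi, T_yi, T_yi, T_q, T_z, T_yi, T_yi, T_z, T_q, T_yi, T_yi, T_yi, T_q, T_z, T_yi, T_yi, T_z] (nat_lit 27) z2 M (Nat.sub (MG u) (Nat.mod (MG u) M)) (nat_lit 40) z1 u (Nat.mod (MG u) M)) (Nat.ble (nat_lit 301) j)) (Nat.ble (nat_lit 300) j)) (Nat.ble (nat_lit 299) j)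
noncomputable def dM_65 (j z1 z2 u : ℕ) : Bool :=
  Bool.rec (motive := fun _ => Bool) (Bool.rec (motive := fun _ => Bool) (H9.TCX.mRelD MG [T_z, T_q, T_z, T_y, T_y, T_q, T_yi, T_yi, T_z, T_q, T_z, T_y, T_y, T_q, T_yi, T_yi] [T_y, T_y, T_q, T_yi, T_yi, T_z, T_q, T_z, T_y, T_y, T_q, T_yi, T_yi, T_z, T_q, T_z] (nat_lit 16) z2 M (Nat.sub (MG u) (Nat.mod (MG u) M)) (nat_lit 40) z1 u (Nat.mod (MG u) M)) (Bool.rec (motive := fun _ => Bool) (H9.TCX.mRelD MG [T_z, T_yi, T_yi, T_q, T_z, T_yi, T_z, T_y, T_q, T_z, T_y, T_y, T_q, T_z, T_y, T_z, T_yi, T_q] [T_q, T_y, T_z, T_yi, T_z, T_q, T_yi, T_yi, T_z, T_q, T_yi, T_z, T_y, T_z, T_q, T_y, T_y, T_z] (nat_lit 18) z2 M (Nat.sub (MG u) (Nat.mod (MG u) M)) (nat_lit 40) z1 u (Nat.mod (MG u) M)) (H9.TCX.mRelD MG [T_q, T_z, T_yi, T_z, T_y, T_q, T_z, T_yi, T_z, T_q, T_y, T_z,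 T_yi, T_z, T_q, T_y] [T_yi, T_q, T_z, T_y, T_z, T_yi, T_q, T_z, T_y, T_z, T_q, T_yi, T_z, T_y, T_z, T_q] (nat_lit 16) z2 M (Nat.sub (MG u) (Nat.mod (MG u) M)) (nat_lit 40) z1 u (Nat.mod (MG u) M)) (Nat.ble (nat_lit 304) j)) (Nat.ble (nat_lit 303) j)) (Bool.rec (motive := fun _ => Bool) (Bool.rec (motive := fun _ => Bool) (H9.TCX.mRelD MG [T_z, T_yi, T_z, T_q, T_y, T_q, T_yi, T_z, T_q, T_y, T_q, T_z, T_yi, T_q, T_y, T_q] [T_q, T_yi, T_q, T_y, T_z, T_q, T_yi, T_q, T_z, T_y, T_q, T_yi, T_q, T_z, T_y, T_z] (nat_lit 16) z2 M (Nat.sub (MG u) (Nat.mod (MG u) M)) (nat_lit 40) z1 u (Nat.mod (MG u) M)) (H9.TCX.mRelD MG [T_y, T_q, T_yi, T_z, T_q, T_y, T_q, T_z, T_yi, T_q, T_y, T_q, T_z, T_yi, T_z, T_q] [T_q, T_z, T_y, T_z, T_q, T_yi, T_q, T_y, T_z, T_q, T_yi, T_q, T_z, T_y, T_q, T_yi] (nat_lit 16) z2 M (Nat.sub (MG u)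 (Nat.mod (MG u) M)) (nat_lit 40) z1 u (Nat.mod (MG u) M)) (Nat.ble (nat_lit 306) j)) (Bool.rec (motive := fun _ => Bool) (H9.TCX.mRelD MG [T_yi, T_q, T_z, T_yi, T_q, T_z, T_yi, T_q, T_z, T_yi, T_q, T_z, T_yi, T_q, T_z, T_yi, T_q, T_z, T_yi, T_q, T_z, T_yi, T_q, T_z] [T_z, T_q, T_y, T_z, T_q, T_y, T_z, T_q, T_y, T_z, T_q, T_y, T_z, T_q, T_y, T_z, T_q, T_y, T_z, T_q, T_y, T_z, T_q, T_y] (nat_lit 24) z2 M (Nat.sub (MG u) (Nat.mod (MG u) M)) (nat_lit 40) z1 u (Nat.mod (MG u) M)) (H9.TCX.mRelD MG [T_z, T_yi, T_z, T_q, T_yi, T_yi, T_z, T_q, T_yi, T_z, T_y, T_z, T_q, T_y, T_y, T_z, T_q, T_y] [T_yi, T_q, T_z, T_yi, T_yi, T_q, T_z, T_yi, T_z, T_y, T_q, T_z, T_y, T_y, T_q, T_z, T_y, T_z] (nat_lit 18) z2 M (Nat.sub (MG u) (Nat.mod (MG u) M)) (nat_lit 40) z1 u (Nat.mod (MG u) M)) (Nat.ble (nat_lit 308) j)) (Nat.ble (nat_lit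 307) j)) (Nat.ble (nat_lit 305) j)
noncomputable def dM_66 (j z1 z2 u : ℕ) : Bool :=
  Bool.rec (motive := fun _ => Bool) (dM_64 j z1 z2 u) (dM_65 j z1 z2 u) (Nat.ble (nat_lit 302) j)
noncomputable def dM_67 (j z1 z2 u : ℕ) : Bool :=
  Bool.rec (motive := fun _ => Bool) (Bool.rec (motive := fun _ => Bool) (H9.TCX.mRelD MG [T_q, T_yi, T_yi, T_z, T_q, T_z, T_y, T_y, T_q, T_yi, T_yi, T_z, T_q, T_z, T_y, T_y] [T_yi, T_yi, T_z, T_q, T_z, T_y, T_y, T_q, T_yi, T_yi, T_z, T_q, T_z, T_y, T_y, T_q] (nat_lit 16) z2 M (Nat.sub (MG u) (Nat.mod (MG u) M)) (nat_lit 40) z1 u (Nat.mod (MG u) M)) (Bool.rec (motive := fun _ => Bool) (H9.TCX.mRelD MG [T_z, T_q, T_z, T_q, T_yi, T_yi, T_yi, T_z, T_q, T_z, T_q, T_yi, T_yi, T_yi] [T_y, T_y, T_y, T_q, T_z, T_q, T_z, T_y, T_y, T_y, T_q, T_z, T_q, T_z] (nat_lit 14) z2 M (Nat.sub (MG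 u) (Nat.mod (MG u) M)) (nat_lit 40) z1 u (Nat.mod (MG u) M)) (H9.TCX.mRelD MG [T_y, T_y, T_q, T_y, T_q, T_y, T_q, T_yi, T_yi, T_yi, T_q, T_yi, T_yi, T_q, T_y, T_q] [T_q, T_yi, T_q, T_y, T_y, T_q, T_y, T_y, T_y, T_q, T_yi, T_q, T_yi, T_q, T_yi, T_yi] (nat_lit 16) z2 M (Nat.sub (MG u) (Nat.mod (MG u) M)) (nat_lit 40) z1 u (Nat.mod (MG u) M)) (Nat.ble (nat_lit 311) j)) (Nat.ble (nat_lit 310) j)) (Bool.rec (motive := fun _ => Bool) (H9.TCX.mRelD MG [T_q, T_yi, T_q, T_yi, T_z, T_q, T_z, T_yi, T_q, T_yi, T_q, T_yi, T_z, T_q, T_z, T_yi] [T_y, T_z, T_q, T_z, T_y, T_q, T_y, T_q, T_y, T_z, T_q, T_z, T_y, T_q, T_y, T_q] (nat_lit 16) z2 M (Nat.sub (MG u) (Nat.mod (MG u) M)) (nat_lit 40) z1 u (Nat.mod (MG u) M)) (Bool.rec (motive := fun _ => Bool) (H9.TCX.mRelD MG [T_q, T_y, T_q, T_y, T_y, T_q, T_y, T_q, T_y, T_q, T_yi,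 T_yi, T_yi, T_q, T_yi, T_yi] [T_y, T_y, T_q, T_y, T_y, T_y, T_q, T_yi, T_q, T_yi, T_q, T_yi, T_yi, T_q, T_yi, T_q] (nat_lit 16) z2 M (Nat.sub (MG u) (Nat.mod (MG u) M)) (nat_lit 40) z1 u (Nat.mod (MG u) M)) (H9.TCX.mRelD MG [T_z, T_q, T_yi, T_q, T_z, T_y, T_z, T_yi, T_q, T_z, T_y, T_z, T_q, T_yi, T_z, T_y] [T_yi, T_z, T_y, T_q, T_z, T_yi, T_z, T_q, T_y, T_z, T_yi, T_z, T_q, T_y, T_q, T_z] (nat_lit 16) z2 M (Nat.sub (MG u) (Nat.mod (MG u) M)) (nat_lit 40) z1 u (Nat.mod (MG u) M)) (Nat.ble (nat_lit 314) j)) (Nat.ble (nat_lit 313) j)) (Nat.ble (nat_lit 312) j)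
noncomputable def dM_68 (j z1 z2 u : ℕ) : Bool :=
  Bool.rec (motive := fun _ => Bool) (Bool.rec (motive := fun _ => Bool) (H9.TCX.mRelD MG [T_z, T_q, T_v, T_yi, T_v, T_q, T_z, T_q, T_z, T_y, T_z, T_q] [T_q, T_z, T_yi, T_z, T_q, T_z, T_q, T_v, T_y, T_v, T_q, T_z] (nat_lit 12) z2 M (Nat.sub (MG u) (Nat.mod (MG u) M)) (nat_lit 40) z1 u (Nat.mod (MG u) M)) (Bool.rec (motive := fun _ => Bool) (H9.TCX.mRelD MG [T_z, T_y, T_z, T_q, T_yi, T_q, T_y, T_z, T_q, T_yi, T_q, T_z, T_y, T_q, T_yi, T_q] [T_q, T_y, T_q, T_yi, T_z, T_q, T_y, T_q, T_z, T_yi, T_q, T_y, T_q, T_z, T_yi, T_z] (nat_lit 16) z2 M (Nat.sub (MG u) (Nat.mod (MG u) M)) (nat_lit 40) z1 u (Nat.mod (MG u) M)) (H9.TCX.mRelD MG [T_q, T_yi, T_yi, T_z, T_q, T_yi, T_z, T_y, T_z, T_q, T_y, T_y, T_z, T_q, T_y, T_z, T_yi, T_z] [T_z, T_y, T_z, T_yi, T_q, T_z, T_yi,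 T_yi, T_q, T_z, T_yi, T_z, T_y, T_q, T_z, T_y, T_y, T_q] (nat_lit 18) z2 M (Nat.sub (MG u) (Nat.mod (MG u) M)) (nat_lit 40) z1 u (Nat.mod (MG u) M)) (Nat.ble (nat_lit 317) j)) (Nat.ble (nat_lit 316) j)) (Bool.rec (motive := fun _ => Bool) (Bool.rec (motive := fun _ => Bool) (H9.TCX.mRelD MG [T_y, T_q, T_z, T_yi, T_z, T_q, T_y, T_q, T_yi, T_z, T_q, T_y, T_q, T_z, T_yi, T_q] [T_q, T_y, T_z, T_q, T_yi, T_q, T_z, T_y, T_q, T_yi, T_q, T_z, T_y, T_z, T_q, T_yi] (nat_lit 16) z2 M (Nat.sub (MG u) (Nat.mod (MG u) M)) (nat_lit 40) z1 u (Nat.mod (MG u) M)) (H9.TCX.mRelD MG [T_q, T_y, T_y, T_y, T_q, T_z, T_y, T_y, T_z, T_q, T_y, T_y, T_y, T_q, T_z, T_y, T_y, T_z, T_q, T_y, T_y, T_y, T_q, T_z, T_y, T_y, T_z] [T_z, T_yi, T_yi, T_z, T_q, T_yi, T_yi, T_yi, T_q, T_z, T_yi, T_yi, T_z, T_q, T_yi, T_yi, T_yi, T_q, T_z, T_yi,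 T_yi, T_z, T_q, T_yi, T_yi, T_yi, T_q] (nat_lit 27) z2 M (Nat.sub (MG u) (Nat.mod (MG u) M)) (nat_lit 40) z1 u (Nat.mod (MG u) M)) (Nat.ble (nat_lit 319) j)) (Bool.rec (motive := fun _ => Bool) (H9.TCX.mRelD MG [T_y, T_z, T_yi, T_q, T_z, T_yi, T_yi, T_q, T_z, T_yi, T_z, T_y, T_q, T_z, T_y, T_y, T_q, T_z] [T_z, T_q, T_yi, T_yi, T_z, T_q, T_yi, T_z, T_y, T_z, T_q, T_y, T_y, T_z, T_q, T_y, T_z, T_yi] (nat_lit 18) z2 M (Nat.sub (MG u) (Nat.mod (MG u) M)) (nat_lit 40) z1 u (Nat.mod (MG u) M)) (H9.TCX.mRelD MG [T_y, T_q, T_y, T_q, T_y, T_z, T_q, T_z, T_y, T_q, T_y, T_q, T_y, T_z, T_q, T_z] [T_z, T_q, T_z, T_yi, T_q, T_yi, T_q, T_yi, T_z, T_q, T_z, T_yi, T_q, T_yi, T_q, T_yi] (nat_lit 16) z2 M (Nat.sub (MG u) (Nat.mod (MG u) M)) (nat_lit 40) z1 u (Nat.mod (MG u) M)) (Nat.ble (nat_lit 321) j)) (Nat.ble (nat_lit 320)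 j)) (Nat.ble (nat_lit 318) j)
noncomputable def dM_69 (j z1 z2 u : ℕ) : Bool :=
  Bool.rec (motive := fun _ => Bool) (dM_67 j z1 z2 u) (dM_68 j z1 z2 u) (Nat.ble (nat_lit 315) j)
noncomputable def dM_70 (j z1 z2 u : ℕ) : Bool :=
  Bool.rec (motive := fun _ => Bool) (dM_66 j z1 z2 u) (dM_69 j z1 z2 u) (Nat.ble (nat_lit 309) j)
noncomputable def dM_71 (j z1 z2 u : ℕ) : Bool :=
  Bool.rec (motive := fun _ => Bool) (Bool.rec (motive := fun _ => Bool) (H9.TCX.mRelD MG [T_q, T_z, T_y, T_z, T_q, T_yi, T_z, T_y, T_z, T_q, T_yi, T_q, T_z, T_y, T_z, T_yi] [T_y, T_z, T_yi, T_z, T_q, T_y, T_q, T_z, T_yi, T_z, T_y, T_q, T_z, T_yi, T_z, T_q] (nat_lit 16) z2 M (Nat.sub (MG u) (Nat.mod (MG u) M)) (nat_lit 40) z1 u (Nat.mod (MG u) M)) (Bool.rec (motive := fun _ => Bool) (H9.TCX.mRelD MG [T_z, T_q, T_yi, T_z, T_y, T_q, T_z,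 T_yi, T_q, T_z, T_y, T_z, T_yi, T_z, T_q, T_y] [T_yi, T_q, T_z, T_y, T_z, T_yi, T_z, T_q, T_y, T_z, T_q, T_yi, T_z, T_y, T_q, T_z] (nat_lit 16) z2 M (Nat.sub (MG u) (Nat.mod (MG u) M)) (nat_lit 40) z1 u (Nat.mod (MG u) M)) (H9.TCX.mRelD MG [T_q, T_y, T_z, T_q, T_yi, T_q, T_z, T_y, T_q, T_yi, T_q, T_z, T_y, T_z, T_q, T_yi] [T_y, T_q, T_z, T_yi, T_z, T_q, T_y, T_q, T_yi, T_z, T_q, T_y, T_q, T_z, T_yi, T_q] (nat_lit 16) z2 M (Nat.sub (MG u) (Nat.mod (MG u) M)) (nat_lit 40) z1 u (Nat.mod (MG u) M)) (Nat.ble (nat_lit 324) j)) (Nat.ble (nat_lit 323) j)) (Bool.rec (motive := fun _ => Bool) (Bool.rec (motive := fun _ => Bool) (H9.TCX.mRelD MG [T_q, T_z, T_yi, T_yi, T_q, T_z, T_yi, T_z, T_y, T_q, T_z, T_y, T_y, T_q, T_z, T_y, T_z, T_yi] [T_y, T_z, T_yi, T_z, T_q, T_yi, T_yi, T_z, T_q, T_yi, T_z, T_y, T_z, T_q, T_y,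 T_y, T_z, T_q] (nat_lit 18) z2 M (Nat.sub (MG u) (Nat.mod (MG u) M)) (nat_lit 40) z1 u (Nat.mod (MG u) M)) (H9.TCX.mRelD MG [T_y, T_z, T_q, T_yi, T_q, T_z, T_y, T_q, T_yi, T_q, T_z, T_y, T_z, T_q, T_yi, T_q] [T_q, T_y, T_q, T_z, T_yi, T_z, T_q, T_y, T_q, T_yi, T_z, T_q, T_y, T_q, T_z, T_yi] (nat_lit 16) z2 M (Nat.sub (MG u) (Nat.mod (MG u) M)) (nat_lit 40) z1 u (Nat.mod (MG u) M)) (Nat.ble (nat_lit 326) j)) (Bool.rec (motive := fun _ => Bool) (H9.TCX.mRelD MG [T_y, T_z, T_q, T_y, T_y, T_y, T_q, T_z, T_y, T_y, T_z, T_q, T_y, T_y, T_y, T_q, T_z, T_y, T_y, T_z, T_q, T_y, T_y, T_y, T_q, T_z, T_y] [T_yi, T_z, T_q, T_yi, T_yi, T_yi, T_q, T_z, T_yi, T_yi, T_z, T_q, T_yi, T_yi, T_yi, T_q, T_z, T_yi, T_yi, T_z, T_q, T_yi, T_yi, T_yi, T_q, T_z, T_yi] (nat_lit 27) z2 M (Nat.sub (MG u) (Nat.mod (MG u) M)) (nat_lit 40)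 z1 u (Nat.mod (MG u) M)) (H9.TCX.mRelD MG [T_y, T_z, T_yi, T_z, T_q, T_y, T_z, T_q, T_yi, T_z, T_y, T_q, T_z, T_yi, T_q, T_z] [T_z, T_q, T_y, T_z, T_q, T_yi, T_z, T_y, T_q, T_z, T_yi, T_q, T_z, T_y, T_z, T_yi] (nat_lit 16) z2 M (Nat.sub (MG u) (Nat.mod (MG u) M)) (nat_lit 40) z1 u (Nat.mod (MG u) M)) (Nat.ble (nat_lit 328) j)) (Nat.ble (nat_lit 327) j)) (Nat.ble (nat_lit 325) j)
noncomputable def dM_72 (j z1 z2 u : ℕ) : Bool :=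
  Bool.rec (motive := fun _ => Bool) (Bool.rec (motive := fun _ => Bool) (H9.TCX.mRelD MG [T_z, T_q, T_y, T_q, T_z, T_yi, T_z, T_y, T_q, T_z, T_yi, T_z, T_q, T_y, T_z, T_yi] [T_y, T_z, T_yi, T_q, T_z, T_y, T_z, T_q, T_yi, T_z, T_y, T_z, T_q, T_yi, T_q, T_z] (nat_lit 16) z2 M (Nat.sub (MG u) (Nat.mod (MG u) M)) (nat_lit 40) z1 u (Nat.mod (MG u) M)) (Bool.rec (motive := fun _ => Bool) (H9.TCX.mRelD MG [T_q, T_z, T_yi, T_z, T_q, T_y, T_q, T_yi, T_z, T_q, T_y, T_q, T_z, T_yi, T_q, T_y] [T_yi, T_q, T_y, T_z, T_q, T_yi, T_q, T_z, T_y, T_q, T_yi, T_q, T_z, T_y, T_z, T_q] (nat_lit 16) z2 M (Nat.sub (MG u) (Nat.mod (MG u) M)) (nat_lit 40) z1 u (Nat.mod (MG u) M)) (H9.TCX.mRelD MG [T_yi, T_q, T_z, T_y, T_z, T_yi, T_q, T_z, T_y, T_z, T_q, T_yi, T_z, T_y, T_z, T_q] [T_q, T_z, T_yi, T_z, T_y, T_q, T_z, T_yi, T_z, T_q,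 T_y, T_z, T_yi, T_z, T_q, T_y] (nat_lit 16) z2 M (Nat.sub (MG u) (Nat.mod (MG u) M)) (nat_lit 40) z1 u (Nat.mod (MG u) M)) (Nat.ble (nat_lit 331) j)) (Nat.ble (nat_lit 330) j)) (Bool.rec (motive := fun _ => Bool) (Bool.rec (motive := fun _ => Bool) (H9.TCX.mRelD MG [T_q, T_z, T_yi, T_yi, T_q, T_y, T_y, T_z, T_q, T_z, T_yi, T_yi, T_q, T_y, T_y, T_z] [T_z, T_yi, T_yi, T_q, T_y, T_y, T_z, T_q, T_z, T_yi, T_yi, T_q, T_y, T_y, T_z, T_q] (nat_lit 16) z2 M (Nat.sub (MG u) (Nat.mod (MG u) M)) (nat_lit 40) z1 u (Nat.mod (MG u) M)) (H9.TCX.mRelD MG [T_yi, T_q, T_yi, T_z, T_q, T_z, T_yi, T_q, T_yi, T_q, T_yi, T_z, T_q, T_z, T_yi, T_q] [T_q, T_y, T_z, T_q, T_z, T_y, T_q, T_y, T_q, T_y, T_z, T_q, T_z, T_y, T_q, T_y] (nat_lit 16) z2 M (Nat.sub (MG u) (Nat.mod (MG u) M)) (nat_lit 40) z1 u (Nat.mod (MG u) M)) (Nat.ble (nat_lit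 333) j)) (Bool.rec (motive := fun _ => Bool) (H9.TCX.mRelD MG [T_y, T_z, T_q, T_y, T_y, T_z, T_q, T_y, T_z, T_yi, T_z, T_q, T_yi, T_yi, T_z, T_q, T_yi, T_z] [T_z, T_y, T_q, T_z, T_y, T_y, T_q, T_z, T_y, T_z, T_yi, T_q, T_z, T_yi, T_yi, T_q, T_z, T_yi] (nat_lit 18) z2 M (Nat.sub (MG u) (Nat.mod (MG u) M)) (nat_lit 40) z1 u (Nat.mod (MG u) M)) (H9.TCX.mRelD MG [T_yi, T_q, T_yi, T_yi, T_q, T_y, T_q, T_y, T_y, T_q, T_y, T_q, T_y, T_q, T_yi, T_yi] [T_y, T_y, T_q, T_yi, T_q, T_yi, T_q, T_yi, T_yi, T_q, T_yi, T_q, T_y, T_y, T_q, T_y] (nat_lit 16) z2 M (Nat.sub (MG u) (Nat.mod (MG u) M)) (nat_lit 40) z1 u (Nat.mod (MG u) M)) (Nat.ble (nat_lit 335) j)) (Nat.ble (nat_lit 334) j)) (Nat.ble (nat_lit 332) j)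
noncomputable def dM_73 (j z1 z2 u : ℕ) : Bool :=
  Bool.rec (motive := fun _ => Bool) (dM_71 j z1 z2 u) (dM_72 j z1 z2 u) (Nat.ble (nat_lit 329) j)
noncomputable def dM_74 (j z1 z2 u : ℕ) : Bool :=
  Bool.rec (motive := fun _ => Bool) (Bool.rec (motive := fun _ => Bool) (H9.TCX.mRelD MG [T_q, T_y, T_z, T_q, T_yi, T_z, T_y, T_q, T_z, T_yi, T_q, T_z, T_y, T_z, T_yi, T_z] [T_z, T_y, T_z, T_yi, T_z, T_q, T_y, T_z, T_q, T_yi, T_z, T_y, T_q, T_z, T_yi, T_q] (nat_lit 16) z2 M (Nat.sub (MG u) (Nat.mod (MG u) M)) (nat_lit 40) z1 u (Nat.mod (MG u) M)) (Bool.rec (motive := fun _ => Bool) (H9.TCX.mRelD MG [T_q, T_yi, T_q, T_y, T_y, T_q, T_y, T_y, T_y, T_q, T_yi, T_q, T_yi, T_q, T_yi, T_yi] [T_y, T_y, T_q, T_y, T_q, T_y, T_q, T_yi, T_yi, T_yi, T_q, T_yi, T_yi, T_q, T_y, T_q] (nat_lit 16) z2 M (Nat.sub (MG u) (Nat.mod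 (MG u) M)) (nat_lit 40) z1 u (Nat.mod (MG u) M)) (H9.TCX.mRelD MG [T_yi, T_z, T_q, T_yi, T_yi, T_z, T_q, T_yi, T_z, T_y, T_z, T_q, T_y, T_y, T_z, T_q, T_y, T_z] [T_z, T_yi, T_q, T_z, T_yi, T_yi, T_q, T_z, T_yi, T_z, T_y, T_q, T_z, T_y, T_y, T_q, T_z, T_y] (nat_lit 18) z2 M (Nat.sub (MG u) (Nat.mod (MG u) M)) (nat_lit 40) z1 u (Nat.mod (MG u) M)) (Nat.ble (nat_lit 338) j)) (Nat.ble (nat_lit 337) j)) (Bool.rec (motive := fun _ => Bool) (Bool.rec (motive := fun _ => Bool) (H9.TCX.mRelD MG [T_y, T_q, T_y, T_y, T_y, T_q, T_yi, T_q, T_yi, T_q, T_yi, T_yi, T_q, T_yi, T_q, T_y] [T_yi, T_q, T_y, T_q, T_y, T_y, T_q, T_y, T_q, T_y, T_q, T_yi, T_yi, T_yi, T_q, T_yi] (nat_lit 16) z2 M (Nat.sub (MG u) (Nat.mod (MG u) M)) (nat_lit 40) z1 u (Nat.mod (MG u) M)) (H9.TCX.mRelD MG [T_y, T_q, T_yi, T_yi, T_yi, T_q, T_yi, T_yi,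 T_yi, T_q, T_yi, T_yi, T_yi, T_q, T_y, T_y] [T_yi, T_yi, T_q, T_y, T_y, T_y, T_q, T_y, T_y, T_y, T_q, T_y, T_y, T_y, T_q, T_yi] (nat_lit 16) z2 M (Nat.sub (MG u) (Nat.mod (MG u) M)) (nat_lit 40) z1 u (Nat.mod (MG u) M)) (Nat.ble (nat_lit 340) j)) (Bool.rec (motive := fun _ => Bool) (H9.TCX.mRelD MG [T_q, T_yi, T_yi, T_yi, T_q, T_yi, T_yi, T_yi, T_q, T_yi, T_yi, T_yi, T_q, T_y, T_y, T_y] [T_yi, T_yi, T_yi, T_q, T_y, T_y, T_y, T_q, T_y, T_y, T_y, T_q, T_y, T_y, T_y, T_q] (nat_lit 16) z2 M (Nat.sub (MG u) (Nat.mod (MG u) M)) (nat_lit 40) z1 u (Nat.mod (MG u) M)) (H9.TCX.mRelD MG [T_q, T_yi, T_z, T_y, T_z, T_q, T_y, T_y, T_z, T_q, T_y, T_z, T_yi, T_z, T_q, T_yi, T_yi, T_z] [T_z, T_y, T_y, T_q, T_z, T_y, T_z, T_yi, T_q, T_z, T_yi, T_yi, T_q, T_z, T_yi, T_z, T_y, T_q] (nat_lit 18) z2 M (Nat.sub (MG u) (Nat.mod (MG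 u) M)) (nat_lit 40) z1 u (Nat.mod (MG u) M)) (Nat.ble (nat_lit 342) j)) (Nat.ble (nat_lit 341) j)) (Nat.ble (nat_lit 339) j)
noncomputable def dM_75 (j z1 z2 u : ℕ) : Bool :=
  Bool.rec (motive := fun _ => Bool) (Bool.rec (motive := fun _ => Bool) (H9.TCX.mRelD MG [T_yi, T_yi, T_z, T_q, T_z, T_y, T_y, T_q, T_yi, T_yi, T_z, T_q, T_z, T_y, T_y, T_q] [T_q, T_yi, T_yi, T_z, T_q, T_z, T_y, T_y, T_q, T_yi, T_yi, T_z, T_q, T_z, T_y, T_y] (nat_lit 16) z2 M (Nat.sub (MG u) (Nat.mod (MG u) M)) (nat_lit 40) z1 u (Nat.mod (MG u) M)) (Bool.rec (motive := fun _ => Bool) (H9.TCX.mRelD MG [T_yi, T_q, T_z, T_y, T_z, T_q, T_yi, T_q, T_y, T_z, T_q, T_yi, T_q, T_z, T_y, T_q] [T_q, T_yi, T_z, T_q, T_y, T_q, T_z, T_yi, T_q, T_y, T_q, T_z, T_yi, T_z, T_q, T_y] (nat_lit 16) z2 M (Nat.sub (MG u) (Nat.mod (MG u) M)) (nat_lit 40) z1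 u (Nat.mod (MG u) M)) (H9.TCX.mRelD MG [T_yi, T_z, T_y, T_q, T_z, T_yi, T_q, T_z, T_y, T_z, T_yi, T_z, T_q, T_y, T_z, T_q] [T_q, T_z, T_yi, T_q, T_z, T_y, T_z, T_yi, T_z, T_q, T_y, T_z, T_q, T_yi, T_z, T_y] (nat_lit 16) z2 M (Nat.sub (MG u) (Nat.mod (MG u) M)) (nat_lit 40) z1 u (Nat.mod (MG u) M)) (Nat.ble (nat_lit 345) j)) (Nat.ble (nat_lit 344) j)) (Bool.rec (motive := fun _ => Bool) (Bool.rec (motive := fun _ => Bool) (H9.TCX.mRelD MG [T_y, T_q, T_y, T_y, T_q, T_y, T_q, T_y, T_q, T_yi, T_yi, T_yi, T_q, T_yi, T_yi, T_q] [T_q, T_y, T_y, T_q, T_y, T_y, T_y, T_q, T_yi, T_q, T_yi, T_q, T_yi, T_yi, T_q, T_yi] (nat_lit 16) z2 M (Nat.sub (MG u) (Nat.mod (MG u) M)) (nat_lit 40) z1 u (Nat.mod (MG u) M)) (H9.TCX.mRelD MG [T_z, T_q, T_z, T_y, T_y, T_y, T_q, T_z, T_q, T_z, T_y, T_y, T_y, T_q] [T_q, T_yi, T_yi, T_yi,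 T_z, T_q, T_z, T_q, T_yi, T_yi, T_yi, T_z, T_q, T_z] (nat_lit 14) z2 M (Nat.sub (MG u) (Nat.mod (MG u) M)) (nat_lit 40) z1 u (Nat.mod (MG u) M)) (Nat.ble (nat_lit 347) j)) (Bool.rec (motive := fun _ => Bool) (H9.TCX.mRelD MG [T_z, T_y, T_z, T_q, T_y, T_y, T_z, T_q, T_y, T_z, T_yi, T_z, T_q, T_yi, T_yi, T_z, T_q, T_yi] [T_y, T_q, T_z, T_y, T_y, T_q, T_z, T_y, T_z, T_yi, T_q, T_z, T_yi, T_yi, T_q, T_z, T_yi, T_z] (nat_lit 18) z2 M (Nat.sub (MG u) (Nat.mod (MG u) M)) (nat_lit 40) z1 u (Nat.mod (MG u) M)) (H9.TCX.mRelD MG [T_z, T_y, T_y, T_q, T_z, T_y, T_z, T_yi, T_q, T_z, T_yi, T_yi, T_q, T_z, T_yi, T_z, T_y, T_q] [T_q, T_yi, T_z, T_y, T_z, T_q, T_y, T_y, T_z, T_q, T_y, T_z, T_yi, T_z, T_q, T_yi, T_yi, T_z] (nat_lit 18) z2 M (Nat.sub (MG u) (Nat.mod (MG u) M)) (nat_lit 40) z1 u (Nat.mod (MG u) M)) (Nat.ble (nat_lit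 349) j)) (Nat.ble (nat_lit 348) j)) (Nat.ble (nat_lit 346) j)
noncomputable def dM_76 (j z1 z2 u : ℕ) : Bool :=
  Bool.rec (motive := fun _ => Bool) (dM_74 j z1 z2 u) (dM_75 j z1 z2 u) (Nat.ble (nat_lit 343) j)
noncomputable def dM_77 (j z1 z2 u : ℕ) : Bool :=
  Bool.rec (motive := fun _ => Bool) (dM_73 j z1 z2 u) (dM_76 j z1 z2 u) (Nat.ble (nat_lit 336) j)
noncomputable def dM_78 (j z1 z2 u : ℕ) : Bool :=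
  Bool.rec (motive := fun _ => Bool) (dM_70 j z1 z2 u) (dM_77 j z1 z2 u) (Nat.ble (nat_lit 322) j)
noncomputable def dM_79 (j z1 z2 u : ℕ) : Bool :=
  Bool.rec (motive := fun _ => Bool) (Bool.rec (motive := fun _ => Bool) (H9.TCX.mRelD MG [T_y, T_y, T_z, T_q, T_y, T_z, T_yi, T_z, T_q, T_yi, T_yi, T_z, T_q, T_yi, T_z, T_y, T_z, T_q] [T_q, T_z, T_yi, T_z, T_y, T_q, T_z, T_y, T_y, T_q, T_z, T_y, T_z, T_yi, T_q, T_z, T_yi, T_yi] (nat_lit 18) z2 M (Nat.sub (MG u) (Nat.mod (MG u) M)) (nat_lit 40) z1 u (Nat.mod (MG u) M)) (Bool.rec (motive := fun _ => Bool) (H9.TCX.mRelD MG [T_q, T_y, T_z, T_yi, T_z, T_q, T_y, T_q, T_z, T_yi, T_z, T_y, T_q, T_z, T_yi, T_z] [T_z, T_y, T_z, T_q, T_yi, T_z, T_y, T_z, T_q, T_yi, T_q, T_z, T_y, T_z, T_yi, T_q] (nat_lit 16) z2 M (Nat.sub (MG u) (Nat.mod (MG u) M)) (nat_lit 40) z1 u (Nat.mod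 (MG u) M)) (H9.TCX.mRelD MG [T_y, T_q, T_y, T_q, T_y, T_q, T_yi, T_yi, T_yi, T_q, T_yi, T_yi, T_q, T_y, T_q, T_y] [T_yi, T_q, T_yi, T_q, T_y, T_y, T_q, T_y, T_y, T_y, T_q, T_yi, T_q, T_yi, T_q, T_yi] (nat_lit 16) z2 M (Nat.sub (MG u) (Nat.mod (MG u) M)) (nat_lit 40) z1 u (Nat.mod (MG u) M)) (Nat.ble (nat_lit 352) j)) (Nat.ble (nat_lit 351) j)) (Bool.rec (motive := fun _ => Bool) (Bool.rec (motive := fun _ => Bool) (H9.TCX.mRelD MG [T_z, T_y, T_z, T_q, T_yi, T_z, T_q, T_y, T_z, T_yi, T_q, T_z, T_y, T_q, T_z, T_yi] [T_y, T_z, T_q, T_yi, T_z, T_q, T_y, T_z, T_yi, T_q, T_z, T_y, T_q, T_z, T_yi, T_z] (nat_lit 16) z2 M (Nat.sub (MG u) (Nat.mod (MG u) M)) (nat_lit 40) z1 u (Nat.mod (MG u) M)) (H9.TCX.mRelD MG [T_yi, T_yi, T_z, T_q, T_yi, T_z, T_y, T_z, T_q, T_y, T_y, T_z, T_q, T_y, T_z, T_yi, T_z, T_q] [T_q, T_z,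 T_y, T_z, T_yi, T_q, T_z, T_yi, T_yi, T_q, T_z, T_yi, T_z, T_y, T_q, T_z, T_y, T_y] (nat_lit 18) z2 M (Nat.sub (MG u) (Nat.mod (MG u) M)) (nat_lit 40) z1 u (Nat.mod (MG u) M)) (Nat.ble (nat_lit 354) j)) (Bool.rec (motive := fun _ => Bool) (H9.TCX.mRelD MG [T_yi, T_q, T_z, T_yi, T_yi, T_q, T_z, T_yi, T_z, T_y, T_q, T_z, T_y, T_y, T_q, T_z, T_y, T_z] [T_z, T_yi, T_z, T_q, T_yi, T_yi, T_z, T_q, T_yi, T_z, T_y, T_z, T_q, T_y, T_y, T_z, T_q, T_y] (nat_lit 18) z2 M (Nat.sub (MG u) (Nat.mod (MG u) M)) (nat_lit 40) z1 u (Nat.mod (MG u) M)) (H9.TCX.mRelD MG [T_z, T_q, T_z, T_y, T_q, T_y, T_q, T_y, T_z, T_q, T_z, T_y, T_q, T_y, T_q, T_y] [T_yi, T_q, T_yi, T_q, T_yi, T_z, T_q, T_z, T_yi, T_q, T_yi, T_q, T_yi, T_z, T_q, T_z] (nat_lit 16) z2 M (Nat.sub (MG u) (Nat.mod (MG u) M)) (nat_lit 40) z1 u (Nat.mod (MG u) M)) (Nat.ble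 (nat_lit 356) j)) (Nat.ble (nat_lit 355) j)) (Nat.ble (nat_lit 353) j)
noncomputable def dM_80 (j z1 z2 u : ℕ) : Bool :=
  Bool.rec (motive := fun _ => Bool) (Bool.rec (motive := fun _ => Bool) (H9.TCX.mRelD MG [T_y, T_z, T_q, T_y, T_z, T_yi, T_z, T_q, T_yi, T_yi, T_z, T_q, T_yi, T_z, T_y, T_z, T_q, T_y] [T_yi, T_q, T_z, T_yi, T_z, T_y, T_q, T_z, T_y, T_y, T_q, T_z, T_y, T_z, T_yi, T_q, T_z, T_yi] (nat_lit 18) z2 M (Nat.sub (MG u) (Nat.mod (MG u) M)) (nat_lit 40) z1 u (Nat.mod (MG u) M)) (Bool.rec (motive := fun _ => Bool) (H9.TCX.mRelD MG [T_z, T_v, T_q, T_v, T_q, T_v, T_z, T_q, T_z, T_v, T_z, T_v, T_z, T_q] [T_q, T_z, T_v, T_z, T_v, T_z, T_q, T_z, T_v, T_q, T_v, T_q, T_v, T_z] (nat_lit 14) z2 M (Nat.sub (MG u) (Nat.mod (MG u) M)) (nat_lit 40) z1 u (Nat.mod (MG u) M)) (H9.TCX.mRelD MG [T_yi, T_yi, T_yi, T_q,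 T_yi, T_yi, T_yi, T_q, T_yi, T_yi, T_yi, T_q, T_y, T_y, T_y, T_q] [T_q, T_yi, T_yi, T_yi, T_q, T_y, T_y, T_y, T_q, T_y, T_y, T_y, T_q, T_y, T_y, T_y] (nat_lit 16) z2 M (Nat.sub (MG u) (Nat.mod (MG u) M)) (nat_lit 40) z1 u (Nat.mod (MG u) M)) (Nat.ble (nat_lit 359) j)) (Nat.ble (nat_lit 358) j)) (Bool.rec (motive := fun _ => Bool) (Bool.rec (motive := fun _ => Bool) (H9.TCX.mRelD MG [T_z, T_q, T_z, T_yi, T_yi, T_q, T_y, T_y, T_z, T_q, T_z, T_yi, T_yi, T_q, T_y, T_y] [T_yi, T_yi, T_q, T_y, T_y, T_z, T_q, T_z, T_yi, T_yi, T_q, T_y, T_y, T_z, T_q, T_z] (nat_lit 16) z2 M (Nat.sub (MG u) (Nat.mod (MG u) M)) (nat_lit 40) z1 u (Nat.mod (MG u) M)) (H9.TCX.mRelD MG [T_q, T_z, T_yi, T_z, T_y, T_q, T_z, T_y, T_y, T_q, T_z, T_y, T_z, T_yi, T_q, T_z, T_yi, T_yi] [T_y, T_y, T_z, T_q, T_y, T_z, T_yi, T_z, T_q, T_yi, T_yi,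 T_z, T_q, T_yi, T_z, T_y, T_z, T_q] (nat_lit 18) z2 M (Nat.sub (MG u) (Nat.mod (MG u) M)) (nat_lit 40) z1 u (Nat.mod (MG u) M)) (Nat.ble (nat_lit 361) j)) (Bool.rec (motive := fun _ => Bool) (H9.TCX.mRelD MG [T_y, T_q, T_z, T_y, T_y, T_z, T_q, T_y, T_y, T_y, T_q, T_z, T_y, T_y, T_z, T_q, T_y, T_y, T_y, T_q, T_z, T_y, T_y, T_z, T_q, T_y, T_y] [T_yi, T_yi, T_q, T_z, T_yi, T_yi, T_z, T_q, T_yi, T_yi, T_yi, T_q, T_z, T_yi, T_yi, T_z, T_q, T_yi, T_yi, T_yi, T_q, T_z, T_yi, T_yi, T_z, T_q, T_yi] (nat_lit 27) z2 M (Nat.sub (MG u) (Nat.mod (MG u) M)) (nat_lit 40) z1 u (Nat.mod (MG u) M)) (H9.TCX.mRelD MG [T_y, T_z, T_q, T_yi, T_q, T_z, T_y, T_z, T_yi, T_q, T_z, T_y, T_z, T_q, T_yi, T_z] [T_z, T_y, T_q, T_z, T_yi, T_z, T_q, T_y, T_z, T_yi, T_z, T_q, T_y, T_q, T_z, T_yi] (nat_lit 16) z2 M (Nat.sub (MG u) (Nat.mod (MG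 u) M)) (nat_lit 40) z1 u (Nat.mod (MG u) M)) (Nat.ble (nat_lit 363) j)) (Nat.ble (nat_lit 362) j)) (Nat.ble (nat_lit 360) j)
noncomputable def dM_81 (j z1 z2 u : ℕ) : Bool :=
  Bool.rec (motive := fun _ => Bool) (dM_79 j z1 z2 u) (dM_80 j z1 z2 u) (Nat.ble (nat_lit 357) j)
noncomputable def dM_82 (j z1 z2 u : ℕ) : Bool :=
  Bool.rec (motive := fun _ => Bool) (Bool.rec (motive := fun _ => Bool) (Bool.rec (motive := fun _ => Bool) (H9.TCX.mRelD MG [T_q, T_yi, T_z, T_q, T_y, T_q, T_z, T_yi, T_q, T_y, T_q, T_z, T_yi, T_z, T_q, T_y] [T_yi, T_q, T_z, T_y, T_z, T_q, T_yi, T_q, T_y, T_z, T_q, T_yi, T_q, T_z, T_y, T_q] (nat_lit 16) z2 M (Nat.sub (MG u) (Nat.mod (MG u) M)) (nat_lit 40) z1 u (Nat.mod (MG u) M)) (H9.TCX.mRelD MG [T_q, T_z, T_y, T_z, T_q, T_yi, T_q, T_y, T_z, T_q, T_yi, T_q, T_z, T_y, T_q, T_yi] [T_y,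 T_q, T_yi, T_z, T_q, T_y, T_q, T_z, T_yi, T_q, T_y, T_q, T_z, T_yi, T_z, T_q] (nat_lit 16) z2 M (Nat.sub (MG u) (Nat.mod (MG u) M)) (nat_lit 40) z1 u (Nat.mod (MG u) M)) (Nat.ble (nat_lit 365) j)) (Bool.rec (motive := fun _ => Bool) (H9.TCX.mRelD MG [T_q, T_y, T_q, T_yi, T_z, T_q, T_y, T_q, T_z, T_yi, T_q, T_y, T_q, T_z, T_yi, T_z] [T_z, T_y, T_z, T_q, T_yi, T_q, T_y, T_z, T_q, T_yi, T_q, T_z, T_y, T_q, T_yi, T_q] (nat_lit 16) z2 M (Nat.sub (MG u) (Nat.mod (MG u) M)) (nat_lit 40) z1 u (Nat.mod (MG u) M)) (H9.TCX.mRelD MG [T_z, T_yi, T_z, T_q, T_y, T_z, T_yi, T_z, T_q, T_y, T_q, T_z, T_yi, T_z, T_y, T_q] [T_q, T_yi, T_z, T_y, T_z, T_q, T_yi, T_q, T_z, T_y, T_z, T_yi, T_q, T_z, T_y, T_z] (nat_lit 16) z2 M (Nat.sub (MG u) (Nat.mod (MG u) M)) (nat_lit 40) z1 u (Nat.mod (MG u) M)) (Nat.ble (nat_lit 367) j)) (Nat.ble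 (nat_lit 366) j)) (Bool.rec (motive := fun _ => Bool) (Bool.rec (motive := fun _ => Bool) (H9.TCX.mRelD MG [T_z, T_yi, T_z, T_q, T_y, T_z, T_q, T_yi, T_z, T_y, T_q, T_z, T_yi, T_q, T_z, T_y] [T_yi, T_z, T_q, T_y, T_z, T_q, T_yi, T_z, T_y, T_q, T_z, T_yi, T_q, T_z, T_y, T_z] (nat_lit 16) z2 M (Nat.sub (MG u) (Nat.mod (MG u) M)) (nat_lit 40) z1 u (Nat.mod (MG u) M)) (H9.TCX.mRelD MG [T_yi, T_z, T_q, T_y, T_q, T_z, T_yi, T_q, T_y, T_q, T_z, T_yi, T_z, T_q, T_y, T_q] [T_q, T_yi, T_q, T_z, T_y, T_z, T_q, T_yi, T_q, T_y, T_z, T_q, T_yi, T_q, T_z, T_y] (nat_lit 16) z2 M (Nat.sub (MG u) (Nat.mod (MG u) M)) (nat_lit 40) z1 u (Nat.mod (MG u) M)) (Nat.ble (nat_lit 369) j)) (Bool.rec (motive := fun _ => Bool) (H9.TCX.mRelD MG [T_q, T_yi, T_q, T_z, T_y, T_z, T_q, T_yi, T_q, T_y, T_z, T_q, T_yi, T_q, T_z, T_y] [T_yi, T_z,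 T_q, T_y, T_q, T_z, T_yi, T_q, T_y, T_q, T_z, T_yi, T_z, T_q, T_y, T_q] (nat_lit 16) z2 M (Nat.sub (MG u) (Nat.mod (MG u) M)) (nat_lit 40) z1 u (Nat.mod (MG u) M)) (H9.TCX.mRelD MG [T_z, T_q, T_yi, T_q, T_y, T_z, T_q, T_yi, T_q, T_z, T_y, T_q, T_yi, T_q, T_z, T_y] [T_yi, T_z, T_q, T_y, T_q, T_yi, T_z, T_q, T_y, T_q, T_z, T_yi, T_q, T_y, T_q, T_z] (nat_lit 16) z2 M (Nat.sub (MG u) (Nat.mod (MG u) M)) (nat_lit 40) z1 u (Nat.mod (MG u) M)) (Nat.ble (nat_lit 371) j)) (Nat.ble (nat_lit 370) j)) (Nat.ble (nat_lit 368) j)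
noncomputable def dM_83 (j z1 z2 u : ℕ) : Bool :=
  Bool.rec (motive := fun _ => Bool) (Bool.rec (motive := fun _ => Bool) (Bool.rec (motive := fun _ => Bool) (H9.TCX.mRelD MG [T_yi, T_yi, T_q, T_z, T_yi, T_z, T_y, T_q, T_z, T_y, T_y, T_q, T_z, T_y, T_z, T_yi, T_q, T_z] [T_z, T_q, T_y, T_z, T_yi, T_z, T_q, T_yi, T_yi, T_z, T_q, T_yi, T_z, T_y, T_z, T_q, T_y, T_y] (nat_lit 18) z2 M (Nat.sub (MG u) (Nat.mod (MG u) M)) (nat_lit 40) z1 u (Nat.mod (MG u) M)) (H9.TCX.mRelD MG [T_z, T_yi, T_z, T_q, T_y, T_q, T_z, T_yi, T_z, T_y, T_q, T_z, T_yi, T_z, T_q, T_y] [T_yi, T_q, T_z, T_y, T_z, T_q, T_yi, T_z, T_y, T_z, T_q, T_yi, T_q, T_z, T_y, T_z] (nat_lit 16) z2 M (Nat.sub (MG u) (Nat.mod (MG u) M)) (nat_lit 40) z1 u (Nat.mod (MG u) M)) (Nat.ble (nat_lit 373) j)) (Bool.rec (motive := fun _ => Bool) (H9.TCX.mRelD MG [T_q,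 T_y, T_q, T_z, T_yi, T_z, T_q, T_y, T_q, T_yi, T_z, T_q, T_y, T_q, T_z, T_yi] [T_y, T_z, T_q, T_yi, T_q, T_z, T_y, T_q, T_yi, T_q, T_z, T_y, T_z, T_q, T_yi, T_q] (nat_lit 16) z2 M (Nat.sub (MG u) (Nat.mod (MG u) M)) (nat_lit 40) z1 u (Nat.mod (MG u) M)) (H9.TCX.mRelD MG [T_q, T_y, T_y, T_q, T_y, T_q, T_y, T_q, T_yi, T_yi, T_yi, T_q, T_yi, T_yi, T_q, T_y] [T_yi, T_q, T_y, T_y, T_q, T_y, T_y, T_y, T_q, T_yi, T_q, T_yi, T_q, T_yi, T_yi, T_q] (nat_lit 16) z2 M (Nat.sub (MG u) (Nat.mod (MG u) M)) (nat_lit 40) z1 u (Nat.mod (MG u) M)) (Nat.ble (nat_lit 375) j)) (Nat.ble (nat_lit 374) j)) (Bool.rec (motive := fun _ => Bool) (Bool.rec (motive := fun _ => Bool) (H9.TCX.mRelD MG [T_z, T_yi, T_q, T_z, T_y, T_z, T_q, T_yi, T_z, T_y, T_z, T_q, T_yi, T_q, T_z, T_y] [T_yi, T_z, T_q, T_y, T_q, T_z, T_yi, T_z, T_y, T_q, T_z,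 T_yi, T_z, T_q, T_y, T_z] (nat_lit 16) z2 M (Nat.sub (MG u) (Nat.mod (MG u) M)) (nat_lit 40) z1 u (Nat.mod (MG u) M)) (H9.TCX.mRelD MG [T_q, T_z, T_y, T_y, T_q, T_yi, T_yi, T_z, T_q, T_z, T_y, T_y, T_q, T_yi, T_yi, T_z] [T_z, T_y, T_y, T_q, T_yi, T_yi, T_z, T_q, T_z, T_y, T_y, T_q, T_yi, T_yi, T_z, T_q] (nat_lit 16) z2 M (Nat.sub (MG u) (Nat.mod (MG u) M)) (nat_lit 40) z1 u (Nat.mod (MG u) M)) (Nat.ble (nat_lit 377) j)) (Bool.rec (motive := fun _ => Bool) (H9.TCX.mRelD MG [T_q, T_yi, T_z, T_y, T_q, T_z, T_yi, T_q, T_z, T_y, T_z, T_yi, T_z, T_q, T_y, T_z] [T_z, T_yi, T_q, T_z, T_y, T_z, T_yi, T_z, T_q, T_y, T_z, T_q, T_yi, T_z, T_y, T_q] (nat_lit 16) z2 M (Nat.sub (MG u) (Nat.mod (MG u) M)) (nat_lit 40) z1 u (Nat.mod (MG u) M)) (H9.TCX.mRelD MG [T_yi, T_z, T_q, T_y, T_z, T_q, T_yi, T_z, T_y, T_q, T_z, T_yi,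 T_q, T_z, T_y, T_z] [T_z, T_yi, T_z, T_q, T_y, T_z, T_q, T_yi, T_z, T_y, T_q, T_z, T_yi, T_q, T_z, T_y] (nat_lit 16) z2 M (Nat.sub (MG u) (Nat.mod (MG u) M)) (nat_lit 40) z1 u (Nat.mod (MG u) M)) (Nat.ble (nat_lit 379) j)) (Nat.ble (nat_lit 378) j)) (Nat.ble (nat_lit 376) j)
noncomputable def dM_84 (j z1 z2 u : ℕ) : Bool :=
  Bool.rec (motive := fun _ => Bool) (dM_82 j z1 z2 u) (dM_83 j z1 z2 u) (Nat.ble (nat_lit 372) j)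
noncomputable def dM_85 (j z1 z2 u : ℕ) : Bool :=
  Bool.rec (motive := fun _ => Bool) (dM_81 j z1 z2 u) (dM_84 j z1 z2 u) (Nat.ble (nat_lit 364) j)
noncomputable def dM_86 (j z1 z2 u : ℕ) : Bool :=
  Bool.rec (motive := fun _ => Bool) (Bool.rec (motive := fun _ => Bool) (Bool.rec (motive := fun _ => Bool) (H9.TCX.mRelD MG [T_q, T_y, T_z, T_q, T_z, T_y, T_q, T_y, T_q, T_y, T_z, T_q, T_z, T_y, T_q, T_y] [T_yi, T_q, T_yi, T_z, T_q, T_z, T_yi, T_q, T_yi, T_q, T_yi, T_z, T_q, T_z, T_yi, T_q] (nat_lit 16) z2 M (Nat.sub (MG u) (Nat.mod (MG u) M)) (nat_lit 40) z1 u (Nat.mod (MG u) M)) (H9.TCX.mRelD MG [T_y, T_q, T_z, T_y, T_y, T_q, T_z, T_y, T_z, T_yi, T_q, T_z, T_yi, T_yi, T_q, T_z, T_yi, T_z] [T_z, T_y, T_z, T_q, T_y, T_y, T_z, T_q, T_y, T_z, T_yi, T_z, T_q, T_yi, T_yi, T_z, T_q, T_yi] (nat_lit 18) z2 M (Nat.sub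 (MG u) (Nat.mod (MG u) M)) (nat_lit 40) z1 u (Nat.mod (MG u) M)) (Nat.ble (nat_lit 381) j)) (Bool.rec (motive := fun _ => Bool) (H9.TCX.mRelD MG [T_z, T_q, T_y, T_q, T_yi, T_z, T_q, T_y, T_q, T_z, T_yi, T_q, T_y, T_q, T_z, T_yi] [T_y, T_z, T_q, T_yi, T_q, T_y, T_z, T_q, T_yi, T_q, T_z, T_y, T_q, T_yi, T_q, T_z] (nat_lit 16) z2 M (Nat.sub (MG u) (Nat.mod (MG u) M)) (nat_lit 40) z1 u (Nat.mod (MG u) M)) (H9.TCX.mRelD MG [T_z, T_yi, T_q, T_z, T_y, T_z, T_yi, T_z, T_q, T_y, T_z, T_q, T_yi, T_z, T_y, T_q] [T_q, T_yi, T_z, T_y, T_q, T_z, T_yi, T_q, T_z, T_y, T_z, T_yi, T_z, T_q, T_y, T_z] (nat_lit 16) z2 M (Nat.sub (MG u) (Nat.mod (MG u) M)) (nat_lit 40) z1 u (Nat.mod (MG u) M)) (Nat.ble (nat_lit 383) j)) (Nat.ble (nat_lit 382) j)) (Bool.rec (motive := fun _ => Bool) (Bool.rec (motive := fun _ => Bool) (H9.TCX.mRelD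 MG [T_q, T_y, T_z, T_yi, T_z, T_q, T_yi, T_yi, T_z, T_q, T_yi, T_z, T_y, T_z, T_q, T_y, T_y, T_z] [T_z, T_yi, T_yi, T_q, T_z, T_yi, T_z, T_y, T_q, T_z, T_y, T_y, T_q, T_z, T_y, T_z, T_yi, T_q] (nat_lit 18) z2 M (Nat.sub (MG u) (Nat.mod (MG u) M)) (nat_lit 40) z1 u (Nat.mod (MG u) M)) (H9.TCX.mRelD MG [T_yi, T_q, T_yi, T_q, T_y, T_y, T_q, T_y, T_y, T_y, T_q, T_yi, T_q, T_yi, T_q, T_yi] [T_y, T_q, T_y, T_q, T_y, T_q, T_yi, T_yi, T_yi, T_q, T_yi, T_yi, T_q, T_y, T_q, T_y] (nat_lit 16) z2 M (Nat.sub (MG u) (Nat.mod (MG u) M)) (nat_lit 40) z1 u (Nat.mod (MG u) M)) (Nat.ble (nat_lit 385) j)) (Bool.rec (motive := fun _ => Bool) (H9.TCX.mRelD MG [T_z, T_y, T_z, T_q, T_yi, T_q, T_z, T_y, T_z, T_yi, T_q, T_z, T_y, T_z, T_q, T_yi] [T_y, T_q, T_z, T_yi, T_z, T_q, T_y, T_z, T_yi, T_z, T_q, T_y, T_q, T_z, T_yi, T_z] (nat_lit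 16) z2 M (Nat.sub (MG u) (Nat.mod (MG u) M)) (nat_lit 40) z1 u (Nat.mod (MG u) M)) (H9.TCX.mRelD MG [T_y, T_y, T_q, T_y, T_y, T_y, T_q, T_yi, T_q, T_yi, T_q, T_yi, T_yi, T_q, T_yi, T_q] [T_q, T_y, T_q, T_y, T_y, T_q, T_y, T_q, T_y, T_q, T_yi, T_yi, T_yi, T_q, T_yi, T_yi] (nat_lit 16) z2 M (Nat.sub (MG u) (Nat.mod (MG u) M)) (nat_lit 40) z1 u (Nat.mod (MG u) M)) (Nat.ble (nat_lit 387) j)) (Nat.ble (nat_lit 386) j)) (Nat.ble (nat_lit 384) j)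
noncomputable def dM_87 (j z1 z2 u : ℕ) : Bool :=
  Bool.rec (motive := fun _ => Bool) (Bool.rec (motive := fun _ => Bool) (Bool.rec (motive := fun _ => Bool) (H9.TCX.mRelD MG [T_q, T_y, T_q, T_y, T_q, T_y, T_y, T_q, T_y, T_q, T_yi, T_yi, T_q, T_yi, T_yi, T_yi] [T_y, T_y, T_y, T_q, T_y, T_y, T_q, T_yi, T_q, T_yi, T_yi, T_q, T_yi, T_q, T_yi, T_q] (nat_lit 16) z2 M (Nat.sub (MG u) (Nat.mod (MG u) M)) (nat_lit 40) z1 u (Nat.mod (MG u) M)) (H9.TCX.mRelD MG [T_z, T_yi, T_yi, T_q, T_y, T_y, T_z, T_q, T_z, T_yi, T_yi, T_q, T_y, T_y, T_z, T_q] [T_q, T_z, T_yi, T_yi, T_q, T_y, T_y, T_z, T_q, T_z, T_yi, T_yi, T_q, T_y, T_y, T_z] (nat_lit 16) z2 M (Nat.sub (MG u) (Nat.mod (MG u) M)) (nat_lit 40) z1 u (Nat.mod (MG u) M)) (Nat.ble (nat_lit 389) j)) (Bool.rec (motive := fun _ => Bool) (H9.TCX.mRelD MG [T_q, T_yi, T_q, T_z,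 T_q, T_y, T_z, T_yi, T_q, T_y, T_q, T_z, T_q, T_yi, T_z, T_y] [T_yi, T_z, T_y, T_q, T_z, T_q, T_yi, T_q, T_y, T_z, T_yi, T_q, T_z, T_q, T_y, T_q] (nat_lit 16) z2 M (Nat.sub (MG u) (Nat.mod (MG u) M)) (nat_lit 40) z1 u (Nat.mod (MG u) M)) (H9.TCX.mRelD MG [T_yi, T_q, T_z, T_y, T_z, T_q, T_yi, T_q, T_z, T_y, T_z, T_q, T_yi, T_q, T_z, T_y, T_z, T_q] [T_q, T_z, T_yi, T_z, T_q, T_y, T_q, T_z, T_yi, T_z, T_q, T_y, T_q, T_z, T_yi, T_z, T_q, T_y] (nat_lit 18) z2 M (Nat.sub (MG u) (Nat.mod (MG u) M)) (nat_lit 40) z1 u (Nat.mod (MG u) M)) (Nat.ble (nat_lit 391) j)) (Nat.ble (nat_lit 390) j)) (Bool.rec (motive := fun _ => Bool) (Bool.rec (motive := fun _ => Bool) (H9.TCX.mRelD MG [T_z, T_yi, T_yi, T_z, T_q, T_yi, T_yi, T_yi, T_q, T_z, T_yi, T_yi, T_z, T_q, T_yi, T_yi, T_yi, T_q, T_z, T_yi, T_yi, T_z, T_q, T_yi, T_yi,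 T_yi, T_q] [T_q, T_y, T_y, T_y, T_q, T_z, T_y, T_y, T_z, T_q, T_y, T_y, T_y, T_q, T_z, T_y, T_y, T_z, T_q, T_y, T_y, T_y, T_q, T_z, T_y, T_y, T_z] (nat_lit 27) z2 M (Nat.sub (MG u) (Nat.mod (MG u) M)) (nat_lit 40) z1 u (Nat.mod (MG u) M)) (H9.TCX.mRelD MG [T_z, T_q, T_z, T_q, T_v, T_yi, T_v, T_q, T_z, T_q, T_z, T_y] [T_yi, T_z, T_q, T_z, T_q, T_v, T_y, T_v, T_q, T_z, T_q, T_z] (nat_lit 12) z2 M (Nat.sub (MG u) (Nat.mod (MG u) M)) (nat_lit 40) z1 u (Nat.mod (MG u) M)) (Nat.ble (nat_lit 393) j)) (Bool.rec (motive := fun _ => Bool) (H9.TCX.mRelD MG [T_z, T_q, T_yi, T_q, T_z, T_y, T_z, T_q, T_yi, T_q, T_z, T_y, T_z, T_q, T_yi, T_q, T_z, T_y] [T_yi, T_z, T_q, T_y, T_q, T_z, T_yi, T_z, T_q, T_y, T_q, T_z, T_yi, T_z, T_q, T_y, T_q, T_z] (nat_lit 18) z2 M (Nat.sub (MG u) (Nat.mod (MG u) M)) (nat_lit 40) z1 u (Nat.mod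 (MG u) M)) (Bool.rec (motive := fun _ => Bool) (H9.TCX.mRelD MG [T_z, T_y, T_z, T_yi, T_z, T_q, T_y, T_z, T_q, T_yi, T_z, T_y, T_q, T_z, T_yi, T_q] [T_q, T_y, T_z, T_q, T_yi, T_z, T_y, T_q, T_z, T_yi, T_q, T_z, T_y, T_z, T_yi, T_z] (nat_lit 16) z2 M (Nat.sub (MG u) (Nat.mod (MG u) M)) (nat_lit 40) z1 u (Nat.mod (MG u) M)) (H9.TCX.mRelD MG [T_z, T_y, T_q, T_yi, T_q, T_z, T_y, T_z, T_q, T_yi, T_q, T_y, T_z, T_q, T_yi, T_q] [T_q, T_y, T_q, T_z, T_yi, T_q, T_y, T_q, T_z, T_yi, T_z, T_q, T_y, T_q, T_yi, T_z] (nat_lit 16) z2 M (Nat.sub (MG u) (Nat.mod (MG u) M)) (nat_lit 40) z1 u (Nat.mod (MG u) M)) (Nat.ble (nat_lit 396) j)) (Nat.ble (nat_lit 395) j)) (Nat.ble (nat_lit 394) j)) (Nat.ble (nat_lit 392) j)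
noncomputable def dM_88 (j z1 z2 u : ℕ) : Bool :=
  Bool.rec (motive := fun _ => Bool) (dM_86 j z1 z2 u) (dM_87 j z1 z2 u) (Nat.ble (nat_lit 388) j)
noncomputable def dM_89 (j z1 z2 u : ℕ) : Bool :=
  Bool.rec (motive := fun _ => Bool) (Bool.rec (motive := fun _ => Bool) (Bool.rec (motive := fun _ => Bool) (H9.TCX.mRelD MG [T_q, T_yi, T_q, T_y, T_z, T_q, T_yi, T_q, T_z, T_y, T_q, T_yi, T_q, T_z, T_y, T_z] [T_z, T_yi, T_z, T_q, T_y, T_q, T_yi, T_z, T_q, T_y, T_q, T_z, T_yi, T_q, T_y, T_q] (nat_lit 16) z2 M (Nat.sub (MG u) (Nat.mod (MG u) M)) (nat_lit 40) z1 u (Nat.mod (MG u) M)) (H9.TCX.mRelD MG [T_yi, T_z, T_y, T_z, T_q, T_yi, T_z, T_q, T_y, T_z, T_yi, T_q, T_z, T_y, T_q, T_z] [T_z, T_q, T_yi, T_z, T_q, T_y, T_z, T_yi, T_q, T_z, T_y, T_q, T_z, T_yi, T_z, T_y] (nat_lit 16) z2 M (Nat.sub (MG u) (Nat.mod (MG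 u) M)) (nat_lit 40) z1 u (Nat.mod (MG u) M)) (Nat.ble (nat_lit 398) j)) (Bool.rec (motive := fun _ => Bool) (H9.TCX.mRelD MG [T_q, T_y, T_y, T_q, T_y, T_y, T_y, T_q, T_yi, T_q, T_yi, T_q, T_yi, T_yi, T_q, T_yi] [T_y, T_q, T_y, T_y, T_q, T_y, T_q, T_y, T_q, T_yi, T_yi, T_yi, T_q, T_yi, T_yi, T_q] (nat_lit 16) z2 M (Nat.sub (MG u) (Nat.mod (MG u) M)) (nat_lit 40) z1 u (Nat.mod (MG u) M)) (H9.TCX.mRelD MG [T_z, T_q, T_yi, T_z, T_y, T_z, T_q, T_y, T_y, T_z, T_q, T_y, T_z, T_yi, T_z, T_q, T_yi, T_yi] [T_y, T_y, T_q, T_z, T_y, T_z, T_yi, T_q, T_z, T_yi, T_yi, T_q, T_z, T_yi, T_z, T_y, T_q, T_z] (nat_lit 18) z2 M (Nat.sub (MG u) (Nat.mod (MG u) M)) (nat_lit 40) z1 u (Nat.mod (MG u) M)) (Nat.ble (nat_lit 400) j)) (Nat.ble (nat_lit 399) j)) (Bool.rec (motive := fun _ => Bool) (Bool.rec (motive := fun _ => Bool) (H9.TCX.mRelD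 MG [T_y, T_q, T_y, T_q, T_yi, T_yi, T_q, T_yi, T_yi, T_yi, T_q, T_y, T_q, T_y, T_q, T_y] [T_yi, T_q, T_yi, T_q, T_yi, T_q, T_y, T_y, T_y, T_q, T_y, T_y, T_q, T_yi, T_q, T_yi] (nat_lit 16) z2 M (Nat.sub (MG u) (Nat.mod (MG u) M)) (nat_lit 40) z1 u (Nat.mod (MG u) M)) (H9.TCX.mRelD MG [T_z, T_q, T_z, T_yi, T_q, T_yi, T_q, T_yi, T_z, T_q, T_z, T_yi, T_q, T_yi, T_q, T_yi] [T_y, T_q, T_y, T_q, T_y, T_z, T_q, T_z, T_y, T_q, T_y, T_q, T_y, T_z, T_q, T_z] (nat_lit 16) z2 M (Nat.sub (MG u) (Nat.mod (MG u) M)) (nat_lit 40) z1 u (Nat.mod (MG u) M)) (Nat.ble (nat_lit 402) j)) (Bool.rec (motive := fun _ => Bool) (H9.TCX.mRelD MG [T_yi, T_yi, T_q, T_yi, T_yi, T_yi, T_q, T_y, T_q, T_y, T_q, T_y, T_y, T_q, T_y, T_q] [T_q, T_yi, T_q, T_yi, T_yi, T_q, T_yi, T_q, T_yi, T_q, T_y, T_y, T_y, T_q, T_y, T_y] (nat_lit 16) z2 M (Nat.sub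 (MG u) (Nat.mod (MG u) M)) (nat_lit 40) z1 u (Nat.mod (MG u) M)) (Bool.rec (motive := fun _ => Bool) (H9.TCX.mRelD MG [T_yi, T_yi, T_q, T_y, T_q, T_y, T_y, T_q, T_y, T_q, T_y, T_q, T_yi, T_yi, T_yi, T_q] [T_q, T_y, T_y, T_y, T_q, T_yi, T_q, T_yi, T_q, T_yi, T_yi, T_q, T_yi, T_q, T_y, T_y] (nat_lit 16) z2 M (Nat.sub (MG u) (Nat.mod (MG u) M)) (nat_lit 40) z1 u (Nat.mod (MG u) M)) (H9.TCX.mRelD MG [T_z, T_y, T_z, T_yi, T_q, T_z, T_yi, T_yi, T_q, T_z, T_yi, T_z, T_y, T_q, T_z, T_y, T_y, T_q] [T_q, T_yi, T_yi, T_z, T_q, T_yi, T_z, T_y, T_z, T_q, T_y, T_y, T_z, T_q, T_y, T_z, T_yi, T_z] (nat_lit 18) z2 M (Nat.sub (MG u) (Nat.mod (MG u) M)) (nat_lit 40) z1 u (Nat.mod (MG u) M)) (Nat.ble (nat_lit 405) j)) (Nat.ble (nat_lit 404) j)) (Nat.ble (nat_lit 403) j)) (Nat.ble (nat_lit 401) j)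
noncomputable def dM_90 (j z1 z2 u : ℕ) : Bool :=
  Bool.rec (motive := fun _ => Bool) (Bool.rec (motive := fun _ => Bool) (Bool.rec (motive := fun _ => Bool) (H9.TCX.mRelD MG [T_yi, T_q, T_z, T_y, T_z, T_yi, T_z, T_q, T_y, T_z, T_q, T_yi, T_z, T_y, T_q, T_z] [T_z, T_q, T_yi, T_z, T_y, T_q, T_z, T_yi, T_q, T_z, T_y, T_z, T_yi, T_z, T_q, T_y] (nat_lit 16) z2 M (Nat.sub (MG u) (Nat.mod (MG u) M)) (nat_lit 40) z1 u (Nat.mod (MG u) M)) (H9.TCX.mRelD MG [T_z, T_yi, T_z, T_q, T_z, T_q, T_v, T_y, T_v, T_q, T_z, T_q] [T_q, T_z, T_q, T_v, T_yi, T_v, T_q, T_z, T_q, T_z, T_y, T_z] (nat_lit 12) z2 M (Nat.sub (MG u) (Nat.mod (MG u) M)) (nat_lit 40) z1 u (Nat.mod (MG u) M)) (Nat.ble (nat_lit 407) j)) (Bool.rec (motive := fun _ => Bool) (H9.TCX.mRelD MG [T_yi, T_z, T_y, T_z, T_q, T_yi, T_q, T_z, T_y, T_z, T_yi, T_q, T_z,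 T_y, T_z, T_q] [T_q, T_z, T_yi, T_z, T_q, T_y, T_z, T_yi, T_z, T_q, T_y, T_q, T_z, T_yi, T_z, T_y] (nat_lit 16) z2 M (Nat.sub (MG u) (Nat.mod (MG u) M)) (nat_lit 40) z1 u (Nat.mod (MG u) M)) (H9.TCX.mRelD MG [T_z, T_q, T_y, T_q, T_z, T_yi, T_z, T_q, T_y, T_q, T_z, T_yi, T_z, T_q, T_y, T_q, T_z, T_yi] [T_y, T_z, T_q, T_yi, T_q, T_z, T_y, T_z, T_q, T_yi, T_q, T_z, T_y, T_z, T_q, T_yi, T_q, T_z] (nat_lit 18) z2 M (Nat.sub (MG u) (Nat.mod (MG u) M)) (nat_lit 40) z1 u (Nat.mod (MG u) M)) (Nat.ble (nat_lit 409) j)) (Nat.ble (nat_lit 408) j)) (Bool.rec (motive := fun _ => Bool) (Bool.rec (motive := fun _ => Bool) (H9.TCX.mRelD MG [T_z, T_q, T_yi, T_z, T_q, T_y, T_z, T_yi, T_q, T_z, T_y, T_q, T_z, T_yi, T_z, T_y] [T_yi, T_z, T_y, T_z, T_q, T_yi, T_z, T_q, T_y, T_z, T_yi, T_q, T_z, T_y, T_q, T_z] (nat_lit 16) z2 M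 (Nat.sub (MG u) (Nat.mod (MG u) M)) (nat_lit 40) z1 u (Nat.mod (MG u) M)) (H9.TCX.mRelD MG [T_q, T_y, T_y, T_y, T_q, T_yi, T_q, T_yi, T_q, T_yi, T_yi, T_q, T_yi, T_q, T_y, T_y] [T_yi, T_yi, T_q, T_y, T_q, T_y, T_y, T_q, T_y, T_q, T_y, T_q, T_yi, T_yi, T_yi, T_q] (nat_lit 16) z2 M (Nat.sub (MG u) (Nat.mod (MG u) M)) (nat_lit 40) z1 u (Nat.mod (MG u) M)) (Nat.ble (nat_lit 411) j)) (Bool.rec (motive := fun _ => Bool) (H9.TCX.mRelD MG [T_q, T_y, T_q, T_z, T_yi, T_z, T_y, T_q, T_z, T_yi, T_z, T_q, T_y, T_z, T_yi, T_z] [T_z, T_y, T_z, T_yi, T_q, T_z, T_y, T_z, T_q, T_yi, T_z, T_y, T_z, T_q, T_yi, T_q] (nat_lit 16) z2 M (Nat.sub (MG u) (Nat.mod (MG u) M)) (nat_lit 40) z1 u (Nat.mod (MG u) M)) (Bool.rec (motive := fun _ => Bool) (H9.TCX.mRelD MG [T_q, T_z, T_q, T_v, T_y, T_v, T_q, T_z, T_q, T_z, T_yi, T_z] [T_z, T_y,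 T_z, T_q, T_z, T_q, T_v, T_yi, T_v, T_q, T_z, T_q] (nat_lit 12) z2 M (Nat.sub (MG u) (Nat.mod (MG u) M)) (nat_lit 40) z1 u (Nat.mod (MG u) M)) (H9.TCX.mRelD MG [T_q, T_y, T_q, T_y, T_z, T_q, T_z, T_y, T_q, T_y, T_q, T_y, T_z, T_q, T_z, T_y] [T_yi, T_z, T_q, T_z, T_yi, T_q, T_yi, T_q, T_yi, T_z, T_q, T_z, T_yi, T_q, T_yi, T_q] (nat_lit 16) z2 M (Nat.sub (MG u) (Nat.mod (MG u) M)) (nat_lit 40) z1 u (Nat.mod (MG u) M)) (Nat.ble (nat_lit 414) j)) (Nat.ble (nat_lit 413) j)) (Nat.ble (nat_lit 412) j)) (Nat.ble (nat_lit 410) j)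
noncomputable def dM_91 (j z1 z2 u : ℕ) : Bool :=
  Bool.rec (motive := fun _ => Bool) (dM_89 j z1 z2 u) (dM_90 j z1 z2 u) (Nat.ble (nat_lit 406) j)
noncomputable def dM_92 (j z1 z2 u : ℕ) : Bool :=
  Bool.rec (motive := fun _ => Bool) (dM_88 j z1 z2 u) (dM_91 j z1 z2 u) (Nat.ble (nat_lit 397) j)
noncomputable def dM_93 (j z1 z2 u : ℕ) : Bool :=
  Bool.rec (motive := fun _ => Bool) (dM_85 j z1 z2 u) (dM_92 j z1 z2 u) (Nat.ble (nat_lit 380) j)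
noncomputable def dM_94 (j z1 z2 u : ℕ) : Bool :=
  Bool.rec (motive := fun _ => Bool) (dM_78 j z1 z2 u) (dM_93 j z1 z2 u) (Nat.ble (nat_lit 350) j)
noncomputable def dM_95 (j z1 z2 u : ℕ) : Bool :=
  Bool.rec (motive := fun _ => Bool) (Bool.rec (motive := fun _ => Bool) (Bool.rec (motive := fun _ => Bool) (H9.TCX.mRelD MG [T_y, T_y, T_y, T_q, T_y, T_y, T_y, T_q, T_yi, T_yi, T_yi, T_q, T_y, T_y, T_y, T_q] [T_q, T_yi, T_yi, T_yi, T_q, T_y, T_y, T_y, T_q, T_yi, T_yi, T_yi, T_q, T_yi, T_yi, T_yi] (nat_lit 16) z2 M (Nat.sub (MG u) (Nat.mod (MG u) M)) (nat_lit 40) z1 u (Nat.mod (MG u) M)) (H9.TCX.mRelD MG [T_yi, T_q, T_z, T_q, T_y, T_z, T_yi, T_q, T_y, T_q, T_z, T_q, T_yi, T_z, T_y, T_q] [T_q, T_yi, T_z, T_y, T_q, T_z, T_q, T_yi, T_q, T_y, T_z, T_yi, T_q, T_z, T_q, T_y] (nat_lit 16) z2 M (Nat.sub (MG u) (Nat.mod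 (MG u) M)) (nat_lit 40) z1 u (Nat.mod (MG u) M)) (Nat.ble (nat_lit 416) j)) (Bool.rec (motive := fun _ => Bool) (H9.TCX.mRelD MG [T_q, T_yi, T_z, T_y, T_z, T_q, T_yi, T_q, T_z, T_y, T_z, T_yi, T_q, T_z, T_y, T_z] [T_z, T_yi, T_z, T_q, T_y, T_z, T_yi, T_z, T_q, T_y, T_q, T_z, T_yi, T_z, T_y, T_q] (nat_lit 16) z2 M (Nat.sub (MG u) (Nat.mod (MG u) M)) (nat_lit 40) z1 u (Nat.mod (MG u) M)) (H9.TCX.mRelD MG [T_y, T_y, T_q, T_yi, T_q, T_yi, T_q, T_yi, T_yi, T_q, T_yi, T_q, T_y, T_y, T_q, T_y] [T_yi, T_q, T_yi, T_yi, T_q, T_y, T_q, T_y, T_y, T_q, T_y, T_q, T_y, T_q, T_yi, T_yi] (nat_lit 16) z2 M (Nat.sub (MG u) (Nat.mod (MG u) M)) (nat_lit 40) z1 u (Nat.mod (MG u) M)) (Nat.ble (nat_lit 418) j)) (Nat.ble (nat_lit 417) j)) (Bool.rec (motive := fun _ => Bool) (Bool.rec (motive := fun _ => Bool) (H9.TCX.mRelD MG [T_y,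 T_y, T_y, T_q, T_yi, T_q, T_yi, T_q, T_yi, T_yi, T_q, T_yi, T_q, T_y, T_y, T_q] [T_q, T_yi, T_yi, T_q, T_y, T_q, T_y, T_y, T_q, T_y, T_q, T_y, T_q, T_yi, T_yi, T_yi] (nat_lit 16) z2 M (Nat.sub (MG u) (Nat.mod (MG u) M)) (nat_lit 40) z1 u (Nat.mod (MG u) M)) (H9.TCX.mRelD MG [T_q, T_yi, T_yi, T_q, T_yi, T_q, T_y, T_y, T_q, T_y, T_y, T_y, T_q, T_yi, T_q, T_yi] [T_y, T_q, T_y, T_q, T_yi, T_yi, T_yi, T_q, T_yi, T_yi, T_q, T_y, T_q, T_y, T_y, T_q] (nat_lit 16) z2 M (Nat.sub (MG u) (Nat.mod (MG u) M)) (nat_lit 40) z1 u (Nat.mod (MG u) M)) (Nat.ble (nat_lit 420) j)) (Bool.rec (motive := fun _ => Bool) (H9.TCX.mRelD MG [T_q, T_yi, T_q, T_z, T_y, T_z, T_yi, T_q, T_z, T_y, T_z, T_q, T_yi, T_z, T_y, T_z] [T_z, T_yi, T_z, T_y, T_q, T_z, T_yi, T_z, T_q, T_y, T_z, T_yi, T_z, T_q, T_y, T_q] (nat_lit 16) z2 M (Nat.sub (MG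 u) (Nat.mod (MG u) M)) (nat_lit 40) z1 u (Nat.mod (MG u) M)) (Bool.rec (motive := fun _ => Bool) (H9.TCX.mRelD MG [T_yi, T_yi, T_q, T_yi, T_yi, T_yi, T_q, T_yi, T_yi, T_yi, T_q, T_y, T_y, T_y, T_q, T_yi] [T_y, T_q, T_yi, T_yi, T_yi, T_q, T_y, T_y, T_y, T_q, T_y, T_y, T_y, T_q, T_y, T_y] (nat_lit 16) z2 M (Nat.sub (MG u) (Nat.mod (MG u) M)) (nat_lit 40) z1 u (Nat.mod (MG u) M)) (H9.TCX.mRelD MG [T_q, T_z, T_yi, T_yi, T_z, T_q, T_yi, T_yi, T_yi, T_q, T_z, T_yi, T_yi, T_z, T_q, T_yi, T_yi, T_yi, T_q, T_z, T_yi, T_yi, T_z, T_q, T_yi, T_yi, T_yi] [T_y, T_y, T_y, T_q, T_z, T_y, T_y, T_z, T_q, T_y, T_y, T_y, T_q, T_z, T_y, T_y, T_z, T_q, T_y, T_y, T_y, T_q, T_z, T_y, T_y, T_z, T_q] (nat_lit 27) z2 M (Nat.sub (MG u) (Nat.mod (MG u) M)) (nat_lit 40) z1 u (Nat.mod (MG u) M)) (Nat.ble (nat_lit 423) j)) (Nat.ble (nat_lit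 422) j)) (Nat.ble (nat_lit 421) j)) (Nat.ble (nat_lit 419) j)
noncomputable def dM_96 (j z1 z2 u : ℕ) : Bool :=
  Bool.rec (motive := fun _ => Bool) (Bool.rec (motive := fun _ => Bool) (Bool.rec (motive := fun _ => Bool) (H9.TCX.mRelD MG [T_y, T_q, T_yi, T_z, T_y, T_q, T_z, T_q, T_yi, T_q, T_y, T_z, T_yi, T_q, T_z, T_q] [T_q, T_z, T_q, T_y, T_z, T_yi, T_q, T_y, T_q, T_z, T_q, T_yi, T_z, T_y, T_q, T_yi] (nat_lit 16) z2 M (Nat.sub (MG u) (Nat.mod (MG u) M)) (nat_lit 40) z1 u (Nat.mod (MG u) M)) (H9.TCX.mRelD MG [T_y, T_z, T_yi, T_q, T_z, T_y, T_z, T_q, T_yi, T_z, T_y, T_z, T_q, T_yi, T_q, T_z] [T_z, T_q, T_y, T_q, T_z, T_yi, T_z, T_y, T_q, T_z, T_yi, T_z, T_q, T_y, T_z, T_yi] (nat_lit 16) z2 M (Nat.sub (MG u) (Nat.mod (MG u) M)) (nat_lit 40) z1 u (Nat.mod (MG u) M)) (Nat.ble (nat_lit 425) j)) (Bool.rec (motive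 := fun _ => Bool) (H9.TCX.mRelD MG [T_yi, T_q, T_y, T_z, T_q, T_yi, T_q, T_z, T_y, T_q, T_yi, T_q, T_z, T_y, T_z, T_q] [T_q, T_z, T_yi, T_z, T_q, T_y, T_q, T_yi, T_z, T_q, T_y, T_q, T_z, T_yi, T_q, T_y] (nat_lit 16) z2 M (Nat.sub (MG u) (Nat.mod (MG u) M)) (nat_lit 40) z1 u (Nat.mod (MG u) M)) (Bool.rec (motive := fun _ => Bool) (H9.TCX.mRelD MG [T_z, T_yi, T_z, T_y, T_z, T_q, T_yi, T_z, T_q, T_y, T_z, T_yi, T_q, T_z, T_y, T_q] [T_q, T_yi, T_z, T_q, T_y, T_z, T_yi, T_q, T_z, T_y, T_q, T_z, T_yi, T_z, T_y, T_z] (nat_lit 16) z2 M (Nat.sub (MG u) (Nat.mod (MG u) M)) (nat_lit 40) z1 u (Nat.mod (MG u) M)) (H9.TCX.mRelD MG [T_q, T_z, T_yi, T_z, T_y, T_z, T_q, T_y, T_z, T_q, T_y, T_y, T_z, T_q, T_yi, T_q, T_z, T_q, T_y, T_q, T_z, T_yi, T_yi, T_q, T_z, T_yi] [T_y, T_z, T_q, T_y, T_y, T_z, T_q, T_yi, T_q, T_z, T_q,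 T_y, T_q, T_z, T_yi, T_yi, T_q, T_z, T_yi, T_q, T_z, T_yi, T_z, T_y, T_z, T_q] (nat_lit 26) z2 M (Nat.sub (MG u) (Nat.mod (MG u) M)) (nat_lit 40) z1 u (Nat.mod (MG u) M)) (Nat.ble (nat_lit 428) j)) (Nat.ble (nat_lit 427) j)) (Nat.ble (nat_lit 426) j)) (Bool.rec (motive := fun _ => Bool) (Bool.rec (motive := fun _ => Bool) (H9.TCX.mRelD MG [T_y, T_q, T_z, T_yi, T_z, T_y, T_z, T_q, T_yi, T_z, T_q, T_y, T_z, T_yi, T_q, T_z] [T_z, T_q, T_y, T_z, T_yi, T_q, T_z, T_y, T_q, T_z, T_yi, T_z, T_y, T_z, T_q, T_yi] (nat_lit 16) z2 M (Nat.sub (MG u) (Nat.mod (MG u) M)) (nat_lit 40) z1 u (Nat.mod (MG u) M)) (H9.TCX.mRelD MG [T_z, T_yi, T_q, T_z, T_yi, T_yi, T_q, T_z, T_yi, T_z, T_y, T_q, T_z, T_y, T_y, T_q, T_z, T_y] [T_yi, T_z, T_q, T_yi, T_yi, T_z, T_q, T_yi, T_z, T_y, T_z, T_q, T_y, T_y, T_z, T_q, T_y, T_z] (nat_lit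 18) z2 M (Nat.sub (MG u) (Nat.mod (MG u) M)) (nat_lit 40) z1 u (Nat.mod (MG u) M)) (Nat.ble (nat_lit 430) j)) (Bool.rec (motive := fun _ => Bool) (H9.TCX.mRelD MG [T_yi, T_q, T_y, T_y, T_q, T_y, T_y, T_y, T_q, T_yi, T_q, T_yi, T_q, T_yi, T_yi, T_q] [T_q, T_y, T_y, T_q, T_y, T_q, T_y, T_q, T_yi, T_yi, T_yi, T_q, T_yi, T_yi, T_q, T_y] (nat_lit 16) z2 M (Nat.sub (MG u) (Nat.mod (MG u) M)) (nat_lit 40) z1 u (Nat.mod (MG u) M)) (Bool.rec (motive := fun _ => Bool) (H9.TCX.mRelD MG [T_y, T_q, T_z, T_yi, T_q, T_z, T_y, T_z, T_yi, T_z, T_q, T_y, T_z, T_q, T_yi, T_z] [T_z, T_y, T_q, T_z, T_yi, T_q, T_z, T_y, T_z, T_yi, T_z, T_q, T_y, T_z, T_q, T_yi] (nat_lit 16) z2 M (Nat.sub (MG u) (Nat.mod (MG u) M)) (nat_lit 40) z1 u (Nat.mod (MG u) M)) (H9.TCX.mRelD MG [T_q, T_z, T_yi, T_q, T_yi, T_q, T_yi, T_z, T_q, T_z, T_yi,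 T_q, T_yi, T_q, T_yi, T_z] [T_z, T_y, T_q, T_y, T_q, T_y, T_z, T_q, T_z, T_y, T_q, T_y, T_q, T_y, T_z, T_q] (nat_lit 16) z2 M (Nat.sub (MG u) (Nat.mod (MG u) M)) (nat_lit 40) z1 u (Nat.mod (MG u) M)) (Nat.ble (nat_lit 433) j)) (Nat.ble (nat_lit 432) j)) (Nat.ble (nat_lit 431) j)) (Nat.ble (nat_lit 429) j)
noncomputable def dM_97 (j z1 z2 u : ℕ) : Bool :=
  Bool.rec (motive := fun _ => Bool) (dM_95 j z1 z2 u) (dM_96 j z1 z2 u) (Nat.ble (nat_lit 424) j)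
noncomputable def dM_98 (j z1 z2 u : ℕ) : Bool :=
  Bool.rec (motive := fun _ => Bool) (Bool.rec (motive := fun _ => Bool) (Bool.rec (motive := fun _ => Bool) (H9.TCX.mRelD MG [T_q, T_yi, T_yi, T_q, T_yi, T_yi, T_yi, T_q, T_y, T_q, T_y, T_q, T_y, T_y, T_q, T_y] [T_yi, T_q, T_yi, T_yi, T_q, T_yi, T_q, T_yi, T_q, T_y, T_y, T_y, T_q, T_y, T_y, T_q] (nat_lit 16) z2 M (Nat.sub (MG u) (Nat.mod (MG u) M)) (nat_lit 40) z1 u (Nat.mod (MG u) M)) (H9.TCX.mRelD MG [T_q, T_yi, T_z, T_q, T_z, T_yi, T_q, T_yi, T_q, T_yi, T_z, T_q, T_z, T_yi, T_q, T_yi] [T_y, T_q, T_y, T_z, T_q, T_z, T_y, T_q, T_y, T_q, T_y, T_z, T_q, T_z, T_y, T_q] (nat_lit 16) z2 M (Nat.sub (MG u) (Nat.mod (MG u) M)) (nat_lit 40) z1 u (Nat.mod (MG u) M)) (Nat.ble (nat_lit 435) j)) (Bool.rec (motive := fun _ => Bool) (H9.TCX.mRelD MG [T_z, T_yi, T_q, T_z,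 T_yi, T_q, T_z, T_yi, T_q, T_z, T_yi, T_q, T_z, T_yi, T_q, T_z, T_yi, T_q, T_z, T_yi, T_q, T_z, T_yi, T_q] [T_q, T_y, T_z, T_q, T_y, T_z, T_q, T_y, T_z, T_q, T_y, T_z, T_q, T_y, T_z, T_q, T_y, T_z, T_q, T_y, T_z, T_q, T_y, T_z] (nat_lit 24) z2 M (Nat.sub (MG u) (Nat.mod (MG u) M)) (nat_lit 40) z1 u (Nat.mod (MG u) M)) (Bool.rec (motive := fun _ => Bool) (H9.TCX.mRelD MG [T_yi, T_yi, T_yi, T_q, T_z, T_yi, T_yi, T_z, T_q, T_yi, T_yi, T_yi, T_q, T_z, T_yi, T_yi, T_z, T_q, T_yi, T_yi, T_yi, T_q, T_z, T_yi, T_yi, T_z, T_q] [T_q, T_z, T_y, T_y, T_z, T_q, T_y, T_y, T_y, T_q, T_z, T_y, T_y, T_z, T_q, T_y, T_y, T_y, T_q, T_z, T_y, T_y, T_z, T_q, T_y, T_y, T_y] (nat_lit 27) z2 M (Nat.sub (MG u) (Nat.mod (MG u) M)) (nat_lit 40) z1 u (Nat.mod (MG u) M)) (H9.TCX.mRelD MG [T_q, T_z, T_yi, T_q, T_z, T_y, T_z, T_yi, T_z,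 T_q, T_y, T_z, T_q, T_yi, T_z, T_y] [T_yi, T_z, T_y, T_q, T_z, T_yi, T_q, T_z, T_y, T_z, T_yi, T_z, T_q, T_y, T_z, T_q] (nat_lit 16) z2 M (Nat.sub (MG u) (Nat.mod (MG u) M)) (nat_lit 40) z1 u (Nat.mod (MG u) M)) (Nat.ble (nat_lit 438) j)) (Nat.ble (nat_lit 437) j)) (Nat.ble (nat_lit 436) j)) (Bool.rec (motive := fun _ => Bool) (Bool.rec (motive := fun _ => Bool) (H9.TCX.mRelD MG [T_q, T_yi, T_z, T_y, T_q, T_yi, T_q, T_z, T_q, T_y, T_z, T_yi, T_q, T_y, T_q, T_z] [T_z, T_q, T_yi, T_q, T_y, T_z, T_yi, T_q, T_z, T_q, T_y, T_q, T_yi, T_z, T_y, T_q] (nat_lit 16) z2 M (Nat.sub (MG u) (Nat.mod (MG u) M)) (nat_lit 40) z1 u (Nat.mod (MG u) M)) (H9.TCX.mRelD MG [T_z, T_q, T_yi, T_yi, T_yi, T_q, T_z, T_yi, T_yi, T_z, T_q, T_yi, T_yi, T_yi, T_q, T_z, T_yi, T_yi, T_z, T_q, T_yi, T_yi, T_yi, T_q, T_z, T_yi, T_yi] [T_y, T_y,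 T_z, T_q, T_y, T_y, T_y, T_q, T_z, T_y, T_y, T_z, T_q, T_y, T_y, T_y, T_q, T_z, T_y, T_y, T_z, T_q, T_y, T_y, T_y, T_q, T_z] (nat_lit 27) z2 M (Nat.sub (MG u) (Nat.mod (MG u) M)) (nat_lit 40) z1 u (Nat.mod (MG u) M)) (Nat.ble (nat_lit 440) j)) (Bool.rec (motive := fun _ => Bool) (H9.TCX.mRelD MG [T_z, T_y, T_q, T_yi, T_q, T_z, T_q, T_y, T_z, T_yi, T_q, T_y, T_q, T_z, T_q, T_yi] [T_y, T_q, T_z, T_q, T_yi, T_q, T_y, T_z, T_yi, T_q, T_z, T_q, T_y, T_q, T_yi, T_z] (nat_lit 16) z2 M (Nat.sub (MG u) (Nat.mod (MG u) M)) (nat_lit 40) z1 u (Nat.mod (MG u) M)) (Bool.rec (motive := fun _ => Bool) (H9.TCX.mRelD MG [T_y, T_z, T_yi, T_z, T_q, T_y, T_q, T_z, T_yi, T_z, T_y, T_q, T_z, T_yi, T_z, T_q] [T_q, T_z, T_y, T_z, T_q, T_yi, T_z, T_y, T_z, T_q, T_yi, T_q, T_z, T_y, T_z, T_yi] (nat_lit 16) z2 M (Nat.sub (MG u) (Nat.mod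 (MG u) M)) (nat_lit 40) z1 u (Nat.mod (MG u) M)) (H9.TCX.mRelD MG [T_q, T_y, T_z, T_yi, T_q, T_z, T_y, T_q, T_z, T_yi, T_z, T_y, T_z, T_q, T_yi, T_z] [T_z, T_y, T_q, T_z, T_yi, T_z, T_y, T_z, T_q, T_yi, T_z, T_q, T_y, T_z, T_yi, T_q] (nat_lit 16) z2 M (Nat.sub (MG u) (Nat.mod (MG u) M)) (nat_lit 40) z1 u (Nat.mod (MG u) M)) (Nat.ble (nat_lit 443) j)) (Nat.ble (nat_lit 442) j)) (Nat.ble (nat_lit 441) j)) (Nat.ble (nat_lit 439) j)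
noncomputable def dM_99 (j z1 z2 u : ℕ) : Bool :=
  Bool.rec (motive := fun _ => Bool) (Bool.rec (motive := fun _ => Bool) (Bool.rec (motive := fun _ => Bool) (H9.TCX.mRelD MG [T_y, T_q, T_z, T_q, T_yi, T_z, T_y, T_q, T_yi, T_q, T_z, T_q, T_y, T_z, T_yi, T_q] [T_q, T_y, T_z, T_yi, T_q, T_z, T_q, T_y, T_q, T_yi, T_z, T_y, T_q, T_z, T_q, T_yi] (nat_lit 16) z2 M (Nat.sub (MG u) (Nat.mod (MG u) M)) (nat_lit 40) z1 u (Nat.mod (MG u) M)) (H9.TCX.mRelD MG [T_q, T_z, T_y, T_y, T_q, T_z, T_y, T_z, T_yi, T_q, T_z, T_yi, T_yi, T_q, T_z, T_yi, T_z, T_y] [T_yi, T_z, T_y, T_z, T_q, T_y, T_y, T_z, T_q, T_y, T_z, T_yi, T_z, T_q, T_yi, T_yi, T_z, T_q] (nat_lit 18) z2 M (Nat.sub (MG u) (Nat.mod (MG u) M)) (nat_lit 40) z1 u (Nat.mod (MG u) M)) (Nat.ble (nat_lit 445) j)) (Bool.rec (motive := fun _ => Bool) (H9.TCX.mRelD MG [T_yi,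 T_q, T_y, T_q, T_y, T_y, T_q, T_y, T_q, T_y, T_q, T_yi, T_yi, T_yi, T_q, T_yi] [T_y, T_q, T_y, T_y, T_y, T_q, T_yi, T_q, T_yi, T_q, T_yi, T_yi, T_q, T_yi, T_q, T_y] (nat_lit 16) z2 M (Nat.sub (MG u) (Nat.mod (MG u) M)) (nat_lit 40) z1 u (Nat.mod (MG u) M)) (Bool.rec (motive := fun _ => Bool) (H9.TCX.mRelD MG [T_q, T_yi, T_q, T_yi, T_q, T_y, T_y, T_y, T_q, T_y, T_y, T_q, T_yi, T_q, T_yi, T_yi] [T_y, T_y, T_q, T_y, T_q, T_yi, T_yi, T_q, T_yi, T_yi, T_yi, T_q, T_y, T_q, T_y, T_q] (nat_lit 16) z2 M (Nat.sub (MG u) (Nat.mod (MG u) M)) (nat_lit 40) z1 u (Nat.mod (MG u) M)) (H9.TCX.mRelD MG [T_yi, T_z, T_q, T_y, T_z, T_yi, T_q, T_z, T_y, T_q, T_z, T_yi, T_z, T_y, T_z, T_q] [T_q, T_z, T_yi, T_z, T_y, T_z, T_q, T_yi, T_z, T_q, T_y, T_z, T_yi, T_q, T_z, T_y] (nat_lit 16) z2 M (Nat.sub (MG u) (Nat.mod (MG u) M)) (nat_lit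 40) z1 u (Nat.mod (MG u) M)) (Nat.ble (nat_lit 448) j)) (Nat.ble (nat_lit 447) j)) (Nat.ble (nat_lit 446) j)) (Bool.rec (motive := fun _ => Bool) (Bool.rec (motive := fun _ => Bool) (H9.TCX.mRelD MG [T_q, T_z, T_y, T_z, T_yi, T_q, T_z, T_y, T_z, T_q, T_yi, T_z, T_y, T_z, T_q, T_yi] [T_y, T_q, T_z, T_yi, T_z, T_y, T_q, T_z, T_yi, T_z, T_q, T_y, T_z, T_yi, T_z, T_q] (nat_lit 16) z2 M (Nat.sub (MG u) (Nat.mod (MG u) M)) (nat_lit 40) z1 u (Nat.mod (MG u) M)) (H9.TCX.mRelD MG [T_q, T_z, T_q, T_y, T_q, T_yi, T_z, T_y, T_q, T_z, T_q, T_yi, T_q, T_y, T_z, T_yi] [T_y, T_z, T_yi, T_q, T_y, T_q, T_z, T_q, T_yi, T_z, T_y, T_q, T_yi, T_q, T_z, T_q] (nat_lit 16) z2 M (Nat.sub (MG u) (Nat.mod (MG u) M)) (nat_lit 40) z1 u (Nat.mod (MG u) M)) (Nat.ble (nat_lit 450) j)) (Bool.rec (motive := fun _ => Bool) (H9.TCX.mRelD MG [T_q,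 T_y, T_y, T_q, T_y, T_q, T_yi, T_yi, T_q, T_yi, T_yi, T_yi, T_q, T_y, T_q, T_y] [T_yi, T_q, T_yi, T_q, T_y, T_y, T_y, T_q, T_y, T_y, T_q, T_yi, T_q, T_yi, T_yi, T_q] (nat_lit 16) z2 M (Nat.sub (MG u) (Nat.mod (MG u) M)) (nat_lit 40) z1 u (Nat.mod (MG u) M)) (Bool.rec (motive := fun _ => Bool) (H9.TCX.mRelD MG [T_yi, T_q, T_z, T_y, T_z, T_q, T_yi, T_z, T_y, T_z, T_q, T_yi, T_q, T_z, T_y, T_z] [T_z, T_yi, T_z, T_q, T_y, T_q, T_z, T_yi, T_z, T_y, T_q, T_z, T_yi, T_z, T_q, T_y] (nat_lit 16) z2 M (Nat.sub (MG u) (Nat.mod (MG u) M)) (nat_lit 40) z1 u (Nat.mod (MG u) M)) (H9.TCX.mRelD MG [T_y, T_z, T_q, T_yi, T_z, T_q, T_y, T_z, T_yi, T_q, T_z, T_y, T_q, T_z, T_yi, T_z] [T_z, T_y, T_z, T_q, T_yi, T_z, T_q, T_y, T_z, T_yi, T_q, T_z, T_y, T_q, T_z, T_yi] (nat_lit 16) z2 M (Nat.sub (MG u) (Nat.mod (MG u) M)) (nat_lit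 40) z1 u (Nat.mod (MG u) M)) (Nat.ble (nat_lit 453) j)) (Nat.ble (nat_lit 452) j)) (Nat.ble (nat_lit 451) j)) (Nat.ble (nat_lit 449) j)
noncomputable def dM_100 (j z1 z2 u : ℕ) : Bool :=
  Bool.rec (motive := fun _ => Bool) (dM_98 j z1 z2 u) (dM_99 j z1 z2 u) (Nat.ble (nat_lit 444) j)
noncomputable def dM_101 (j z1 z2 u : ℕ) : Bool :=
  Bool.rec (motive := fun _ => Bool) (dM_97 j z1 z2 u) (dM_100 j z1 z2 u) (Nat.ble (nat_lit 434) j)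
noncomputable def dM_102 (j z1 z2 u : ℕ) : Bool :=
  Bool.rec (motive := fun _ => Bool) (Bool.rec (motive := fun _ => Bool) (Bool.rec (motive := fun _ => Bool) (H9.TCX.mRelD MG [T_q, T_z, T_yi, T_z, T_y, T_z, T_q, T_yi, T_z, T_q, T_y, T_z, T_yi, T_q, T_z, T_y] [T_yi, T_z, T_q, T_y, T_z, T_yi, T_q, T_z, T_y, T_q, T_z, T_yi, T_z, T_y, T_z, T_q] (nat_lit 16) z2 M (Nat.sub (MG u) (Nat.mod (MG u) M)) (nat_lit 40) z1 u (Nat.mod (MG u) M)) (H9.TCX.mRelD MG [T_q, T_y, T_q, T_yi, T_yi, T_q, T_yi, T_yi, T_yi, T_q, T_y, T_q, T_y, T_q, T_y, T_y] [T_yi, T_yi, T_q, T_yi, T_q, T_yi, T_q, T_y, T_y, T_y, T_q, T_y, T_y, T_q, T_yi, T_q] (nat_lit 16) z2 M (Nat.sub (MG u) (Nat.mod (MG u) M)) (nat_lit 40) z1 u (Nat.mod (MG u) M)) (Nat.ble (nat_lit 455) j)) (Bool.rec (motive := fun _ => Bool) (H9.TCX.mRelD MG [T_q, T_y, T_y, T_y,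 T_q, T_y, T_y, T_y, T_q, T_yi, T_yi, T_yi, T_q, T_y, T_y, T_y] [T_yi, T_yi, T_yi, T_q, T_y, T_y, T_y, T_q, T_yi, T_yi, T_yi, T_q, T_yi, T_yi, T_yi, T_q] (nat_lit 16) z2 M (Nat.sub (MG u) (Nat.mod (MG u) M)) (nat_lit 40) z1 u (Nat.mod (MG u) M)) (Bool.rec (motive := fun _ => Bool) (H9.TCX.mRelD MG [T_q, T_yi, T_yi, T_yi, T_q, T_y, T_y, T_y, T_q, T_yi, T_yi, T_yi, T_q, T_yi, T_yi, T_yi] [T_y, T_y, T_y, T_q, T_y, T_y, T_y, T_q, T_yi, T_yi, T_yi, T_q, T_y, T_y, T_y, T_q] (nat_lit 16) z2 M (Nat.sub (MG u) (Nat.mod (MG u) M)) (nat_lit 40) z1 u (Nat.mod (MG u) M)) (H9.TCX.mRelD MG [T_yi, T_z, T_q, T_z, T_yi, T_q, T_yi, T_q, T_yi, T_z, T_q, T_z, T_yi, T_q, T_yi, T_q] [T_q, T_y, T_q, T_y, T_z, T_q, T_z, T_y, T_q, T_y, T_q, T_y, T_z, T_q, T_z, T_y] (nat_lit 16) z2 M (Nat.sub (MG u) (Nat.mod (MG u) M)) (nat_lit 40) z1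 u (Nat.mod (MG u) M)) (Nat.ble (nat_lit 458) j)) (Nat.ble (nat_lit 457) j)) (Nat.ble (nat_lit 456) j)) (Bool.rec (motive := fun _ => Bool) (Bool.rec (motive := fun _ => Bool) (H9.TCX.mRelD MG [T_q, T_z, T_q, T_yi, T_z, T_y, T_q, T_yi, T_q, T_z, T_q, T_y, T_z, T_yi, T_q, T_y] [T_yi, T_q, T_y, T_z, T_yi, T_q, T_z, T_q, T_y, T_q, T_yi, T_z, T_y, T_q, T_z, T_q] (nat_lit 16) z2 M (Nat.sub (MG u) (Nat.mod (MG u) M)) (nat_lit 40) z1 u (Nat.mod (MG u) M)) (H9.TCX.mRelD MG [T_q, T_yi, T_z, T_q, T_y, T_z, T_yi, T_q, T_z, T_y, T_q, T_z, T_yi, T_z, T_y, T_z] [T_z, T_yi, T_z, T_y, T_z, T_q, T_yi, T_z, T_q, T_y, T_z, T_yi, T_q, T_z, T_y, T_q] (nat_lit 16) z2 M (Nat.sub (MG u) (Nat.mod (MG u) M)) (nat_lit 40) z1 u (Nat.mod (MG u) M)) (Nat.ble (nat_lit 460) j)) (Bool.rec (motive := fun _ => Bool) (H9.TCX.mRelD MG [T_q, T_z,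 T_yi, T_q, T_z, T_yi, T_z, T_y, T_z, T_q, T_y, T_z, T_q, T_y, T_y, T_z, T_q, T_yi, T_q, T_z, T_q, T_y, T_q, T_z, T_yi, T_yi] [T_y, T_y, T_z, T_q, T_yi, T_q, T_z, T_q, T_y, T_q, T_z, T_yi, T_yi, T_q, T_z, T_yi, T_q, T_z, T_yi, T_z, T_y, T_z, T_q, T_y, T_z, T_q] (nat_lit 26) z2 M (Nat.sub (MG u) (Nat.mod (MG u) M)) (nat_lit 40) z1 u (Nat.mod (MG u) M)) (Bool.rec (motive := fun _ => Bool) (H9.TCX.mRelD MG [T_yi, T_z, T_q, T_y, T_q, T_z, T_yi, T_z, T_q, T_y, T_q, T_z, T_yi, T_z, T_q, T_y, T_q, T_z] [T_z, T_q, T_yi, T_q, T_z, T_y, T_z, T_q, T_yi, T_q, T_z, T_y, T_z, T_q, T_yi, T_q, T_z, T_y] (nat_lit 18) z2 M (Nat.sub (MG u) (Nat.mod (MG u) M)) (nat_lit 40) z1 u (Nat.mod (MG u) M)) (H9.TCX.mRelD MG [T_z, T_q, T_y, T_z, T_yi, T_q, T_z, T_y, T_q, T_z, T_yi, T_z, T_y, T_z, T_q, T_yi] [T_y, T_q, T_z, T_yi, T_z, T_y,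 T_z, T_q, T_yi, T_z, T_q, T_y, T_z, T_yi, T_q, T_z] (nat_lit 16) z2 M (Nat.sub (MG u) (Nat.mod (MG u) M)) (nat_lit 40) z1 u (Nat.mod (MG u) M)) (Nat.ble (nat_lit 463) j)) (Nat.ble (nat_lit 462) j)) (Nat.ble (nat_lit 461) j)) (Nat.ble (nat_lit 459) j)
noncomputable def dM_103 (j z1 z2 u : ℕ) : Bool :=
  Bool.rec (motive := fun _ => Bool) (Bool.rec (motive := fun _ => Bool) (Bool.rec (motive := fun _ => Bool) (H9.TCX.mRelD MG [T_yi, T_z, T_q, T_yi, T_yi, T_yi, T_q, T_z, T_yi, T_yi, T_z, T_q, T_yi, T_yi, T_yi, T_q, T_z, T_yi, T_yi, T_z, T_q, T_yi, T_yi, T_yi, T_q, T_z, T_yi] [T_y, T_z, T_q, T_y, T_y, T_y, T_q, T_z, T_y, T_y, T_z, T_q, T_y, T_y, T_y, T_q, T_z, T_y, T_y, T_z, T_q, T_y, T_y, T_y, T_q, T_z, T_y] (nat_lit 27) z2 M (Nat.sub (MG u) (Nat.mod (MG u) M)) (nat_lit 40) z1 u (Nat.mod (MG u) M)) (H9.TCX.mRelD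 MG [T_yi, T_z, T_y, T_q, T_z, T_q, T_yi, T_q, T_y, T_z, T_yi, T_q, T_z, T_q, T_y, T_q] [T_q, T_yi, T_q, T_z, T_q, T_y, T_z, T_yi, T_q, T_y, T_q, T_z, T_q, T_yi, T_z, T_y] (nat_lit 16) z2 M (Nat.sub (MG u) (Nat.mod (MG u) M)) (nat_lit 40) z1 u (Nat.mod (MG u) M)) (Nat.ble (nat_lit 465) j)) (Bool.rec (motive := fun _ => Bool) (H9.TCX.mRelD MG [T_z, T_y, T_y, T_y, T_q, T_z, T_q, T_z, T_y, T_y, T_y, T_q, T_z, T_q] [T_q, T_z, T_q, T_yi, T_yi, T_yi, T_z, T_q, T_z, T_q, T_yi, T_yi, T_yi, T_z] (nat_lit 14) z2 M (Nat.sub (MG u) (Nat.mod (MG u) M)) (nat_lit 40) z1 u (Nat.mod (MG u) M)) (Bool.rec (motive := fun _ => Bool) (H9.TCX.mRelD MG [T_yi, T_q, T_yi, T_yi, T_q, T_yi, T_q, T_yi, T_q, T_y, T_y, T_y, T_q, T_y, T_y, T_q] [T_q, T_yi, T_yi, T_q, T_yi, T_yi, T_yi, T_q, T_y, T_q, T_y, T_q, T_y, T_y, T_q, T_y] (nat_lit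 16) z2 M (Nat.sub (MG u) (Nat.mod (MG u) M)) (nat_lit 40) z1 u (Nat.mod (MG u) M)) (H9.TCX.mRelD MG [T_z, T_yi, T_q, T_yi, T_q, T_yi, T_z, T_q, T_z, T_yi, T_q, T_yi, T_q, T_yi, T_z, T_q] [T_q, T_z, T_y, T_q, T_y, T_q, T_y, T_z, T_q, T_z, T_y, T_q, T_y, T_q, T_y, T_z] (nat_lit 16) z2 M (Nat.sub (MG u) (Nat.mod (MG u) M)) (nat_lit 40) z1 u (Nat.mod (MG u) M)) (Nat.ble (nat_lit 468) j)) (Nat.ble (nat_lit 467) j)) (Nat.ble (nat_lit 466) j)) (Bool.rec (motive := fun _ => Bool) (Bool.rec (motive := fun _ => Bool) (H9.TCX.mRelD MG [T_y, T_q, T_yi, T_q, T_yi, T_yi, T_q, T_yi, T_q, T_yi, T_q, T_y, T_y, T_y, T_q, T_y] [T_yi, T_q, T_yi, T_yi, T_yi, T_q, T_y, T_q, T_y, T_q, T_y, T_y, T_q, T_y, T_q, T_yi] (nat_lit 16) z2 M (Nat.sub (MG u) (Nat.mod (MG u) M)) (nat_lit 40) z1 u (Nat.mod (MG u) M)) (Bool.rec (motive := fun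 _ => Bool) (H9.TCX.mRelD MG [T_z, T_yi, T_q, T_y, T_q, T_z, T_q, T_yi, T_z, T_y, T_q, T_yi, T_q, T_z, T_q, T_y] [T_yi, T_q, T_z, T_q, T_y, T_q, T_yi, T_z, T_y, T_q, T_z, T_q, T_yi, T_q, T_y, T_z] (nat_lit 16) z2 M (Nat.sub (MG u) (Nat.mod (MG u) M)) (nat_lit 40) z1 u (Nat.mod (MG u) M)) (H9.TCX.mRelD MG [T_z, T_yi, T_z, T_y, T_q, T_z, T_yi, T_z, T_q, T_y, T_z, T_yi, T_z, T_q, T_y, T_q] [T_q, T_yi, T_q, T_z, T_y, T_z, T_yi, T_q, T_z, T_y, T_z, T_q, T_yi, T_z, T_y, T_z] (nat_lit 16) z2 M (Nat.sub (MG u) (Nat.mod (MG u) M)) (nat_lit 40) z1 u (Nat.mod (MG u) M)) (Nat.ble (nat_lit 471) j)) (Nat.ble (nat_lit 470) j)) (Bool.rec (motive := fun _ => Bool) (H9.TCX.mRelD MG [T_y, T_z, T_yi, T_q, T_y, T_q, T_z, T_q, T_yi, T_z, T_y, T_q, T_yi, T_q, T_z, T_q] [T_q, T_z, T_q, T_y, T_q, T_yi, T_z, T_y, T_q, T_z, T_q, T_yi,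 T_q, T_y, T_z, T_yi] (nat_lit 16) z2 M (Nat.sub (MG u) (Nat.mod (MG u) M)) (nat_lit 40) z1 u (Nat.mod (MG u) M)) (Bool.rec (motive := fun _ => Bool) (H9.TCX.mRelD MG [T_z, T_y, T_y, T_q, T_yi, T_yi, T_z, T_q, T_z, T_y, T_y, T_q, T_yi, T_yi, T_z, T_q] [T_q, T_z, T_y, T_y, T_q, T_yi, T_yi, T_z, T_q, T_z, T_y, T_y, T_q, T_yi, T_yi, T_z] (nat_lit 16) z2 M (Nat.sub (MG u) (Nat.mod (MG u) M)) (nat_lit 40) z1 u (Nat.mod (MG u) M)) (H9.TCX.mRelD MG [T_q, T_y, T_y, T_y, T_q, T_yi, T_yi, T_yi, T_q, T_yi, T_yi, T_yi, T_q, T_yi, T_yi, T_yi] [T_y, T_y, T_y, T_q, T_y, T_y, T_y, T_q, T_y, T_y, T_y, T_q, T_yi, T_yi, T_yi, T_q] (nat_lit 16) z2 M (Nat.sub (MG u) (Nat.mod (MG u) M)) (nat_lit 40) z1 u (Nat.mod (MG u) M)) (Nat.ble (nat_lit 474) j)) (Nat.ble (nat_lit 473) j)) (Nat.ble (nat_lit 472) j)) (Nat.ble (nat_lit 469) j)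
noncomputable def dM_104 (j z1 z2 u : ℕ) : Bool :=
  Bool.rec (motive := fun _ => Bool) (dM_102 j z1 z2 u) (dM_103 j z1 z2 u) (Nat.ble (nat_lit 464) j)
noncomputable def dM_105 (j z1 z2 u : ℕ) : Bool :=
  Bool.rec (motive := fun _ => Bool) (Bool.rec (motive := fun _ => Bool) (Bool.rec (motive := fun _ => Bool) (H9.TCX.mRelD MG [T_q, T_y, T_q, T_y, T_y, T_q, T_y, T_q, T_yi, T_yi, T_q, T_yi, T_yi, T_yi, T_q, T_y] [T_yi, T_q, T_y, T_y, T_y, T_q, T_y, T_y, T_q, T_yi, T_q, T_yi, T_yi, T_q, T_yi, T_q] (nat_lit 16) z2 M (Nat.sub (MG u) (Nat.mod (MG u) M)) (nat_lit 40) z1 u (Nat.mod (MG u) M)) (H9.TCX.mRelD MG [T_y, T_y, T_q, T_yi, T_q, T_yi, T_yi, T_q, T_yi, T_q, T_yi, T_q, T_y, T_y, T_y, T_q] [T_q, T_yi, T_yi, T_yi, T_q, T_y, T_q, T_y, T_q, T_y, T_y, T_q, T_y, T_q, T_yi, T_yi] (nat_lit 16) z2 M (Nat.sub (MG u) (Nat.mod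 (MG u) M)) (nat_lit 40) z1 u (Nat.mod (MG u) M)) (Nat.ble (nat_lit 476) j)) (Bool.rec (motive := fun _ => Bool) (H9.TCX.mRelD MG [T_yi, T_q, T_yi, T_yi, T_q, T_yi, T_q, T_y, T_y, T_q, T_y, T_y, T_y, T_q, T_yi, T_q] [T_q, T_y, T_q, T_yi, T_yi, T_yi, T_q, T_yi, T_yi, T_q, T_y, T_q, T_y, T_y, T_q, T_y] (nat_lit 16) z2 M (Nat.sub (MG u) (Nat.mod (MG u) M)) (nat_lit 40) z1 u (Nat.mod (MG u) M)) (Bool.rec (motive := fun _ => Bool) (H9.TCX.mRelD MG [T_y, T_y, T_q, T_y, T_q, T_yi, T_yi, T_q, T_yi, T_yi, T_yi, T_q, T_y, T_q, T_y, T_q] [T_q, T_yi, T_q, T_yi, T_q, T_y, T_y, T_y, T_q, T_y, T_y, T_q, T_yi, T_q, T_yi, T_yi] (nat_lit 16) z2 M (Nat.sub (MG u) (Nat.mod (MG u) M)) (nat_lit 40) z1 u (Nat.mod (MG u) M)) (H9.TCX.mRelD MG [T_q, T_yi, T_yi, T_yi, T_q, T_z, T_yi, T_yi, T_z, T_q, T_yi, T_yi, T_yi, T_q, T_z, T_yi,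 T_yi, T_z, T_q, T_yi, T_yi, T_yi, T_q, T_z, T_yi, T_yi, T_z] [T_z, T_y, T_y, T_z, T_q, T_y, T_y, T_y, T_q, T_z, T_y, T_y, T_z, T_q, T_y, T_y, T_y, T_q, T_z, T_y, T_y, T_z, T_q, T_y, T_y, T_y, T_q] (nat_lit 27) z2 M (Nat.sub (MG u) (Nat.mod (MG u) M)) (nat_lit 40) z1 u (Nat.mod (MG u) M)) (Nat.ble (nat_lit 479) j)) (Nat.ble (nat_lit 478) j)) (Nat.ble (nat_lit 477) j)) (Bool.rec (motive := fun _ => Bool) (Bool.rec (motive := fun _ => Bool) (H9.TCX.mRelD MG [T_z, T_yi, T_q, T_z, T_q, T_y, T_q, T_yi, T_z, T_y, T_q, T_z, T_q, T_yi, T_q, T_y] [T_yi, T_q, T_y, T_q, T_z, T_q, T_yi, T_z, T_y, T_q, T_yi, T_q, T_z, T_q, T_y, T_z] (nat_lit 16) z2 M (Nat.sub (MG u) (Nat.mod (MG u) M)) (nat_lit 40) z1 u (Nat.mod (MG u) M)) (Bool.rec (motive := fun _ => Bool) (H9.TCX.mRelD MG [T_yi, T_q, T_yi, T_q, T_yi, T_z, T_q, T_z, T_yi,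 T_q, T_yi, T_q, T_yi, T_z, T_q, T_z] [T_z, T_q, T_z, T_y, T_q, T_y, T_q, T_y, T_z, T_q, T_z, T_y, T_q, T_y, T_q, T_y] (nat_lit 16) z2 M (Nat.sub (MG u) (Nat.mod (MG u) M)) (nat_lit 40) z1 u (Nat.mod (MG u) M)) (H9.TCX.mRelD MG [T_yi, T_z, T_q, T_y, T_q, T_z, T_yi, T_z, T_y, T_q, T_z, T_yi, T_z, T_q, T_y, T_z] [T_z, T_yi, T_q, T_z, T_y, T_z, T_q, T_yi, T_z, T_y, T_z, T_q, T_yi, T_q, T_z, T_y] (nat_lit 16) z2 M (Nat.sub (MG u) (Nat.mod (MG u) M)) (nat_lit 40) z1 u (Nat.mod (MG u) M)) (Nat.ble (nat_lit 482) j)) (Nat.ble (nat_lit 481) j)) (Bool.rec (motive := fun _ => Bool) (H9.TCX.mRelD MG [T_q, T_yi, T_q, T_yi, T_yi, T_q, T_yi, T_q, T_y, T_y, T_q, T_y, T_y, T_y, T_q, T_yi] [T_y, T_q, T_yi, T_yi, T_yi, T_q, T_yi, T_yi, T_q, T_y, T_q, T_y, T_y, T_q, T_y, T_q] (nat_lit 16) z2 M (Nat.sub (MG u) (Nat.mod (MG u) M))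 (nat_lit 40) z1 u (Nat.mod (MG u) M)) (Bool.rec (motive := fun _ => Bool) (H9.TCX.mRelD MG [T_y, T_q, T_z, T_yi, T_z, T_y, T_q, T_z, T_yi, T_z, T_q, T_y, T_z, T_yi, T_z, T_q] [T_q, T_z, T_y, T_z, T_yi, T_q, T_z, T_y, T_z, T_q, T_yi, T_z, T_y, T_z, T_q, T_yi] (nat_lit 16) z2 M (Nat.sub (MG u) (Nat.mod (MG u) M)) (nat_lit 40) z1 u (Nat.mod (MG u) M)) (H9.TCX.mRelD MG [T_y, T_q, T_z, T_q, T_yi, T_q, T_y, T_z, T_yi, T_q, T_z, T_q, T_y, T_q, T_yi, T_z] [T_z, T_y, T_q, T_yi, T_q, T_z, T_q, T_y, T_z, T_yi, T_q, T_y, T_q, T_z, T_q, T_yi] (nat_lit 16) z2 M (Nat.sub (MG u) (Nat.mod (MG u) M)) (nat_lit 40) z1 u (Nat.mod (MG u) M)) (Nat.ble (nat_lit 485) j)) (Nat.ble (nat_lit 484) j)) (Nat.ble (nat_lit 483) j)) (Nat.ble (nat_lit 480) j)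
noncomputable def dM_106 (j z1 z2 u : ℕ) : Bool :=
  Bool.rec (motive := fun _ => Bool) (Bool.rec (motive := fun _ => Bool) (Bool.rec (motive := fun _ => Bool) (H9.TCX.mRelD MG [T_y, T_q, T_y, T_q, T_yi, T_yi, T_yi, T_q, T_yi, T_yi, T_q, T_y, T_q, T_y, T_y, T_q] [T_q, T_yi, T_yi, T_q, T_yi, T_q, T_y, T_y, T_q, T_y, T_y, T_y, T_q, T_yi, T_q, T_yi] (nat_lit 16) z2 M (Nat.sub (MG u) (Nat.mod (MG u) M)) (nat_lit 40) z1 u (Nat.mod (MG u) M)) (Bool.rec (motive := fun _ => Bool) (H9.TCX.mRelD MG [T_q, T_y, T_q, T_z, T_q, T_yi, T_z, T_y, T_q, T_yi, T_q, T_z, T_q, T_y, T_z, T_yi] [T_y, T_z, T_yi, T_q, T_z, T_q, T_y, T_q, T_yi, T_z, T_y, T_q, T_z, T_q, T_yi, T_q] (nat_lit 16) z2 M (Nat.sub (MG u) (Nat.mod (MG u) M)) (nat_lit 40) z1 u (Nat.mod (MG u) M)) (H9.TCX.mRelD MG [T_q, T_y, T_z, T_yi, T_q, T_z, T_q, T_y, T_q,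 T_yi, T_z, T_y, T_q, T_z, T_q, T_yi] [T_y, T_q, T_z, T_q, T_yi, T_z, T_y, T_q, T_yi, T_q, T_z, T_q, T_y, T_z, T_yi, T_q] (nat_lit 16) z2 M (Nat.sub (MG u) (Nat.mod (MG u) M)) (nat_lit 40) z1 u (Nat.mod (MG u) M)) (Nat.ble (nat_lit 488) j)) (Nat.ble (nat_lit 487) j)) (Bool.rec (motive := fun _ => Bool) (H9.TCX.mRelD MG [T_y, T_z, T_yi, T_z, T_q, T_yi, T_yi, T_z, T_q, T_yi, T_z, T_y, T_z, T_q, T_y, T_y, T_z, T_q] [T_q, T_z, T_yi, T_yi, T_q, T_z, T_yi, T_z, T_y, T_q, T_z, T_y, T_y, T_q, T_z, T_y, T_z, T_yi] (nat_lit 18) z2 M (Nat.sub (MG u) (Nat.mod (MG u) M)) (nat_lit 40) z1 u (Nat.mod (MG u) M)) (Bool.rec (motive := fun _ => Bool) (H9.TCX.mRelD MG [T_yi, T_z, T_y, T_q, T_z, T_yi, T_z, T_q, T_y, T_z, T_yi, T_z, T_q, T_y, T_q, T_z] [T_z, T_q, T_yi, T_q, T_z, T_y, T_z, T_yi, T_q, T_z, T_y, T_z, T_q, T_yi, T_z,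 T_y] (nat_lit 16) z2 M (Nat.sub (MG u) (Nat.mod (MG u) M)) (nat_lit 40) z1 u (Nat.mod (MG u) M)) (H9.TCX.mRelD MG [T_z, T_q, T_y, T_q, T_yi, T_z, T_y, T_q, T_z, T_q, T_yi, T_q, T_y, T_z, T_yi, T_q] [T_q, T_y, T_z, T_yi, T_q, T_y, T_q, T_z, T_q, T_yi, T_z, T_y, T_q, T_yi, T_q, T_z] (nat_lit 16) z2 M (Nat.sub (MG u) (Nat.mod (MG u) M)) (nat_lit 40) z1 u (Nat.mod (MG u) M)) (Nat.ble (nat_lit 491) j)) (Nat.ble (nat_lit 490) j)) (Nat.ble (nat_lit 489) j)) (Bool.rec (motive := fun _ => Bool) (Bool.rec (motive := fun _ => Bool) (H9.TCX.mRelD MG [T_y, T_q, T_z, T_yi, T_z, T_q, T_y, T_q, T_z, T_yi, T_z, T_q, T_y, T_q, T_z, T_yi, T_z, T_q] [T_q, T_z, T_y, T_z, T_q, T_yi, T_q, T_z, T_y, T_z, T_q, T_yi, T_q, T_z, T_y, T_z, T_q, T_yi] (nat_lit 18) z2 M (Nat.sub (MG u) (Nat.mod (MG u) M)) (nat_lit 40) z1 u (Nat.mod (MG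 u) M)) (Bool.rec (motive := fun _ => Bool) (H9.TCX.mRelD MG [T_yi, T_q, T_z, T_yi, T_yi, T_z, T_q, T_yi, T_yi, T_yi, T_q, T_z, T_yi, T_yi, T_z, T_q, T_yi, T_yi, T_yi, T_q, T_z, T_yi, T_yi, T_z, T_q, T_yi, T_yi] [T_y, T_y, T_q, T_z, T_y, T_y, T_z, T_q, T_y, T_y, T_y, T_q, T_z, T_y, T_y, T_z, T_q, T_y, T_y, T_y, T_q, T_z, T_y, T_y, T_z, T_q, T_y] (nat_lit 27) z2 M (Nat.sub (MG u) (Nat.mod (MG u) M)) (nat_lit 40) z1 u (Nat.mod (MG u) M)) (H9.TCX.mRelD MG [T_q, T_z, T_yi, T_z, T_q, T_y, T_q, T_z, T_yi, T_z, T_q, T_y, T_q, T_z, T_yi, T_z, T_q, T_y] [T_yi, T_q, T_z, T_y, T_z, T_q, T_yi, T_q, T_z, T_y, T_z, T_q, T_yi, T_q, T_z, T_y, T_z, T_q] (nat_lit 18) z2 M (Nat.sub (MG u) (Nat.mod (MG u) M)) (nat_lit 40) z1 u (Nat.mod (MG u) M)) (Nat.ble (nat_lit 494) j)) (Nat.ble (nat_lit 493) j)) (Bool.rec (motive := fun _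 => Bool) (H9.TCX.mRelD MG [T_z, T_y, T_q, T_z, T_y, T_y, T_q, T_z, T_y, T_z, T_yi, T_q, T_z, T_yi, T_yi, T_q, T_z, T_yi] [T_y, T_z, T_q, T_y, T_y, T_z, T_q, T_y, T_z, T_yi, T_z, T_q, T_yi, T_yi, T_z, T_q, T_yi, T_z] (nat_lit 18) z2 M (Nat.sub (MG u) (Nat.mod (MG u) M)) (nat_lit 40) z1 u (Nat.mod (MG u) M)) (Bool.rec (motive := fun _ => Bool) (H9.TCX.mRelD MG [T_z, T_y, T_z, T_q, T_yi, T_z, T_y, T_z, T_q, T_yi, T_q, T_z, T_y, T_z, T_yi, T_q] [T_q, T_y, T_z, T_yi, T_z, T_q, T_y, T_q, T_z, T_yi, T_z, T_y, T_q, T_z, T_yi, T_z] (nat_lit 16) z2 M (Nat.sub (MG u) (Nat.mod (MG u) M)) (nat_lit 40) z1 u (Nat.mod (MG u) M)) (H9.TCX.mRelD MG [T_z, T_q, T_yi, T_q, T_z, T_q, T_y, T_q, T_z, T_yi, T_yi, T_q, T_z, T_yi, T_q, T_z, T_yi, T_z, T_y, T_z, T_q, T_y, T_z, T_q, T_y, T_y] [T_yi, T_yi, T_q, T_z, T_yi, T_q, T_z, T_yi,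 T_z, T_y, T_z, T_q, T_y, T_z, T_q, T_y, T_y, T_z, T_q, T_yi, T_q, T_z, T_q, T_y, T_q, T_z] (nat_lit 26) z2 M (Nat.sub (MG u) (Nat.mod (MG u) M)) (nat_lit 40) z1 u (Nat.mod (MG u) M)) (Nat.ble (nat_lit 497) j)) (Nat.ble (nat_lit 496) j)) (Nat.ble (nat_lit 495) j)) (Nat.ble (nat_lit 492) j)
noncomputable def dM_107 (j z1 z2 u : ℕ) : Bool :=
  Bool.rec (motive := fun _ => Bool) (dM_105 j z1 z2 u) (dM_106 j z1 z2 u) (Nat.ble (nat_lit 486) j)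
noncomputable def dM_108 (j z1 z2 u : ℕ) : Bool :=
  Bool.rec (motive := fun _ => Bool) (dM_104 j z1 z2 u) (dM_107 j z1 z2 u) (Nat.ble (nat_lit 475) j)
noncomputable def dM_109 (j z1 z2 u : ℕ) : Bool :=
  Bool.rec (motive := fun _ => Bool) (dM_101 j z1 z2 u) (dM_108 j z1 z2 u) (Nat.ble (nat_lit 454) j)
noncomputable def dM_110 (j z1 z2 u : ℕ) : Bool :=
  Bool.rec (motive := fun _ => Bool) (Bool.rec (motive := fun _ => Bool) (H9.TCX.mRelD MG [T_yi, T_q, T_y, T_q, T_z, T_q, T_yi, T_z, T_y, T_q, T_yi, T_q, T_z, T_q, T_y, T_z] [T_z, T_yi, T_q, T_z, T_q, T_y, T_q, T_yi, T_z, T_y, T_q, T_z, T_q, T_yi, T_q, T_y] (nat_lit 16) z2 M (Nat.sub (MG u) (Nat.mod (MG u) M)) (nat_lit 40) z1 u (Nat.mod (MG u) M)) (Bool.rec (motive := fun _ => Bool) (H9.TCX.mRelD MG [T_z, T_q, T_yi, T_z, T_y, T_z, T_q, T_yi, T_q, T_z, T_y, T_z,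 T_yi, T_q, T_z, T_y] [T_yi, T_z, T_q, T_y, T_z, T_yi, T_z, T_q, T_y, T_q, T_z, T_yi, T_z, T_y, T_q, T_z] (nat_lit 16) z2 M (Nat.sub (MG u) (Nat.mod (MG u) M)) (nat_lit 40) z1 u (Nat.mod (MG u) M)) (H9.TCX.mRelD MG [T_yi, T_q, T_z, T_y, T_q, T_z, T_yi, T_z, T_y, T_z, T_q, T_yi, T_z, T_q, T_y, T_z] [T_z, T_yi, T_q, T_z, T_y, T_q, T_z, T_yi, T_z, T_y, T_z, T_q, T_yi, T_z, T_q, T_y] (nat_lit 16) z2 M (Nat.sub (MG u) (Nat.mod (MG u) M)) (nat_lit 40) z1 u (Nat.mod (MG u) M)) (Nat.ble (nat_lit 500) j)) (Nat.ble (nat_lit 499) j)) (Bool.rec (motive := fun _ => Bool) (H9.TCX.mRelD MG [T_q, T_yi, T_yi, T_yi, T_q, T_yi, T_yi, T_q, T_y, T_q, T_y, T_y, T_q, T_y, T_q, T_y] [T_yi, T_q, T_yi, T_q, T_yi, T_yi, T_q, T_yi, T_q, T_y, T_y, T_q, T_y, T_y, T_y, T_q] (nat_lit 16) z2 M (Nat.sub (MG u) (Nat.mod (MG u) M)) (nat_lit 40)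 z1 u (Nat.mod (MG u) M)) (Bool.rec (motive := fun _ => Bool) (H9.TCX.mRelD MG [T_q, T_y, T_q, T_yi, T_yi, T_yi, T_q, T_yi, T_yi, T_q, T_y, T_q, T_y, T_y, T_q, T_y] [T_yi, T_q, T_yi, T_yi, T_q, T_yi, T_q, T_y, T_y, T_q, T_y, T_y, T_y, T_q, T_yi, T_q] (nat_lit 16) z2 M (Nat.sub (MG u) (Nat.mod (MG u) M)) (nat_lit 40) z1 u (Nat.mod (MG u) M)) (H9.TCX.mRelD MG [T_y, T_q, T_yi, T_q, T_yi, T_q, T_yi, T_yi, T_q, T_yi, T_q, T_y, T_y, T_q, T_y, T_y] [T_yi, T_yi, T_q, T_yi, T_yi, T_q, T_y, T_q, T_y, T_y, T_q, T_y, T_q, T_y, T_q, T_yi] (nat_lit 16) z2 M (Nat.sub (MG u) (Nat.mod (MG u) M)) (nat_lit 40) z1 u (Nat.mod (MG u) M)) (Nat.ble (nat_lit 503) j)) (Nat.ble (nat_lit 502) j)) (Nat.ble (nat_lit 501) j)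
noncomputable def dM_111 (j z1 z2 u : ℕ) : Bool :=
  Bool.rec (motive := fun _ => Bool) (Bool.rec (motive := fun _ => Bool) (H9.TCX.mRelD MG [T_yi, T_q, T_z, T_q, T_y, T_q, T_yi, T_z, T_y, T_q, T_z, T_q, T_yi, T_q, T_y, T_z] [T_z, T_yi, T_q, T_y, T_q, T_z, T_q, T_yi, T_z, T_y, T_q, T_yi, T_q, T_z, T_q, T_y] (nat_lit 16) z2 M (Nat.sub (MG u) (Nat.mod (MG u) M)) (nat_lit 40) z1 u (Nat.mod (MG u) M)) (Bool.rec (motive := fun _ => Bool) (H9.TCX.mRelD MG [T_yi, T_z, T_y, T_z, T_q, T_y, T_y, T_z, T_q, T_y, T_z, T_yi, T_z, T_q, T_yi, T_yi, T_z, T_q] [T_q, T_z, T_y, T_y, T_q, T_z, T_y, T_z, T_yi, T_q, T_z, T_yi, T_yi, T_q, T_z, T_yi, T_z, T_y] (nat_lit 18) z2 M (Nat.sub (MG u) (Nat.mod (MG u) M)) (nat_lit 40) z1 u (Nat.mod (MG u) M)) (H9.TCX.mRelD MG [T_yi, T_q, T_y, T_q, T_y, T_q, T_y, T_y, T_q, T_y, T_q, T_yi, T_yi,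 T_q, T_yi, T_yi] [T_y, T_y, T_q, T_y, T_y, T_q, T_yi, T_q, T_yi, T_yi, T_q, T_yi, T_q, T_yi, T_q, T_y] (nat_lit 16) z2 M (Nat.sub (MG u) (Nat.mod (MG u) M)) (nat_lit 40) z1 u (Nat.mod (MG u) M)) (Nat.ble (nat_lit 506) j)) (Nat.ble (nat_lit 505) j)) (Bool.rec (motive := fun _ => Bool) (Bool.rec (motive := fun _ => Bool) (H9.TCX.mRelD MG [T_y, T_q, T_yi, T_q, T_z, T_q, T_y, T_z, T_yi, T_q, T_y, T_q, T_z, T_q, T_yi, T_z] [T_z, T_y, T_q, T_z, T_q, T_yi, T_q, T_y, T_z, T_yi, T_q, T_z, T_q, T_y, T_q, T_yi] (nat_lit 16) z2 M (Nat.sub (MG u) (Nat.mod (MG u) M)) (nat_lit 40) z1 u (Nat.mod (MG u) M)) (H9.TCX.mRelD MG [T_q, T_z, T_y, T_y, T_y, T_q, T_z, T_q, T_z, T_y, T_y, T_y, T_q, T_z] [T_z, T_q, T_yi, T_yi, T_yi, T_z, T_q, T_z, T_q, T_yi, T_yi, T_yi, T_z, T_q] (nat_lit 14) z2 M (Nat.sub (MG u) (Nat.mod (MG u) M))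 (nat_lit 40) z1 u (Nat.mod (MG u) M)) (Nat.ble (nat_lit 508) j)) (Bool.rec (motive := fun _ => Bool) (H9.TCX.mRelD MG [T_z, T_q, T_y, T_z, T_q, T_y, T_y, T_z, T_q, T_yi, T_q, T_z, T_q, T_y, T_q, T_z, T_yi, T_yi, T_q, T_z, T_yi, T_q, T_z, T_yi, T_z, T_y] [T_yi, T_z, T_y, T_z, T_q, T_y, T_z, T_q, T_y, T_y, T_z, T_q, T_yi, T_q, T_z, T_q, T_y, T_q, T_z, T_yi, T_yi, T_q, T_z, T_yi, T_q, T_z] (nat_lit 26) z2 M (Nat.sub (MG u) (Nat.mod (MG u) M)) (nat_lit 40) z1 u (Nat.mod (MG u) M)) (H9.TCX.mRelD MG [T_y, T_y, T_q, T_y, T_y, T_q, T_yi, T_q, T_yi, T_yi, T_q, T_yi, T_q, T_yi, T_q, T_y] [T_yi, T_q, T_y, T_q, T_y, T_q, T_y, T_y, T_q, T_y, T_q, T_yi, T_yi, T_q, T_yi, T_yi] (nat_lit 16) z2 M (Nat.sub (MG u) (Nat.mod (MG u) M)) (nat_lit 40) z1 u (Nat.mod (MG u) M)) (Nat.ble (nat_lit 510) j)) (Nat.ble (nat_lit 509) j))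 (Nat.ble (nat_lit 507) j)
noncomputable def dM_112 (j z1 z2 u : ℕ) : Bool :=
  Bool.rec (motive := fun _ => Bool) (dM_110 j z1 z2 u) (dM_111 j z1 z2 u) (Nat.ble (nat_lit 504) j)
noncomputable def dM_113 (j z1 z2 u : ℕ) : Bool :=
  Bool.rec (motive := fun _ => Bool) (Bool.rec (motive := fun _ => Bool) (H9.TCX.mRelD MG [T_q, T_z, T_y, T_z, T_q, T_yi, T_q, T_z, T_y, T_z, T_q, T_yi, T_q, T_z, T_y, T_z, T_q, T_yi] [T_y, T_q, T_z, T_yi, T_z, T_q, T_y, T_q, T_z, T_yi, T_z, T_q, T_y, T_q, T_z, T_yi, T_z, T_q] (nat_lit 18) z2 M (Nat.sub (MG u) (Nat.mod (MG u) M)) (nat_lit 40) z1 u (Nat.mod (MG u) M)) (Bool.rec (motive := fun _ => Bool) (H9.TCX.mRelD MG [T_y, T_z, T_q, T_yi, T_q, T_z, T_y, T_z, T_q, T_yi, T_q, T_z, T_y, T_z, T_q, T_yi, T_q, T_z] [T_z, T_q, T_y, T_q, T_z, T_yi, T_z, T_q, T_y, T_q, T_z, T_yi, T_z, T_q,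 T_y, T_q, T_z, T_yi] (nat_lit 18) z2 M (Nat.sub (MG u) (Nat.mod (MG u) M)) (nat_lit 40) z1 u (Nat.mod (MG u) M)) (H9.TCX.mRelD MG [T_z, T_q, T_y, T_y, T_z, T_q, T_yi, T_q, T_z, T_q, T_y, T_q, T_z, T_yi, T_yi, T_q, T_z, T_yi, T_q, T_z, T_yi, T_z, T_y, T_z, T_q, T_y] [T_yi, T_q, T_z, T_yi, T_z, T_y, T_z, T_q, T_y, T_z, T_q, T_y, T_y, T_z, T_q, T_yi, T_q, T_z, T_q, T_y, T_q, T_z, T_yi, T_yi, T_q, T_z] (nat_lit 26) z2 M (Nat.sub (MG u) (Nat.mod (MG u) M)) (nat_lit 40) z1 u (Nat.mod (MG u) M)) (Nat.ble (nat_lit 513) j)) (Nat.ble (nat_lit 512) j)) (Bool.rec (motive := fun _ => Bool) (H9.TCX.mRelD MG [T_yi, T_yi, T_yi, T_q, T_y, T_q, T_y, T_q, T_y, T_y, T_q, T_y, T_q, T_yi, T_yi, T_q] [T_q, T_y, T_y, T_q, T_yi, T_q, T_yi, T_yi, T_q, T_yi, T_q, T_yi, T_q, T_y, T_y, T_y] (nat_lit 16) z2 M (Nat.sub (MG u) (Nat.mod (MG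 u) M)) (nat_lit 40) z1 u (Nat.mod (MG u) M)) (Bool.rec (motive := fun _ => Bool) (H9.TCX.mRelD MG [T_yi, T_yi, T_q, T_yi, T_q, T_yi, T_q, T_y, T_y, T_y, T_q, T_y, T_y, T_q, T_yi, T_q] [T_q, T_y, T_q, T_yi, T_yi, T_q, T_yi, T_yi, T_yi, T_q, T_y, T_q, T_y, T_q, T_y, T_y] (nat_lit 16) z2 M (Nat.sub (MG u) (Nat.mod (MG u) M)) (nat_lit 40) z1 u (Nat.mod (MG u) M)) (H9.TCX.mRelD MG [T_z, T_y, T_q, T_z, T_yi, T_z, T_q, T_y, T_z, T_yi, T_z, T_q, T_y, T_q, T_z, T_yi] [T_y, T_z, T_q, T_yi, T_q, T_z, T_y, T_z, T_yi, T_q, T_z, T_y, T_z, T_q, T_yi, T_z] (nat_lit 16) z2 M (Nat.sub (MG u) (Nat.mod (MG u) M)) (nat_lit 40) z1 u (Nat.mod (MG u) M)) (Nat.ble (nat_lit 516) j)) (Nat.ble (nat_lit 515) j)) (Nat.ble (nat_lit 514) j)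
noncomputable def dM_114 (j z1 z2 u : ℕ) : Bool :=
  Bool.rec (motive := fun _ => Bool) (Bool.rec (motive := fun _ => Bool) (H9.TCX.mRelD MG [T_z, T_yi, T_q, T_z, T_y, T_q, T_z, T_yi, T_z, T_y, T_z, T_q, T_yi, T_z, T_q, T_y] [T_yi, T_q, T_z, T_y, T_q, T_z, T_yi, T_z, T_y, T_z, T_q, T_yi, T_z, T_q, T_y, T_z] (nat_lit 16) z2 M (Nat.sub (MG u) (Nat.mod (MG u) M)) (nat_lit 40) z1 u (Nat.mod (MG u) M)) (Bool.rec (motive := fun _ => Bool) (H9.TCX.mRelD MG [T_q, T_yi, T_q, T_yi, T_yi, T_q, T_yi, T_q, T_yi, T_q, T_y, T_y, T_y, T_q, T_y, T_y] [T_yi, T_yi, T_q, T_yi, T_yi, T_yi, T_q, T_y, T_q, T_y, T_q, T_y, T_y, T_q, T_y, T_q] (nat_lit 16) z2 M (Nat.sub (MG u) (Nat.mod (MG u) M)) (nat_lit 40) z1 u (Nat.mod (MG u) M)) (H9.TCX.mRelD MG [T_q, T_yi, T_q, T_y, T_z, T_yi, T_q, T_z, T_q, T_y, T_q, T_yi, T_z, T_y, T_q, T_z]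 [T_z, T_q, T_yi, T_z, T_y, T_q, T_yi, T_q, T_z, T_q, T_y, T_z, T_yi, T_q, T_y, T_q] (nat_lit 16) z2 M (Nat.sub (MG u) (Nat.mod (MG u) M)) (nat_lit 40) z1 u (Nat.mod (MG u) M)) (Nat.ble (nat_lit 519) j)) (Nat.ble (nat_lit 518) j)) (Bool.rec (motive := fun _ => Bool) (Bool.rec (motive := fun _ => Bool) (H9.TCX.mRelD MG [T_z, T_y, T_q, T_z, T_q, T_yi, T_q, T_y, T_z, T_yi, T_q, T_z, T_q, T_y, T_q, T_yi] [T_y, T_q, T_yi, T_q, T_z, T_q, T_y, T_z, T_yi, T_q, T_y, T_q, T_z, T_q, T_yi, T_z] (nat_lit 16) z2 M (Nat.sub (MG u) (Nat.mod (MG u) M)) (nat_lit 40) z1 u (Nat.mod (MG u) M)) (H9.TCX.mRelD MG [T_q, T_yi, T_z, T_y, T_q, T_z, T_q, T_yi, T_q, T_y, T_z, T_yi, T_q, T_z, T_q, T_y] [T_yi, T_q, T_z, T_q, T_y, T_z, T_yi, T_q, T_y, T_q, T_z, T_q, T_yi, T_z, T_y, T_q] (nat_lit 16) z2 M (Nat.sub (MG u) (Nat.mod (MG u) M))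 (nat_lit 40) z1 u (Nat.mod (MG u) M)) (Nat.ble (nat_lit 521) j)) (Bool.rec (motive := fun _ => Bool) (H9.TCX.mRelD MG [T_y, T_z, T_yi, T_q, T_z, T_q, T_y, T_q, T_yi, T_z, T_y, T_q, T_z, T_q, T_yi, T_q] [T_q, T_y, T_q, T_z, T_q, T_yi, T_z, T_y, T_q, T_yi, T_q, T_z, T_q, T_y, T_z, T_yi] (nat_lit 16) z2 M (Nat.sub (MG u) (Nat.mod (MG u) M)) (nat_lit 40) z1 u (Nat.mod (MG u) M)) (H9.TCX.mRelD MG [T_q, T_y, T_q, T_z, T_yi, T_z, T_q, T_y, T_q, T_z, T_yi, T_z, T_q, T_y, T_q, T_z, T_yi, T_z] [T_z, T_y, T_z, T_q, T_yi, T_q, T_z, T_y, T_z, T_q, T_yi, T_q, T_z, T_y, T_z, T_q, T_yi, T_q] (nat_lit 18) z2 M (Nat.sub (MG u) (Nat.mod (MG u) M)) (nat_lit 40) z1 u (Nat.mod (MG u) M)) (Nat.ble (nat_lit 523) j)) (Nat.ble (nat_lit 522) j)) (Nat.ble (nat_lit 520) j)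
noncomputable def dM_115 (j z1 z2 u : ℕ) : Bool :=
  Bool.rec (motive := fun _ => Bool) (dM_113 j z1 z2 u) (dM_114 j z1 z2 u) (Nat.ble (nat_lit 517) j)
noncomputable def dM_116 (j z1 z2 u : ℕ) : Bool :=
  Bool.rec (motive := fun _ => Bool) (dM_112 j z1 z2 u) (dM_115 j z1 z2 u) (Nat.ble (nat_lit 511) j)
noncomputable def dM_117 (j z1 z2 u : ℕ) : Bool :=
  Bool.rec (motive := fun _ => Bool) (Bool.rec (motive := fun _ => Bool) (H9.TCX.mRelD MG [T_yi, T_v, T_q, T_z, T_q, T_z, T_y, T_z, T_q, T_z, T_q, T_v] [T_v, T_q, T_z, T_q, T_z, T_yi, T_z, T_q, T_z, T_q, T_v, T_y] (nat_lit 12) z2 M (Nat.sub (MG u) (Nat.mod (MG u) M)) (nat_lit 40) z1 u (Nat.mod (MG u) M)) (Bool.rec (motive := fun _ => Bool) (H9.TCX.mRelD MG [T_yi, T_yi, T_q, T_z, T_yi, T_yi, T_z, T_q, T_yi, T_yi, T_yi, T_q, T_z, T_yi, T_yi, T_z, T_q, T_yi, T_yi,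 T_yi, T_q, T_z, T_yi, T_yi, T_z, T_q, T_yi] [T_y, T_q, T_z, T_y, T_y, T_z, T_q, T_y, T_y, T_y, T_q, T_z, T_y, T_y, T_z, T_q, T_y, T_y, T_y, T_q, T_z, T_y, T_y, T_z, T_q, T_y, T_y] (nat_lit 27) z2 M (Nat.sub (MG u) (Nat.mod (MG u) M)) (nat_lit 40) z1 u (Nat.mod (MG u) M)) (H9.TCX.mRelD MG [T_yi, T_q, T_yi, T_yi, T_yi, T_q, T_y, T_y, T_y, T_q, T_yi, T_yi, T_yi, T_q, T_yi, T_yi] [T_y, T_y, T_q, T_y, T_y, T_y, T_q, T_yi, T_yi, T_yi, T_q, T_y, T_y, T_y, T_q, T_y] (nat_lit 16) z2 M (Nat.sub (MG u) (Nat.mod (MG u) M)) (nat_lit 40) z1 u (Nat.mod (MG u) M)) (Nat.ble (nat_lit 526) j)) (Nat.ble (nat_lit 525) j)) (Bool.rec (motive := fun _ => Bool) (Bool.rec (motive := fun _ => Bool) (H9.TCX.mRelD MG [T_q, T_z, T_yi, T_z, T_q, T_y, T_z, T_yi, T_z, T_q, T_y, T_q, T_z, T_yi, T_z, T_y] [T_yi, T_z, T_y, T_z, T_q, T_yi, T_q,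 T_z, T_y, T_z, T_yi, T_q, T_z, T_y, T_z, T_q] (nat_lit 16) z2 M (Nat.sub (MG u) (Nat.mod (MG u) M)) (nat_lit 40) z1 u (Nat.mod (MG u) M)) (H9.TCX.mRelD MG [T_y, T_q, T_y, T_y, T_y, T_q, T_y, T_y, T_y, T_q, T_yi, T_yi, T_yi, T_q, T_y, T_y] [T_yi, T_yi, T_q, T_y, T_y, T_y, T_q, T_yi, T_yi, T_yi, T_q, T_yi, T_yi, T_yi, T_q, T_yi] (nat_lit 16) z2 M (Nat.sub (MG u) (Nat.mod (MG u) M)) (nat_lit 40) z1 u (Nat.mod (MG u) M)) (Nat.ble (nat_lit 528) j)) (Bool.rec (motive := fun _ => Bool) (H9.TCX.mRelD MG [T_q, T_z, T_q, T_y, T_z, T_yi, T_q, T_y, T_q, T_z, T_q, T_yi, T_z, T_y, T_q, T_yi] [T_y, T_q, T_yi, T_z, T_y, T_q, T_z, T_q, T_yi, T_q, T_y, T_z, T_yi, T_q, T_z, T_q] (nat_lit 16) z2 M (Nat.sub (MG u) (Nat.mod (MG u) M)) (nat_lit 40) z1 u (Nat.mod (MG u) M)) (H9.TCX.mRelD MG [T_yi, T_q, T_y, T_z, T_yi, T_q, T_z, T_q,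 T_y, T_q, T_yi, T_z, T_y, T_q, T_z, T_q] [T_q, T_z, T_q, T_yi, T_z, T_y, T_q, T_yi, T_q, T_z, T_q, T_y, T_z, T_yi, T_q, T_y] (nat_lit 16) z2 M (Nat.sub (MG u) (Nat.mod (MG u) M)) (nat_lit 40) z1 u (Nat.mod (MG u) M)) (Nat.ble (nat_lit 530) j)) (Nat.ble (nat_lit 529) j)) (Nat.ble (nat_lit 527) j)
noncomputable def dM_118 (j z1 z2 u : ℕ) : Bool :=
  Bool.rec (motive := fun _ => Bool) (Bool.rec (motive := fun _ => Bool) (H9.TCX.mRelD MG [T_z, T_q, T_yi, T_z, T_y, T_q, T_yi, T_q, T_z, T_q, T_y, T_z, T_yi, T_q, T_y, T_q] [T_q, T_yi, T_q, T_y, T_z, T_yi, T_q, T_z, T_q, T_y, T_q, T_yi, T_z, T_y, T_q, T_z] (nat_lit 16) z2 M (Nat.sub (MG u) (Nat.mod (MG u) M)) (nat_lit 40) z1 u (Nat.mod (MG u) M)) (Bool.rec (motive := fun _ => Bool) (H9.TCX.mRelD MG [T_z, T_y, T_z, T_q, T_z, T_q, T_v, T_yi, T_v, T_q, T_z, T_q] [T_q,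 T_z, T_q, T_v, T_y, T_v, T_q, T_z, T_q, T_z, T_yi, T_z] (nat_lit 12) z2 M (Nat.sub (MG u) (Nat.mod (MG u) M)) (nat_lit 40) z1 u (Nat.mod (MG u) M)) (H9.TCX.mRelD MG [T_z, T_y, T_q, T_y, T_q, T_y, T_z, T_q, T_z, T_y, T_q, T_y, T_q, T_y, T_z, T_q] [T_q, T_z, T_yi, T_q, T_yi, T_q, T_yi, T_z, T_q, T_z, T_yi, T_q, T_yi, T_q, T_yi, T_z] (nat_lit 16) z2 M (Nat.sub (MG u) (Nat.mod (MG u) M)) (nat_lit 40) z1 u (Nat.mod (MG u) M)) (Nat.ble (nat_lit 533) j)) (Nat.ble (nat_lit 532) j)) (Bool.rec (motive := fun _ => Bool) (Bool.rec (motive := fun _ => Bool) (H9.TCX.mRelD MG [T_y, T_z, T_q, T_y, T_y, T_z, T_q, T_yi, T_q, T_z, T_q, T_y, T_q, T_z, T_yi, T_yi, T_q, T_z, T_yi, T_q, T_z, T_yi, T_z, T_y, T_z, T_q] [T_q, T_z, T_yi, T_z, T_y, T_z, T_q, T_y, T_z, T_q, T_y, T_y, T_z, T_q, T_yi, T_q, T_z, T_q, T_y, T_q, T_z, T_yi,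 T_yi, T_q, T_z, T_yi] (nat_lit 26) z2 M (Nat.sub (MG u) (Nat.mod (MG u) M)) (nat_lit 40) z1 u (Nat.mod (MG u) M)) (H9.TCX.mRelD MG [T_z, T_q, T_z, T_q, T_z, T_q, T_v, T_z, T_q, T_z, T_q, T_v, T_z, T_q, T_v] [T_v, T_q, T_z, T_v, T_q, T_z, T_q, T_z, T_v, T_q, T_z, T_q, T_z, T_q, T_z] (nat_lit 15) z2 M (Nat.sub (MG u) (Nat.mod (MG u) M)) (nat_lit 40) z1 u (Nat.mod (MG u) M)) (Nat.ble (nat_lit 535) j)) (Bool.rec (motive := fun _ => Bool) (H9.TCX.mRelD MG [T_yi, T_q, T_yi, T_yi, T_yi, T_q, T_y, T_q, T_y, T_q, T_y, T_y, T_q, T_y, T_q, T_yi] [T_y, T_q, T_yi, T_q, T_yi, T_yi, T_q, T_yi, T_q, T_yi, T_q, T_y, T_y, T_y, T_q, T_y] (nat_lit 16) z2 M (Nat.sub (MG u) (Nat.mod (MG u) M)) (nat_lit 40) z1 u (Nat.mod (MG u) M)) (H9.TCX.mRelD MG [T_yi, T_q, T_yi, T_q, T_yi, T_yi, T_q, T_yi, T_q, T_y, T_y, T_q, T_y, T_y, T_y,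 T_q] [T_q, T_yi, T_yi, T_yi, T_q, T_yi, T_yi, T_q, T_y, T_q, T_y, T_y, T_q, T_y, T_q, T_y] (nat_lit 16) z2 M (Nat.sub (MG u) (Nat.mod (MG u) M)) (nat_lit 40) z1 u (Nat.mod (MG u) M)) (Nat.ble (nat_lit 537) j)) (Nat.ble (nat_lit 536) j)) (Nat.ble (nat_lit 534) j)
noncomputable def dM_119 (j z1 z2 u : ℕ) : Bool :=
  Bool.rec (motive := fun _ => Bool) (dM_117 j z1 z2 u) (dM_118 j z1 z2 u) (Nat.ble (nat_lit 531) j)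
noncomputable def dM_120 (j z1 z2 u : ℕ) : Bool :=
  Bool.rec (motive := fun _ => Bool) (Bool.rec (motive := fun _ => Bool) (H9.TCX.mRelD MG [T_q, T_y, T_y, T_y, T_q, T_y, T_y, T_q, T_yi, T_q, T_yi, T_yi, T_q, T_yi, T_q, T_yi] [T_y, T_q, T_y, T_q, T_y, T_y, T_q, T_y, T_q, T_yi, T_yi, T_q, T_yi, T_yi, T_yi, T_q] (nat_lit 16) z2 M (Nat.sub (MG u) (Nat.mod (MG u) M)) (nat_lit 40) z1 u (Nat.mod (MG u) M)) (Bool.rec (motive := fun _ => Bool) (H9.TCX.mRelD MG [T_yi, T_yi, T_yi, T_q, T_yi, T_yi, T_yi, T_q, T_y, T_y, T_y, T_q, T_yi, T_yi, T_yi, T_q] [T_q, T_y, T_y, T_y, T_q, T_yi, T_yi, T_yi, T_q, T_y, T_y, T_y, T_q, T_y, T_y, T_y] (nat_lit 16) z2 M (Nat.sub (MG u) (Nat.mod (MG u) M)) (nat_lit 40) z1 u (Nat.mod (MG u) M)) (H9.TCX.mRelD MG [T_q, T_z, T_yi, T_q, T_z, T_yi, T_yi, T_yi, T_q, T_z, T_yi, T_q, T_z, T_yi,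 T_yi, T_yi, T_q, T_z, T_yi, T_q, T_z, T_yi, T_yi, T_yi, T_q, T_z, T_yi, T_q, T_z, T_yi, T_yi, T_yi] [T_y, T_y, T_y, T_z, T_q, T_y, T_z, T_q, T_y, T_y, T_y, T_z, T_q, T_y, T_z, T_q, T_y, T_y, T_y, T_z, T_q, T_y, T_z, T_q, T_y, T_y, T_y, T_z, T_q, T_y, T_z, T_q] (nat_lit 32) z2 M (Nat.sub (MG u) (Nat.mod (MG u) M)) (nat_lit 40) z1 u (Nat.mod (MG u) M)) (Nat.ble (nat_lit 540) j)) (Nat.ble (nat_lit 539) j)) (Bool.rec (motive := fun _ => Bool) (Bool.rec (motive := fun _ => Bool) (H9.TCX.mRelD MG [T_q, T_yi, T_q, T_z, T_y, T_z, T_q, T_yi, T_q, T_z, T_y, T_z, T_q, T_yi, T_q, T_z, T_y, T_z] [T_z, T_yi, T_z, T_q, T_y, T_q, T_z, T_yi, T_z, T_q, T_y, T_q, T_z, T_yi, T_z, T_q, T_y, T_q] (nat_lit 18) z2 M (Nat.sub (MG u) (Nat.mod (MG u) M)) (nat_lit 40) z1 u (Nat.mod (MG u) M)) (H9.TCX.mRelD MG [T_y, T_z, T_q, T_y, T_z,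 T_q, T_y, T_y, T_z, T_q, T_yi, T_q, T_z, T_q, T_y, T_q, T_z, T_yi, T_yi, T_q, T_z, T_yi, T_q, T_z, T_yi, T_z] [T_z, T_y, T_z, T_q, T_y, T_z, T_q, T_y, T_y, T_z, T_q, T_yi, T_q, T_z, T_q, T_y, T_q, T_z, T_yi, T_yi, T_q, T_z, T_yi, T_q, T_z, T_yi] (nat_lit 26) z2 M (Nat.sub (MG u) (Nat.mod (MG u) M)) (nat_lit 40) z1 u (Nat.mod (MG u) M)) (Nat.ble (nat_lit 542) j)) (Bool.rec (motive := fun _ => Bool) (H9.TCX.mRelD MG [T_q, T_z, T_q, T_yi, T_q, T_y, T_z, T_yi, T_q, T_z, T_q, T_y, T_q, T_yi, T_z, T_y] [T_yi, T_z, T_y, T_q, T_yi, T_q, T_z, T_q, T_y, T_z, T_yi, T_q, T_y, T_q, T_z, T_q] (nat_lit 16) z2 M (Nat.sub (MG u) (Nat.mod (MG u) M)) (nat_lit 40) z1 u (Nat.mod (MG u) M)) (H9.TCX.mRelD MG [T_y, T_q, T_z, T_yi, T_yi, T_q, T_z, T_yi, T_q, T_z, T_yi, T_z, T_y, T_z, T_q, T_y, T_z, T_q, T_y, T_y, T_z, T_q, T_yi, T_q,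 T_z, T_q] [T_q, T_z, T_q, T_y, T_q, T_z, T_yi, T_yi, T_q, T_z, T_yi, T_q, T_z, T_yi, T_z, T_y, T_z, T_q, T_y, T_z, T_q, T_y, T_y, T_z, T_q, T_yi] (nat_lit 26) z2 M (Nat.sub (MG u) (Nat.mod (MG u) M)) (nat_lit 40) z1 u (Nat.mod (MG u) M)) (Nat.ble (nat_lit 544) j)) (Nat.ble (nat_lit 543) j)) (Nat.ble (nat_lit 541) j)
noncomputable def dM_121 (j z1 z2 u : ℕ) : Bool :=
  Bool.rec (motive := fun _ => Bool) (Bool.rec (motive := fun _ => Bool) (Bool.rec (motive := fun _ => Bool) (H9.TCX.mRelD MG [T_yi, T_q, T_yi, T_q, T_yi, T_q, T_y, T_y, T_y, T_q, T_y, T_y, T_q, T_yi, T_q, T_yi] [T_y, T_q, T_y, T_q, T_yi, T_yi, T_q, T_yi, T_yi, T_yi, T_q, T_y, T_q, T_y, T_q, T_y] (nat_lit 16) z2 M (Nat.sub (MG u) (Nat.mod (MG u) M)) (nat_lit 40) z1 u (Nat.mod (MG u) M)) (H9.TCX.mRelD MG [T_y, T_y, T_y, T_q, T_y, T_y, T_y, T_q,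 T_y, T_y, T_y, T_q, T_yi, T_yi, T_yi, T_q] [T_q, T_y, T_y, T_y, T_q, T_yi, T_yi, T_yi, T_q, T_yi, T_yi, T_yi, T_q, T_yi, T_yi, T_yi] (nat_lit 16) z2 M (Nat.sub (MG u) (Nat.mod (MG u) M)) (nat_lit 40) z1 u (Nat.mod (MG u) M)) (Nat.ble (nat_lit 546) j)) (Bool.rec (motive := fun _ => Bool) (H9.TCX.mRelD MG [T_yi, T_q, T_y, T_y, T_y, T_q, T_yi, T_yi, T_yi, T_q, T_yi, T_yi, T_yi, T_q, T_yi, T_yi] [T_y, T_y, T_q, T_y, T_y, T_y, T_q, T_y, T_y, T_y, T_q, T_yi, T_yi, T_yi, T_q, T_y] (nat_lit 16) z2 M (Nat.sub (MG u) (Nat.mod (MG u) M)) (nat_lit 40) z1 u (Nat.mod (MG u) M)) (H9.TCX.mRelD MG [T_q, T_z, T_y, T_q, T_z, T_yi, T_z, T_y, T_z, T_q, T_yi, T_z, T_q, T_y, T_z, T_yi] [T_y, T_z, T_yi, T_q, T_z, T_y, T_q, T_z, T_yi, T_z, T_y, T_z, T_q, T_yi, T_z, T_q] (nat_lit 16) z2 M (Nat.sub (MG u) (Nat.mod (MG u) M)) (nat_lit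 40) z1 u (Nat.mod (MG u) M)) (Nat.ble (nat_lit 548) j)) (Nat.ble (nat_lit 547) j)) (Bool.rec (motive := fun _ => Bool) (Bool.rec (motive := fun _ => Bool) (H9.TCX.mRelD MG [T_q, T_yi, T_q, T_yi, T_q, T_yi, T_yi, T_q, T_yi, T_q, T_y, T_y, T_q, T_y, T_y, T_y] [T_yi, T_yi, T_yi, T_q, T_yi, T_yi, T_q, T_y, T_q, T_y, T_y, T_q, T_y, T_q, T_y, T_q] (nat_lit 16) z2 M (Nat.sub (MG u) (Nat.mod (MG u) M)) (nat_lit 40) z1 u (Nat.mod (MG u) M)) (H9.TCX.mRelD MG [T_q, T_yi, T_yi, T_q, T_yi, T_q, T_yi, T_q, T_y, T_y, T_y, T_q, T_y, T_y, T_q, T_yi] [T_y, T_q, T_yi, T_yi, T_q, T_yi, T_yi, T_yi, T_q, T_y, T_q, T_y, T_q, T_y, T_y, T_q] (nat_lit 16) z2 M (Nat.sub (MG u) (Nat.mod (MG u) M)) (nat_lit 40) z1 u (Nat.mod (MG u) M)) (Nat.ble (nat_lit 550) j)) (Bool.rec (motive := fun _ => Bool) (H9.TCX.mRelD MG [T_y, T_q, T_yi, T_yi,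 T_q, T_yi, T_yi, T_yi, T_q, T_y, T_q, T_y, T_q, T_y, T_y, T_q] [T_q, T_yi, T_yi, T_q, T_yi, T_q, T_yi, T_q, T_y, T_y, T_y, T_q, T_y, T_y, T_q, T_yi] (nat_lit 16) z2 M (Nat.sub (MG u) (Nat.mod (MG u) M)) (nat_lit 40) z1 u (Nat.mod (MG u) M)) (H9.TCX.mRelD MG [T_y, T_q, T_z, T_yi, T_z, T_q, T_y, T_z, T_yi, T_z, T_q, T_y, T_q, T_z, T_yi, T_z] [T_z, T_y, T_z, T_q, T_yi, T_q, T_z, T_y, T_z, T_yi, T_q, T_z, T_y, T_z, T_q, T_yi] (nat_lit 16) z2 M (Nat.sub (MG u) (Nat.mod (MG u) M)) (nat_lit 40) z1 u (Nat.mod (MG u) M)) (Nat.ble (nat_lit 552) j)) (Nat.ble (nat_lit 551) j)) (Nat.ble (nat_lit 549) j)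
noncomputable def dM_122 (j z1 z2 u : ℕ) : Bool :=
  Bool.rec (motive := fun _ => Bool) (dM_120 j z1 z2 u) (dM_121 j z1 z2 u) (Nat.ble (nat_lit 545) j)
noncomputable def dM_123 (j z1 z2 u : ℕ) : Bool :=
  Bool.rec (motive := fun _ => Bool) (dM_119 j z1 z2 u) (dM_122 j z1 z2 u) (Nat.ble (nat_lit 538) j)
noncomputable def dM_124 (j z1 z2 u : ℕ) : Bool :=
  Bool.rec (motive := fun _ => Bool) (dM_116 j z1 z2 u) (dM_123 j z1 z2 u) (Nat.ble (nat_lit 524) j)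
noncomputable def dM_125 (j z1 z2 u : ℕ) : Bool :=
  Bool.rec (motive := fun _ => Bool) (Bool.rec (motive := fun _ => Bool) (Bool.rec (motive := fun _ => Bool) (H9.TCX.mRelD MG [T_y, T_y, T_y, T_q, T_y, T_y, T_q, T_yi, T_q, T_yi, T_yi, T_q, T_yi, T_q, T_yi, T_q] [T_q, T_y, T_q, T_y, T_q, T_y, T_y, T_q, T_y, T_q, T_yi, T_yi, T_q, T_yi, T_yi, T_yi] (nat_lit 16) z2 M (Nat.sub (MG u) (Nat.mod (MG u) M)) (nat_lit 40) z1 u (Nat.mod (MG u) M)) (H9.TCX.mRelD MG [T_yi, T_yi, T_q, T_y, T_q, T_y, T_q, T_y, T_y, T_q, T_y, T_q, T_yi, T_yi, T_q, T_yi] [T_y, T_q, T_y, T_y, T_q, T_yi, T_q, T_yi, T_yi, T_q, T_yi, T_q, T_yi, T_q, T_y, T_y] (nat_lit 16) z2 M (Nat.sub (MG u) (Nat.mod (MG u) M)) (nat_lit 40) z1 u (Nat.mod (MG u) M)) (Nat.ble (nat_lit 554) j)) (Bool.rec (motive := fun _ => Bool) (H9.TCX.mRelD MG [T_q, T_z, T_y,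 T_q, T_y, T_q, T_y, T_z, T_q, T_z, T_y, T_q, T_y, T_q, T_y, T_z] [T_z, T_yi, T_q, T_yi, T_q, T_yi, T_z, T_q, T_z, T_yi, T_q, T_yi, T_q, T_yi, T_z, T_q] (nat_lit 16) z2 M (Nat.sub (MG u) (Nat.mod (MG u) M)) (nat_lit 40) z1 u (Nat.mod (MG u) M)) (H9.TCX.mRelD MG [T_yi, T_yi, T_yi, T_q, T_y, T_y, T_y, T_q, T_yi, T_yi, T_yi, T_q, T_yi, T_yi, T_yi, T_q] [T_q, T_y, T_y, T_y, T_q, T_y, T_y, T_y, T_q, T_yi, T_yi, T_yi, T_q, T_y, T_y, T_y] (nat_lit 16) z2 M (Nat.sub (MG u) (Nat.mod (MG u) M)) (nat_lit 40) z1 u (Nat.mod (MG u) M)) (Nat.ble (nat_lit 556) j)) (Nat.ble (nat_lit 555) j)) (Bool.rec (motive := fun _ => Bool) (Bool.rec (motive := fun _ => Bool) (H9.TCX.mRelD MG [T_q, T_y, T_z, T_q, T_y, T_y, T_y, T_z, T_q, T_y, T_z, T_q, T_y, T_y, T_y, T_z, T_q, T_y, T_z, T_q, T_y, T_y, T_y, T_z, T_q, T_y, T_z, T_q, T_y, T_y,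 T_y, T_z] [T_z, T_yi, T_yi, T_yi, T_q, T_z, T_yi, T_q, T_z, T_yi, T_yi, T_yi, T_q, T_z, T_yi, T_q, T_z, T_yi, T_yi, T_yi, T_q, T_z, T_yi, T_q, T_z, T_yi, T_yi, T_yi, T_q, T_z, T_yi, T_q] (nat_lit 32) z2 M (Nat.sub (MG u) (Nat.mod (MG u) M)) (nat_lit 40) z1 u (Nat.mod (MG u) M)) (H9.TCX.mRelD MG [T_y, T_z, T_yi, T_q, T_z, T_y, T_q, T_z, T_yi, T_z, T_y, T_z, T_q, T_yi, T_z, T_q] [T_q, T_z, T_y, T_q, T_z, T_yi, T_z, T_y, T_z, T_q, T_yi, T_z, T_q, T_y, T_z, T_yi] (nat_lit 16) z2 M (Nat.sub (MG u) (Nat.mod (MG u) M)) (nat_lit 40) z1 u (Nat.mod (MG u) M)) (Nat.ble (nat_lit 558) j)) (Bool.rec (motive := fun _ => Bool) (H9.TCX.mRelD MG [T_y, T_q, T_y, T_y, T_q, T_yi, T_q, T_yi, T_yi, T_q, T_yi, T_q, T_yi, T_q, T_y, T_y] [T_yi, T_yi, T_q, T_y, T_q, T_y, T_q, T_y, T_y, T_q, T_y, T_q, T_yi, T_yi, T_q, T_yi] (nat_lit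 16) z2 M (Nat.sub (MG u) (Nat.mod (MG u) M)) (nat_lit 40) z1 u (Nat.mod (MG u) M)) (H9.TCX.mRelD MG [T_q, T_yi, T_q, T_y, T_y, T_y, T_q, T_y, T_y, T_q, T_yi, T_q, T_yi, T_yi, T_q, T_yi] [T_y, T_q, T_y, T_y, T_q, T_y, T_q, T_yi, T_yi, T_q, T_yi, T_yi, T_yi, T_q, T_y, T_q] (nat_lit 16) z2 M (Nat.sub (MG u) (Nat.mod (MG u) M)) (nat_lit 40) z1 u (Nat.mod (MG u) M)) (Nat.ble (nat_lit 560) j)) (Nat.ble (nat_lit 559) j)) (Nat.ble (nat_lit 557) j)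
noncomputable def dM_126 (j z1 z2 u : ℕ) : Bool :=
  Bool.rec (motive := fun _ => Bool) (Bool.rec (motive := fun _ => Bool) (Bool.rec (motive := fun _ => Bool) (H9.TCX.mRelD MG [T_y, T_q, T_y, T_y, T_q, T_y, T_q, T_yi, T_yi, T_q, T_yi, T_yi, T_yi, T_q, T_y, T_q] [T_q, T_yi, T_q, T_y, T_y, T_y, T_q, T_y, T_y, T_q, T_yi, T_q, T_yi, T_yi, T_q, T_yi] (nat_lit 16) z2 M (Nat.sub (MG u) (Nat.mod (MG u) M)) (nat_lit 40) z1 u (Nat.mod (MG u) M)) (H9.TCX.mRelD MG [T_z, T_y, T_q, T_z, T_yi, T_z, T_y, T_z, T_q, T_yi, T_z, T_q, T_y, T_z, T_yi, T_q] [T_q, T_y, T_z, T_yi, T_q, T_z, T_y, T_q, T_z, T_yi, T_z, T_y, T_z, T_q, T_yi, T_z] (nat_lit 16) z2 M (Nat.sub (MG u) (Nat.mod (MG u) M)) (nat_lit 40) z1 u (Nat.mod (MG u) M)) (Nat.ble (nat_lit 562) j)) (Bool.rec (motive := fun _ => Bool) (H9.TCX.mRelD MG [T_yi, T_z, T_y, T_q,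 T_yi, T_q, T_z, T_q, T_y, T_z, T_yi, T_q, T_y, T_q, T_z, T_q] [T_q, T_z, T_q, T_yi, T_q, T_y, T_z, T_yi, T_q, T_z, T_q, T_y, T_q, T_yi, T_z, T_y] (nat_lit 16) z2 M (Nat.sub (MG u) (Nat.mod (MG u) M)) (nat_lit 40) z1 u (Nat.mod (MG u) M)) (H9.TCX.mRelD MG [T_q, T_yi, T_yi, T_yi, T_q, T_y, T_q, T_y, T_q, T_y, T_y, T_q, T_y, T_q, T_yi, T_yi] [T_y, T_y, T_q, T_yi, T_q, T_yi, T_yi, T_q, T_yi, T_q, T_yi, T_q, T_y, T_y, T_y, T_q] (nat_lit 16) z2 M (Nat.sub (MG u) (Nat.mod (MG u) M)) (nat_lit 40) z1 u (Nat.mod (MG u) M)) (Nat.ble (nat_lit 564) j)) (Nat.ble (nat_lit 563) j)) (Bool.rec (motive := fun _ => Bool) (Bool.rec (motive := fun _ => Bool) (H9.TCX.mRelD MG [T_y, T_q, T_yi, T_yi, T_yi, T_q, T_yi, T_yi, T_q, T_y, T_q, T_y, T_y, T_q, T_y, T_q] [T_q, T_yi, T_q, T_yi, T_yi, T_q, T_yi, T_q, T_y, T_y, T_q, T_y, T_y,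 T_y, T_q, T_yi] (nat_lit 16) z2 M (Nat.sub (MG u) (Nat.mod (MG u) M)) (nat_lit 40) z1 u (Nat.mod (MG u) M)) (H9.TCX.mRelD MG [T_yi, T_yi, T_yi, T_q, T_yi, T_yi, T_q, T_y, T_q, T_y, T_y, T_q, T_y, T_q, T_y, T_q] [T_q, T_yi, T_q, T_yi, T_q, T_yi, T_yi, T_q, T_yi, T_q, T_y, T_y, T_q, T_y, T_y, T_y] (nat_lit 16) z2 M (Nat.sub (MG u) (Nat.mod (MG u) M)) (nat_lit 40) z1 u (Nat.mod (MG u) M)) (Nat.ble (nat_lit 566) j)) (Bool.rec (motive := fun _ => Bool) (H9.TCX.mRelD MG [T_yi, T_q, T_yi, T_q, T_y, T_y, T_y, T_q, T_y, T_y, T_q, T_yi, T_q, T_yi, T_yi, T_q] [T_q, T_y, T_y, T_q, T_y, T_q, T_yi, T_yi, T_q, T_yi, T_yi, T_yi, T_q, T_y, T_q, T_y] (nat_lit 16) z2 M (Nat.sub (MG u) (Nat.mod (MG u) M)) (nat_lit 40) z1 u (Nat.mod (MG u) M)) (H9.TCX.mRelD MG [T_z, T_yi, T_z, T_q, T_y, T_q, T_z, T_yi, T_z, T_q, T_y, T_q, T_z,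 T_yi, T_z, T_q, T_y, T_q] [T_q, T_yi, T_q, T_z, T_y, T_z, T_q, T_yi, T_q, T_z, T_y, T_z, T_q, T_yi, T_q, T_z, T_y, T_z] (nat_lit 18) z2 M (Nat.sub (MG u) (Nat.mod (MG u) M)) (nat_lit 40) z1 u (Nat.mod (MG u) M)) (Nat.ble (nat_lit 568) j)) (Nat.ble (nat_lit 567) j)) (Nat.ble (nat_lit 565) j)
noncomputable def dM_127 (j z1 z2 u : ℕ) : Bool :=
  Bool.rec (motive := fun _ => Bool) (dM_125 j z1 z2 u) (dM_126 j z1 z2 u) (Nat.ble (nat_lit 561) j)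
noncomputable def dM_128 (j z1 z2 u : ℕ) : Bool :=
  Bool.rec (motive := fun _ => Bool) (Bool.rec (motive := fun _ => Bool) (Bool.rec (motive := fun _ => Bool) (H9.TCX.mRelD MG [T_y, T_z, T_q, T_yi, T_q, T_z, T_q, T_y, T_q, T_z, T_yi, T_yi, T_q, T_z, T_yi, T_q, T_z, T_yi, T_z, T_y, T_z, T_q, T_y, T_z, T_q, T_y] [T_yi, T_q, T_z, T_yi, T_q, T_z, T_yi, T_z, T_y, T_z, T_q, T_y, T_z, T_q, T_y, T_y, T_z, T_q, T_yi, T_q, T_z, T_q, T_y, T_q, T_z, T_yi] (nat_lit 26) z2 M (Nat.sub (MG u) (Nat.mod (MG u) M)) (nat_lit 40) z1 u (Nat.mod (MG u) M)) (H9.TCX.mRelD MG [T_yi, T_yi, T_q, T_yi, T_yi, T_q, T_y, T_q, T_y, T_y, T_q, T_y, T_q, T_y, T_q, T_yi] [T_y, T_q, T_yi, T_q, T_yi, T_q, T_yi, T_yi, T_q, T_yi, T_q, T_y, T_y, T_q, T_y, T_y] (nat_lit 16) z2 M (Nat.sub (MG u) (Nat.mod (MG u) M)) (nat_lit 40) z1 u (Nat.mod (MG u)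 M)) (Nat.ble (nat_lit 570) j)) (Bool.rec (motive := fun _ => Bool) (H9.TCX.mRelD MG [T_z, T_y, T_z, T_q, T_yi, T_q, T_z, T_y, T_z, T_q, T_yi, T_q, T_z, T_y, T_z, T_q, T_yi, T_q] [T_q, T_y, T_q, T_z, T_yi, T_z, T_q, T_y, T_q, T_z, T_yi, T_z, T_q, T_y, T_q, T_z, T_yi, T_z] (nat_lit 18) z2 M (Nat.sub (MG u) (Nat.mod (MG u) M)) (nat_lit 40) z1 u (Nat.mod (MG u) M)) (H9.TCX.mRelD MG [T_q, T_y, T_y, T_z, T_q, T_yi, T_q, T_z, T_q, T_y, T_q, T_z, T_yi, T_yi, T_q, T_z, T_yi, T_q, T_z, T_yi, T_z, T_y, T_z, T_q, T_y, T_z] [T_z, T_yi, T_q, T_z, T_yi, T_z, T_y, T_z, T_q, T_y, T_z, T_q, T_y, T_y, T_z, T_q, T_yi, T_q, T_z, T_q, T_y, T_q, T_z, T_yi, T_yi, T_q] (nat_lit 26) z2 M (Nat.sub (MG u) (Nat.mod (MG u) M)) (nat_lit 40) z1 u (Nat.mod (MG u) M)) (Nat.ble (nat_lit 572) j)) (Nat.ble (nat_lit 571) j)) (Bool.rec (motive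 := fun _ => Bool) (Bool.rec (motive := fun _ => Bool) (H9.TCX.mRelD MG [T_yi, T_z, T_y, T_z, T_q, T_y, T_z, T_q, T_y, T_y, T_z, T_q, T_yi, T_q, T_z, T_q, T_y, T_q, T_z, T_yi, T_yi, T_q, T_z, T_yi, T_q, T_z] [T_z, T_q, T_y, T_z, T_q, T_y, T_y, T_z, T_q, T_yi, T_q, T_z, T_q, T_y, T_q, T_z, T_yi, T_yi, T_q, T_z, T_yi, T_q, T_z, T_yi, T_z, T_y] (nat_lit 26) z2 M (Nat.sub (MG u) (Nat.mod (MG u) M)) (nat_lit 40) z1 u (Nat.mod (MG u) M)) (H9.TCX.mRelD MG [T_q, T_z, T_yi, T_yi, T_q, T_z, T_yi, T_q, T_z, T_yi, T_z, T_y, T_z, T_q, T_y, T_z, T_q, T_y, T_y, T_z, T_q, T_yi, T_q, T_z, T_q, T_y] [T_yi, T_q, T_z, T_q, T_y, T_q, T_z, T_yi, T_yi, T_q, T_z, T_yi, T_q, T_z, T_yi, T_z, T_y, T_z, T_q, T_y, T_z, T_q, T_y, T_y, T_z, T_q] (nat_lit 26) z2 M (Nat.sub (MG u) (Nat.mod (MG u) M)) (nat_lit 40) z1 u (Nat.mod (MG u) M)) (Nat.ble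 (nat_lit 574) j)) (Bool.rec (motive := fun _ => Bool) (H9.TCX.mRelD MG [T_y, T_z, T_q, T_y, T_y, T_y, T_z, T_q, T_y, T_z, T_q, T_y, T_y, T_y, T_z, T_q, T_y, T_z, T_q, T_y, T_y, T_y, T_z, T_q, T_y, T_z, T_q, T_y, T_y, T_y, T_z, T_q] [T_q, T_z, T_yi, T_yi, T_yi, T_q, T_z, T_yi, T_q, T_z, T_yi, T_yi, T_yi, T_q, T_z, T_yi, T_q, T_z, T_yi, T_yi, T_yi, T_q, T_z, T_yi, T_q, T_z, T_yi, T_yi, T_yi, T_q, T_z, T_yi] (nat_lit 32) z2 M (Nat.sub (MG u) (Nat.mod (MG u) M)) (nat_lit 40) z1 u (Nat.mod (MG u) M)) (Bool.rec (motive := fun _ => Bool) (H9.TCX.mRelD MG [T_y, T_y, T_y, T_z, T_q, T_y, T_z, T_q, T_y, T_y, T_y, T_z, T_q, T_y, T_z, T_q, T_y, T_y, T_y, T_z, T_q, T_y, T_z, T_q, T_y, T_y, T_y, T_z, T_q, T_y, T_z, T_q] [T_q, T_z, T_yi, T_q, T_z, T_yi, T_yi, T_yi, T_q, T_z, T_yi, T_q, T_z, T_yi, T_yi, T_yi, T_q, T_z, T_yi,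 T_q, T_z, T_yi, T_yi, T_yi, T_q, T_z, T_yi, T_q, T_z, T_yi, T_yi, T_yi] (nat_lit 32) z2 M (Nat.sub (MG u) (Nat.mod (MG u) M)) (nat_lit 40) z1 u (Nat.mod (MG u) M)) (H9.TCX.mRelD MG [T_z, T_yi, T_q, T_z, T_yi, T_z, T_y, T_z, T_q, T_y, T_z, T_q, T_y, T_y, T_z, T_q, T_yi, T_q, T_z, T_q, T_y, T_q, T_z, T_yi, T_yi, T_q] [T_q, T_y, T_y, T_z, T_q, T_yi, T_q, T_z, T_q, T_y, T_q, T_z, T_yi, T_yi, T_q, T_z, T_yi, T_q, T_z, T_yi, T_z, T_y, T_z, T_q, T_y, T_z] (nat_lit 26) z2 M (Nat.sub (MG u) (Nat.mod (MG u) M)) (nat_lit 40) z1 u (Nat.mod (MG u) M)) (Nat.ble (nat_lit 577) j)) (Nat.ble (nat_lit 576) j)) (Nat.ble (nat_lit 575) j)) (Nat.ble (nat_lit 573) j)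
noncomputable def dM_129 (j z1 z2 u : ℕ) : Bool :=
  Bool.rec (motive := fun _ => Bool) (Bool.rec (motive := fun _ => Bool) (Bool.rec (motive := fun _ => Bool) (H9.TCX.mRelD MG [T_z, T_y, T_z, T_yi, T_q, T_z, T_y, T_z, T_q, T_yi, T_z, T_y, T_z, T_q, T_yi, T_q] [T_q, T_y, T_q, T_z, T_yi, T_z, T_y, T_q, T_z, T_yi, T_z, T_q, T_y, T_z, T_yi, T_z] (nat_lit 16) z2 M (Nat.sub (MG u) (Nat.mod (MG u) M)) (nat_lit 40) z1 u (Nat.mod (MG u) M)) (H9.TCX.mRelD MG [T_yi, T_q, T_y, T_y, T_y, T_q, T_y, T_y, T_q, T_yi, T_q, T_yi, T_yi, T_q, T_yi, T_q] [T_q, T_y, T_q, T_y, T_y, T_q, T_y, T_q, T_yi, T_yi, T_q, T_yi, T_yi, T_yi, T_q, T_y] (nat_lit 16) z2 M (Nat.sub (MG u) (Nat.mod (MG u) M)) (nat_lit 40) z1 u (Nat.mod (MG u) M)) (Nat.ble (nat_lit 579) j)) (Bool.rec (motive := fun _ => Bool) (H9.TCX.mRelD MG [T_y, T_y, T_y, T_q,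 T_yi, T_yi, T_yi, T_q, T_y, T_y, T_y, T_q, T_y, T_y, T_y, T_q] [T_q, T_yi, T_yi, T_yi, T_q, T_yi, T_yi, T_yi, T_q, T_y, T_y, T_y, T_q, T_yi, T_yi, T_yi] (nat_lit 16) z2 M (Nat.sub (MG u) (Nat.mod (MG u) M)) (nat_lit 40) z1 u (Nat.mod (MG u) M)) (Bool.rec (motive := fun _ => Bool) (H9.TCX.mRelD MG [T_z, T_q, T_y, T_z, T_yi, T_q, T_y, T_q, T_z, T_q, T_yi, T_z, T_y, T_q, T_yi, T_q] [T_q, T_y, T_q, T_yi, T_z, T_y, T_q, T_z, T_q, T_yi, T_q, T_y, T_z, T_yi, T_q, T_z] (nat_lit 16) z2 M (Nat.sub (MG u) (Nat.mod (MG u) M)) (nat_lit 40) z1 u (Nat.mod (MG u) M)) (H9.TCX.mRelD MG [T_y, T_z, T_q, T_y, T_z, T_q, T_y, T_y, T_y, T_z, T_q, T_y, T_z, T_q, T_y, T_y, T_y, T_z, T_q, T_y, T_z, T_q, T_y, T_y, T_y, T_z, T_q, T_y, T_z, T_q, T_y, T_y] [T_yi, T_yi, T_q, T_z, T_yi, T_q, T_z, T_yi, T_yi, T_yi, T_q, T_z, T_yi, T_q, T_z,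 T_yi, T_yi, T_yi, T_q, T_z, T_yi, T_q, T_z, T_yi, T_yi, T_yi, T_q, T_z, T_yi, T_q, T_z, T_yi] (nat_lit 32) z2 M (Nat.sub (MG u) (Nat.mod (MG u) M)) (nat_lit 40) z1 u (Nat.mod (MG u) M)) (Nat.ble (nat_lit 582) j)) (Nat.ble (nat_lit 581) j)) (Nat.ble (nat_lit 580) j)) (Bool.rec (motive := fun _ => Bool) (Bool.rec (motive := fun _ => Bool) (H9.TCX.mRelD MG [T_z, T_q, T_yi, T_q, T_y, T_z, T_yi, T_q, T_z, T_q, T_y, T_q, T_yi, T_z, T_y, T_q] [T_q, T_yi, T_z, T_y, T_q, T_yi, T_q, T_z, T_q, T_y, T_z, T_yi, T_q, T_y, T_q, T_z] (nat_lit 16) z2 M (Nat.sub (MG u) (Nat.mod (MG u) M)) (nat_lit 40) z1 u (Nat.mod (MG u) M)) (H9.TCX.mRelD MG [T_z, T_q, T_v, T_z, T_q, T_z, T_q, T_v, T_z, T_q, T_v, T_z, T_q, T_z, T_q] [T_q, T_z, T_q, T_z, T_v, T_q, T_z, T_v, T_q, T_z, T_q, T_z, T_v, T_q, T_z] (nat_lit 15) z2 M (Nat.sub (MG u)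 (Nat.mod (MG u) M)) (nat_lit 40) z1 u (Nat.mod (MG u) M)) (Nat.ble (nat_lit 584) j)) (Bool.rec (motive := fun _ => Bool) (H9.TCX.mRelD MG [T_yi, T_q, T_z, T_yi, T_z, T_y, T_z, T_q, T_y, T_z, T_q, T_y, T_y, T_z, T_q, T_yi, T_q, T_z, T_q, T_y, T_q, T_z, T_yi, T_yi, T_q, T_z] [T_z, T_q, T_y, T_y, T_z, T_q, T_yi, T_q, T_z, T_q, T_y, T_q, T_z, T_yi, T_yi, T_q, T_z, T_yi, T_q, T_z, T_yi, T_z, T_y, T_z, T_q, T_y] (nat_lit 26) z2 M (Nat.sub (MG u) (Nat.mod (MG u) M)) (nat_lit 40) z1 u (Nat.mod (MG u) M)) (Bool.rec (motive := fun _ => Bool) (H9.TCX.mRelD MG [T_q, T_y, T_q, T_yi, T_z, T_y, T_q, T_z, T_q, T_yi, T_q, T_y, T_z, T_yi, T_q, T_z] [T_z, T_q, T_y, T_z, T_yi, T_q, T_y, T_q, T_z, T_q, T_yi, T_z, T_y, T_q, T_yi, T_q] (nat_lit 16) z2 M (Nat.sub (MG u) (Nat.mod (MG u) M)) (nat_lit 40) z1 u (Nat.mod (MG u) M)) (H9.TCX.mRelD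 MG [T_y, T_y, T_q, T_y, T_y, T_y, T_q, T_y, T_y, T_y, T_q, T_yi, T_yi, T_yi, T_q, T_y] [T_yi, T_q, T_y, T_y, T_y, T_q, T_yi, T_yi, T_yi, T_q, T_yi, T_yi, T_yi, T_q, T_yi, T_yi] (nat_lit 16) z2 M (Nat.sub (MG u) (Nat.mod (MG u) M)) (nat_lit 40) z1 u (Nat.mod (MG u) M)) (Nat.ble (nat_lit 587) j)) (Nat.ble (nat_lit 586) j)) (Nat.ble (nat_lit 585) j)) (Nat.ble (nat_lit 583) j)
noncomputable def dM_130 (j z1 z2 u : ℕ) : Bool :=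
  Bool.rec (motive := fun _ => Bool) (dM_128 j z1 z2 u) (dM_129 j z1 z2 u) (Nat.ble (nat_lit 578) j)
noncomputable def dM_131 (j z1 z2 u : ℕ) : Bool :=
  Bool.rec (motive := fun _ => Bool) (dM_127 j z1 z2 u) (dM_130 j z1 z2 u) (Nat.ble (nat_lit 569) j)
noncomputable def dM_132 (j z1 z2 u : ℕ) : Bool :=
  Bool.rec (motive := fun _ => Bool) (Bool.rec (motive := fun _ => Bool) (Bool.rec (motive := fun _ => Bool) (H9.TCX.mRelD MG [T_yi, T_yi, T_q, T_yi, T_yi, T_yi, T_q, T_y, T_y, T_y, T_q, T_yi, T_yi, T_yi, T_q, T_yi] [T_y, T_q, T_y, T_y, T_y, T_q, T_yi, T_yi, T_yi, T_q, T_y, T_y, T_y, T_q, T_y, T_y] (nat_lit 16) z2 M (Nat.sub (MG u) (Nat.mod (MG u) M)) (nat_lit 40) z1 u (Nat.mod (MG u) M)) (H9.TCX.mRelD MG [T_y, T_q, T_y, T_q, T_y, T_y, T_q, T_y, T_q, T_yi, T_yi, T_q, T_yi, T_yi, T_yi, T_q] [T_q, T_y, T_y, T_y,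 T_q, T_y, T_y, T_q, T_yi, T_q, T_yi, T_yi, T_q, T_yi, T_q, T_yi] (nat_lit 16) z2 M (Nat.sub (MG u) (Nat.mod (MG u) M)) (nat_lit 40) z1 u (Nat.mod (MG u) M)) (Nat.ble (nat_lit 589) j)) (Bool.rec (motive := fun _ => Bool) (H9.TCX.mRelD MG [T_z, T_q, T_z, T_yi, T_z, T_q, T_z, T_y, T_z, T_q, T_z, T_yi, T_z, T_q, T_z, T_y] [T_yi, T_z, T_q, T_z, T_y, T_z, T_q, T_z, T_yi, T_z, T_q, T_z, T_y, T_z, T_q, T_z] (nat_lit 16) z2 M (Nat.sub (MG u) (Nat.mod (MG u) M)) (nat_lit 40) z1 u (Nat.mod (MG u) M)) (Bool.rec (motive := fun _ => Bool) (H9.TCX.mRelD MG [T_y, T_q, T_y, T_y, T_y, T_q, T_yi, T_yi, T_yi, T_q, T_y, T_y, T_y, T_q, T_y, T_y] [T_yi, T_yi, T_q, T_yi, T_yi, T_yi, T_q, T_y, T_y, T_y, T_q, T_yi, T_yi, T_yi, T_q, T_yi] (nat_lit 16) z2 M (Nat.sub (MG u) (Nat.mod (MG u) M)) (nat_lit 40) z1 u (Nat.mod (MG u) M)) (H9.TCX.mRelD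 MG [T_q, T_y, T_y, T_q, T_yi, T_q, T_yi, T_yi, T_q, T_yi, T_q, T_yi, T_q, T_y, T_y, T_y] [T_yi, T_yi, T_yi, T_q, T_y, T_q, T_y, T_q, T_y, T_y, T_q, T_y, T_q, T_yi, T_yi, T_q] (nat_lit 16) z2 M (Nat.sub (MG u) (Nat.mod (MG u) M)) (nat_lit 40) z1 u (Nat.mod (MG u) M)) (Nat.ble (nat_lit 592) j)) (Nat.ble (nat_lit 591) j)) (Nat.ble (nat_lit 590) j)) (Bool.rec (motive := fun _ => Bool) (Bool.rec (motive := fun _ => Bool) (H9.TCX.mRelD MG [T_z, T_q, T_y, T_z, T_q, T_y, T_y, T_y, T_z, T_q, T_y, T_z, T_q, T_y, T_y, T_y, T_z, T_q, T_y, T_z, T_q, T_y, T_y, T_y, T_z, T_q, T_y, T_z, T_q, T_y, T_y, T_y] [T_yi, T_yi, T_yi, T_q, T_z, T_yi, T_q, T_z, T_yi, T_yi, T_yi, T_q, T_z, T_yi, T_q, T_z, T_yi, T_yi, T_yi, T_q, T_z, T_yi, T_q, T_z, T_yi, T_yi, T_yi, T_q, T_z, T_yi, T_q, T_z] (nat_lit 32) z2 M (Nat.sub (MG u) (Nat.mod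 (MG u) M)) (nat_lit 40) z1 u (Nat.mod (MG u) M)) (Bool.rec (motive := fun _ => Bool) (H9.TCX.mRelD MG [T_q, T_y, T_z, T_q, T_y, T_y, T_z, T_q, T_yi, T_q, T_z, T_q, T_y, T_q, T_z, T_yi, T_yi, T_q, T_z, T_yi, T_q, T_z, T_yi, T_z, T_y, T_z] [T_z, T_yi, T_z, T_y, T_z, T_q, T_y, T_z, T_q, T_y, T_y, T_z, T_q, T_yi, T_q, T_z, T_q, T_y, T_q, T_z, T_yi, T_yi, T_q, T_z, T_yi, T_q] (nat_lit 26) z2 M (Nat.sub (MG u) (Nat.mod (MG u) M)) (nat_lit 40) z1 u (Nat.mod (MG u) M)) (H9.TCX.mRelD MG [T_q, T_y, T_q, T_z, T_yi, T_yi, T_q, T_z, T_yi, T_q, T_z, T_yi, T_z, T_y, T_z, T_q, T_y, T_z, T_q, T_y, T_y, T_z, T_q, T_yi, T_q, T_z] [T_z, T_q, T_y, T_q, T_z, T_yi, T_yi, T_q, T_z, T_yi, T_q, T_z, T_yi, T_z, T_y, T_z, T_q, T_y, T_z, T_q, T_y, T_y, T_z, T_q, T_yi, T_q] (nat_lit 26) z2 M (Nat.sub (MG u) (Nat.mod (MG u) M)) (nat_lit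 40) z1 u (Nat.mod (MG u) M)) (Nat.ble (nat_lit 595) j)) (Nat.ble (nat_lit 594) j)) (Bool.rec (motive := fun _ => Bool) (H9.TCX.mRelD MG [T_z, T_yi, T_z, T_y, T_z, T_q, T_y, T_z, T_q, T_y, T_y, T_z, T_q, T_yi, T_q, T_z, T_q, T_y, T_q, T_z, T_yi, T_yi, T_q, T_z, T_yi, T_q] [T_q, T_y, T_z, T_q, T_y, T_y, T_z, T_q, T_yi, T_q, T_z, T_q, T_y, T_q, T_z, T_yi, T_yi, T_q, T_z, T_yi, T_q, T_z, T_yi, T_z, T_y, T_z] (nat_lit 26) z2 M (Nat.sub (MG u) (Nat.mod (MG u) M)) (nat_lit 40) z1 u (Nat.mod (MG u) M)) (Bool.rec (motive := fun _ => Bool) (H9.TCX.mRelD MG [T_z, T_yi, T_q, T_z, T_yi, T_yi, T_yi, T_q, T_z, T_yi, T_q, T_z, T_yi, T_yi, T_yi, T_q, T_z, T_yi, T_q, T_z, T_yi, T_yi, T_yi, T_q, T_z, T_yi, T_q, T_z, T_yi, T_yi, T_yi, T_q] [T_q, T_y, T_y, T_y, T_z, T_q, T_y, T_z, T_q, T_y, T_y, T_y, T_z, T_q, T_y, T_z, T_q, T_y,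 T_y, T_y, T_z, T_q, T_y, T_z, T_q, T_y, T_y, T_y, T_z, T_q, T_y, T_z] (nat_lit 32) z2 M (Nat.sub (MG u) (Nat.mod (MG u) M)) (nat_lit 40) z1 u (Nat.mod (MG u) M)) (H9.TCX.mRelD MG [T_z, T_yi, T_yi, T_yi, T_q, T_z, T_yi, T_q, T_z, T_yi, T_yi, T_yi, T_q, T_z, T_yi, T_q, T_z, T_yi, T_yi, T_yi, T_q, T_z, T_yi, T_q, T_z, T_yi, T_yi, T_yi, T_q, T_z, T_yi, T_q] [T_q, T_y, T_z, T_q, T_y, T_y, T_y, T_z, T_q, T_y, T_z, T_q, T_y, T_y, T_y, T_z, T_q, T_y, T_z, T_q, T_y, T_y, T_y, T_z, T_q, T_y, T_z, T_q, T_y, T_y, T_y, T_z] (nat_lit 32) z2 M (Nat.sub (MG u) (Nat.mod (MG u) M)) (nat_lit 40) z1 u (Nat.mod (MG u) M)) (Nat.ble (nat_lit 598) j)) (Nat.ble (nat_lit 597) j)) (Nat.ble (nat_lit 596) j)) (Nat.ble (nat_lit 593) j)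
noncomputable def dM_133 (j z1 z2 u : ℕ) : Bool :=
  Bool.rec (motive := fun _ => Bool) (Bool.rec (motive := fun _ => Bool) (H9.TCX.mRelD MG [T_y, T_y, T_z, T_q, T_yi, T_q, T_z, T_q, T_y, T_q, T_z, T_yi, T_yi, T_q, T_z, T_yi, T_q, T_z, T_yi, T_z, T_y, T_z, T_q, T_y, T_z, T_q] [T_q, T_z, T_yi, T_q, T_z, T_yi, T_z, T_y, T_z, T_q, T_y, T_z, T_q, T_y, T_y, T_z, T_q, T_yi, T_q, T_z, T_q, T_y, T_q, T_z, T_yi, T_yi] (nat_lit 26) z2 M (Nat.sub (MG u) (Nat.mod (MG u) M)) (nat_lit 40) z1 u (Nat.mod (MG u) M)) (Bool.rec (motive := fun _ => Bool) (H9.TCX.mRelD MG [T_y, T_y, T_z, T_q, T_y, T_z, T_q, T_y, T_y, T_y, T_z, T_q, T_y, T_z, T_q, T_y, T_y, T_y, T_z, T_q, T_y, T_z, T_q, T_y, T_y, T_y, T_z, T_q, T_y, T_z, T_q, T_y] [T_yi, T_q, T_z, T_yi, T_q, T_z, T_yi, T_yi, T_yi, T_q, T_z, T_yi, T_q, T_z, T_yi, T_yi, T_yi, T_q,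 T_z, T_yi, T_q, T_z, T_yi, T_yi, T_yi, T_q, T_z, T_yi, T_q, T_z, T_yi, T_yi] (nat_lit 32) z2 M (Nat.sub (MG u) (Nat.mod (MG u) M)) (nat_lit 40) z1 u (Nat.mod (MG u) M)) (H9.TCX.mRelD MG [T_y, T_v, T_q, T_z, T_q, T_z, T_yi, T_z, T_q, T_z, T_q, T_v] [T_v, T_q, T_z, T_q, T_z, T_y, T_z, T_q, T_z, T_q, T_v, T_yi] (nat_lit 12) z2 M (Nat.sub (MG u) (Nat.mod (MG u) M)) (nat_lit 40) z1 u (Nat.mod (MG u) M)) (Nat.ble (nat_lit 601) j)) (Nat.ble (nat_lit 600) j)) (Bool.rec (motive := fun _ => Bool) (Bool.rec (motive := fun _ => Bool) (H9.TCX.mRelD MG [T_q, T_z, T_yi, T_yi, T_yi, T_q, T_z, T_yi, T_q, T_z, T_yi, T_yi, T_yi, T_q, T_z, T_yi, T_q, T_z, T_yi, T_yi, T_yi, T_q, T_z, T_yi, T_q, T_z, T_yi, T_yi, T_yi, T_q, T_z, T_yi] [T_y, T_z, T_q, T_y, T_y, T_y, T_z, T_q, T_y, T_z, T_q, T_y, T_y, T_y, T_z, T_q, T_y, T_z, T_q,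 T_y, T_y, T_y, T_z, T_q, T_y, T_z, T_q, T_y, T_y, T_y, T_z, T_q] (nat_lit 32) z2 M (Nat.sub (MG u) (Nat.mod (MG u) M)) (nat_lit 40) z1 u (Nat.mod (MG u) M)) (H9.TCX.mRelD MG [T_q, T_yi, T_yi, T_yi, T_q, T_y, T_y, T_y, T_q, T_y, T_y, T_y, T_q, T_y, T_y, T_y] [T_yi, T_yi, T_yi, T_q, T_yi, T_yi, T_yi, T_q, T_yi, T_yi, T_yi, T_q, T_y, T_y, T_y, T_q] (nat_lit 16) z2 M (Nat.sub (MG u) (Nat.mod (MG u) M)) (nat_lit 40) z1 u (Nat.mod (MG u) M)) (Nat.ble (nat_lit 603) j)) (Bool.rec (motive := fun _ => Bool) (H9.TCX.mRelD MG [T_z, T_yi, T_yi, T_q, T_z, T_yi, T_q, T_z, T_yi, T_z, T_y, T_z, T_q, T_y, T_z, T_q, T_y, T_y, T_z, T_q, T_yi, T_q, T_z, T_q, T_y, T_q] [T_q, T_yi, T_q, T_z, T_q, T_y, T_q, T_z, T_yi, T_yi, T_q, T_z, T_yi, T_q, T_z, T_yi, T_z, T_y, T_z, T_q, T_y, T_z, T_q, T_y, T_y, T_z] (nat_lit 26) z2 M (Nat.sub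 (MG u) (Nat.mod (MG u) M)) (nat_lit 40) z1 u (Nat.mod (MG u) M)) (H9.TCX.mRelD MG [T_z, T_y, T_z, T_q, T_y, T_z, T_q, T_y, T_y, T_z, T_q, T_yi, T_q, T_z, T_q, T_y, T_q, T_z, T_yi, T_yi, T_q, T_z, T_yi, T_q, T_z, T_yi] [T_y, T_z, T_q, T_y, T_z, T_q, T_y, T_y, T_z, T_q, T_yi, T_q, T_z, T_q, T_y, T_q, T_z, T_yi, T_yi, T_q, T_z, T_yi, T_q, T_z, T_yi, T_z] (nat_lit 26) z2 M (Nat.sub (MG u) (Nat.mod (MG u) M)) (nat_lit 40) z1 u (Nat.mod (MG u) M)) (Nat.ble (nat_lit 605) j)) (Nat.ble (nat_lit 604) j)) (Nat.ble (nat_lit 602) j)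
noncomputable def dM_134 (j z1 z2 u : ℕ) : Bool :=
  Bool.rec (motive := fun _ => Bool) (Bool.rec (motive := fun _ => Bool) (H9.TCX.mRelD MG [T_q, T_y, T_z, T_yi, T_q, T_y, T_q, T_z, T_q, T_yi, T_z, T_y, T_q, T_yi, T_q, T_z] [T_z, T_q, T_y, T_q, T_yi, T_z, T_y, T_q, T_z, T_q, T_yi, T_q, T_y, T_z, T_yi, T_q] (nat_lit 16) z2 M (Nat.sub (MG u) (Nat.mod (MG u) M)) (nat_lit 40) z1 u (Nat.mod (MG u) M)) (Bool.rec (motive := fun _ => Bool) (H9.TCX.mRelD MG [T_yi, T_z, T_q, T_z, T_y, T_z, T_q, T_z, T_yi, T_z, T_q, T_z, T_y, T_z, T_q, T_z] [T_z, T_q, T_z, T_yi, T_z, T_q, T_z, T_y, T_z, T_q, T_z, T_yi, T_z, T_q, T_z, T_y] (nat_lit 16) z2 M (Nat.sub (MG u) (Nat.mod (MG u) M)) (nat_lit 40) z1 u (Nat.mod (MG u) M)) (H9.TCX.mRelD MG [T_y, T_z, T_q, T_z, T_yi, T_z, T_q, T_z, T_y, T_z, T_q, T_z, T_yi, T_z, T_q, T_z] [T_z,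 T_q, T_z, T_y, T_z, T_q, T_z, T_yi, T_z, T_q, T_z, T_y, T_z, T_q, T_z, T_yi] (nat_lit 16) z2 M (Nat.sub (MG u) (Nat.mod (MG u) M)) (nat_lit 40) z1 u (Nat.mod (MG u) M)) (Nat.ble (nat_lit 608) j)) (Nat.ble (nat_lit 607) j)) (Bool.rec (motive := fun _ => Bool) (Bool.rec (motive := fun _ => Bool) (H9.TCX.mRelD MG [T_q, T_y, T_y, T_y, T_q, T_y, T_y, T_y, T_q, T_y, T_y, T_y, T_q, T_yi, T_yi, T_yi] [T_y, T_y, T_y, T_q, T_yi, T_yi, T_yi, T_q, T_yi, T_yi, T_yi, T_q, T_yi, T_yi, T_yi, T_q] (nat_lit 16) z2 M (Nat.sub (MG u) (Nat.mod (MG u) M)) (nat_lit 40) z1 u (Nat.mod (MG u) M)) (H9.TCX.mRelD MG [T_z, T_q, T_y, T_y, T_y, T_z, T_q, T_y, T_z, T_q, T_y, T_y, T_y, T_z, T_q, T_y, T_z, T_q, T_y, T_y, T_y, T_z, T_q, T_y, T_z, T_q, T_y, T_y, T_y, T_z, T_q, T_y] [T_yi, T_q, T_z, T_yi, T_yi, T_yi, T_q, T_z, T_yi, T_q, T_z,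 T_yi, T_yi, T_yi, T_q, T_z, T_yi, T_q, T_z, T_yi, T_yi, T_yi, T_q, T_z, T_yi, T_q, T_z, T_yi, T_yi, T_yi, T_q, T_z] (nat_lit 32) z2 M (Nat.sub (MG u) (Nat.mod (MG u) M)) (nat_lit 40) z1 u (Nat.mod (MG u) M)) (Nat.ble (nat_lit 610) j)) (Bool.rec (motive := fun _ => Bool) (H9.TCX.mRelD MG [T_v, T_z, T_q, T_z, T_q, T_z, T_q, T_v, T_z, T_q, T_z, T_q, T_v, T_z, T_q] [T_q, T_z, T_v, T_q, T_z, T_q, T_z, T_v, T_q, T_z, T_q, T_z, T_q, T_z, T_v] (nat_lit 15) z2 M (Nat.sub (MG u) (Nat.mod (MG u) M)) (nat_lit 40) z1 u (Nat.mod (MG u) M)) (H9.TCX.mRelD MG [T_yi, T_q, T_z, T_yi, T_yi, T_yi, T_q, T_z, T_yi, T_q, T_z, T_yi, T_yi, T_yi, T_q, T_z, T_yi, T_q, T_z, T_yi, T_yi, T_yi, T_q, T_z, T_yi, T_q, T_z, T_yi, T_yi, T_yi, T_q, T_z] [T_z, T_q, T_y, T_y, T_y, T_z, T_q, T_y, T_z, T_q, T_y, T_y, T_y, T_z, T_q, T_y, T_z, T_q,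 T_y, T_y, T_y, T_z, T_q, T_y, T_z, T_q, T_y, T_y, T_y, T_z, T_q, T_y] (nat_lit 32) z2 M (Nat.sub (MG u) (Nat.mod (MG u) M)) (nat_lit 40) z1 u (Nat.mod (MG u) M)) (Nat.ble (nat_lit 612) j)) (Nat.ble (nat_lit 611) j)) (Nat.ble (nat_lit 609) j)
noncomputable def dM_135 (j z1 z2 u : ℕ) : Bool :=
  Bool.rec (motive := fun _ => Bool) (dM_133 j z1 z2 u) (dM_134 j z1 z2 u) (Nat.ble (nat_lit 606) j)
noncomputable def dM_136 (j z1 z2 u : ℕ) : Bool :=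
  Bool.rec (motive := fun _ => Bool) (dM_132 j z1 z2 u) (dM_135 j z1 z2 u) (Nat.ble (nat_lit 599) j)
noncomputable def dM_137 (j z1 z2 u : ℕ) : Bool :=
  Bool.rec (motive := fun _ => Bool) (Bool.rec (motive := fun _ => Bool) (Bool.rec (motive := fun _ => Bool) (H9.TCX.mRelD MG [T_q, T_z, T_q, T_y, T_q, T_z, T_yi, T_yi, T_q, T_z, T_yi, T_q, T_z, T_yi, T_z, T_y, T_z, T_q, T_y, T_z, T_q, T_y, T_y, T_z, T_q, T_yi] [T_y, T_q, T_z, T_yi, T_yi, T_q, T_z, T_yi, T_q, T_z, T_yi, T_z, T_y, T_z, T_q, T_y, T_z, T_q, T_y, T_y, T_z, T_q, T_yi, T_q, T_z, T_q] (nat_lit 26) z2 M (Nat.sub (MG u) (Nat.mod (MG u) M)) (nat_lit 40) z1 u (Nat.mod (MG u) M)) (H9.TCX.mRelD MG [T_q, T_yi, T_q, T_z, T_q, T_y, T_q, T_z, T_yi, T_yi, T_q, T_z, T_yi, T_q, T_z, T_yi, T_z, T_y, T_z, T_q, T_y, T_z, T_q, T_y, T_y, T_z] [T_z, T_yi, T_yi, T_q,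 T_z, T_yi, T_q, T_z, T_yi, T_z, T_y, T_z, T_q, T_y, T_z, T_q, T_y, T_y, T_z, T_q, T_yi, T_q, T_z, T_q, T_y, T_q] (nat_lit 26) z2 M (Nat.sub (MG u) (Nat.mod (MG u) M)) (nat_lit 40) z1 u (Nat.mod (MG u) M)) (Nat.ble (nat_lit 614) j)) (Bool.rec (motive := fun _ => Bool) (H9.TCX.mRelD MG [T_q, T_z, T_q, T_z, T_v, T_q, T_z, T_v, T_q, T_z, T_q, T_z, T_v, T_q, T_z] [T_z, T_q, T_v, T_z, T_q, T_z, T_q, T_v, T_z, T_q, T_v, T_z, T_q, T_z, T_q] (nat_lit 15) z2 M (Nat.sub (MG u) (Nat.mod (MG u) M)) (nat_lit 40) z1 u (Nat.mod (MG u) M)) (H9.TCX.mRelD MG [T_q, T_z, T_y, T_z, T_q, T_z, T_yi, T_z, T_q, T_z, T_y, T_z, T_q, T_z, T_yi, T_z] [T_z, T_y, T_z, T_q, T_z, T_yi, T_z, T_q, T_z, T_y, T_z, T_q, T_z, T_yi, T_z, T_q] (nat_lit 16) z2 M (Nat.sub (MG u) (Nat.mod (MG u) M)) (nat_lit 40) z1 u (Nat.mod (MG u) M)) (Nat.ble (nat_lit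 616) j)) (Nat.ble (nat_lit 615) j)) (Bool.rec (motive := fun _ => Bool) (Bool.rec (motive := fun _ => Bool) (H9.TCX.mRelD MG [T_z, T_v, T_q, T_z, T_v, T_q, T_z, T_q, T_z, T_v, T_q, T_z, T_q, T_z, T_q] [T_q, T_z, T_q, T_z, T_q, T_v, T_z, T_q, T_z, T_q, T_v, T_z, T_q, T_v, T_z] (nat_lit 15) z2 M (Nat.sub (MG u) (Nat.mod (MG u) M)) (nat_lit 40) z1 u (Nat.mod (MG u) M)) (H9.TCX.mRelD MG [T_yi, T_q, T_z, T_yi, T_q, T_z, T_yi, T_z, T_y, T_z, T_q, T_y, T_z, T_q, T_y, T_y, T_z, T_q, T_yi, T_q, T_z, T_q, T_y, T_q, T_z, T_yi] [T_y, T_z, T_q, T_yi, T_q, T_z, T_q, T_y, T_q, T_z, T_yi, T_yi, T_q, T_z, T_yi, T_q, T_z, T_yi, T_z, T_y, T_z, T_q, T_y, T_z, T_q, T_y] (nat_lit 26) z2 M (Nat.sub (MG u) (Nat.mod (MG u) M)) (nat_lit 40) z1 u (Nat.mod (MG u) M)) (Nat.ble (nat_lit 618) j)) (Bool.rec (motive := fun _ => Bool) (H9.TCX.mRelD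 MG [T_q, T_y, T_y, T_y, T_z, T_q, T_y, T_z, T_q, T_y, T_y, T_y, T_z, T_q, T_y, T_z, T_q, T_y, T_y, T_y, T_z, T_q, T_y, T_z, T_q, T_y, T_y, T_y, T_z, T_q, T_y, T_z] [T_z, T_yi, T_q, T_z, T_yi, T_yi, T_yi, T_q, T_z, T_yi, T_q, T_z, T_yi, T_yi, T_yi, T_q, T_z, T_yi, T_q, T_z, T_yi, T_yi, T_yi, T_q, T_z, T_yi, T_q, T_z, T_yi, T_yi, T_yi, T_q] (nat_lit 32) z2 M (Nat.sub (MG u) (Nat.mod (MG u) M)) (nat_lit 40) z1 u (Nat.mod (MG u) M)) (H9.TCX.mRelD MG [T_v, T_q, T_z, T_q, T_z, T_q, T_z, T_v, T_q, T_z, T_v, T_q, T_z, T_q, T_z] [T_z, T_q, T_z, T_q, T_v, T_z, T_q, T_v, T_z, T_q, T_z, T_q, T_z, T_q, T_v] (nat_lit 15) z2 M (Nat.sub (MG u) (Nat.mod (MG u) M)) (nat_lit 40) z1 u (Nat.mod (MG u) M)) (Nat.ble (nat_lit 620) j)) (Nat.ble (nat_lit 619) j)) (Nat.ble (nat_lit 617) j)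
noncomputable def dM_138 (j z1 z2 u : ℕ) : Bool :=
  Bool.rec (motive := fun _ => Bool) (Bool.rec (motive := fun _ => Bool) (Bool.rec (motive := fun _ => Bool) (H9.TCX.mRelD MG [T_yi, T_yi, T_q, T_y, T_y, T_y, T_q, T_yi, T_yi, T_yi, T_q, T_yi, T_yi, T_yi, T_q, T_yi] [T_y, T_q, T_y, T_y, T_y, T_q, T_y, T_y, T_y, T_q, T_yi, T_yi, T_yi, T_q, T_y, T_y] (nat_lit 16) z2 M (Nat.sub (MG u) (Nat.mod (MG u) M)) (nat_lit 40) z1 u (Nat.mod (MG u) M)) (H9.TCX.mRelD MG [T_yi, T_yi, T_q, T_z, T_yi, T_q, T_z, T_yi, T_z, T_y, T_z, T_q, T_y, T_z, T_q, T_y, T_y, T_z, T_q, T_yi, T_q, T_z, T_q, T_y, T_q, T_z] [T_z, T_q, T_yi, T_q, T_z, T_q, T_y, T_q, T_z, T_yi, T_yi, T_q, T_z, T_yi, T_q, T_z, T_yi, T_z, T_y, T_z, T_q, T_y, T_z, T_q, T_y, T_y] (nat_lit 26) z2 M (Nat.sub (MG u) (Nat.mod (MG u) M)) (nat_lit 40) z1 u (Nat.mod (MG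 u) M)) (Nat.ble (nat_lit 622) j)) (Bool.rec (motive := fun _ => Bool) (H9.TCX.mRelD MG [T_yi, T_q, T_y, T_y, T_y, T_q, T_y, T_y, T_y, T_q, T_y, T_y, T_y, T_q, T_yi, T_yi] [T_y, T_y, T_q, T_yi, T_yi, T_yi, T_q, T_yi, T_yi, T_yi, T_q, T_yi, T_yi, T_yi, T_q, T_y] (nat_lit 16) z2 M (Nat.sub (MG u) (Nat.mod (MG u) M)) (nat_lit 40) z1 u (Nat.mod (MG u) M)) (H9.TCX.mRelD MG [T_yi, T_q, T_z, T_yi, T_q, T_z, T_yi, T_yi, T_yi, T_q, T_z, T_yi, T_q, T_z, T_yi, T_yi, T_yi, T_q, T_z, T_yi, T_q, T_z, T_yi, T_yi, T_yi, T_q, T_z, T_yi, T_q, T_z, T_yi, T_yi] [T_y, T_y, T_z, T_q, T_y, T_z, T_q, T_y, T_y, T_y, T_z, T_q, T_y, T_z, T_q, T_y, T_y, T_y, T_z, T_q, T_y, T_z, T_q, T_y, T_y, T_y, T_z, T_q, T_y, T_z, T_q, T_y] (nat_lit 32) z2 M (Nat.sub (MG u) (Nat.mod (MG u) M)) (nat_lit 40) z1 u (Nat.mod (MG u) M)) (Nat.ble (nat_lit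 624) j)) (Nat.ble (nat_lit 623) j)) (Bool.rec (motive := fun _ => Bool) (Bool.rec (motive := fun _ => Bool) (H9.TCX.mRelD MG [T_q, T_v, T_z, T_q, T_z, T_q, T_z, T_q, T_v, T_z, T_q, T_z, T_q, T_v, T_z] [T_z, T_v, T_q, T_z, T_q, T_z, T_v, T_q, T_z, T_q, T_z, T_q, T_z, T_v, T_q] (nat_lit 15) z2 M (Nat.sub (MG u) (Nat.mod (MG u) M)) (nat_lit 40) z1 u (Nat.mod (MG u) M)) (H9.TCX.mRelD MG [T_y, T_y, T_q, T_y, T_y, T_y, T_q, T_yi, T_yi, T_yi, T_q, T_y, T_y, T_y, T_q, T_y] [T_yi, T_q, T_yi, T_yi, T_yi, T_q, T_y, T_y, T_y, T_q, T_yi, T_yi, T_yi, T_q, T_yi, T_yi] (nat_lit 16) z2 M (Nat.sub (MG u) (Nat.mod (MG u) M)) (nat_lit 40) z1 u (Nat.mod (MG u) M)) (Nat.ble (nat_lit 626) j)) (Bool.rec (motive := fun _ => Bool) (H9.TCX.mRelD MG [T_q, T_z, T_yi, T_z, T_q, T_z, T_y, T_z, T_q, T_z, T_yi, T_z, T_q, T_z, T_y, T_z] [T_z,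 T_yi, T_z, T_q, T_z, T_y, T_z, T_q, T_z, T_yi, T_z, T_q, T_z, T_y, T_z, T_q] (nat_lit 16) z2 M (Nat.sub (MG u) (Nat.mod (MG u) M)) (nat_lit 40) z1 u (Nat.mod (MG u) M)) (Bool.rec (motive := fun _ => Bool) (H9.TCX.mRelD MG [T_q, T_z, T_q, T_z, T_q, T_v, T_z, T_q, T_z, T_q, T_v, T_z, T_q, T_v, T_z] [T_z, T_v, T_q, T_z, T_v, T_q, T_z, T_q, T_z, T_v, T_q, T_z, T_q, T_z, T_q] (nat_lit 15) z2 M (Nat.sub (MG u) (Nat.mod (MG u) M)) (nat_lit 40) z1 u (Nat.mod (MG u) M)) (H9.TCX.mRelD MG [T_q, T_v, T_z, T_q, T_z, T_q, T_v, T_z, T_q, T_v, T_z, T_q, T_z, T_q, T_z] [T_z, T_q, T_z, T_q, T_z, T_v, T_q, T_z, T_v, T_q, T_z, T_q, T_z, T_v, T_q] (nat_lit 15) z2 M (Nat.sub (MG u) (Nat.mod (MG u) M)) (nat_lit 40) z1 u (Nat.mod (MG u) M)) (Nat.ble (nat_lit 629) j)) (Nat.ble (nat_lit 628) j)) (Nat.ble (nat_lit 627) j)) (Nat.ble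 (nat_lit 625) j)
noncomputable def dM_139 (j z1 z2 u : ℕ) : Bool :=
  Bool.rec (motive := fun _ => Bool) (dM_137 j z1 z2 u) (dM_138 j z1 z2 u) (Nat.ble (nat_lit 621) j)
noncomputable def dM_140 (j z1 z2 u : ℕ) : Bool :=
  Bool.rec (motive := fun _ => Bool) (Bool.rec (motive := fun _ => Bool) (H9.TCX.mRelD MG [T_yi, T_yi, T_yi, T_q, T_z, T_yi, T_q, T_z, T_yi, T_yi, T_yi, T_q, T_z, T_yi, T_q, T_z, T_yi, T_yi, T_yi, T_q, T_z, T_yi, T_q, T_z, T_yi, T_yi, T_yi, T_q, T_z, T_yi, T_q, T_z] [T_z, T_q, T_y, T_z, T_q, T_y, T_y, T_y, T_z, T_q, T_y, T_z, T_q, T_y, T_y, T_y, T_z, T_q, T_y, T_z, T_q, T_y, T_y, T_y, T_z, T_q, T_y, T_z, T_q, T_y, T_y, T_y] (nat_lit 32) z2 M (Nat.sub (MG u) (Nat.mod (MG u) M)) (nat_lit 40) z1 u (Nat.mod (MG u) M)) (Bool.rec (motive := fun _ => Bool) (H9.TCX.mRelD MG [T_z, T_q, T_z, T_y, T_z,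 T_q, T_z, T_yi, T_z, T_q, T_z, T_y, T_z, T_q, T_z, T_yi] [T_y, T_z, T_q, T_z, T_yi, T_z, T_q, T_z, T_y, T_z, T_q, T_z, T_yi, T_z, T_q, T_z] (nat_lit 16) z2 M (Nat.sub (MG u) (Nat.mod (MG u) M)) (nat_lit 40) z1 u (Nat.mod (MG u) M)) (H9.TCX.mRelD MG [T_z, T_q, T_z, T_v, T_q, T_z, T_q, T_z, T_q, T_z, T_v, T_q, T_z, T_v, T_q] [T_q, T_v, T_z, T_q, T_v, T_z, T_q, T_z, T_q, T_z, T_q, T_v, T_z, T_q, T_z] (nat_lit 15) z2 M (Nat.sub (MG u) (Nat.mod (MG u) M)) (nat_lit 40) z1 u (Nat.mod (MG u) M)) (Nat.ble (nat_lit 632) j)) (Nat.ble (nat_lit 631) j)) (Bool.rec (motive := fun _ => Bool) (H9.TCX.mRelD MG [T_q, T_z, T_q, T_v, T_z, T_q, T_z, T_q, T_v, T_z, T_q, T_v, T_z, T_q, T_z] [T_z, T_q, T_z, T_v, T_q, T_z, T_v, T_q, T_z, T_q, T_z, T_v, T_q, T_z, T_q] (nat_lit 15) z2 M (Nat.sub (MG u) (Nat.mod (MG u) M)) (nat_lit 40)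 z1 u (Nat.mod (MG u) M)) (Bool.rec (motive := fun _ => Bool) (H9.TCX.mRelD MG [T_v, T_q, T_z, T_v, T_q, T_z, T_q, T_z, T_v, T_q, T_z, T_q, T_z, T_q, T_z] [T_z, T_q, T_z, T_q, T_z, T_q, T_v, T_z, T_q, T_z, T_q, T_v, T_z, T_q, T_v] (nat_lit 15) z2 M (Nat.sub (MG u) (Nat.mod (MG u) M)) (nat_lit 40) z1 u (Nat.mod (MG u) M)) (H9.TCX.mRelD MG [T_q, T_z, T_v, T_q, T_z, T_q, T_z, T_q, T_z, T_v, T_q, T_z, T_v, T_q, T_z] [T_z, T_q, T_v, T_z, T_q, T_v, T_z, T_q, T_z, T_q, T_z, T_q, T_v, T_z, T_q] (nat_lit 15) z2 M (Nat.sub (MG u) (Nat.mod (MG u) M)) (nat_lit 40) z1 u (Nat.mod (MG u) M)) (Nat.ble (nat_lit 635) j)) (Nat.ble (nat_lit 634) j)) (Nat.ble (nat_lit 633) j)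
noncomputable def dM_141 (j z1 z2 u : ℕ) : Bool :=
  Bool.rec (motive := fun _ => Bool) (Bool.rec (motive := fun _ => Bool) (Bool.rec (motive := fun _ => Bool) (H9.TCX.mRelD MG [T_z, T_v, T_q, T_z, T_q, T_z, T_v, T_q, T_z, T_q, T_z, T_q, T_z, T_v, T_q] [T_q, T_v, T_z, T_q, T_z, T_q, T_z, T_q, T_v, T_z, T_q, T_z, T_q, T_v, T_z] (nat_lit 15) z2 M (Nat.sub (MG u) (Nat.mod (MG u) M)) (nat_lit 40) z1 u (Nat.mod (MG u) M)) (H9.TCX.mRelD MG [T_z, T_yi, T_z, T_q, T_z, T_y, T_z, T_q, T_z, T_yi, T_z, T_q, T_z, T_y, T_z, T_q] [T_q, T_z, T_yi, T_z, T_q, T_z, T_y, T_z, T_q, T_z, T_yi, T_z, T_q, T_z, T_y, T_z] (nat_lit 16) z2 M (Nat.sub (MG u) (Nat.mod (MG u) M)) (nat_lit 40) z1 u (Nat.mod (MG u) M)) (Nat.ble (nat_lit 637) j)) (Bool.rec (motive := fun _ => Bool) (H9.TCX.mRelD MG [T_q, T_z, T_v, T_q, T_z, T_q, T_z, T_v,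 T_q, T_z, T_q, T_z, T_q, T_z, T_v] [T_v, T_z, T_q, T_z, T_q, T_z, T_q, T_v, T_z, T_q, T_z, T_q, T_v, T_z, T_q] (nat_lit 15) z2 M (Nat.sub (MG u) (Nat.mod (MG u) M)) (nat_lit 40) z1 u (Nat.mod (MG u) M)) (H9.TCX.mRelD MG [T_q, T_z, T_q, T_z, T_q, T_z, T_v, T_q, T_z, T_v, T_q, T_z, T_q, T_z, T_v] [T_v, T_z, T_q, T_z, T_q, T_v, T_z, T_q, T_v, T_z, T_q, T_z, T_q, T_z, T_q] (nat_lit 15) z2 M (Nat.sub (MG u) (Nat.mod (MG u) M)) (nat_lit 40) z1 u (Nat.mod (MG u) M)) (Nat.ble (nat_lit 639) j)) (Nat.ble (nat_lit 638) j)) (Bool.rec (motive := fun _ => Bool) (Bool.rec (motive := fun _ => Bool) (H9.TCX.mRelD MG [T_yi, T_yi, T_yi, T_q, T_y, T_y, T_y, T_q, T_y, T_y, T_y, T_q, T_y, T_y, T_y, T_q] [T_q, T_yi, T_yi, T_yi, T_q, T_yi, T_yi, T_yi, T_q, T_yi, T_yi, T_yi, T_q, T_y, T_y, T_y] (nat_lit 16) z2 M (Nat.sub (MG u) (Nat.mod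 (MG u) M)) (nat_lit 40) z1 u (Nat.mod (MG u) M)) (H9.TCX.mRelD MG [T_v, T_z, T_q, T_z, T_q, T_v, T_z, T_q, T_v, T_z, T_q, T_z, T_q, T_z, T_q] [T_q, T_z, T_q, T_z, T_q, T_z, T_v, T_q, T_z, T_v, T_q, T_z, T_q, T_z, T_v] (nat_lit 15) z2 M (Nat.sub (MG u) (Nat.mod (MG u) M)) (nat_lit 40) z1 u (Nat.mod (MG u) M)) (Nat.ble (nat_lit 641) j)) (Bool.rec (motive := fun _ => Bool) (H9.TCX.mRelD MG [T_z, T_y, T_z, T_q, T_z, T_yi, T_z, T_q, T_z, T_y, T_z, T_q, T_z, T_yi, T_z, T_q] [T_q, T_z, T_y, T_z, T_q, T_z, T_yi, T_z, T_q, T_z, T_y, T_z, T_q, T_z, T_yi, T_z] (nat_lit 16) z2 M (Nat.sub (MG u) (Nat.mod (MG u) M)) (nat_lit 40) z1 u (Nat.mod (MG u) M)) (Bool.rec (motive := fun _ => Bool) (H9.TCX.mRelD MG [T_y, T_y, T_z, T_q, T_y, T_z, T_q, T_y, T_z, T_q, T_yi, T_q, T_z, T_yi, T_q, T_z, T_yi, T_yi, T_yi, T_z, T_y, T_y,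 T_y, T_z, T_q, T_y, T_z, T_q, T_y, T_z, T_q, T_yi, T_q, T_z, T_yi, T_q, T_z, T_yi, T_yi, T_yi, T_z, T_y, T_y, T_y, T_z, T_q, T_y, T_z, T_q, T_y, T_z, T_q, T_z, T_yi, T_q, T_z, T_yi, T_q, T_z, T_yi, T_yi, T_yi, T_z, T_y] [T_yi, T_z, T_y, T_y, T_y, T_z, T_q, T_y, T_z, T_q, T_y, T_z, T_q, T_z, T_yi, T_q, T_z, T_yi, T_q, T_z, T_yi, T_yi, T_yi, T_z, T_y, T_y, T_y, T_z, T_q, T_y, T_z, T_q, T_y, T_q, T_z, T_yi, T_q, T_z, T_yi, T_q, T_z, T_yi, T_yi, T_yi, T_z, T_y, T_y, T_y, T_z, T_q, T_y, T_z, T_q, T_y, T_q, T_z, T_yi, T_q, T_z, T_yi, T_q, T_z, T_yi, T_yi] (nat_lit 64) z2 M (Nat.sub (MG u) (Nat.mod (MG u) M)) (nat_lit 40) z1 u (Nat.mod (MG u) M)) (H9.TCX.mRelD MG [T_z, T_y, T_y, T_y, T_z, T_q, T_y, T_z, T_q, T_y, T_q, T_z, T_yi, T_q, T_z, T_yi, T_q, T_z, T_yi, T_yi, T_yi, T_z, T_y, T_y, T_y, T_z, T_q, T_y, T_z, T_q,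 T_y, T_q, T_z, T_yi, T_q, T_z, T_yi, T_q, T_z, T_yi, T_yi, T_yi, T_z, T_y, T_y, T_y, T_z, T_q, T_y, T_z, T_q, T_y, T_z, T_q, T_z, T_yi, T_q, T_z, T_yi, T_q, T_z, T_yi, T_yi, T_yi] [T_y, T_y, T_y, T_z, T_q, T_y, T_z, T_q, T_y, T_z, T_q, T_z, T_yi, T_q, T_z, T_yi, T_q, T_z, T_yi, T_yi, T_yi, T_z, T_y, T_y, T_y, T_z, T_q, T_y, T_z, T_q, T_y, T_z, T_q, T_yi, T_q, T_z, T_yi, T_q, T_z, T_yi, T_yi, T_yi, T_z, T_y, T_y, T_y, T_z, T_q, T_y, T_z, T_q, T_y, T_z, T_q, T_yi, T_q, T_z, T_yi, T_q, T_z, T_yi, T_yi, T_yi, T_z] (nat_lit 64) z2 M (Nat.sub (MG u) (Nat.mod (MG u) M)) (nat_lit 40) z1 u (Nat.mod (MG u) M)) (Nat.ble (nat_lit 644) j)) (Nat.ble (nat_lit 643) j)) (Nat.ble (nat_lit 642) j)) (Nat.ble (nat_lit 640) j)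
noncomputable def dM_142 (j z1 z2 u : ℕ) : Bool :=
  Bool.rec (motive := fun _ => Bool) (dM_140 j z1 z2 u) (dM_141 j z1 z2 u) (Nat.ble (nat_lit 636) j)
noncomputable def dM_143 (j z1 z2 u : ℕ) : Bool :=
  Bool.rec (motive := fun _ => Bool) (Bool.rec (motive := fun _ => Bool) (H9.TCX.mRelD MG [T_z, T_q, T_v, T_z, T_q, T_z, T_q, T_z, T_q, T_v, T_z, T_q, T_z, T_q, T_v] [T_v, T_q, T_z, T_q, T_z, T_v, T_q, T_z, T_q, T_z, T_q, T_z, T_v, T_q, T_z] (nat_lit 15) z2 M (Nat.sub (MG u) (Nat.mod (MG u) M)) (nat_lit 40) z1 u (Nat.mod (MG u) M)) (Bool.rec (motive := fun _ => Bool) (H9.TCX.mRelD MG [T_yi, T_yi, T_q, T_z, T_yi, T_q, T_z, T_yi, T_yi, T_yi, T_q, T_z, T_yi, T_q, T_z, T_yi, T_yi, T_yi, T_q, T_z, T_yi, T_q, T_z, T_yi, T_yi, T_yi, T_q, T_z, T_yi, T_q, T_z, T_yi] [T_y, T_z, T_q, T_y, T_z, T_q, T_y, T_y, T_y, T_z,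 T_q, T_y, T_z, T_q, T_y, T_y, T_y, T_z, T_q, T_y, T_z, T_q, T_y, T_y, T_y, T_z, T_q, T_y, T_z, T_q, T_y, T_y] (nat_lit 32) z2 M (Nat.sub (MG u) (Nat.mod (MG u) M)) (nat_lit 40) z1 u (Nat.mod (MG u) M)) (H9.TCX.mRelD MG [T_v, T_z, T_q, T_v, T_z, T_q, T_z, T_q, T_z, T_q, T_v, T_z, T_q, T_z, T_q] [T_q, T_z, T_q, T_z, T_v, T_q, T_z, T_q, T_z, T_q, T_z, T_v, T_q, T_z, T_v] (nat_lit 15) z2 M (Nat.sub (MG u) (Nat.mod (MG u) M)) (nat_lit 40) z1 u (Nat.mod (MG u) M)) (Nat.ble (nat_lit 647) j)) (Nat.ble (nat_lit 646) j)) (Bool.rec (motive := fun _ => Bool) (H9.TCX.mRelD MG [T_yi, T_q, T_z, T_q, T_y, T_q, T_z, T_yi, T_yi, T_q, T_z, T_yi, T_q, T_z, T_yi, T_z, T_y, T_z, T_q, T_y, T_z, T_q, T_y, T_y, T_z, T_q] [T_q, T_z, T_yi, T_yi, T_q, T_z, T_yi, T_q, T_z, T_yi, T_z, T_y, T_z, T_q, T_y, T_z, T_q, T_y, T_y, T_z, T_q, T_yi,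 T_q, T_z, T_q, T_y] (nat_lit 26) z2 M (Nat.sub (MG u) (Nat.mod (MG u) M)) (nat_lit 40) z1 u (Nat.mod (MG u) M)) (Bool.rec (motive := fun _ => Bool) (H9.TCX.mRelD MG [T_q, T_v, T_z, T_q, T_v, T_z, T_q, T_z, T_q, T_z, T_q, T_v, T_z, T_q, T_z] [T_z, T_q, T_z, T_v, T_q, T_z, T_q, T_z, T_q, T_z, T_v, T_q, T_z, T_v, T_q] (nat_lit 15) z2 M (Nat.sub (MG u) (Nat.mod (MG u) M)) (nat_lit 40) z1 u (Nat.mod (MG u) M)) (H9.TCX.mRelD MG [T_q, T_z, T_v, T_q, T_z, T_v, T_q, T_z, T_q, T_z, T_v, T_q, T_z, T_q, T_z] [T_z, T_q, T_z, T_q, T_v, T_z, T_q, T_z, T_q, T_v, T_z, T_q, T_v, T_z, T_q] (nat_lit 15) z2 M (Nat.sub (MG u) (Nat.mod (MG u) M)) (nat_lit 40) z1 u (Nat.mod (MG u) M)) (Nat.ble (nat_lit 650) j)) (Nat.ble (nat_lit 649) j)) (Nat.ble (nat_lit 648) j)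
noncomputable def dM_144 (j z1 z2 u : ℕ) : Bool :=
  Bool.rec (motive := fun _ => Bool) (Bool.rec (motive := fun _ => Bool) (H9.TCX.mRelD MG [T_z, T_q, T_y, T_q, T_z, T_yi, T_yi, T_q, T_z, T_yi, T_q, T_z, T_yi, T_z, T_y, T_z, T_q, T_y, T_z, T_q, T_y, T_y, T_z, T_q, T_yi, T_q] [T_q, T_y, T_q, T_z, T_yi, T_yi, T_q, T_z, T_yi, T_q, T_z, T_yi, T_z, T_y, T_z, T_q, T_y, T_z, T_q, T_y, T_y, T_z, T_q, T_yi, T_q, T_z] (nat_lit 26) z2 M (Nat.sub (MG u) (Nat.mod (MG u) M)) (nat_lit 40) z1 u (Nat.mod (MG u) M)) (Bool.rec (motive := fun _ => Bool) (H9.TCX.mRelD MG [T_q, T_y, T_y, T_y, T_q, T_yi, T_yi, T_yi, T_q, T_y, T_y, T_y, T_q, T_y, T_y, T_y] [T_yi, T_yi, T_yi, T_q, T_yi, T_yi, T_yi, T_q, T_y, T_y, T_y, T_q, T_yi, T_yi, T_yi, T_q] (nat_lit 16) z2 M (Nat.sub (MG u) (Nat.mod (MG u) M)) (nat_lit 40) z1 u (Nat.mod (MG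 u) M)) (H9.TCX.mRelD MG [T_y, T_y, T_q, T_yi, T_yi, T_yi, T_q, T_y, T_y, T_y, T_q, T_y, T_y, T_y, T_q, T_y] [T_yi, T_q, T_yi, T_yi, T_yi, T_q, T_yi, T_yi, T_yi, T_q, T_y, T_y, T_y, T_q, T_yi, T_yi] (nat_lit 16) z2 M (Nat.sub (MG u) (Nat.mod (MG u) M)) (nat_lit 40) z1 u (Nat.mod (MG u) M)) (Nat.ble (nat_lit 653) j)) (Nat.ble (nat_lit 652) j)) (Bool.rec (motive := fun _ => Bool) (H9.TCX.mRelD MG [T_q, T_z, T_q, T_v, T_z, T_q, T_v, T_z, T_q, T_z, T_q, T_z, T_q, T_v, T_z] [T_z, T_v, T_q, T_z, T_q, T_z, T_q, T_z, T_v, T_q, T_z, T_v, T_q, T_z, T_q] (nat_lit 15) z2 M (Nat.sub (MG u) (Nat.mod (MG u) M)) (nat_lit 40) z1 u (Nat.mod (MG u) M)) (Bool.rec (motive := fun _ => Bool) (H9.TCX.mRelD MG [T_q, T_z, T_yi, T_q, T_z, T_yi, T_yi, T_yi, T_z, T_y, T_y, T_y, T_z, T_q, T_y, T_z, T_q, T_y, T_z, T_q, T_yi, T_q, T_z, T_yi,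 T_q, T_z, T_yi, T_yi, T_yi, T_z, T_y, T_y, T_y, T_z, T_q, T_y, T_z, T_q, T_y, T_z, T_q, T_yi, T_q, T_z, T_yi, T_q, T_z, T_yi, T_yi, T_yi, T_z, T_y, T_y, T_y, T_z, T_q, T_y, T_z, T_q, T_y, T_z, T_q, T_z, T_yi] [T_y, T_z, T_q, T_z, T_yi, T_q, T_z, T_yi, T_q, T_z, T_yi, T_yi, T_yi, T_z, T_y, T_y, T_y, T_z, T_q, T_y, T_z, T_q, T_y, T_q, T_z, T_yi, T_q, T_z, T_yi, T_q, T_z, T_yi, T_yi, T_yi, T_z, T_y, T_y, T_y, T_z, T_q, T_y, T_z, T_q, T_y, T_q, T_z, T_yi, T_q, T_z, T_yi, T_q, T_z, T_yi, T_yi, T_yi, T_z, T_y, T_y, T_y, T_z, T_q, T_y, T_z, T_q] (nat_lit 64) z2 M (Nat.sub (MG u) (Nat.mod (MG u) M)) (nat_lit 40) z1 u (Nat.mod (MG u) M)) (Bool.rec (motive := fun _ => Bool) (H9.TCX.mRelD MG [T_q, T_y, T_z, T_q, T_z, T_yi, T_q, T_z, T_yi, T_q, T_z, T_yi, T_yi, T_yi, T_z, T_y, T_y, T_y, T_z, T_q, T_y, T_z, T_q, T_y, T_z,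 T_q, T_yi, T_q, T_z, T_yi, T_q, T_z, T_yi, T_yi, T_yi, T_z, T_y, T_y, T_y, T_z, T_q, T_y, T_z, T_q, T_y, T_z, T_q, T_yi, T_q, T_z, T_yi, T_q, T_z, T_yi, T_yi, T_yi, T_z, T_y, T_y, T_y, T_z, T_q, T_y, T_z] [T_z, T_yi, T_q, T_z, T_yi, T_yi, T_yi, T_z, T_y, T_y, T_y, T_z, T_q, T_y, T_z, T_q, T_y, T_q, T_z, T_yi, T_q, T_z, T_yi, T_q, T_z, T_yi, T_yi, T_yi, T_z, T_y, T_y, T_y, T_z, T_q, T_y, T_z, T_q, T_y, T_q, T_z, T_yi, T_q, T_z, T_yi, T_q, T_z, T_yi, T_yi, T_yi, T_z, T_y, T_y, T_y, T_z, T_q, T_y, T_z, T_q, T_y, T_z, T_q, T_z, T_yi, T_q] (nat_lit 64) z2 M (Nat.sub (MG u) (Nat.mod (MG u) M)) (nat_lit 40) z1 u (Nat.mod (MG u) M)) (H9.TCX.mRelD MG [T_yi, T_yi, T_z, T_y, T_y, T_y, T_z, T_q, T_y, T_z, T_q, T_y, T_z, T_q, T_yi, T_q, T_z, T_yi, T_q, T_z, T_yi, T_yi, T_yi, T_z, T_y, T_y, T_y, T_z, T_q, T_y, T_z, T_q,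 T_y, T_z, T_q, T_z, T_yi, T_q, T_z, T_yi, T_q, T_z, T_yi, T_yi, T_yi, T_z, T_y, T_y, T_y, T_z, T_q, T_y, T_z, T_q, T_y, T_z, T_q, T_yi, T_q, T_z, T_yi, T_q, T_z, T_yi] [T_y, T_z, T_q, T_y, T_z, T_q, T_y, T_q, T_z, T_yi, T_q, T_z, T_yi, T_q, T_z, T_yi, T_yi, T_yi, T_z, T_y, T_y, T_y, T_z, T_q, T_y, T_z, T_q, T_y, T_z, T_q, T_z, T_yi, T_q, T_z, T_yi, T_q, T_z, T_yi, T_yi, T_yi, T_z, T_y, T_y, T_y, T_z, T_q, T_y, T_z, T_q, T_y, T_q, T_z, T_yi, T_q, T_z, T_yi, T_q, T_z, T_yi, T_yi, T_yi, T_z, T_y, T_y] (nat_lit 64) z2 M (Nat.sub (MG u) (Nat.mod (MG u) M)) (nat_lit 40) z1 u (Nat.mod (MG u) M)) (Nat.ble (nat_lit 657) j)) (Nat.ble (nat_lit 656) j)) (Nat.ble (nat_lit 655) j)) (Nat.ble (nat_lit 654) j)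
noncomputable def dM_145 (j z1 z2 u : ℕ) : Bool :=
  Bool.rec (motive := fun _ => Bool) (dM_143 j z1 z2 u) (dM_144 j z1 z2 u) (Nat.ble (nat_lit 651) j)
noncomputable def dM_146 (j z1 z2 u : ℕ) : Bool :=
  Bool.rec (motive := fun _ => Bool) (Bool.rec (motive := fun _ => Bool) (Bool.rec (motive := fun _ => Bool) (H9.TCX.mRelD MG [T_y, T_y, T_z, T_q, T_y, T_z, T_q, T_y, T_z, T_q, T_z, T_yi, T_q, T_z, T_yi, T_q, T_z, T_yi, T_yi, T_yi, T_z, T_y, T_y, T_y, T_z, T_q, T_y, T_z, T_q, T_y, T_z, T_q, T_yi, T_q, T_z, T_yi, T_q, T_z, T_yi, T_yi, T_yi, T_z, T_y, T_y, T_y, T_z, T_q, T_y, T_z, T_q, T_y, T_z, T_q, T_yi, T_q, T_z, T_yi, T_q, T_z, T_yi, T_yi, T_yi, T_z, T_y] [T_yi, T_z, T_y, T_y, T_y, T_z, T_q, T_y, T_z, T_q, T_y, T_q, T_z, T_yi, T_q, T_z, T_yi, T_q, T_z, T_yi, T_yi, T_yi, T_z, T_y, T_y, T_y, T_z, T_q, T_y,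 T_z, T_q, T_y, T_q, T_z, T_yi, T_q, T_z, T_yi, T_q, T_z, T_yi, T_yi, T_yi, T_z, T_y, T_y, T_y, T_z, T_q, T_y, T_z, T_q, T_y, T_z, T_q, T_z, T_yi, T_q, T_z, T_yi, T_q, T_z, T_yi, T_yi] (nat_lit 64) z2 M (Nat.sub (MG u) (Nat.mod (MG u) M)) (nat_lit 40) z1 u (Nat.mod (MG u) M)) (H9.TCX.mRelD MG [T_yi, T_yi, T_yi, T_z, T_y, T_y, T_y, T_z, T_q, T_y, T_z, T_q, T_y, T_z, T_q, T_yi, T_q, T_z, T_yi, T_q, T_z, T_yi, T_yi, T_yi, T_z, T_y, T_y, T_y, T_z, T_q, T_y, T_z, T_q, T_y, T_z, T_q, T_yi, T_q, T_z, T_yi, T_q, T_z, T_yi, T_yi, T_yi, T_z, T_y, T_y, T_y, T_z, T_q, T_y, T_z, T_q, T_y, T_z, T_q, T_z, T_yi, T_q, T_z, T_yi, T_q, T_z] [T_z, T_q, T_y, T_z, T_q, T_y, T_z, T_q, T_z, T_yi, T_q, T_z, T_yi, T_q, T_z, T_yi, T_yi, T_yi, T_z, T_y, T_y, T_y, T_z, T_q, T_y, T_z, T_q, T_y, T_q, T_z, T_yi, T_q, T_z, T_yi, T_q, T_z,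 T_yi, T_yi, T_yi, T_z, T_y, T_y, T_y, T_z, T_q, T_y, T_z, T_q, T_y, T_q, T_z, T_yi, T_q, T_z, T_yi, T_q, T_z, T_yi, T_yi, T_yi, T_z, T_y, T_y, T_y] (nat_lit 64) z2 M (Nat.sub (MG u) (Nat.mod (MG u) M)) (nat_lit 40) z1 u (Nat.mod (MG u) M)) (Nat.ble (nat_lit 659) j)) (Bool.rec (motive := fun _ => Bool) (H9.TCX.mRelD MG [T_z, T_q, T_y, T_z, T_q, T_z, T_yi, T_q, T_z, T_yi, T_q, T_z, T_yi, T_yi, T_yi, T_z, T_y, T_y, T_y, T_z, T_q, T_y, T_z, T_q, T_y, T_z, T_q, T_yi, T_q, T_z, T_yi, T_q, T_z, T_yi, T_yi, T_yi, T_z, T_y, T_y, T_y, T_z, T_q, T_y, T_z, T_q, T_y, T_z, T_q, T_yi, T_q, T_z, T_yi, T_q, T_z, T_yi, T_yi, T_yi, T_z, T_y, T_y, T_y, T_z, T_q, T_y] [T_yi, T_q, T_z, T_yi, T_yi, T_yi, T_z, T_y, T_y, T_y, T_z, T_q, T_y, T_z, T_q, T_y, T_q, T_z, T_yi, T_q, T_z, T_yi, T_q, T_z, T_yi, T_yi, T_yi, T_z, T_y, T_y, T_y,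 T_z, T_q, T_y, T_z, T_q, T_y, T_q, T_z, T_yi, T_q, T_z, T_yi, T_q, T_z, T_yi, T_yi, T_yi, T_z, T_y, T_y, T_y, T_z, T_q, T_y, T_z, T_q, T_y, T_z, T_q, T_z, T_yi, T_q, T_z] (nat_lit 64) z2 M (Nat.sub (MG u) (Nat.mod (MG u) M)) (nat_lit 40) z1 u (Nat.mod (MG u) M)) (Bool.rec (motive := fun _ => Bool) (H9.TCX.mRelD MG [T_yi, T_yi, T_z, T_y, T_y, T_y, T_z, T_q, T_y, T_z, T_q, T_y, T_z, T_q, T_z, T_yi, T_q, T_z, T_yi, T_q, T_z, T_yi, T_yi, T_yi, T_z, T_y, T_y, T_y, T_z, T_q, T_y, T_z, T_q, T_y, T_z, T_q, T_yi, T_q, T_z, T_yi, T_q, T_z, T_yi, T_yi, T_yi, T_z, T_y, T_y, T_y, T_z, T_q, T_y, T_z, T_q, T_y, T_z, T_q, T_yi, T_q, T_z, T_yi, T_q, T_z, T_yi] [T_y, T_z, T_q, T_y, T_z, T_q, T_y, T_q, T_z, T_yi, T_q, T_z, T_yi, T_q, T_z, T_yi, T_yi, T_yi, T_z, T_y, T_y, T_y, T_z, T_q, T_y, T_z, T_q, T_y, T_q, T_z, T_yi, T_q,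 T_z, T_yi, T_q, T_z, T_yi, T_yi, T_yi, T_z, T_y, T_y, T_y, T_z, T_q, T_y, T_z, T_q, T_y, T_z, T_q, T_z, T_yi, T_q, T_z, T_yi, T_q, T_z, T_yi, T_yi, T_yi, T_z, T_y, T_y] (nat_lit 64) z2 M (Nat.sub (MG u) (Nat.mod (MG u) M)) (nat_lit 40) z1 u (Nat.mod (MG u) M)) (H9.TCX.mRelD MG [T_z, T_q, T_y, T_z, T_q, T_y, T_q, T_z, T_yi, T_q, T_z, T_yi, T_q, T_z, T_yi, T_yi, T_yi, T_z, T_y, T_y, T_y, T_z, T_q, T_y, T_z, T_q, T_y, T_q, T_z, T_yi, T_q, T_z, T_yi, T_q, T_z, T_yi, T_yi, T_yi, T_z, T_y, T_y, T_y, T_z, T_q, T_y, T_z, T_q, T_y, T_z, T_q, T_z, T_yi, T_q, T_z, T_yi, T_q, T_z, T_yi, T_yi, T_yi, T_z, T_y, T_y, T_y] [T_yi, T_yi, T_yi, T_z, T_y, T_y, T_y, T_z, T_q, T_y, T_z, T_q, T_y, T_z, T_q, T_z, T_yi, T_q, T_z, T_yi, T_q, T_z, T_yi, T_yi, T_yi, T_z, T_y, T_y, T_y, T_z, T_q, T_y, T_z, T_q, T_y, T_z, T_q, T_yi, T_q,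 T_z, T_yi, T_q, T_z, T_yi, T_yi, T_yi, T_z, T_y, T_y, T_y, T_z, T_q, T_y, T_z, T_q, T_y, T_z, T_q, T_yi, T_q, T_z, T_yi, T_q, T_z] (nat_lit 64) z2 M (Nat.sub (MG u) (Nat.mod (MG u) M)) (nat_lit 40) z1 u (Nat.mod (MG u) M)) (Nat.ble (nat_lit 662) j)) (Nat.ble (nat_lit 661) j)) (Nat.ble (nat_lit 660) j)) (Bool.rec (motive := fun _ => Bool) (Bool.rec (motive := fun _ => Bool) (H9.TCX.mRelD MG [T_y, T_q, T_z, T_yi, T_q, T_z, T_yi, T_q, T_z, T_yi, T_yi, T_yi, T_z, T_y, T_y, T_y, T_z, T_q, T_y, T_z, T_q, T_y, T_q, T_z, T_yi, T_q, T_z, T_yi, T_q, T_z, T_yi, T_yi, T_yi, T_z, T_y, T_y, T_y, T_z, T_q, T_y, T_z, T_q, T_y, T_z, T_q, T_z, T_yi, T_q, T_z, T_yi, T_q, T_z, T_yi, T_yi, T_yi, T_z, T_y, T_y, T_y, T_z, T_q, T_y, T_z, T_q] [T_q, T_z, T_yi, T_q, T_z, T_yi, T_yi, T_yi, T_z, T_y, T_y, T_y, T_z, T_q, T_y, T_z, T_q,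 T_y, T_z, T_q, T_z, T_yi, T_q, T_z, T_yi, T_q, T_z, T_yi, T_yi, T_yi, T_z, T_y, T_y, T_y, T_z, T_q, T_y, T_z, T_q, T_y, T_z, T_q, T_yi, T_q, T_z, T_yi, T_q, T_z, T_yi, T_yi, T_yi, T_z, T_y, T_y, T_y, T_z, T_q, T_y, T_z, T_q, T_y, T_z, T_q, T_yi] (nat_lit 64) z2 M (Nat.sub (MG u) (Nat.mod (MG u) M)) (nat_lit 40) z1 u (Nat.mod (MG u) M)) (Bool.rec (motive := fun _ => Bool) (H9.TCX.mRelD MG [T_y, T_z, T_q, T_z, T_yi, T_q, T_z, T_yi, T_q, T_z, T_yi, T_yi, T_yi, T_z, T_y, T_y, T_y, T_z, T_q, T_y, T_z, T_q, T_y, T_q, T_z, T_yi, T_q, T_z, T_yi, T_q, T_z, T_yi, T_yi, T_yi, T_z, T_y, T_y, T_y, T_z, T_q, T_y, T_z, T_q, T_y, T_q, T_z, T_yi, T_q, T_z, T_yi, T_q, T_z, T_yi, T_yi, T_yi, T_z, T_y, T_y, T_y, T_z, T_q, T_y, T_z, T_q] [T_q, T_z, T_yi, T_q, T_z, T_yi, T_yi, T_yi, T_z, T_y, T_y, T_y, T_z, T_q, T_y, T_z, T_q,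 T_y, T_z, T_q, T_yi, T_q, T_z, T_yi, T_q, T_z, T_yi, T_yi, T_yi, T_z, T_y, T_y, T_y, T_z, T_q, T_y, T_z, T_q, T_y, T_z, T_q, T_yi, T_q, T_z, T_yi, T_q, T_z, T_yi, T_yi, T_yi, T_z, T_y, T_y, T_y, T_z, T_q, T_y, T_z, T_q, T_y, T_z, T_q, T_z, T_yi] (nat_lit 64) z2 M (Nat.sub (MG u) (Nat.mod (MG u) M)) (nat_lit 40) z1 u (Nat.mod (MG u) M)) (H9.TCX.mRelD MG [T_yi, T_q, T_z, T_yi, T_yi, T_yi, T_z, T_y, T_y, T_y, T_z, T_q, T_y, T_z, T_q, T_y, T_z, T_q, T_z, T_yi, T_q, T_z, T_yi, T_q, T_z, T_yi, T_yi, T_yi, T_z, T_y, T_y, T_y, T_z, T_q, T_y, T_z, T_q, T_y, T_z, T_q, T_yi, T_q, T_z, T_yi, T_q, T_z, T_yi, T_yi, T_yi, T_z, T_y, T_y, T_y, T_z, T_q, T_y, T_z, T_q, T_y, T_z, T_q, T_yi, T_q, T_z] [T_z, T_q, T_y, T_q, T_z, T_yi, T_q, T_z, T_yi, T_q, T_z, T_yi, T_yi, T_yi, T_z, T_y, T_y, T_y, T_z, T_q, T_y, T_z, T_q, T_y,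 T_q, T_z, T_yi, T_q, T_z, T_yi, T_q, T_z, T_yi, T_yi, T_yi, T_z, T_y, T_y, T_y, T_z, T_q, T_y, T_z, T_q, T_y, T_z, T_q, T_z, T_yi, T_q, T_z, T_yi, T_q, T_z, T_yi, T_yi, T_yi, T_z, T_y, T_y, T_y, T_z, T_q, T_y] (nat_lit 64) z2 M (Nat.sub (MG u) (Nat.mod (MG u) M)) (nat_lit 40) z1 u (Nat.mod (MG u) M)) (Nat.ble (nat_lit 665) j)) (Nat.ble (nat_lit 664) j)) (Bool.rec (motive := fun _ => Bool) (H9.TCX.mRelD MG [T_z, T_q, T_z, T_q, T_v, T_z, T_q, T_z, T_q, T_v, T_z, T_q, T_v, T_z, T_q] [T_q, T_z, T_v, T_q, T_z, T_v, T_q, T_z, T_q, T_z, T_v, T_q, T_z, T_q, T_z] (nat_lit 15) z2 M (Nat.sub (MG u) (Nat.mod (MG u) M)) (nat_lit 40) z1 u (Nat.mod (MG u) M)) (Bool.rec (motive := fun _ => Bool) (H9.TCX.mRelD MG [T_z, T_q, T_z, T_q, T_z, T_v, T_q, T_z, T_v, T_q, T_z, T_q, T_z, T_v, T_q] [T_q, T_v, T_z, T_q, T_z, T_q, T_v,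 T_z, T_q, T_v, T_z, T_q, T_z, T_q, T_z] (nat_lit 15) z2 M (Nat.sub (MG u) (Nat.mod (MG u) M)) (nat_lit 40) z1 u (Nat.mod (MG u) M)) (H9.TCX.mRelD MG [T_z, T_q, T_y, T_z, T_q, T_y, T_z, T_q, T_z, T_yi, T_q, T_z, T_yi, T_q, T_z, T_yi, T_yi, T_yi, T_z, T_y, T_y, T_y, T_z, T_q, T_y, T_z, T_q, T_y, T_q, T_z, T_yi, T_q, T_z, T_yi, T_q, T_z, T_yi, T_yi, T_yi, T_z, T_y, T_y, T_y, T_z, T_q, T_y, T_z, T_q, T_y, T_q, T_z, T_yi, T_q, T_z, T_yi, T_q, T_z, T_yi, T_yi, T_yi, T_z, T_y, T_y, T_y] [T_yi, T_yi, T_yi, T_z, T_y, T_y, T_y, T_z, T_q, T_y, T_z, T_q, T_y, T_z, T_q, T_yi, T_q, T_z, T_yi, T_q, T_z, T_yi, T_yi, T_yi, T_z, T_y, T_y, T_y, T_z, T_q, T_y, T_z, T_q, T_y, T_z, T_q, T_yi, T_q, T_z, T_yi, T_q, T_z, T_yi, T_yi, T_yi, T_z, T_y, T_y, T_y, T_z, T_q, T_y, T_z, T_q, T_y, T_z, T_q, T_z, T_yi, T_q, T_z, T_yi, T_q, T_z]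 (nat_lit 64) z2 M (Nat.sub (MG u) (Nat.mod (MG u) M)) (nat_lit 40) z1 u (Nat.mod (MG u) M)) (Nat.ble (nat_lit 668) j)) (Nat.ble (nat_lit 667) j)) (Nat.ble (nat_lit 666) j)) (Nat.ble (nat_lit 663) j)
noncomputable def dM_147 (j z1 z2 u : ℕ) : Bool :=
  Bool.rec (motive := fun _ => Bool) (Bool.rec (motive := fun _ => Bool) (Bool.rec (motive := fun _ => Bool) (H9.TCX.mRelD MG [T_z, T_y, T_y, T_y, T_z, T_q, T_y, T_z, T_q, T_y, T_z, T_q, T_yi, T_q, T_z, T_yi, T_q, T_z, T_yi, T_yi, T_yi, T_z, T_y, T_y, T_y, T_z, T_q, T_y, T_z, T_q, T_y, T_z, T_q, T_z, T_yi, T_q, T_z, T_yi, T_q, T_z, T_yi, T_yi, T_yi, T_z, T_y, T_y, T_y, T_z, T_q, T_y, T_z, T_q, T_y, T_z, T_q, T_yi, T_q, T_z, T_yi, T_q, T_z, T_yi, T_yi, T_yi] [T_y, T_y, T_y, T_z, T_q, T_y, T_z, T_q, T_y, T_q, T_z, T_yi, T_q, T_z, T_yi, T_q, T_z, T_yi, T_yi, T_yi,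 T_z, T_y, T_y, T_y, T_z, T_q, T_y, T_z, T_q, T_y, T_z, T_q, T_z, T_yi, T_q, T_z, T_yi, T_q, T_z, T_yi, T_yi, T_yi, T_z, T_y, T_y, T_y, T_z, T_q, T_y, T_z, T_q, T_y, T_q, T_z, T_yi, T_q, T_z, T_yi, T_q, T_z, T_yi, T_yi, T_yi, T_z] (nat_lit 64) z2 M (Nat.sub (MG u) (Nat.mod (MG u) M)) (nat_lit 40) z1 u (Nat.mod (MG u) M)) (Bool.rec (motive := fun _ => Bool) (H9.TCX.mRelD MG [T_q, T_z, T_yi, T_q, T_z, T_yi, T_yi, T_yi, T_z, T_y, T_y, T_y, T_z, T_q, T_y, T_z, T_q, T_y, T_q, T_z, T_yi, T_q, T_z, T_yi, T_q, T_z, T_yi, T_yi, T_yi, T_z, T_y, T_y, T_y, T_z, T_q, T_y, T_z, T_q, T_y, T_q, T_z, T_yi, T_q, T_z, T_yi, T_q, T_z, T_yi, T_yi, T_yi, T_z, T_y, T_y, T_y, T_z, T_q, T_y, T_z, T_q, T_y, T_z, T_q, T_z, T_yi] [T_y, T_z, T_q, T_z, T_yi, T_q, T_z, T_yi, T_q, T_z, T_yi, T_yi, T_yi, T_z, T_y, T_y, T_y, T_z, T_q, T_y,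 T_z, T_q, T_y, T_z, T_q, T_yi, T_q, T_z, T_yi, T_q, T_z, T_yi, T_yi, T_yi, T_z, T_y, T_y, T_y, T_z, T_q, T_y, T_z, T_q, T_y, T_z, T_q, T_yi, T_q, T_z, T_yi, T_q, T_z, T_yi, T_yi, T_yi, T_z, T_y, T_y, T_y, T_z, T_q, T_y, T_z, T_q] (nat_lit 64) z2 M (Nat.sub (MG u) (Nat.mod (MG u) M)) (nat_lit 40) z1 u (Nat.mod (MG u) M)) (H9.TCX.mRelD MG [T_z, T_q, T_y, T_z, T_q, T_yi, T_q, T_z, T_yi, T_q, T_z, T_yi, T_yi, T_yi, T_z, T_y, T_y, T_y, T_z, T_q, T_y, T_z, T_q, T_y, T_z, T_q, T_yi, T_q, T_z, T_yi, T_q, T_z, T_yi, T_yi, T_yi, T_z, T_y, T_y, T_y, T_z, T_q, T_y, T_z, T_q, T_y, T_z, T_q, T_z, T_yi, T_q, T_z, T_yi, T_q, T_z, T_yi, T_yi, T_yi, T_z, T_y, T_y, T_y, T_z, T_q, T_y] [T_yi, T_q, T_z, T_yi, T_yi, T_yi, T_z, T_y, T_y, T_y, T_z, T_q, T_y, T_z, T_q, T_y, T_z, T_q, T_z, T_yi, T_q, T_z, T_yi, T_q, T_z, T_yi, T_yi,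 T_yi, T_z, T_y, T_y, T_y, T_z, T_q, T_y, T_z, T_q, T_y, T_q, T_z, T_yi, T_q, T_z, T_yi, T_q, T_z, T_yi, T_yi, T_yi, T_z, T_y, T_y, T_y, T_z, T_q, T_y, T_z, T_q, T_y, T_q, T_z, T_yi, T_q, T_z] (nat_lit 64) z2 M (Nat.sub (MG u) (Nat.mod (MG u) M)) (nat_lit 40) z1 u (Nat.mod (MG u) M)) (Nat.ble (nat_lit 671) j)) (Nat.ble (nat_lit 670) j)) (Bool.rec (motive := fun _ => Bool) (H9.TCX.mRelD MG [T_yi, T_yi, T_yi, T_z, T_y, T_y, T_y, T_z, T_q, T_y, T_z, T_q, T_y, T_z, T_q, T_z, T_yi, T_q, T_z, T_yi, T_q, T_z, T_yi, T_yi, T_yi, T_z, T_y, T_y, T_y, T_z, T_q, T_y, T_z, T_q, T_y, T_z, T_q, T_yi, T_q, T_z, T_yi, T_q, T_z, T_yi, T_yi, T_yi, T_z, T_y, T_y, T_y, T_z, T_q, T_y, T_z, T_q, T_y, T_z, T_q, T_yi, T_q, T_z, T_yi, T_q, T_z] [T_z, T_q, T_y, T_z, T_q, T_y, T_q, T_z, T_yi, T_q, T_z, T_yi, T_q, T_z, T_yi, T_yi, T_yi,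 T_z, T_y, T_y, T_y, T_z, T_q, T_y, T_z, T_q, T_y, T_q, T_z, T_yi, T_q, T_z, T_yi, T_q, T_z, T_yi, T_yi, T_yi, T_z, T_y, T_y, T_y, T_z, T_q, T_y, T_z, T_q, T_y, T_z, T_q, T_z, T_yi, T_q, T_z, T_yi, T_q, T_z, T_yi, T_yi, T_yi, T_z, T_y, T_y, T_y] (nat_lit 64) z2 M (Nat.sub (MG u) (Nat.mod (MG u) M)) (nat_lit 40) z1 u (Nat.mod (MG u) M)) (Bool.rec (motive := fun _ => Bool) (H9.TCX.mRelD MG [T_yi, T_yi, T_q, T_y, T_y, T_y, T_q, T_y, T_y, T_y, T_q, T_y, T_y, T_y, T_q, T_yi] [T_y, T_q, T_yi, T_yi, T_yi, T_q, T_yi, T_yi, T_yi, T_q, T_yi, T_yi, T_yi, T_q, T_y, T_y] (nat_lit 16) z2 M (Nat.sub (MG u) (Nat.mod (MG u) M)) (nat_lit 40) z1 u (Nat.mod (MG u) M)) (H9.TCX.mRelD MG [T_z, T_v, T_q, T_z, T_q, T_z, T_q, T_z, T_v, T_q, T_z, T_v, T_q, T_z, T_q] [T_q, T_z, T_q, T_v, T_z, T_q, T_v, T_z, T_q, T_z, T_q, T_z, T_q, T_v,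 T_z] (nat_lit 15) z2 M (Nat.sub (MG u) (Nat.mod (MG u) M)) (nat_lit 40) z1 u (Nat.mod (MG u) M)) (Nat.ble (nat_lit 674) j)) (Nat.ble (nat_lit 673) j)) (Nat.ble (nat_lit 672) j)) (Bool.rec (motive := fun _ => Bool) (Bool.rec (motive := fun _ => Bool) (H9.TCX.mRelD MG [T_z, T_q, T_y, T_z, T_q, T_y, T_z, T_q, T_yi, T_q, T_z, T_yi, T_q, T_z, T_yi, T_yi, T_yi, T_z, T_y, T_y, T_y, T_z, T_q, T_y, T_z, T_q, T_y, T_z, T_q, T_yi, T_q, T_z, T_yi, T_q, T_z, T_yi, T_yi, T_yi, T_z, T_y, T_y, T_y, T_z, T_q, T_y, T_z, T_q, T_y, T_z, T_q, T_z, T_yi, T_q, T_z, T_yi, T_q, T_z, T_yi, T_yi, T_yi, T_z, T_y, T_y, T_y] [T_yi, T_yi, T_yi, T_z, T_y, T_y, T_y, T_z, T_q, T_y, T_z, T_q, T_y, T_z, T_q, T_z, T_yi, T_q, T_z, T_yi, T_q, T_z, T_yi, T_yi, T_yi, T_z, T_y, T_y, T_y, T_z, T_q, T_y, T_z, T_q, T_y, T_q, T_z, T_yi, T_q, T_z, T_yi,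 T_q, T_z, T_yi, T_yi, T_yi, T_z, T_y, T_y, T_y, T_z, T_q, T_y, T_z, T_q, T_y, T_q, T_z, T_yi, T_q, T_z, T_yi, T_q, T_z] (nat_lit 64) z2 M (Nat.sub (MG u) (Nat.mod (MG u) M)) (nat_lit 40) z1 u (Nat.mod (MG u) M)) (Bool.rec (motive := fun _ => Bool) (H9.TCX.mRelD MG [T_z, T_yi, T_q, T_z, T_yi, T_yi, T_yi, T_z, T_y, T_y, T_y, T_z, T_q, T_y, T_z, T_q, T_y, T_z, T_q, T_z, T_yi, T_q, T_z, T_yi, T_q, T_z, T_yi, T_yi, T_yi, T_z, T_y, T_y, T_y, T_z, T_q, T_y, T_z, T_q, T_y, T_z, T_q, T_yi, T_q, T_z, T_yi, T_q, T_z, T_yi, T_yi, T_yi, T_z, T_y, T_y, T_y, T_z, T_q, T_y, T_z, T_q, T_y, T_z, T_q, T_yi, T_q] [T_q, T_y, T_q, T_z, T_yi, T_q, T_z, T_yi, T_q, T_z, T_yi, T_yi, T_yi, T_z, T_y, T_y, T_y, T_z, T_q, T_y, T_z, T_q, T_y, T_q, T_z, T_yi, T_q, T_z, T_yi, T_q, T_z, T_yi, T_yi, T_yi, T_z, T_y, T_y, T_y, T_z, T_q, T_y,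 T_z, T_q, T_y, T_z, T_q, T_z, T_yi, T_q, T_z, T_yi, T_q, T_z, T_yi, T_yi, T_yi, T_z, T_y, T_y, T_y, T_z, T_q, T_y, T_z] (nat_lit 64) z2 M (Nat.sub (MG u) (Nat.mod (MG u) M)) (nat_lit 40) z1 u (Nat.mod (MG u) M)) (H9.TCX.mRelD MG [T_z, T_q, T_z, T_q, T_v, T_z, T_q, T_v, T_z, T_q, T_z, T_q, T_z, T_q, T_v] [T_v, T_q, T_z, T_q, T_z, T_q, T_z, T_v, T_q, T_z, T_v, T_q, T_z, T_q, T_z] (nat_lit 15) z2 M (Nat.sub (MG u) (Nat.mod (MG u) M)) (nat_lit 40) z1 u (Nat.mod (MG u) M)) (Nat.ble (nat_lit 677) j)) (Nat.ble (nat_lit 676) j)) (Bool.rec (motive := fun _ => Bool) (H9.TCX.mRelD MG [T_z, T_yi, T_yi, T_yi, T_z, T_y, T_y, T_y, T_z, T_q, T_y, T_z, T_q, T_y, T_z, T_q, T_z, T_yi, T_q, T_z, T_yi, T_q, T_z, T_yi, T_yi, T_yi, T_z, T_y, T_y, T_y, T_z, T_q, T_y, T_z, T_q, T_y, T_z, T_q, T_yi, T_q, T_z, T_yi, T_q, T_z, T_yi,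 T_yi, T_yi, T_z, T_y, T_y, T_y, T_z, T_q, T_y, T_z, T_q, T_y, T_z, T_q, T_yi, T_q, T_z, T_yi, T_q] [T_q, T_y, T_z, T_q, T_y, T_q, T_z, T_yi, T_q, T_z, T_yi, T_q, T_z, T_yi, T_yi, T_yi, T_z, T_y, T_y, T_y, T_z, T_q, T_y, T_z, T_q, T_y, T_q, T_z, T_yi, T_q, T_z, T_yi, T_q, T_z, T_yi, T_yi, T_yi, T_z, T_y, T_y, T_y, T_z, T_q, T_y, T_z, T_q, T_y, T_z, T_q, T_z, T_yi, T_q, T_z, T_yi, T_q, T_z, T_yi, T_yi, T_yi, T_z, T_y, T_y, T_y, T_z] (nat_lit 64) z2 M (Nat.sub (MG u) (Nat.mod (MG u) M)) (nat_lit 40) z1 u (Nat.mod (MG u) M)) (Bool.rec (motive := fun _ => Bool) (H9.TCX.mRelD MG [T_z, T_q, T_z, T_v, T_q, T_z, T_v, T_q, T_z, T_q, T_z, T_v, T_q, T_z, T_q] [T_q, T_z, T_q, T_v, T_z, T_q, T_z, T_q, T_v, T_z, T_q, T_v, T_z, T_q, T_z] (nat_lit 15) z2 M (Nat.sub (MG u) (Nat.mod (MG u) M)) (nat_lit 40) z1 u (Nat.mod (MG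 u) M)) (H9.TCX.mRelD MG [T_z, T_q, T_y, T_q, T_z, T_yi, T_q, T_z, T_yi, T_q, T_z, T_yi, T_yi, T_yi, T_z, T_y, T_y, T_y, T_z, T_q, T_y, T_z, T_q, T_y, T_q, T_z, T_yi, T_q, T_z, T_yi, T_q, T_z, T_yi, T_yi, T_yi, T_z, T_y, T_y, T_y, T_z, T_q, T_y, T_z, T_q, T_y, T_z, T_q, T_z, T_yi, T_q, T_z, T_yi, T_q, T_z, T_yi, T_yi, T_yi, T_z, T_y, T_y, T_y, T_z, T_q, T_y] [T_yi, T_q, T_z, T_yi, T_yi, T_yi, T_z, T_y, T_y, T_y, T_z, T_q, T_y, T_z, T_q, T_y, T_z, T_q, T_z, T_yi, T_q, T_z, T_yi, T_q, T_z, T_yi, T_yi, T_yi, T_z, T_y, T_y, T_y, T_z, T_q, T_y, T_z, T_q, T_y, T_z, T_q, T_yi, T_q, T_z, T_yi, T_q, T_z, T_yi, T_yi, T_yi, T_z, T_y, T_y, T_y, T_z, T_q, T_y, T_z, T_q, T_y, T_z, T_q, T_yi, T_q, T_z] (nat_lit 64) z2 M (Nat.sub (MG u) (Nat.mod (MG u) M)) (nat_lit 40) z1 u (Nat.mod (MG u) M)) (Nat.ble (nat_lit 680) j)) (Nat.ble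 (nat_lit 679) j)) (Nat.ble (nat_lit 678) j)) (Nat.ble (nat_lit 675) j)
noncomputable def dM_148 (j z1 z2 u : ℕ) : Bool :=
  Bool.rec (motive := fun _ => Bool) (dM_146 j z1 z2 u) (dM_147 j z1 z2 u) (Nat.ble (nat_lit 669) j)
noncomputable def dM_149 (j z1 z2 u : ℕ) : Bool :=
  Bool.rec (motive := fun _ => Bool) (dM_145 j z1 z2 u) (dM_148 j z1 z2 u) (Nat.ble (nat_lit 658) j)
noncomputable def dM_150 (j z1 z2 u : ℕ) : Bool :=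
  Bool.rec (motive := fun _ => Bool) (dM_142 j z1 z2 u) (dM_149 j z1 z2 u) (Nat.ble (nat_lit 645) j)
noncomputable def dM_151 (j z1 z2 u : ℕ) : Bool :=
  Bool.rec (motive := fun _ => Bool) (dM_139 j z1 z2 u) (dM_150 j z1 z2 u) (Nat.ble (nat_lit 630) j)
noncomputable def dM_152 (j z1 z2 u : ℕ) : Bool :=
  Bool.rec (motive := fun _ => Bool) (dM_136 j z1 z2 u) (dM_151 j z1 z2 u) (Nat.ble (nat_lit 613) j)
noncomputable def dM_153 (j z1 z2 u : ℕ) : Bool :=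
  Bool.rec (motive := fun _ => Bool) (dM_131 j z1 z2 u) (dM_152 j z1 z2 u) (Nat.ble (nat_lit 588) j)
noncomputable def dM_154 (j z1 z2 u : ℕ) : Bool :=
  Bool.rec (motive := fun _ => Bool) (dM_124 j z1 z2 u) (dM_153 j z1 z2 u) (Nat.ble (nat_lit 553) j)
noncomputable def dM_155 (j z1 z2 u : ℕ) : Bool :=
  Bool.rec (motive := fun _ => Bool) (dM_109 j z1 z2 u) (dM_154 j z1 z2 u) (Nat.ble (nat_lit 498) j)
noncomputable def dM_156 (j z1 z2 u : ℕ) : Bool :=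
  Bool.rec (motive := fun _ => Bool) (dM_94 j z1 z2 u) (dM_155 j z1 z2 u) (Nat.ble (nat_lit 415) j)
noncomputable def dM_157 (j z1 z2 u : ℕ) : Bool :=
  Bool.rec (motive := fun _ => Bool) (dM_63 j z1 z2 u) (dM_156 j z1 z2 u) (Nat.ble (nat_lit 296) j)
noncomputable def dM_158 (j z1 z2 u : ℕ) : Bool :=
  Bool.rec (motive := fun _ => Bool) (dM_32 j z1 z2 u) (dM_157 j z1 z2 u) (Nat.ble (nat_lit 151) j)
noncomputable def dM_159 (j z1 z2 u : ℕ) : Bool :=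
  Bool.rec (motive := fun _ => Bool) (dM_11 j z1 z2 u) (dM_158 j z1 z2 u) (Nat.ble (nat_lit 59) j)
noncomputable def dM_160 (j z1 z2 u : ℕ) : Bool :=
  Bool.rec (motive := fun _ => Bool) (dM_0 j z1 z2 u) (dM_159 j z1 z2 u) (Nat.ble (nat_lit 11) j)
noncomputable def chkM (u : ℕ) : Bool :=
  Bool.rec (motive := fun _ => Bool) (band (Nat.ble (Nat.succ (Nat.mod (MG u) M)) u) (dM_160 (Nat.land (MR u) (nat_lit 1023)) (Nat.land (Nat.shiftRight (MR u) (nat_lit 10)) (nat_lit 2097151)) (Nat.shiftRight (MR u) (nat_lit 31)) u)) true (Nat.ble A (MG u))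
noncomputable def chkN (u : ℕ) : Bool :=
  band (chk_y (Nat.land (Nat.shiftRight (RS u) (nat_lit 0)) (nat_lit 511)) u) (band (chk_yi (Nat.land (Nat.shiftRight (RS u) (nat_lit 9)) (nat_lit 511)) u) (band (chk_z (Nat.land (Nat.shiftRight (RS u) (nat_lit 18)) (nat_lit 511)) u) (band (chk_q (Nat.land (Nat.shiftRight (RS u) (nat_lit 27)) (nat_lit 511)) u) (band (chk_v (Nat.land (Nat.shiftRight (RS u) (nat_lit 36)) (nat_lit 511)) u) (chkM u)))))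
noncomputable def chkP (u : ℕ) : Bool := Bool.rec (motive := fun _ => Bool) (chkN u) true (Nat.ble M u)
noncomputable def liveP (u : ℕ) : Bool := Bool.rec (motive := fun _ => Bool) (Nat.ble A (MG u)) false (Nat.ble M u)
end H9.HN.TCHN
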