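import Cfsg.Agent.Lib.H9.HN.TCHN.Chk
set_option Elab.async false
set_option autoImplicit false
set_option maxRecDepth 100000
set_option linter.all false
namespace H9.HN.TCHN
open H35.TC
theorem l_42 : cntB liveP 15 1376256 = 32668 := by
  have h : Nat.beq (cntB liveP 15 1376256) 32668 = true := by decide +kernel
  exact eqOfBeq h
theorem l_43 : cntB liveP 15 1409024 = 32696 := by
  have h : Nat.beq (cntB liveP 15 1409024) 32696 = true := by decide +kernel
  exact eqOfBeq h
theorem l_44 : cntB liveP 15 1441792 = 32730 := by
  have h : Nat.beq (cntB liveP 15 1441792) 32730 = true := by decide +kernel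
  exact eqOfBeq h
theorem l_45 : cntB liveP 15 1474560 = 32736 := by
  have h : Nat.beq (cntB liveP 15 1474560) 32736 = true := by decide +kernel
  exact eqOfBeq h
theorem l_46 : cntB liveP 15 1507328 = 32755 := by
  have h : Nat.beq (cntB liveP 15 1507328) 32755 = true := by decide +kernel
  exact eqOfBeq h
theorem l_47 : cntB liveP 15 1540096 = 32755 := by
  have h : Nat.beq (cntB liveP 15 1540096) 32755 = true := by decide +kernel
  exact eqOfBeq h
theorem l_48 : cntB liveP 15 1572864 = 32763 := by
  have h : Nat.beq (cntB liveP 15 1572864) 32763 = true := by decide +kernel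
  exact eqOfBeq h
end H9.HN.TCHN
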