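import Cfsg.Agent.Lib.H9.HN.TCHN.Chk
set_option Elab.async false
set_option autoImplicit false
set_option maxRecDepth 100000
set_option linter.all false
namespace H9.HN.TCHN
open H35.TC
theorem r_576 : allB chkP 10 589824 = true := by decide +kernel
theorem r_577 : allB chkP 10 590848 = true := by decide +kernel
theorem r_578 : allB chkP 10 591872 = true := by decide +kernel
theorem r_579 : allB chkP 10 592896 = true := by decide +kernel
theorem r_580 : allB chkP 10 593920 = true := by decide +kernel
theorem r_581 : allB chkP 10 594944 = true := by decide +kernel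
theorem r_582 : allB chkP 10 595968 = true := by decide +kernel
theorem r_583 : allB chkP 10 596992 = true := by decide +kernel
theorem r_584 : allB chkP 10 598016 = true := by decide +kernel
theorem r_585 : allB chkP 10 599040 = true := by decide +kernel
theorem r_586 : allB chkP 10 600064 = true := by decide +kernel
theorem r_587 : allB chkP 10 601088 = true := by decide +kernel
theorem r_588 : allB chkP 10 602112 = true := by decide +kernel
theorem r_589 : allB chkP 10 603136 = true := by decide +kernel
theorem r_590 : allB chkP 10 604160 = true := by decide +kernel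
theorem r_591 : allB chkP 10 605184 = true := by decide +kernel
theorem r_592 : allB chkP 10 606208 = true := by decide +kernel
theorem r_593 : allB chkP 10 607232 = true := by decide +kernel
theorem r_594 : allB chkP 10 608256 = true := by decide +kernel
theorem r_595 : allB chkP 10 609280 = true := by decide +kernel
theorem r_596 : allB chkP 10 610304 = true := by decide +kernel
theorem r_597 : allB chkP 10 611328 = true := by decide +kernel
theorem r_598 : allB chkP 10 612352 = true := by decide +kernel
theorem r_599 : allB chkP 10 613376 = true := by decide +kernel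
theorem r_600 : allB chkP 10 614400 = true := by decide +kernel
theorem r_601 : allB chkP 10 615424 = true := by decide +kernel
theorem r_602 : allB chkP 10 616448 = true := by decide +kernel
theorem r_603 : allB chkP 10 617472 = true := by decide +kernel
theorem r_604 : allB chkP 10 618496 = true := by decide +kernel
theorem r_605 : allB chkP 10 619520 = true := by decide +kernel
theorem r_606 : allB chkP 10 620544 = true := by decide +kernel
theorem r_607 : allB chkP 10 621568 = true := by decide +kernel
theorem r_608 : allB chkP 10 622592 = true := by decide +kernel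
theorem r_609 : allB chkP 10 623616 = true := by decide +kernel
theorem r_610 : allB chkP 10 624640 = true := by decide +kernel
theorem r_611 : allB chkP 10 625664 = true := by decide +kernel
theorem r_612 : allB chkP 10 626688 = true := by decide +kernel
theorem r_613 : allB chkP 10 627712 = true := by decide +kernel
theorem r_614 : allB chkP 10 628736 = true := by decide +kernel
theorem r_615 : allB chkP 10 629760 = true := by decide +kernel
theorem r_616 : allB chkP 10 630784 = true := by decide +kernel
theorem r_617 : allB chkP 10 631808 = true := by decide +kernel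
theorem r_618 : allB chkP 10 632832 = true := by decide +kernel
theorem r_619 : allB chkP 10 633856 = true := by decide +kernel
theorem r_620 : allB chkP 10 634880 = true := by decide +kernel
theorem r_621 : allB chkP 10 635904 = true := by decide +kernel
theorem r_622 : allB chkP 10 636928 = true := by decide +kernel
theorem r_623 : allB chkP 10 637952 = true := by decide +kernel
theorem blk_12 : ∀ u, 589824 ≤ u → u < 638976 → chkP u = true := by
  intro u h0 hu
  rcases Nat.lt_or_ge u 590848 with h | h
  · exact allB_spec _ _ _ r_576 u (by omega) (by omega)
  clear h0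
  rename' h => h0
  rcases Nat.lt_or_ge u 591872 with h | h
  · exact allB_spec _ _ _ r_577 u (by omega) (by omega)
  clear h0
  rename' h => h0
  rcases Nat.lt_or_ge u 592896 with h | h
  · exact allB_spec _ _ _ r_578 u (by omega) (by omega)
  clear h0
  rename' h => h0
  rcases Nat.lt_or_ge u 593920 with h | h
  · exact allB_spec _ _ _ r_579 u (by omega) (by omega)
  clear h0
  rename' h => h0
  rcases Nat.lt_or_ge u 594944 with h | h
  · exact allB_spec _ _ _ r_580 u (by omega) (by omega)
  clear h0
  rename' h => h0
  rcases Nat.lt_or_ge u 595968 with h | h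
  · exact allB_spec _ _ _ r_581 u (by omega) (by omega)
  clear h0
  rename' h => h0
  rcases Nat.lt_or_ge u 596992 with h | h
  · exact allB_spec _ _ _ r_582 u (by omega) (by omega)
  clear h0
  rename' h => h0
  rcases Nat.lt_or_ge u 598016 with h | h
  · exact allB_spec _ _ _ r_583 u (by omega) (by omega)
  clear h0
  rename' h => h0
  rcases Nat.lt_or_ge u 599040 with h | h
  · exact allB_spec _ _ _ r_584 u (by omega) (by omega)
  clear h0
  rename' h => h0
  rcases Nat.lt_or_ge u 600064 with h | h
  · exact allB_spec _ _ _ r_585 u (by omega) (by omega)
  clear h0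
  rename' h => h0
  rcases Nat.lt_or_ge u 601088 with h | h
  · exact allB_spec _ _ _ r_586 u (by omega) (by omega)
  clear h0
  rename' h => h0
  rcases Nat.lt_or_ge u 602112 with h | h
  · exact allB_spec _ _ _ r_587 u (by omega) (by omega)
  clear h0
  rename' h => h0
  rcases Nat.lt_or_ge u 603136 with h | h
  · exact allB_spec _ _ _ r_588 u (by omega) (by omega)
  clear h0
  rename' h => h0
  rcases Nat.lt_or_ge u 604160 with h | h
  · exact allB_spec _ _ _ r_589 u (by omega) (by omega)
  clear h0
  rename' h => h0
  rcases Nat.lt_or_ge u 605184 with h | h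
  · exact allB_spec _ _ _ r_590 u (by omega) (by omega)
  clear h0
  rename' h => h0
  rcases Nat.lt_or_ge u 606208 with h | h
  · exact allB_spec _ _ _ r_591 u (by omega) (by omega)
  clear h0
  rename' h => h0
  rcases Nat.lt_or_ge u 607232 with h | h
  · exact allB_spec _ _ _ r_592 u (by omega) (by omega)
  clear h0
  rename' h => h0
  rcases Nat.lt_or_ge u 608256 with h | h
  · exact allB_spec _ _ _ r_593 u (by omega) (by omega)
  clear h0
  rename' h => h0
  rcases Nat.lt_or_ge u 609280 with h | h
  · exact allB_spec _ _ _ r_594 u (by omega) (by omega)
  clear h0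
  rename' h => h0
  rcases Nat.lt_or_ge u 610304 with h | h
  · exact allB_spec _ _ _ r_595 u (by omega) (by omega)
  clear h0
  rename' h => h0
  rcases Nat.lt_or_ge u 611328 with h | h
  · exact allB_spec _ _ _ r_596 u (by omega) (by omega)
  clear h0
  rename' h => h0
  rcases Nat.lt_or_ge u 612352 with h | h
  · exact allB_spec _ _ _ r_597 u (by omega) (by omega)
  clear h0
  rename' h => h0
  rcases Nat.lt_or_ge u 613376 with h | h
  · exact allB_spec _ _ _ r_598 u (by omega) (by omega)
  clear h0
  rename' h => h0
  rcases Nat.lt_or_ge u 614400 with h | h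
  · exact allB_spec _ _ _ r_599 u (by omega) (by omega)
  clear h0
  rename' h => h0
  rcases Nat.lt_or_ge u 615424 with h | h
  · exact allB_spec _ _ _ r_600 u (by omega) (by omega)
  clear h0
  rename' h => h0
  rcases Nat.lt_or_ge u 616448 with h | h
  · exact allB_spec _ _ _ r_601 u (by omega) (by omega)
  clear h0
  rename' h => h0
  rcases Nat.lt_or_ge u 617472 with h | h
  · exact allB_spec _ _ _ r_602 u (by omega) (by omega)
  clear h0
  rename' h => h0
  rcases Nat.lt_or_ge u 618496 with h | h
  · exact allB_spec _ _ _ r_603 u (by omega) (by omega)
  clear h0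
  rename' h => h0
  rcases Nat.lt_or_ge u 619520 with h | h
  · exact allB_spec _ _ _ r_604 u (by omega) (by omega)
  clear h0
  rename' h => h0
  rcases Nat.lt_or_ge u 620544 with h | h
  · exact allB_spec _ _ _ r_605 u (by omega) (by omega)
  clear h0
  rename' h => h0
  rcases Nat.lt_or_ge u 621568 with h | h
  · exact allB_spec _ _ _ r_606 u (by omega) (by omega)
  clear h0
  rename' h => h0
  rcases Nat.lt_or_ge u 622592 with h | h
  · exact allB_spec _ _ _ r_607 u (by omega) (by omega)
  clear h0
  rename' h => h0
  rcases Nat.lt_or_ge u 623616 with h | h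
  · exact allB_spec _ _ _ r_608 u (by omega) (by omega)
  clear h0
  rename' h => h0
  rcases Nat.lt_or_ge u 624640 with h | h
  · exact allB_spec _ _ _ r_609 u (by omega) (by omega)
  clear h0
  rename' h => h0
  rcases Nat.lt_or_ge u 625664 with h | h
  · exact allB_spec _ _ _ r_610 u (by omega) (by omega)
  clear h0
  rename' h => h0
  rcases Nat.lt_or_ge u 626688 with h | h
  · exact allB_spec _ _ _ r_611 u (by omega) (by omega)
  clear h0
  rename' h => h0
  rcases Nat.lt_or_ge u 627712 with h | h
  · exact allB_spec _ _ _ r_612 u (by omega) (by omega)
  clear h0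
  rename' h => h0
  rcases Nat.lt_or_ge u 628736 with h | h
  · exact allB_spec _ _ _ r_613 u (by omega) (by omega)
  clear h0
  rename' h => h0
  rcases Nat.lt_or_ge u 629760 with h | h
  · exact allB_spec _ _ _ r_614 u (by omega) (by omega)
  clear h0
  rename' h => h0
  rcases Nat.lt_or_ge u 630784 with h | h
  · exact allB_spec _ _ _ r_615 u (by omega) (by omega)
  clear h0
  rename' h => h0
  rcases Nat.lt_or_ge u 631808 with h | h
  · exact allB_spec _ _ _ r_616 u (by omega) (by omega)
  clear h0
  rename' h => h0
  rcases Nat.lt_or_ge u 632832 with h | h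
  · exact allB_spec _ _ _ r_617 u (by omega) (by omega)
  clear h0
  rename' h => h0
  rcases Nat.lt_or_ge u 633856 with h | h
  · exact allB_spec _ _ _ r_618 u (by omega) (by omega)
  clear h0
  rename' h => h0
  rcases Nat.lt_or_ge u 634880 with h | h
  · exact allB_spec _ _ _ r_619 u (by omega) (by omega)
  clear h0
  rename' h => h0
  rcases Nat.lt_or_ge u 635904 with h | h
  · exact allB_spec _ _ _ r_620 u (by omega) (by omega)
  clear h0
  rename' h => h0
  rcases Nat.lt_or_ge u 636928 with h | h
  · exact allB_spec _ _ _ r_621 u (by omega) (by omega)
  clear h0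
  rename' h => h0
  rcases Nat.lt_or_ge u 637952 with h | h
  · exact allB_spec _ _ _ r_622 u (by omega) (by omega)
  clear h0
  rename' h => h0
  rcases Nat.lt_or_ge u 638976 with h | h
  · exact allB_spec _ _ _ r_623 u (by omega) (by omega)
  clear h0
  rename' h => h0
  omega
end H9.HN.TCHN
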