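import Cfsg.Agent.Lib.H9.HN.TCHN.Chk
set_option Elab.async false
set_option autoImplicit false
set_option maxRecDepth 100000
set_option linter.all false
namespace H9.HN.TCHN
open H35.TC
theorem r_1248 : allB chkP 10 1277952 = true := by decide +kernel
theorem r_1249 : allB chkP 10 1278976 = true := by decide +kernel
theorem r_1250 : allB chkP 10 1280000 = true := by decide +kernel
theorem r_1251 : allB chkP 10 1281024 = true := by decide +kernel
theorem r_1252 : allB chkP 10 1282048 = true := by decide +kernel
theorem r_1253 : allB chkP 10 1283072 = true := by decide +kernel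
theorem r_1254 : allB chkP 10 1284096 = true := by decide +kernel
theorem r_1255 : allB chkP 10 1285120 = true := by decide +kernel
theorem r_1256 : allB chkP 10 1286144 = true := by decide +kernel
theorem r_1257 : allB chkP 10 1287168 = true := by decide +kernel
theorem r_1258 : allB chkP 10 1288192 = true := by decide +kernel
theorem r_1259 : allB chkP 10 1289216 = true := by decide +kernel
theorem r_1260 : allB chkP 10 1290240 = true := by decide +kernel
theorem r_1261 : allB chkP 10 1291264 = true := by decide +kernel
theorem r_1262 : allB chkP 10 1292288 = true := by decide +kernel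
theorem r_1263 : allB chkP 10 1293312 = true := by decide +kernel
theorem r_1264 : allB chkP 10 1294336 = true := by decide +kernel
theorem r_1265 : allB chkP 10 1295360 = true := by decide +kernel
theorem r_1266 : allB chkP 10 1296384 = true := by decide +kernel
theorem r_1267 : allB chkP 10 1297408 = true := by decide +kernel
theorem r_1268 : allB chkP 10 1298432 = true := by decide +kernel
theorem r_1269 : allB chkP 10 1299456 = true := by decide +kernel
theorem r_1270 : allB chkP 10 1300480 = true := by decide +kernel
theorem r_1271 : allB chkP 10 1301504 = true := by decide +kernel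
theorem r_1272 : allB chkP 10 1302528 = true := by decide +kernel
theorem r_1273 : allB chkP 10 1303552 = true := by decide +kernel
theorem r_1274 : allB chkP 10 1304576 = true := by decide +kernel
theorem r_1275 : allB chkP 10 1305600 = true := by decide +kernel
theorem r_1276 : allB chkP 10 1306624 = true := by decide +kernel
theorem r_1277 : allB chkP 10 1307648 = true := by decide +kernel
theorem r_1278 : allB chkP 10 1308672 = true := by decide +kernel
theorem r_1279 : allB chkP 10 1309696 = true := by decide +kernel
theorem r_1280 : allB chkP 10 1310720 = true := by decide +kernel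
theorem r_1281 : allB chkP 10 1311744 = true := by decide +kernel
theorem r_1282 : allB chkP 10 1312768 = true := by decide +kernel
theorem r_1283 : allB chkP 10 1313792 = true := by decide +kernel
theorem r_1284 : allB chkP 10 1314816 = true := by decide +kernel
theorem r_1285 : allB chkP 10 1315840 = true := by decide +kernel
theorem r_1286 : allB chkP 10 1316864 = true := by decide +kernel
theorem r_1287 : allB chkP 10 1317888 = true := by decide +kernel
theorem r_1288 : allB chkP 10 1318912 = true := by decide +kernel
theorem r_1289 : allB chkP 10 1319936 = true := by decide +kernel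
theorem r_1290 : allB chkP 10 1320960 = true := by decide +kernel
theorem r_1291 : allB chkP 10 1321984 = true := by decide +kernel
theorem r_1292 : allB chkP 10 1323008 = true := by decide +kernel
theorem r_1293 : allB chkP 10 1324032 = true := by decide +kernel
theorem r_1294 : allB chkP 10 1325056 = true := by decide +kernel
theorem r_1295 : allB chkP 10 1326080 = true := by decide +kernel
theorem blk_26 : ∀ u, 1277952 ≤ u → u < 1327104 → chkP u = true := by
  intro u h0 hu
  rcases Nat.lt_or_ge u 1278976 with h | h
  · exact allB_spec _ _ _ r_1248 u (by omega) (by omega)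
  clear h0
  rename' h => h0
  rcases Nat.lt_or_ge u 1280000 with h | h
  · exact allB_spec _ _ _ r_1249 u (by omega) (by omega)
  clear h0
  rename' h => h0
  rcases Nat.lt_or_ge u 1281024 with h | h
  · exact allB_spec _ _ _ r_1250 u (by omega) (by omega)
  clear h0
  rename' h => h0
  rcases Nat.lt_or_ge u 1282048 with h | h
  · exact allB_spec _ _ _ r_1251 u (by omega) (by omega)
  clear h0
  rename' h => h0
  rcases Nat.lt_or_ge u 1283072 with h | h
  · exact allB_spec _ _ _ r_1252 u (by omega) (by omega)
  clear h0
  rename' h => h0
  rcases Nat.lt_or_ge u 1284096 with h | h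
  · exact allB_spec _ _ _ r_1253 u (by omega) (by omega)
  clear h0
  rename' h => h0
  rcases Nat.lt_or_ge u 1285120 with h | h
  · exact allB_spec _ _ _ r_1254 u (by omega) (by omega)
  clear h0
  rename' h => h0
  rcases Nat.lt_or_ge u 1286144 with h | h
  · exact allB_spec _ _ _ r_1255 u (by omega) (by omega)
  clear h0
  rename' h => h0
  rcases Nat.lt_or_ge u 1287168 with h | h
  · exact allB_spec _ _ _ r_1256 u (by omega) (by omega)
  clear h0
  rename' h => h0
  rcases Nat.lt_or_ge u 1288192 with h | h
  · exact allB_spec _ _ _ r_1257 u (by omega) (by omega)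
  clear h0
  rename' h => h0
  rcases Nat.lt_or_ge u 1289216 with h | h
  · exact allB_spec _ _ _ r_1258 u (by omega) (by omega)
  clear h0
  rename' h => h0
  rcases Nat.lt_or_ge u 1290240 with h | h
  · exact allB_spec _ _ _ r_1259 u (by omega) (by omega)
  clear h0
  rename' h => h0
  rcases Nat.lt_or_ge u 1291264 with h | h
  · exact allB_spec _ _ _ r_1260 u (by omega) (by omega)
  clear h0
  rename' h => h0
  rcases Nat.lt_or_ge u 1292288 with h | h
  · exact allB_spec _ _ _ r_1261 u (by omega) (by omega)
  clear h0
  rename' h => h0
  rcases Nat.lt_or_ge u 1293312 with h | h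
  · exact allB_spec _ _ _ r_1262 u (by omega) (by omega)
  clear h0
  rename' h => h0
  rcases Nat.lt_or_ge u 1294336 with h | h
  · exact allB_spec _ _ _ r_1263 u (by omega) (by omega)
  clear h0
  rename' h => h0
  rcases Nat.lt_or_ge u 1295360 with h | h
  · exact allB_spec _ _ _ r_1264 u (by omega) (by omega)
  clear h0
  rename' h => h0
  rcases Nat.lt_or_ge u 1296384 with h | h
  · exact allB_spec _ _ _ r_1265 u (by omega) (by omega)
  clear h0
  rename' h => h0
  rcases Nat.lt_or_ge u 1297408 with h | h
  · exact allB_spec _ _ _ r_1266 u (by omega) (by omega)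
  clear h0
  rename' h => h0
  rcases Nat.lt_or_ge u 1298432 with h | h
  · exact allB_spec _ _ _ r_1267 u (by omega) (by omega)
  clear h0
  rename' h => h0
  rcases Nat.lt_or_ge u 1299456 with h | h
  · exact allB_spec _ _ _ r_1268 u (by omega) (by omega)
  clear h0
  rename' h => h0
  rcases Nat.lt_or_ge u 1300480 with h | h
  · exact allB_spec _ _ _ r_1269 u (by omega) (by omega)
  clear h0
  rename' h => h0
  rcases Nat.lt_or_ge u 1301504 with h | h
  · exact allB_spec _ _ _ r_1270 u (by omega) (by omega)
  clear h0
  rename' h => h0
  rcases Nat.lt_or_ge u 1302528 with h | h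
  · exact allB_spec _ _ _ r_1271 u (by omega) (by omega)
  clear h0
  rename' h => h0
  rcases Nat.lt_or_ge u 1303552 with h | h
  · exact allB_spec _ _ _ r_1272 u (by omega) (by omega)
  clear h0
  rename' h => h0
  rcases Nat.lt_or_ge u 1304576 with h | h
  · exact allB_spec _ _ _ r_1273 u (by omega) (by omega)
  clear h0
  rename' h => h0
  rcases Nat.lt_or_ge u 1305600 with h | h
  · exact allB_spec _ _ _ r_1274 u (by omega) (by omega)
  clear h0
  rename' h => h0
  rcases Nat.lt_or_ge u 1306624 with h | h
  · exact allB_spec _ _ _ r_1275 u (by omega) (by omega)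
  clear h0
  rename' h => h0
  rcases Nat.lt_or_ge u 1307648 with h | h
  · exact allB_spec _ _ _ r_1276 u (by omega) (by omega)
  clear h0
  rename' h => h0
  rcases Nat.lt_or_ge u 1308672 with h | h
  · exact allB_spec _ _ _ r_1277 u (by omega) (by omega)
  clear h0
  rename' h => h0
  rcases Nat.lt_or_ge u 1309696 with h | h
  · exact allB_spec _ _ _ r_1278 u (by omega) (by omega)
  clear h0
  rename' h => h0
  rcases Nat.lt_or_ge u 1310720 with h | h
  · exact allB_spec _ _ _ r_1279 u (by omega) (by omega)
  clear h0
  rename' h => h0
  rcases Nat.lt_or_ge u 1311744 with h | h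
  · exact allB_spec _ _ _ r_1280 u (by omega) (by omega)
  clear h0
  rename' h => h0
  rcases Nat.lt_or_ge u 1312768 with h | h
  · exact allB_spec _ _ _ r_1281 u (by omega) (by omega)
  clear h0
  rename' h => h0
  rcases Nat.lt_or_ge u 1313792 with h | h
  · exact allB_spec _ _ _ r_1282 u (by omega) (by omega)
  clear h0
  rename' h => h0
  rcases Nat.lt_or_ge u 1314816 with h | h
  · exact allB_spec _ _ _ r_1283 u (by omega) (by omega)
  clear h0
  rename' h => h0
  rcases Nat.lt_or_ge u 1315840 with h | h
  · exact allB_spec _ _ _ r_1284 u (by omega) (by omega)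
  clear h0
  rename' h => h0
  rcases Nat.lt_or_ge u 1316864 with h | h
  · exact allB_spec _ _ _ r_1285 u (by omega) (by omega)
  clear h0
  rename' h => h0
  rcases Nat.lt_or_ge u 1317888 with h | h
  · exact allB_spec _ _ _ r_1286 u (by omega) (by omega)
  clear h0
  rename' h => h0
  rcases Nat.lt_or_ge u 1318912 with h | h
  · exact allB_spec _ _ _ r_1287 u (by omega) (by omega)
  clear h0
  rename' h => h0
  rcases Nat.lt_or_ge u 1319936 with h | h
  · exact allB_spec _ _ _ r_1288 u (by omega) (by omega)
  clear h0
  rename' h => h0
  rcases Nat.lt_or_ge u 1320960 with h | h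
  · exact allB_spec _ _ _ r_1289 u (by omega) (by omega)
  clear h0
  rename' h => h0
  rcases Nat.lt_or_ge u 1321984 with h | h
  · exact allB_spec _ _ _ r_1290 u (by omega) (by omega)
  clear h0
  rename' h => h0
  rcases Nat.lt_or_ge u 1323008 with h | h
  · exact allB_spec _ _ _ r_1291 u (by omega) (by omega)
  clear h0
  rename' h => h0
  rcases Nat.lt_or_ge u 1324032 with h | h
  · exact allB_spec _ _ _ r_1292 u (by omega) (by omega)
  clear h0
  rename' h => h0
  rcases Nat.lt_or_ge u 1325056 with h | h
  · exact allB_spec _ _ _ r_1293 u (by omega) (by omega)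
  clear h0
  rename' h => h0
  rcases Nat.lt_or_ge u 1326080 with h | h
  · exact allB_spec _ _ _ r_1294 u (by omega) (by omega)
  clear h0
  rename' h => h0
  rcases Nat.lt_or_ge u 1327104 with h | h
  · exact allB_spec _ _ _ r_1295 u (by omega) (by omega)
  clear h0
  rename' h => h0
  omega
end H9.HN.TCHN
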