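import Cfsg.Agent.Lib.H9.HN.TCHN.Snd0
import Cfsg.Agent.Lib.H9.HN.TCY
set_option autoImplicit false
set_option maxRecDepth 100000
set_option linter.all false
namespace H9.HN.TCHN
open H35.TC
section
variable {G : Type} [Group G] {g : Lt → G} {H : Subgroup G}
theorem dM_0_s (hinv : ∀ x, g (inv x) = (g x)⁻¹) (hr : ∀ r ∈ rels, (r.map g).prod = 1) (j z1 z2 u : ℕ) (h : dM_0 j z1 z2 u = true) : GoodM (fa g) T MG M (cP g H) u := by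
  unfold dM_0 at h
  rcases brec_true h with h | h
  · rcases brec_true h with h | h
    · exact mCo_good (T := T) (y := .q) (by decide) h
    · rcases brec_true h with h | h
      · exact mCo_good (T := T) (y := .z) (by decide) h
      · exact mCo_good (T := T) (y := .v) (by decide) h
  · rcases brec_true h with h | h
    · rcases brec_true h with h | h
      · exact mCo_good (T := T) (y := .yi) (by decide) h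
      · exact mCo_good (T := T) (y := .y) (by decide) h
    · rcases brec_true h with h | h
      · rcases brec_true h with h | h
        · exact H9.TCY.mRelD_at (T := T) (by decide) hinv hr [Lt.v, Lt.y, Lt.v, Lt.yi] 6 1 false (by decide +kernel) h
        · rcases brec_true h with h | h
          · exact H9.TCY.mRelD_at (T := T) (by decide) hinv hr [Lt.v, Lt.yi, Lt.v, Lt.y] 6 3 false (by decide +kernel) h
          · exact H9.TCY.mRelD_at (T := T) (by decide) hinv hr [Lt.yi, Lt.v, Lt.y, Lt.v] 6 0 false (by decide +kernel) h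
      · rcases brec_true h with h | h
        · exact H9.TCY.mRelD_at (T := T) (by decide) hinv hr [Lt.y, Lt.v, Lt.yi, Lt.v] 6 2 false (by decide +kernel) h
        · rcases brec_true h with h | h
          · exact H9.TCY.mRelD_at (T := T) (by decide) hinv hr [Lt.z, Lt.v, Lt.q, Lt.v, Lt.z, Lt.v, Lt.q, Lt.v] 9 2 false (by decide +kernel) h
          · exact H9.TCY.mRelD_at (T := T) (by decide) hinv hr [Lt.v, Lt.q, Lt.v, Lt.z, Lt.v, Lt.q, Lt.v, Lt.z] 9 3 false (by decide +kernel) h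
theorem dM_1_s (hinv : ∀ x, g (inv x) = (g x)⁻¹) (hr : ∀ r ∈ rels, (r.map g).prod = 1) (j z1 z2 u : ℕ) (h : dM_1 j z1 z2 u = true) : GoodM (fa g) T MG M (cP g H) u := by
  unfold dM_1 at h
  rcases brec_true h with h | h
  · rcases brec_true h with h | h
    · exact H9.TCY.mRelD_at (T := T) (by decide) hinv hr [Lt.v, Lt.z, Lt.v, Lt.q, Lt.v, Lt.z, Lt.v, Lt.q] 9 1 false (by decide +kernel) h
    · exact H9.TCY.mRelD_at (T := T) (by decide) hinv hr [Lt.q, Lt.v, Lt.z, Lt.v, Lt.q, Lt.v, Lt.z, Lt.v] 9 0 false (by decide +kernel) h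
  · rcases brec_true h with h | h
    · rcases brec_true h with h | h
      · exact H9.TCY.mRelD_at (T := T) (by decide) hinv hr [Lt.yi, Lt.q, Lt.y, Lt.q, Lt.yi, Lt.q, Lt.y, Lt.q] 8 0 false (by decide +kernel) h
      · exact H9.TCY.mRelD_at (T := T) (by decide) hinv hr [Lt.y, Lt.q, Lt.yi, Lt.q, Lt.y, Lt.q, Lt.yi, Lt.q] 8 2 false (by decide +kernel) h
    · rcases brec_true h with h | h
      · exact H9.TCY.mRelD_at (T := T) (by decide) hinv hr [Lt.y, Lt.y, Lt.y, Lt.y, Lt.y, Lt.y] 7 0 false (by decide +kernel) h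
      · exact H9.TCY.mRelD_at (T := T) (by decide) hinv hr [Lt.q, Lt.y, Lt.q, Lt.yi, Lt.q, Lt.y, Lt.q, Lt.yi] 8 1 false (by decide +kernel) h
theorem dM_2_s (hinv : ∀ x, g (inv x) = (g x)⁻¹) (hr : ∀ r ∈ rels, (r.map g).prod = 1) (j z1 z2 u : ℕ) (h : dM_2 j z1 z2 u = true) : GoodM (fa g) T MG M (cP g H) u := by
  unfold dM_2 at h
  rcases brec_true h with h | h
  · rcases brec_true h with h | h
    · rcases brec_true h with h | h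
      · exact H9.TCY.mRelD_at (T := T) (by decide) hinv hr [Lt.yi, Lt.yi, Lt.yi, Lt.yi, Lt.yi, Lt.yi] 7 0 true (by decide +kernel) h
      · exact H9.TCY.mRelD_at (T := T) (by decide) hinv hr [Lt.q, Lt.yi, Lt.q, Lt.y, Lt.q, Lt.yi, Lt.q, Lt.y] 8 3 false (by decide +kernel) h
    · rcases brec_true h with h | h
      · exact H9.TCY.mRelD_at (T := T) (by decide) hinv hr [Lt.yi, Lt.q, Lt.z, Lt.q, Lt.z, Lt.y, Lt.q, Lt.z, Lt.q, Lt.z] 10 0 false (by decide +kernel) h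
      · exact H9.TCY.mRelD_at (T := T) (by decide) hinv hr [Lt.y, Lt.q, Lt.z, Lt.q, Lt.z, Lt.yi, Lt.q, Lt.z, Lt.q, Lt.z] 10 5 false (by decide +kernel) h
  · rcases brec_true h with h | h
    · rcases brec_true h with h | h
      · exact H9.TCY.mRelD_at (T := T) (by decide) hinv hr [Lt.q, Lt.z, Lt.q, Lt.v, Lt.z, Lt.q, Lt.v, Lt.q, Lt.z, Lt.v, Lt.z] 11 3 true (by decide +kernel) h
      · exact H9.TCY.mRelD_at (T := T) (by decide) hinv hr [Lt.z, Lt.v, Lt.z, Lt.v, Lt.z, Lt.v, Lt.z, Lt.v, Lt.z, Lt.v] 1 1 false (by decide +kernel) h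
    · rcases brec_true h with h | h
      · exact H9.TCY.mRelD_at (T := T) (by decide) hinv hr [Lt.v, Lt.q, Lt.z, Lt.q, Lt.z, Lt.v, Lt.z, Lt.q, Lt.v, Lt.q, Lt.z] 11 4 false (by decide +kernel) h
      · rcases brec_true h with h | h
        · exact H9.TCY.mRelD_at (T := T) (by decide) hinv hr [Lt.v, Lt.z, Lt.v, Lt.z, Lt.v, Lt.z, Lt.v, Lt.z, Lt.v, Lt.z] 1 0 false (by decide +kernel) h
        · exact H9.TCY.mRelD_at (T := T) (by decide) hinv hr [Lt.z, Lt.q, Lt.v, Lt.q, Lt.z, Lt.v, Lt.q, Lt.z, Lt.q, Lt.z, Lt.v] 11 10 false (by decide +kernel) h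
theorem dM_3_s (hinv : ∀ x, g (inv x) = (g x)⁻¹) (hr : ∀ r ∈ rels, (r.map g).prod = 1) (j z1 z2 u : ℕ) (h : dM_3 j z1 z2 u = true) : GoodM (fa g) T MG M (cP g H) u := by
  unfold dM_3 at h
  rcases brec_true h with h | h
  · exact dM_1_s hinv hr j z1 z2 u h
  · exact dM_2_s hinv hr j z1 z2 u h
theorem dM_4_s (hinv : ∀ x, g (inv x) = (g x)⁻¹) (hr : ∀ r ∈ rels, (r.map g).prod = 1) (j z1 z2 u : ℕ) (h : dM_4 j z1 z2 u = true) : GoodM (fa g) T MG M (cP g H) u := by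
  unfold dM_4 at h
  rcases brec_true h with h | h
  · rcases brec_true h with h | h
    · exact H9.TCY.mRelD_at (T := T) (by decide) hinv hr [Lt.z, Lt.q, Lt.z, Lt.q, Lt.v, Lt.z, Lt.q, Lt.v, Lt.q, Lt.z, Lt.v] 11 2 true (by decide +kernel) h
    · rcases brec_true h with h | h
      · exact H9.TCY.mRelD_at (T := T) (by decide) hinv hr [Lt.z, Lt.q, Lt.z, Lt.q, Lt.yi, Lt.z, Lt.q, Lt.z, Lt.q, Lt.y] 10 0 true (by decide +kernel) h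
      · exact H9.TCY.mRelD_at (T := T) (by decide) hinv hr [Lt.z, Lt.q, Lt.z, Lt.y, Lt.q, Lt.z, Lt.q, Lt.z, Lt.yi, Lt.q] 10 2 false (by decide +kernel) h
  · rcases brec_true h with h | h
    · rcases brec_true h with h | h
      · exact H9.TCY.mRelD_at (T := T) (by decide) hinv hr [Lt.q, Lt.v, Lt.q, Lt.z, Lt.v, Lt.q, Lt.z, Lt.q, Lt.z, Lt.v, Lt.z] 11 0 false (by decide +kernel) h
      · exact H9.TCY.mRelD_at (T := T) (by decide) hinv hr [Lt.y, Lt.z, Lt.q, Lt.z, Lt.q, Lt.yi, Lt.z, Lt.q, Lt.z, Lt.q] 10 9 true (by decide +kernel) h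
    · rcases brec_true h with h | h
      · exact H9.TCY.mRelD_at (T := T) (by decide) hinv hr [Lt.z, Lt.q, Lt.z, Lt.q, Lt.y, Lt.z, Lt.q, Lt.z, Lt.q, Lt.yi] 10 5 true (by decide +kernel) h
      · exact H9.TCY.mRelD_at (T := T) (by decide) hinv hr [Lt.q, Lt.z, Lt.v, Lt.q, Lt.z, Lt.q, Lt.z, Lt.v, Lt.z, Lt.q, Lt.v] 11 2 false (by decide +kernel) h
theorem dM_5_s (hinv : ∀ x, g (inv x) = (g x)⁻¹) (hr : ∀ r ∈ rels, (r.map g).prod = 1) (j z1 z2 u : ℕ) (h : dM_5 j z1 z2 u = true) : GoodM (fa g) T MG M (cP g H) u := by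
  unfold dM_5 at h
  rcases brec_true h with h | h
  · rcases brec_true h with h | h
    · exact H9.TCY.mRelD_at (T := T) (by decide) hinv hr [Lt.z, Lt.y, Lt.q, Lt.z, Lt.q, Lt.z, Lt.yi, Lt.q, Lt.z, Lt.q] 10 4 false (by decide +kernel) h
    · rcases brec_true h with h | h
      · exact H9.TCY.mRelD_at (T := T) (by decide) hinv hr [Lt.yi, Lt.z, Lt.q, Lt.z, Lt.q, Lt.y, Lt.z, Lt.q, Lt.z, Lt.q] 10 4 true (by decide +kernel) h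
      · exact H9.TCY.mRelD_at (T := T) (by decide) hinv hr [Lt.v, Lt.z, Lt.q, Lt.v, Lt.q, Lt.z, Lt.v, Lt.q, Lt.z, Lt.q, Lt.z] 11 9 false (by decide +kernel) h
  · rcases brec_true h with h | h
    · rcases brec_true h with h | h
      · exact H9.TCY.mRelD_at (T := T) (by decide) hinv hr [Lt.v, Lt.q, Lt.z, Lt.q, Lt.v, Lt.q, Lt.z, Lt.q, Lt.v, Lt.q, Lt.z, Lt.q] 14 1 false (by decide +kernel) h
      · exact H9.TCY.mRelD_at (T := T) (by decide) hinv hr [Lt.z, Lt.q, Lt.z, Lt.yi, Lt.q, Lt.z, Lt.q, Lt.z, Lt.y, Lt.q] 10 7 false (by decide +kernel) h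
    · rcases brec_true h with h | h
      · exact H9.TCY.mRelD_at (T := T) (by decide) hinv hr [Lt.z, Lt.q, Lt.v, Lt.z, Lt.q, Lt.v, Lt.q, Lt.z, Lt.v, Lt.z, Lt.q] 11 4 true (by decide +kernel) h
      · exact H9.TCY.mRelD_at (T := T) (by decide) hinv hr [Lt.q, Lt.z, Lt.q, Lt.z, Lt.y, Lt.q, Lt.z, Lt.q, Lt.z, Lt.yi] 10 1 false (by decide +kernel) h
theorem dM_6_s (hinv : ∀ x, g (inv x) = (g x)⁻¹) (hr : ∀ r ∈ rels, (r.map g).prod = 1) (j z1 z2 u : ℕ) (h : dM_6 j z1 z2 u = true) : GoodM (fa g) T MG M (cP g H) u := by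
  unfold dM_6 at h
  rcases brec_true h with h | h
  · exact dM_4_s hinv hr j z1 z2 u h
  · exact dM_5_s hinv hr j z1 z2 u h
theorem dM_7_s (hinv : ∀ x, g (inv x) = (g x)⁻¹) (hr : ∀ r ∈ rels, (r.map g).prod = 1) (j z1 z2 u : ℕ) (h : dM_7 j z1 z2 u = true) : GoodM (fa g) T MG M (cP g H) u := by
  unfold dM_7 at h
  rcases brec_true h with h | h
  · rcases brec_true h with h | h
    · rcases brec_true h with h | h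
      · exact H9.TCY.mRelD_at (T := T) (by decide) hinv hr [Lt.z, Lt.yi, Lt.q, Lt.z, Lt.q, Lt.z, Lt.y, Lt.q, Lt.z, Lt.q] 10 9 false (by decide +kernel) h
      · exact H9.TCY.mRelD_at (T := T) (by decide) hinv hr [Lt.v, Lt.q, Lt.z, Lt.v, Lt.q, Lt.z, Lt.q, Lt.z, Lt.v, Lt.z, Lt.q] 11 1 false (by decide +kernel) h
    · rcases brec_true h with h | h
      · exact H9.TCY.mRelD_at (T := T) (by decide) hinv hr [Lt.q, Lt.z, Lt.q, Lt.v, Lt.q, Lt.z, Lt.q, Lt.v, Lt.q, Lt.z, Lt.q, Lt.v] 14 2 false (by decide +kernel) h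
      · exact H9.TCY.mRelD_at (T := T) (by decide) hinv hr [Lt.q, Lt.y, Lt.z, Lt.q, Lt.z, Lt.q, Lt.yi, Lt.z, Lt.q, Lt.z] 10 8 true (by decide +kernel) h
  · rcases brec_true h with h | h
    · rcases brec_true h with h | h
      · exact H9.TCY.mRelD_at (T := T) (by decide) hinv hr [Lt.q, Lt.z, Lt.q, Lt.z, Lt.yi, Lt.q, Lt.z, Lt.q, Lt.z, Lt.y] 10 6 false (by decide +kernel) h
      · exact H9.TCY.mRelD_at (T := T) (by decide) hinv hr [Lt.q, Lt.yi, Lt.z, Lt.q, Lt.z, Lt.q, Lt.y, Lt.z, Lt.q, Lt.z] 10 3 true (by decide +kernel) h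
    · rcases brec_true h with h | h
      · exact H9.TCY.mRelD_at (T := T) (by decide) hinv hr [Lt.y, Lt.z, Lt.yi, Lt.z, Lt.y, Lt.z, Lt.yi, Lt.z, Lt.y, Lt.z, Lt.yi, Lt.z] 12 2 false (by decide +kernel) h
      · rcases brec_true h with h | h
        · exact H9.TCY.mRelD_at (T := T) (by decide) hinv hr [Lt.yi, Lt.z, Lt.y, Lt.z, Lt.yi, Lt.z, Lt.y, Lt.z, Lt.yi, Lt.z, Lt.y, Lt.z] 12 0 false (by decide +kernel) h
        · exact H9.TCY.mRelD_at (T := T) (by decide) hinv hr [Lt.z, Lt.q, Lt.yi, Lt.z, Lt.q, Lt.z, Lt.q, Lt.y, Lt.z, Lt.q] 10 2 true (by decide +kernel) h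
theorem dM_8_s (hinv : ∀ x, g (inv x) = (g x)⁻¹) (hr : ∀ r ∈ rels, (r.map g).prod = 1) (j z1 z2 u : ℕ) (h : dM_8 j z1 z2 u = true) : GoodM (fa g) T MG M (cP g H) u := by
  unfold dM_8 at h
  rcases brec_true h with h | h
  · rcases brec_true h with h | h
    · rcases brec_true h with h | h
      · exact H9.TCY.mRelD_at (T := T) (by decide) hinv hr [Lt.z, Lt.q, Lt.y, Lt.z, Lt.q, Lt.z, Lt.q, Lt.yi, Lt.z, Lt.q] 10 7 true (by decide +kernel) h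
      · exact H9.TCY.mRelD_at (T := T) (by decide) hinv hr [Lt.z, Lt.y, Lt.z, Lt.yi, Lt.z, Lt.y, Lt.z, Lt.yi, Lt.z, Lt.y, Lt.z, Lt.yi] 12 1 false (by decide +kernel) h
    · rcases brec_true h with h | h
      · exact H9.TCY.mRelD_at (T := T) (by decide) hinv hr [Lt.q, Lt.z, Lt.q, Lt.yi, Lt.z, Lt.q, Lt.z, Lt.q, Lt.y, Lt.z] 10 1 true (by decide +kernel) h
      · rcases brec_true h with h | h
        · exact H9.TCY.mRelD_at (T := T) (by decide) hinv hr [Lt.z, Lt.v, Lt.q, Lt.z, Lt.q, Lt.z, Lt.v, Lt.z, Lt.q, Lt.v, Lt.q] 11 3 false (by decide +kernel) h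
        · exact H9.TCY.mRelD_at (T := T) (by decide) hinv hr [Lt.z, Lt.yi, Lt.z, Lt.y, Lt.z, Lt.yi, Lt.z, Lt.y, Lt.z, Lt.yi, Lt.z, Lt.y] 12 3 false (by decide +kernel) h
  · rcases brec_true h with h | h
    · rcases brec_true h with h | h
      · exact H9.TCY.mRelD_at (T := T) (by decide) hinv hr [Lt.q, Lt.z, Lt.y, Lt.q, Lt.z, Lt.q, Lt.z, Lt.yi, Lt.q, Lt.z] 10 3 false (by decide +kernel) h
      · exact H9.TCY.mRelD_at (T := T) (by decide) hinv hr [Lt.q, Lt.z, Lt.q, Lt.y, Lt.z, Lt.q, Lt.z, Lt.q, Lt.yi, Lt.z] 10 6 true (by decide +kernel) h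
    · rcases brec_true h with h | h
      · exact H9.TCY.mRelD_at (T := T) (by decide) hinv hr [Lt.yi, Lt.q, Lt.yi, Lt.q, Lt.yi, Lt.q, Lt.yi, Lt.q, Lt.yi, Lt.q, Lt.yi, Lt.q] 18 0 false (by decide +kernel) h
      · rcases brec_true h with h | h
        · exact H9.TCY.mRelD_at (T := T) (by decide) hinv hr [Lt.y, Lt.y, Lt.q, Lt.yi, Lt.yi, Lt.q, Lt.y, Lt.y, Lt.q, Lt.yi, Lt.yi, Lt.q] 19 3 false (by decide +kernel) h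
        · exact H9.TCY.mRelD_at (T := T) (by decide) hinv hr [Lt.q, Lt.z, Lt.yi, Lt.q, Lt.z, Lt.q, Lt.z, Lt.y, Lt.q, Lt.z] 10 8 false (by decide +kernel) h
theorem dM_9_s (hinv : ∀ x, g (inv x) = (g x)⁻¹) (hr : ∀ r ∈ rels, (r.map g).prod = 1) (j z1 z2 u : ℕ) (h : dM_9 j z1 z2 u = true) : GoodM (fa g) T MG M (cP g H) u := by
  unfold dM_9 at h
  rcases brec_true h with h | h
  · exact dM_7_s hinv hr j z1 z2 u h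
  · exact dM_8_s hinv hr j z1 z2 u h
theorem dM_10_s (hinv : ∀ x, g (inv x) = (g x)⁻¹) (hr : ∀ r ∈ rels, (r.map g).prod = 1) (j z1 z2 u : ℕ) (h : dM_10 j z1 z2 u = true) : GoodM (fa g) T MG M (cP g H) u := by
  unfold dM_10 at h
  rcases brec_true h with h | h
  · exact dM_6_s hinv hr j z1 z2 u h
  · exact dM_9_s hinv hr j z1 z2 u h
theorem dM_11_s (hinv : ∀ x, g (inv x) = (g x)⁻¹) (hr : ∀ r ∈ rels, (r.map g).prod = 1) (j z1 z2 u : ℕ) (h : dM_11 j z1 z2 u = true) : GoodM (fa g) T MG M (cP g H) u := by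
  unfold dM_11 at h
  rcases brec_true h with h | h
  · exact dM_3_s hinv hr j z1 z2 u h
  · exact dM_10_s hinv hr j z1 z2 u h
theorem dM_12_s (hinv : ∀ x, g (inv x) = (g x)⁻¹) (hr : ∀ r ∈ rels, (r.map g).prod = 1) (j z1 z2 u : ℕ) (h : dM_12 j z1 z2 u = true) : GoodM (fa g) T MG M (cP g H) u := by
  unfold dM_12 at h
  rcases brec_true h with h | h
  · rcases brec_true h with h | h
    · exact H9.TCY.mRelD_at (T := T) (by decide) hinv hr [Lt.y, Lt.q, Lt.yi, Lt.yi, Lt.q, Lt.y, Lt.y, Lt.q, Lt.yi, Lt.yi, Lt.q, Lt.y] 19 4 false (by decide +kernel) h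
    · rcases brec_true h with h | h
      · exact H9.TCY.mRelD_at (T := T) (by decide) hinv hr [Lt.yi, Lt.yi, Lt.q, Lt.y, Lt.y, Lt.q, Lt.yi, Lt.yi, Lt.q, Lt.y, Lt.y, Lt.q] 19 0 false (by decide +kernel) h
      · exact H9.TCY.mRelD_at (T := T) (by decide) hinv hr [Lt.y, Lt.q, Lt.yi, Lt.z, Lt.y, Lt.z, Lt.yi, Lt.q, Lt.y, Lt.z, Lt.yi, Lt.z] 17 6 false (by decide +kernel) h
  · rcases brec_true h with h | h
    · exact H9.TCY.mRelD_at (T := T) (by decide) hinv hr [Lt.z, Lt.q, Lt.v, Lt.q, Lt.z, Lt.q, Lt.v, Lt.q, Lt.z, Lt.q, Lt.v, Lt.q] 14 3 false (by decide +kernel) h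
    · rcases brec_true h with h | h
      · exact H9.TCY.mRelD_at (T := T) (by decide) hinv hr [Lt.q, Lt.yi, Lt.q, Lt.yi, Lt.q, Lt.yi, Lt.q, Lt.yi, Lt.q, Lt.yi, Lt.q, Lt.yi] 18 1 false (by decide +kernel) h
      · exact H9.TCY.mRelD_at (T := T) (by decide) hinv hr [Lt.z, Lt.q, Lt.z, Lt.q, Lt.z, Lt.q, Lt.z, Lt.q] 0 1 false (by decide +kernel) h
theorem dM_13_s (hinv : ∀ x, g (inv x) = (g x)⁻¹) (hr : ∀ r ∈ rels, (r.map g).prod = 1) (j z1 z2 u : ℕ) (h : dM_13 j z1 z2 u = true) : GoodM (fa g) T MG M (cP g H) u := by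
  unfold dM_13 at h
  rcases brec_true h with h | h
  · rcases brec_true h with h | h
    · exact H9.TCY.mRelD_at (T := T) (by decide) hinv hr [Lt.yi, Lt.z, Lt.y, Lt.z, Lt.yi, Lt.q, Lt.y, Lt.z, Lt.yi, Lt.z, Lt.y, Lt.q] 17 8 false (by decide +kernel) h
    · rcases brec_true h with h | h
      · exact H9.TCY.mRelD_at (T := T) (by decide) hinv hr [Lt.q, Lt.z, Lt.q, Lt.z, Lt.q, Lt.z, Lt.q, Lt.z] 0 0 false (by decide +kernel) h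
      · exact H9.TCY.mRelD_at (T := T) (by decide) hinv hr [Lt.q, Lt.yi, Lt.yi, Lt.q, Lt.y, Lt.y, Lt.q, Lt.yi, Lt.yi, Lt.q, Lt.y, Lt.y] 19 5 false (by decide +kernel) h
  · rcases brec_true h with h | h
    · rcases brec_true h with h | h
      · exact H9.TCY.mRelD_at (T := T) (by decide) hinv hr [Lt.y, Lt.q, Lt.y, Lt.q, Lt.y, Lt.q, Lt.y, Lt.q, Lt.y, Lt.q, Lt.y, Lt.q] 18 1 true (by decide +kernel) h
      · exact H9.TCY.mRelD_at (T := T) (by decide) hinv hr [Lt.q, Lt.y, Lt.z, Lt.yi, Lt.z, Lt.y, Lt.q, Lt.yi, Lt.z, Lt.y, Lt.z, Lt.yi] 17 1 false (by decide +kernel) h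
    · rcases brec_true h with h | h
      · exact H9.TCY.mRelD_at (T := T) (by decide) hinv hr [Lt.q, Lt.y, Lt.y, Lt.q, Lt.yi, Lt.yi, Lt.q, Lt.y, Lt.y, Lt.q, Lt.yi, Lt.yi] 19 2 false (by decide +kernel) h
      · exact H9.TCY.mRelD_at (T := T) (by decide) hinv hr [Lt.yi, Lt.q, Lt.y, Lt.z, Lt.yi, Lt.z, Lt.y, Lt.q, Lt.yi, Lt.z, Lt.y, Lt.z] 17 0 false (by decide +kernel) h
theorem dM_14_s (hinv : ∀ x, g (inv x) = (g x)⁻¹) (hr : ∀ r ∈ rels, (r.map g).prod = 1) (j z1 z2 u : ℕ) (h : dM_14 j z1 z2 u = true) : GoodM (fa g) T MG M (cP g H) u := by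
  unfold dM_14 at h
  rcases brec_true h with h | h
  · exact dM_12_s hinv hr j z1 z2 u h
  · exact dM_13_s hinv hr j z1 z2 u h
theorem dM_15_s (hinv : ∀ x, g (inv x) = (g x)⁻¹) (hr : ∀ r ∈ rels, (r.map g).prod = 1) (j z1 z2 u : ℕ) (h : dM_15 j z1 z2 u = true) : GoodM (fa g) T MG M (cP g H) u := by
  unfold dM_15 at h
  rcases brec_true h with h | h
  · rcases brec_true h with h | h
    · exact H9.TCY.mRelD_at (T := T) (by decide) hinv hr [Lt.q, Lt.v, Lt.q, Lt.z, Lt.q, Lt.v, Lt.q, Lt.z, Lt.q, Lt.v, Lt.q, Lt.z] 14 0 false (by decide +kernel) h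
    · rcases brec_true h with h | h
      · exact H9.TCY.mRelD_at (T := T) (by decide) hinv hr [Lt.yi, Lt.z, Lt.y, Lt.q, Lt.yi, Lt.z, Lt.y, Lt.z, Lt.yi, Lt.q, Lt.y, Lt.z] 17 4 false (by decide +kernel) h
      · exact H9.TCY.mRelD_at (T := T) (by decide) hinv hr [Lt.q, Lt.z, Lt.v, Lt.z, Lt.q, Lt.v, Lt.q, Lt.z, Lt.v, Lt.q, Lt.z] 11 7 false (by decide +kernel) h
  · rcases brec_true h with h | h
    · rcases brec_true h with h | h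
      · exact H9.TCY.mRelD_at (T := T) (by decide) hinv hr [Lt.y, Lt.z, Lt.yi, Lt.z, Lt.y, Lt.q, Lt.yi, Lt.z, Lt.y, Lt.z, Lt.yi, Lt.q] 17 2 false (by decide +kernel) h
      · exact H9.TCY.mRelD_at (T := T) (by decide) hinv hr [Lt.q, Lt.yi, Lt.z, Lt.y, Lt.z, Lt.yi, Lt.q, Lt.y, Lt.z, Lt.yi, Lt.z, Lt.y] 17 7 false (by decide +kernel) h
    · rcases brec_true h with h | h
      · exact H9.TCY.mRelD_at (T := T) (by decide) hinv hr [Lt.z, Lt.yi, Lt.z, Lt.y, Lt.q, Lt.yi, Lt.z, Lt.y, Lt.z, Lt.yi, Lt.q, Lt.y] 17 3 false (by decide +kernel) h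
      · exact H9.TCY.mRelD_at (T := T) (by decide) hinv hr [Lt.yi, Lt.q, Lt.y, Lt.y, Lt.q, Lt.yi, Lt.yi, Lt.q, Lt.y, Lt.y, Lt.q, Lt.yi] 19 1 false (by decide +kernel) h
theorem dM_16_s (hinv : ∀ x, g (inv x) = (g x)⁻¹) (hr : ∀ r ∈ rels, (r.map g).prod = 1) (j z1 z2 u : ℕ) (h : dM_16 j z1 z2 u = true) : GoodM (fa g) T MG M (cP g H) u := by
  unfold dM_16 at h
  rcases brec_true h with h | h
  · rcases brec_true h with h | h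
    · exact H9.TCY.mRelD_at (T := T) (by decide) hinv hr [Lt.z, Lt.y, Lt.q, Lt.yi, Lt.z, Lt.y, Lt.z, Lt.yi, Lt.q, Lt.y, Lt.z, Lt.yi] 17 5 false (by decide +kernel) h
    · rcases brec_true h with h | h
      · exact H9.TCY.mRelD_at (T := T) (by decide) hinv hr [Lt.q, Lt.y, Lt.q, Lt.y, Lt.q, Lt.y, Lt.q, Lt.y, Lt.q, Lt.y, Lt.q, Lt.y] 18 0 true (by decide +kernel) h
      · exact H9.TCY.mRelD_at (T := T) (by decide) hinv hr [Lt.z, Lt.y, Lt.z, Lt.yi, Lt.q, Lt.y, Lt.z, Lt.yi, Lt.z, Lt.y, Lt.q, Lt.yi] 17 9 false (by decide +kernel) h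
  · rcases brec_true h with h | h
    · rcases brec_true h with h | h
      · exact H9.TCY.mRelD_at (T := T) (by decide) hinv hr [Lt.q, Lt.z, Lt.q, Lt.z, Lt.v, Lt.z, Lt.q, Lt.v, Lt.q, Lt.z, Lt.v] 11 5 false (by decide +kernel) h
      · exact H9.TCY.mRelD_at (T := T) (by decide) hinv hr [Lt.y, Lt.z, Lt.yi, Lt.q, Lt.y, Lt.z, Lt.yi, Lt.z, Lt.y, Lt.q, Lt.yi, Lt.z] 17 10 false (by decide +kernel) h
    · rcases brec_true h with h | h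
      · exact H9.TCY.mRelD_at (T := T) (by decide) hinv hr [Lt.z, Lt.yi, Lt.q, Lt.y, Lt.z, Lt.yi, Lt.z, Lt.y, Lt.q, Lt.yi, Lt.z, Lt.y] 17 11 false (by decide +kernel) h
      · exact H9.TCY.mRelD_at (T := T) (by decide) hinv hr [Lt.yi, Lt.yi, Lt.z, Lt.y, Lt.y, Lt.z, Lt.yi, Lt.yi, Lt.z, Lt.y, Lt.y, Lt.z, Lt.yi, Lt.yi, Lt.z, Lt.y, Lt.y, Lt.z] 38 0 false (by decide +kernel) h
theorem dM_17_s (hinv : ∀ x, g (inv x) = (g x)⁻¹) (hr : ∀ r ∈ rels, (r.map g).prod = 1) (j z1 z2 u : ℕ) (h : dM_17 j z1 z2 u = true) : GoodM (fa g) T MG M (cP g H) u := by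
  unfold dM_17 at h
  rcases brec_true h with h | h
  · exact dM_15_s hinv hr j z1 z2 u h
  · exact dM_16_s hinv hr j z1 z2 u h
theorem dM_18_s (hinv : ∀ x, g (inv x) = (g x)⁻¹) (hr : ∀ r ∈ rels, (r.map g).prod = 1) (j z1 z2 u : ℕ) (h : dM_18 j z1 z2 u = true) : GoodM (fa g) T MG M (cP g H) u := by
  unfold dM_18 at h
  rcases brec_true h with h | h
  · exact dM_14_s hinv hr j z1 z2 u h
  · exact dM_17_s hinv hr j z1 z2 u h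
theorem dM_19_s (hinv : ∀ x, g (inv x) = (g x)⁻¹) (hr : ∀ r ∈ rels, (r.map g).prod = 1) (j z1 z2 u : ℕ) (h : dM_19 j z1 z2 u = true) : GoodM (fa g) T MG M (cP g H) u := by
  unfold dM_19 at h
  rcases brec_true h with h | h
  · rcases brec_true h with h | h
    · rcases brec_true h with h | h
      · exact H9.TCY.mRelD_at (T := T) (by decide) hinv hr [Lt.z, Lt.v, Lt.z, Lt.q, Lt.v, Lt.q, Lt.z, Lt.v, Lt.q, Lt.z, Lt.q] 11 8 false (by decide +kernel) h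
      · exact H9.TCY.mRelD_at (T := T) (by decide) hinv hr [Lt.y, Lt.z, Lt.yi, Lt.yi, Lt.z, Lt.y, Lt.y, Lt.z, Lt.yi, Lt.yi, Lt.z, Lt.y, Lt.y, Lt.z, Lt.yi, Lt.yi, Lt.z, Lt.y] 38 4 false (by decide +kernel) h
    · rcases brec_true h with h | h
      · exact H9.TCY.mRelD_at (T := T) (by decide) hinv hr [Lt.q, Lt.v, Lt.z, Lt.q, Lt.v, Lt.q, Lt.z, Lt.v, Lt.z, Lt.q, Lt.z] 11 5 true (by decide +kernel) h
      · rcases brec_true h with h | h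
        · exact H9.TCY.mRelD_at (T := T) (by decide) hinv hr [Lt.z, Lt.q, Lt.z, Lt.v, Lt.z, Lt.q, Lt.v, Lt.q, Lt.z, Lt.v, Lt.q] 11 6 false (by decide +kernel) h
        · exact H9.TCY.mRelD_at (T := T) (by decide) hinv hr [Lt.z, Lt.y, Lt.y, Lt.z, Lt.yi, Lt.yi, Lt.z, Lt.y, Lt.y, Lt.z, Lt.yi, Lt.yi, Lt.z, Lt.y, Lt.y, Lt.z, Lt.yi, Lt.yi] 38 2 false (by decide +kernel) h
  · rcases brec_true h with h | h
    · rcases brec_true h with h | h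
      · exact H9.TCY.mRelD_at (T := T) (by decide) hinv hr [Lt.y, Lt.y, Lt.z, Lt.yi, Lt.yi, Lt.z, Lt.y, Lt.y, Lt.z, Lt.yi, Lt.yi, Lt.z, Lt.y, Lt.y, Lt.z, Lt.yi, Lt.yi, Lt.z] 38 3 false (by decide +kernel) h
      · exact H9.TCY.mRelD_at (T := T) (by decide) hinv hr [Lt.yi, Lt.z, Lt.y, Lt.y, Lt.z, Lt.yi, Lt.yi, Lt.z, Lt.y, Lt.y, Lt.z, Lt.yi, Lt.yi, Lt.z, Lt.y, Lt.y, Lt.z, Lt.yi] 38 1 false (by decide +kernel) h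
    · rcases brec_true h with h | h
      · exact H9.TCY.mRelD_at (T := T) (by decide) hinv hr [Lt.yi, Lt.q, Lt.y, Lt.z, Lt.y, Lt.z, Lt.yi, Lt.z, Lt.yi, Lt.q, Lt.y, Lt.z, Lt.y, Lt.z, Lt.yi, Lt.z] 29 0 false (by decide +kernel) h
      · rcases brec_true h with h | h
        · exact H9.TCY.mRelD_at (T := T) (by decide) hinv hr [Lt.z, Lt.yi, Lt.yi, Lt.z, Lt.y, Lt.y, Lt.z, Lt.yi, Lt.yi, Lt.z, Lt.y, Lt.y, Lt.z, Lt.yi, Lt.yi, Lt.z, Lt.y, Lt.y] 38 5 false (by decide +kernel) h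
        · exact H9.TCY.mRelD_at (T := T) (by decide) hinv hr [Lt.v, Lt.q, Lt.v, Lt.q, Lt.v, Lt.q, Lt.v, Lt.q, Lt.v, Lt.q, Lt.v, Lt.q] 2 1 false (by decide +kernel) h
theorem dM_20_s (hinv : ∀ x, g (inv x) = (g x)⁻¹) (hr : ∀ r ∈ rels, (r.map g).prod = 1) (j z1 z2 u : ℕ) (h : dM_20 j z1 z2 u = true) : GoodM (fa g) T MG M (cP g H) u := by
  unfold dM_20 at h
  rcases brec_true h with h | h
  · rcases brec_true h with h | h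
    · exact H9.TCY.mRelD_at (T := T) (by decide) hinv hr [Lt.z, Lt.yi, Lt.q, Lt.y, Lt.z, Lt.y, Lt.z, Lt.yi, Lt.z, Lt.yi, Lt.q, Lt.y, Lt.z, Lt.y, Lt.z, Lt.yi] 29 7 false (by decide +kernel) h
    · rcases brec_true h with h | h
      · exact H9.TCY.mRelD_at (T := T) (by decide) hinv hr [Lt.v, Lt.z, Lt.q, Lt.z, Lt.q, Lt.v, Lt.z, Lt.q, Lt.v, Lt.q, Lt.z] 11 1 true (by decide +kernel) h
      · exact H9.TCY.mRelD_at (T := T) (by decide) hinv hr [Lt.q, Lt.yi, Lt.z, Lt.yi, Lt.z, Lt.y, Lt.z, Lt.y, Lt.q, Lt.yi, Lt.z, Lt.yi, Lt.z, Lt.y, Lt.z, Lt.y] 26 7 false (by decide +kernel) h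
  · rcases brec_true h with h | h
    · exact H9.TCY.mRelD_at (T := T) (by decide) hinv hr [Lt.q, Lt.y, Lt.z, Lt.y, Lt.z, Lt.yi, Lt.z, Lt.yi, Lt.q, Lt.y, Lt.z, Lt.y, Lt.z, Lt.yi, Lt.z, Lt.yi] 29 1 false (by decide +kernel) h
    · rcases brec_true h with h | h
      · exact H9.TCY.mRelD_at (T := T) (by decide) hinv hr [Lt.yi, Lt.z, Lt.yi, Lt.z, Lt.y, Lt.z, Lt.y, Lt.q, Lt.yi, Lt.z, Lt.yi, Lt.z, Lt.y, Lt.z, Lt.y, Lt.q] 26 0 false (by decide +kernel) h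
      · exact H9.TCY.mRelD_at (T := T) (by decide) hinv hr [Lt.yi, Lt.z, Lt.y, Lt.z, Lt.y, Lt.q, Lt.yi, Lt.z, Lt.yi, Lt.z, Lt.y, Lt.z, Lt.y, Lt.q, Lt.yi, Lt.z] 26 2 false (by decide +kernel) h
theorem dM_21_s (hinv : ∀ x, g (inv x) = (g x)⁻¹) (hr : ∀ r ∈ rels, (r.map g).prod = 1) (j z1 z2 u : ℕ) (h : dM_21 j z1 z2 u = true) : GoodM (fa g) T MG M (cP g H) u := by
  unfold dM_21 at h
  rcases brec_true h with h | h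
  · rcases brec_true h with h | h
    · exact H9.TCY.mRelD_at (T := T) (by decide) hinv hr [Lt.y, Lt.z, Lt.y, Lt.z, Lt.yi, Lt.z, Lt.yi, Lt.q, Lt.y, Lt.z, Lt.y, Lt.z, Lt.yi, Lt.z, Lt.yi, Lt.q] 29 2 false (by decide +kernel) h
    · rcases brec_true h with h | h
      · exact H9.TCY.mRelD_at (T := T) (by decide) hinv hr [Lt.y, Lt.q, Lt.yi, Lt.z, Lt.yi, Lt.z, Lt.y, Lt.z, Lt.y, Lt.q, Lt.yi, Lt.z, Lt.yi, Lt.z, Lt.y, Lt.z] 26 6 false (by decide +kernel) h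
      · exact H9.TCY.mRelD_at (T := T) (by decide) hinv hr [Lt.q, Lt.v, Lt.q, Lt.v, Lt.q, Lt.v, Lt.q, Lt.v, Lt.q, Lt.v, Lt.q, Lt.v] 2 0 false (by decide +kernel) h
  · rcases brec_true h with h | h
    · rcases brec_true h with h | h
      · exact H9.TCY.mRelD_at (T := T) (by decide) hinv hr [Lt.z, Lt.y, Lt.q, Lt.yi, Lt.z, Lt.yi, Lt.z, Lt.y, Lt.z, Lt.y, Lt.q, Lt.yi, Lt.z, Lt.yi, Lt.z, Lt.y] 26 5 false (by decide +kernel) h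
      · exact H9.TCY.mRelD_at (T := T) (by decide) hinv hr [Lt.y, Lt.z, Lt.y, Lt.q, Lt.yi, Lt.z, Lt.yi, Lt.z, Lt.y, Lt.z, Lt.y, Lt.q, Lt.yi, Lt.z, Lt.yi, Lt.z] 26 4 false (by decide +kernel) h
    · rcases brec_true h with h | h
      · exact H9.TCY.mRelD_at (T := T) (by decide) hinv hr [Lt.yi, Lt.z, Lt.yi, Lt.q, Lt.y, Lt.z, Lt.y, Lt.z, Lt.yi, Lt.z, Lt.yi, Lt.q, Lt.y, Lt.z, Lt.y, Lt.z] 29 6 false (by decide +kernel) h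
      · exact H9.TCY.mRelD_at (T := T) (by decide) hinv hr [Lt.z, Lt.yi, Lt.z, Lt.y, Lt.z, Lt.y, Lt.q, Lt.yi, Lt.z, Lt.yi, Lt.z, Lt.y, Lt.z, Lt.y, Lt.q, Lt.yi] 26 1 false (by decide +kernel) h
theorem dM_22_s (hinv : ∀ x, g (inv x) = (g x)⁻¹) (hr : ∀ r ∈ rels, (r.map g).prod = 1) (j z1 z2 u : ℕ) (h : dM_22 j z1 z2 u = true) : GoodM (fa g) T MG M (cP g H) u := by
  unfold dM_22 at h
  rcases brec_true h with h | h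
  · exact dM_20_s hinv hr j z1 z2 u h
  · exact dM_21_s hinv hr j z1 z2 u h
theorem dM_23_s (hinv : ∀ x, g (inv x) = (g x)⁻¹) (hr : ∀ r ∈ rels, (r.map g).prod = 1) (j z1 z2 u : ℕ) (h : dM_23 j z1 z2 u = true) : GoodM (fa g) T MG M (cP g H) u := by
  unfold dM_23 at h
  rcases brec_true h with h | h
  · exact dM_19_s hinv hr j z1 z2 u h
  · exact dM_22_s hinv hr j z1 z2 u h
theorem dM_24_s (hinv : ∀ x, g (inv x) = (g x)⁻¹) (hr : ∀ r ∈ rels, (r.map g).prod = 1) (j z1 z2 u : ℕ) (h : dM_24 j z1 z2 u = true) : GoodM (fa g) T MG M (cP g H) u := by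
  unfold dM_24 at h
  rcases brec_true h with h | h
  · rcases brec_true h with h | h
    · rcases brec_true h with h | h
      · exact H9.TCY.mRelD_at (T := T) (by decide) hinv hr [Lt.z, Lt.y, Lt.z, Lt.yi, Lt.z, Lt.yi, Lt.q, Lt.y, Lt.z, Lt.y, Lt.z, Lt.yi, Lt.z, Lt.yi, Lt.q, Lt.y] 29 3 false (by decide +kernel) h
      · exact H9.TCY.mRelD_at (T := T) (by decide) hinv hr [Lt.q, Lt.v, Lt.y, Lt.v, Lt.q, Lt.z, Lt.q, Lt.z, Lt.yi, Lt.z, Lt.q, Lt.z] 13 9 false (by decide +kernel) h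
    · rcases brec_true h with h | h
      · exact H9.TCY.mRelD_at (T := T) (by decide) hinv hr [Lt.z, Lt.y, Lt.z, Lt.y, Lt.q, Lt.yi, Lt.z, Lt.yi, Lt.z, Lt.y, Lt.z, Lt.y, Lt.q, Lt.yi, Lt.z, Lt.yi] 26 3 false (by decide +kernel) h
      · exact H9.TCY.mRelD_at (T := T) (by decide) hinv hr [Lt.v, Lt.z, Lt.q, Lt.v, Lt.q, Lt.z, Lt.v, Lt.z, Lt.q, Lt.z, Lt.q] 11 6 true (by decide +kernel) h
  · rcases brec_true h with h | h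
    · rcases brec_true h with h | h
      · exact H9.TCY.mRelD_at (T := T) (by decide) hinv hr [Lt.y, Lt.z, Lt.yi, Lt.z, Lt.yi, Lt.q, Lt.y, Lt.z, Lt.y, Lt.z, Lt.yi, Lt.z, Lt.yi, Lt.q, Lt.y, Lt.z] 29 4 false (by decide +kernel) h
      · exact H9.TCY.mRelD_at (T := T) (by decide) hinv hr [Lt.q, Lt.z, Lt.yi, Lt.z, Lt.q, Lt.z, Lt.q, Lt.v, Lt.y, Lt.v, Lt.q, Lt.z] 13 3 false (by decide +kernel) h
    · rcases brec_true h with h | h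
      · exact H9.TCY.mRelD_at (T := T) (by decide) hinv hr [Lt.q, Lt.yi, Lt.yi, Lt.z, Lt.y, Lt.z, Lt.yi, Lt.z, Lt.yi, Lt.q, Lt.yi, Lt.z, Lt.yi, Lt.z, Lt.y, Lt.z, Lt.yi, Lt.yi] 41 2 false (by decide +kernel) h
      · rcases brec_true h with h | h
        · exact H9.TCY.mRelD_at (T := T) (by decide) hinv hr [Lt.y, Lt.z, Lt.yi, Lt.z, Lt.y, Lt.z, Lt.y, Lt.q, Lt.y, Lt.z, Lt.y, Lt.z, Lt.yi, Lt.z, Lt.y, Lt.y, Lt.q, Lt.y] 41 17 true (by decide +kernel) h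
        · exact H9.TCY.mRelD_at (T := T) (by decide) hinv hr [Lt.yi, Lt.yi, Lt.z, Lt.y, Lt.z, Lt.yi, Lt.z, Lt.yi, Lt.q, Lt.yi, Lt.z, Lt.yi, Lt.z, Lt.y, Lt.z, Lt.yi, Lt.yi, Lt.q] 41 3 false (by decide +kernel) h
theorem dM_25_s (hinv : ∀ x, g (inv x) = (g x)⁻¹) (hr : ∀ r ∈ rels, (r.map g).prod = 1) (j z1 z2 u : ℕ) (h : dM_25 j z1 z2 u = true) : GoodM (fa g) T MG M (cP g H) u := by
  unfold dM_25 at h
  rcases brec_true h with h | h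
  · rcases brec_true h with h | h
    · rcases brec_true h with h | h
      · exact H9.TCY.mRelD_at (T := T) (by decide) hinv hr [Lt.q, Lt.v, Lt.yi, Lt.v, Lt.q, Lt.z, Lt.q, Lt.z, Lt.y, Lt.z, Lt.q, Lt.z] 13 10 true (by decide +kernel) h
      · exact H9.TCY.mRelD_at (T := T) (by decide) hinv hr [Lt.q, Lt.yi, Lt.z, Lt.yi, Lt.z, Lt.y, Lt.z, Lt.yi, Lt.yi, Lt.q, Lt.yi, Lt.yi, Lt.z, Lt.y, Lt.z, Lt.yi, Lt.z, Lt.yi] 41 11 false (by decide +kernel) h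
    · rcases brec_true h with h | h
      · exact H9.TCY.mRelD_at (T := T) (by decide) hinv hr [Lt.z, Lt.y, Lt.q, Lt.z, Lt.y, Lt.y, Lt.z, Lt.q, Lt.y, Lt.z, Lt.yi, Lt.q, Lt.z, Lt.yi, Lt.yi, Lt.z, Lt.q, Lt.yi] 37 5 false (by decide +kernel) h
      · rcases brec_true h with h | h
        · exact H9.TCY.mRelD_at (T := T) (by decide) hinv hr [Lt.yi, Lt.yi, Lt.z, Lt.q, Lt.yi, Lt.z, Lt.y, Lt.q, Lt.z, Lt.y, Lt.y, Lt.z, Lt.q, Lt.y, Lt.z, Lt.yi, Lt.q, Lt.z] 37 0 false (by decide +kernel) h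
        · exact H9.TCY.mRelD_at (T := T) (by decide) hinv hr [Lt.y, Lt.y, Lt.q, Lt.z, Lt.q, Lt.z, Lt.y, Lt.y, Lt.y, Lt.q, Lt.z, Lt.q, Lt.z, Lt.y] 21 5 true (by decide +kernel) h
  · rcases brec_true h with h | h
    · rcases brec_true h with h | h
      · exact H9.TCY.mRelD_at (T := T) (by decide) hinv hr [Lt.z, Lt.yi, Lt.z, Lt.yi, Lt.q, Lt.y, Lt.z, Lt.y, Lt.z, Lt.yi, Lt.z, Lt.yi, Lt.q, Lt.y, Lt.z, Lt.y] 29 5 false (by decide +kernel) h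
      · exact H9.TCY.mRelD_at (T := T) (by decide) hinv hr [Lt.y, Lt.q, Lt.y, Lt.z, Lt.y, Lt.z, Lt.yi, Lt.z, Lt.y, Lt.y, Lt.q, Lt.y, Lt.y, Lt.z, Lt.yi, Lt.z, Lt.y, Lt.z] 41 5 true (by decide +kernel) h
    · rcases brec_true h with h | h
      · exact H9.TCY.mRelD_at (T := T) (by decide) hinv hr [Lt.y, Lt.z, Lt.yi, Lt.q, Lt.z, Lt.yi, Lt.yi, Lt.z, Lt.q, Lt.yi, Lt.z, Lt.y, Lt.q, Lt.z, Lt.y, Lt.y, Lt.z, Lt.q] 37 13 false (by decide +kernel) h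
      · rcases brec_true h with h | h
        · exact H9.TCY.mRelD_at (T := T) (by decide) hinv hr [Lt.q, Lt.z, Lt.y, Lt.z, Lt.q, Lt.z, Lt.q, Lt.v, Lt.yi, Lt.v, Lt.q, Lt.z] 13 4 true (by decide +kernel) h
        · exact H9.TCY.mRelD_at (T := T) (by decide) hinv hr [Lt.y, Lt.q, Lt.y, Lt.y, Lt.z, Lt.yi, Lt.z, Lt.y, Lt.z, Lt.y, Lt.q, Lt.y, Lt.z, Lt.y, Lt.z, Lt.yi, Lt.z, Lt.y] 41 14 true (by decide +kernel) h
theorem dM_26_s (hinv : ∀ x, g (inv x) = (g x)⁻¹) (hr : ∀ r ∈ rels, (r.map g).prod = 1) (j z1 z2 u : ℕ) (h : dM_26 j z1 z2 u = true) : GoodM (fa g) T MG M (cP g H) u := by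
  unfold dM_26 at h
  rcases brec_true h with h | h
  · exact dM_24_s hinv hr j z1 z2 u h
  · exact dM_25_s hinv hr j z1 z2 u h
theorem dM_27_s (hinv : ∀ x, g (inv x) = (g x)⁻¹) (hr : ∀ r ∈ rels, (r.map g).prod = 1) (j z1 z2 u : ℕ) (h : dM_27 j z1 z2 u = true) : GoodM (fa g) T MG M (cP g H) u := by
  unfold dM_27 at h
  rcases brec_true h with h | h
  · rcases brec_true h with h | h
    · rcases brec_true h with h | h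
      · exact H9.TCY.mRelD_at (T := T) (by decide) hinv hr [Lt.yi, Lt.q, Lt.yi, Lt.yi, Lt.z, Lt.y, Lt.z, Lt.yi, Lt.z, Lt.yi, Lt.q, Lt.yi, Lt.z, Lt.yi, Lt.z, Lt.y, Lt.z, Lt.yi] 41 1 false (by decide +kernel) h
      · exact H9.TCY.mRelD_at (T := T) (by decide) hinv hr [Lt.z, Lt.yi, Lt.yi, Lt.q, Lt.yi, Lt.yi, Lt.z, Lt.y, Lt.z, Lt.yi, Lt.z, Lt.yi, Lt.q, Lt.yi, Lt.z, Lt.yi, Lt.z, Lt.y] 41 17 false (by decide +kernel) h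
    · rcases brec_true h with h | h
      · exact H9.TCY.mRelD_at (T := T) (by decide) hinv hr [Lt.y, Lt.y, Lt.z, Lt.yi, Lt.z, Lt.y, Lt.z, Lt.y, Lt.q, Lt.y, Lt.z, Lt.y, Lt.z, Lt.yi, Lt.z, Lt.y, Lt.y, Lt.q] 41 16 true (by decide +kernel) h
      · rcases brec_true h with h | h
        · exact H9.TCY.mRelD_at (T := T) (by decide) hinv hr [Lt.y, Lt.y, Lt.q, Lt.y, Lt.y, Lt.z, Lt.yi, Lt.z, Lt.y, Lt.z, Lt.y, Lt.q, Lt.y, Lt.z, Lt.y, Lt.z, Lt.yi, Lt.z] 41 13 true (by decide +kernel) h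
        · exact H9.TCY.mRelD_at (T := T) (by decide) hinv hr [Lt.yi, Lt.z, Lt.y, Lt.z, Lt.yi, Lt.z, Lt.yi, Lt.q, Lt.yi, Lt.z, Lt.yi, Lt.z, Lt.y, Lt.z, Lt.yi, Lt.yi, Lt.q, Lt.yi] 41 4 false (by decide +kernel) h
  · rcases brec_true h with h | h
    · rcases brec_true h with h | h
      · exact H9.TCY.mRelD_at (T := T) (by decide) hinv hr [Lt.q, Lt.y, Lt.z, Lt.y, Lt.z, Lt.yi, Lt.z, Lt.y, Lt.y, Lt.q, Lt.y, Lt.y, Lt.z, Lt.yi, Lt.z, Lt.y, Lt.z, Lt.y] 41 6 true (by decide +kernel) h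
      · rcases brec_true h with h | h
        · exact H9.TCY.mRelD_at (T := T) (by decide) hinv hr [Lt.z, Lt.yi, Lt.q, Lt.z, Lt.yi, Lt.yi, Lt.z, Lt.q, Lt.yi, Lt.z, Lt.y, Lt.q, Lt.z, Lt.y, Lt.y, Lt.z, Lt.q, Lt.y] 37 14 false (by decide +kernel) h
        · exact H9.TCY.mRelD_at (T := T) (by decide) hinv hr [Lt.v, Lt.q, Lt.v, Lt.z, Lt.q, Lt.z, Lt.v, Lt.z, Lt.v, Lt.z, Lt.q, Lt.z, Lt.v, Lt.q] 20 1 false (by decide +kernel) h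
    · rcases brec_true h with h | h
      · exact H9.TCY.mRelD_at (T := T) (by decide) hinv hr [Lt.y, Lt.q, Lt.yi, Lt.z, Lt.q, Lt.z, Lt.y, Lt.q, Lt.yi, Lt.z, Lt.q, Lt.z] 15 4 false (by decide +kernel) h
      · rcases brec_true h with h | h
        · exact H9.TCY.mRelD_at (T := T) (by decide) hinv hr [Lt.q, Lt.y, Lt.y, Lt.z, Lt.yi, Lt.z, Lt.y, Lt.z, Lt.y, Lt.q, Lt.y, Lt.z, Lt.y, Lt.z, Lt.yi, Lt.z, Lt.y, Lt.y] 41 15 true (by decide +kernel) h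
        · exact H9.TCY.mRelD_at (T := T) (by decide) hinv hr [Lt.y, Lt.q, Lt.z, Lt.y, Lt.y, Lt.z, Lt.q, Lt.y, Lt.z, Lt.yi, Lt.q, Lt.z, Lt.yi, Lt.yi, Lt.z, Lt.q, Lt.yi, Lt.z] 37 6 false (by decide +kernel) h
theorem dM_28_s (hinv : ∀ x, g (inv x) = (g x)⁻¹) (hr : ∀ r ∈ rels, (r.map g).prod = 1) (j z1 z2 u : ℕ) (h : dM_28 j z1 z2 u = true) : GoodM (fa g) T MG M (cP g H) u := by
  unfold dM_28 at h
  rcases brec_true h with h | h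
  · rcases brec_true h with h | h
    · rcases brec_true h with h | h
      · exact H9.TCY.mRelD_at (T := T) (by decide) hinv hr [Lt.y, Lt.z, Lt.q, Lt.z, Lt.yi, Lt.q, Lt.y, Lt.z, Lt.q, Lt.z, Lt.yi, Lt.q] 16 2 false (by decide +kernel) h
      · rcases brec_true h with h | h
        · exact H9.TCY.mRelD_at (T := T) (by decide) hinv hr [Lt.q, Lt.y, Lt.z, Lt.yi, Lt.q, Lt.z, Lt.yi, Lt.yi, Lt.z, Lt.q, Lt.yi, Lt.z, Lt.y, Lt.q, Lt.z, Lt.y, Lt.y, Lt.z] 37 12 false (by decide +kernel) h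
        · exact H9.TCY.mRelD_at (T := T) (by decide) hinv hr [Lt.yi, Lt.yi, Lt.q, Lt.yi, Lt.yi, Lt.z, Lt.y, Lt.z, Lt.yi, Lt.z, Lt.yi, Lt.q, Lt.yi, Lt.z, Lt.yi, Lt.z, Lt.y, Lt.z] 41 0 false (by decide +kernel) h
    · rcases brec_true h with h | h
      · exact H9.TCY.mRelD_at (T := T) (by decide) hinv hr [Lt.y, Lt.y, Lt.y, Lt.q, Lt.z, Lt.q, Lt.z, Lt.y, Lt.y, Lt.y, Lt.q, Lt.z, Lt.q, Lt.z] 21 4 true (by decide +kernel) h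
      · rcases brec_true h with h | h
        · exact H9.TCY.mRelD_at (T := T) (by decide) hinv hr [Lt.z, Lt.y, Lt.q, Lt.y, Lt.z, Lt.y, Lt.z, Lt.yi, Lt.z, Lt.y, Lt.y, Lt.q, Lt.y, Lt.y, Lt.z, Lt.yi, Lt.z, Lt.y] 41 4 true (by decide +kernel) h
        · exact H9.TCY.mRelD_at (T := T) (by decide) hinv hr [Lt.q, Lt.y, Lt.y, Lt.q, Lt.z, Lt.y, Lt.z, Lt.yi, Lt.z, Lt.q, Lt.yi, Lt.yi, Lt.q, Lt.z, Lt.yi, Lt.z, Lt.y, Lt.z] 39 8 false (by decide +kernel) h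
  · rcases brec_true h with h | h
    · rcases brec_true h with h | h
      · exact H9.TCY.mRelD_at (T := T) (by decide) hinv hr [Lt.z, Lt.y, Lt.z, Lt.yi, Lt.z, Lt.yi, Lt.q, Lt.yi, Lt.z, Lt.yi, Lt.z, Lt.y, Lt.z, Lt.yi, Lt.yi, Lt.q, Lt.yi, Lt.yi] 41 5 false (by decide +kernel) h
      · rcases brec_true h with h | h
        · exact H9.TCY.mRelD_at (T := T) (by decide) hinv hr [Lt.yi, Lt.q, Lt.z, Lt.yi, Lt.yi, Lt.z, Lt.q, Lt.yi, Lt.z, Lt.y, Lt.q, Lt.z, Lt.y, Lt.y, Lt.z, Lt.q, Lt.y, Lt.z] 37 15 false (by decide +kernel) h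
        · exact H9.TCY.mRelD_at (T := T) (by decide) hinv hr [Lt.y, Lt.y, Lt.z, Lt.q, Lt.y, Lt.z, Lt.yi, Lt.q, Lt.z, Lt.yi, Lt.yi, Lt.z, Lt.q, Lt.yi, Lt.z, Lt.y, Lt.q, Lt.z] 37 9 false (by decide +kernel) h
    · rcases brec_true h with h | h
      · exact H9.TCY.mRelD_at (T := T) (by decide) hinv hr [Lt.q, Lt.yi, Lt.z, Lt.q, Lt.z, Lt.y, Lt.q, Lt.yi, Lt.z, Lt.q, Lt.z, Lt.y] 15 5 false (by decide +kernel) h
      · rcases brec_true h with h | h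
        · exact H9.TCY.mRelD_at (T := T) (by decide) hinv hr [Lt.yi, Lt.z, Lt.q, Lt.z, Lt.y, Lt.q, Lt.yi, Lt.z, Lt.q, Lt.z, Lt.y, Lt.q] 15 0 false (by decide +kernel) h
        · exact H9.TCY.mRelD_at (T := T) (by decide) hinv hr [Lt.q, Lt.yi, Lt.q, Lt.z, Lt.y, Lt.q, Lt.yi, Lt.q, Lt.z, Lt.y, Lt.z, Lt.q, Lt.yi, Lt.q, Lt.y, Lt.z] 23 1 true (by decide +kernel) h
theorem dM_29_s (hinv : ∀ x, g (inv x) = (g x)⁻¹) (hr : ∀ r ∈ rels, (r.map g).prod = 1) (j z1 z2 u : ℕ) (h : dM_29 j z1 z2 u = true) : GoodM (fa g) T MG M (cP g H) u := by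
  unfold dM_29 at h
  rcases brec_true h with h | h
  · exact dM_27_s hinv hr j z1 z2 u h
  · exact dM_28_s hinv hr j z1 z2 u h
theorem dM_30_s (hinv : ∀ x, g (inv x) = (g x)⁻¹) (hr : ∀ r ∈ rels, (r.map g).prod = 1) (j z1 z2 u : ℕ) (h : dM_30 j z1 z2 u = true) : GoodM (fa g) T MG M (cP g H) u := by
  unfold dM_30 at h
  rcases brec_true h with h | h
  · exact dM_26_s hinv hr j z1 z2 u h
  · exact dM_29_s hinv hr j z1 z2 u h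
theorem dM_31_s (hinv : ∀ x, g (inv x) = (g x)⁻¹) (hr : ∀ r ∈ rels, (r.map g).prod = 1) (j z1 z2 u : ℕ) (h : dM_31 j z1 z2 u = true) : GoodM (fa g) T MG M (cP g H) u := by
  unfold dM_31 at h
  rcases brec_true h with h | h
  · exact dM_23_s hinv hr j z1 z2 u h
  · exact dM_30_s hinv hr j z1 z2 u h
theorem dM_32_s (hinv : ∀ x, g (inv x) = (g x)⁻¹) (hr : ∀ r ∈ rels, (r.map g).prod = 1) (j z1 z2 u : ℕ) (h : dM_32 j z1 z2 u = true) : GoodM (fa g) T MG M (cP g H) u := by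
  unfold dM_32 at h
  rcases brec_true h with h | h
  · exact dM_18_s hinv hr j z1 z2 u h
  · exact dM_31_s hinv hr j z1 z2 u h
theorem dM_33_s (hinv : ∀ x, g (inv x) = (g x)⁻¹) (hr : ∀ r ∈ rels, (r.map g).prod = 1) (j z1 z2 u : ℕ) (h : dM_33 j z1 z2 u = true) : GoodM (fa g) T MG M (cP g H) u := by
  unfold dM_33 at h
  rcases brec_true h with h | h
  · rcases brec_true h with h | h
    · exact H9.TCY.mRelD_at (T := T) (by decide) hinv hr [Lt.y, Lt.z, Lt.y, Lt.z, Lt.yi, Lt.z, Lt.y, Lt.y, Lt.q, Lt.y, Lt.y, Lt.z, Lt.yi, Lt.z, Lt.y, Lt.z, Lt.y, Lt.q] 41 7 true (by decide +kernel) h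
    · rcases brec_true h with h | h
      · exact H9.TCY.mRelD_at (T := T) (by decide) hinv hr [Lt.z, Lt.yi, Lt.q, Lt.yi, Lt.z, Lt.yi, Lt.z, Lt.y, Lt.z, Lt.yi, Lt.yi, Lt.q, Lt.yi, Lt.yi, Lt.z, Lt.y, Lt.z, Lt.yi] 41 9 false (by decide +kernel) h
      · exact H9.TCY.mRelD_at (T := T) (by decide) hinv hr [Lt.q, Lt.yi, Lt.z, Lt.y, Lt.q, Lt.z, Lt.y, Lt.y, Lt.z, Lt.q, Lt.y, Lt.z, Lt.yi, Lt.q, Lt.z, Lt.yi, Lt.yi, Lt.z] 37 3 false (by decide +kernel) h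
  · rcases brec_true h with h | h
    · exact H9.TCY.mRelD_at (T := T) (by decide) hinv hr [Lt.yi, Lt.z, Lt.q, Lt.yi, Lt.z, Lt.y, Lt.q, Lt.z, Lt.y, Lt.y, Lt.z, Lt.q, Lt.y, Lt.z, Lt.yi, Lt.q, Lt.z, Lt.yi] 37 1 false (by decide +kernel) h
    · rcases brec_true h with h | h
      · exact H9.TCY.mRelD_at (T := T) (by decide) hinv hr [Lt.z, Lt.y, Lt.y, Lt.q, Lt.y, Lt.y, Lt.z, Lt.yi, Lt.z, Lt.y, Lt.z, Lt.y, Lt.q, Lt.y, Lt.z, Lt.y, Lt.z, Lt.yi] 41 12 true (by decide +kernel) h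
      · exact H9.TCY.mRelD_at (T := T) (by decide) hinv hr [Lt.yi, Lt.z, Lt.y, Lt.q, Lt.z, Lt.y, Lt.y, Lt.z, Lt.q, Lt.y, Lt.z, Lt.yi, Lt.q, Lt.z, Lt.yi, Lt.yi, Lt.z, Lt.q] 37 4 false (by decide +kernel) h
theorem dM_34_s (hinv : ∀ x, g (inv x) = (g x)⁻¹) (hr : ∀ r ∈ rels, (r.map g).prod = 1) (j z1 z2 u : ℕ) (h : dM_34 j z1 z2 u = true) : GoodM (fa g) T MG M (cP g H) u := by
  unfold dM_34 at h
  rcases brec_true h with h | h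
  · rcases brec_true h with h | h
    · exact H9.TCY.mRelD_at (T := T) (by decide) hinv hr [Lt.yi, Lt.yi, Lt.z, Lt.q, Lt.z, Lt.q, Lt.yi, Lt.yi, Lt.yi, Lt.z, Lt.q, Lt.z, Lt.q, Lt.yi] 21 1 false (by decide +kernel) h
    · rcases brec_true h with h | h
      · exact H9.TCY.mRelD_at (T := T) (by decide) hinv hr [Lt.y, Lt.q, Lt.z, Lt.y, Lt.z, Lt.yi, Lt.z, Lt.q, Lt.yi, Lt.yi, Lt.q, Lt.z, Lt.yi, Lt.z, Lt.y, Lt.z, Lt.q, Lt.y] 39 10 false (by decide +kernel) h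
      · exact H9.TCY.mRelD_at (T := T) (by decide) hinv hr [Lt.v, Lt.q, Lt.v, Lt.q, Lt.v, Lt.z, Lt.q, Lt.z, Lt.v, Lt.z, Lt.v, Lt.z, Lt.q, Lt.z] 20 13 false (by decide +kernel) h
  · rcases brec_true h with h | h
    · rcases brec_true h with h | h
      · exact H9.TCY.mRelD_at (T := T) (by decide) hinv hr [Lt.yi, Lt.q, Lt.y, Lt.z, Lt.q, Lt.z, Lt.yi, Lt.q, Lt.y, Lt.z, Lt.q, Lt.z] 16 0 false (by decide +kernel) h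
      · exact H9.TCY.mRelD_at (T := T) (by decide) hinv hr [Lt.v, Lt.z, Lt.q, Lt.z, Lt.v, Lt.z, Lt.v, Lt.z, Lt.q, Lt.z, Lt.v, Lt.q, Lt.v, Lt.q] 20 3 false (by decide +kernel) h
    · rcases brec_true h with h | h
      · exact H9.TCY.mRelD_at (T := T) (by decide) hinv hr [Lt.q, Lt.y, Lt.z, Lt.q, Lt.z, Lt.yi, Lt.q, Lt.y, Lt.z, Lt.q, Lt.z, Lt.yi] 16 1 false (by decide +kernel) h
      · exact H9.TCY.mRelD_at (T := T) (by decide) hinv hr [Lt.q, Lt.z, Lt.q, Lt.z, Lt.yi, Lt.z, Lt.q, Lt.z, Lt.q, Lt.v, Lt.y, Lt.v] 13 1 false (by decide +kernel) h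
theorem dM_35_s (hinv : ∀ x, g (inv x) = (g x)⁻¹) (hr : ∀ r ∈ rels, (r.map g).prod = 1) (j z1 z2 u : ℕ) (h : dM_35 j z1 z2 u = true) : GoodM (fa g) T MG M (cP g H) u := by
  unfold dM_35 at h
  rcases brec_true h with h | h
  · exact dM_33_s hinv hr j z1 z2 u h
  · exact dM_34_s hinv hr j z1 z2 u h
theorem dM_36_s (hinv : ∀ x, g (inv x) = (g x)⁻¹) (hr : ∀ r ∈ rels, (r.map g).prod = 1) (j z1 z2 u : ℕ) (h : dM_36 j z1 z2 u = true) : GoodM (fa g) T MG M (cP g H) u := by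
  unfold dM_36 at h
  rcases brec_true h with h | h
  · rcases brec_true h with h | h
    · exact H9.TCY.mRelD_at (T := T) (by decide) hinv hr [Lt.z, Lt.v, Lt.z, Lt.v, Lt.z, Lt.q, Lt.z, Lt.v, Lt.q, Lt.v, Lt.q, Lt.v, Lt.z, Lt.q] 20 6 false (by decide +kernel) h
    · rcases brec_true h with h | h
      · exact H9.TCY.mRelD_at (T := T) (by decide) hinv hr [Lt.yi, Lt.z, Lt.yi, Lt.z, Lt.y, Lt.z, Lt.yi, Lt.yi, Lt.q, Lt.yi, Lt.yi, Lt.z, Lt.y, Lt.z, Lt.yi, Lt.z, Lt.yi, Lt.q] 41 12 false (by decide +kernel) h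
      · exact H9.TCY.mRelD_at (T := T) (by decide) hinv hr [Lt.y, Lt.z, Lt.q, Lt.y, Lt.z, Lt.yi, Lt.q, Lt.z, Lt.yi, Lt.yi, Lt.z, Lt.q, Lt.yi, Lt.z, Lt.y, Lt.q, Lt.z, Lt.y] 37 10 false (by decide +kernel) h
  · rcases brec_true h with h | h
    · rcases brec_true h with h | h
      · exact H9.TCY.mRelD_at (T := T) (by decide) hinv hr [Lt.v, Lt.z, Lt.v, Lt.z, Lt.q, Lt.z, Lt.v, Lt.q, Lt.v, Lt.q, Lt.v, Lt.z, Lt.q, Lt.z] 20 7 false (by decide +kernel) h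
      · exact H9.TCY.mRelD_at (T := T) (by decide) hinv hr [Lt.y, Lt.z, Lt.y, Lt.q, Lt.y, Lt.z, Lt.y, Lt.z, Lt.yi, Lt.z, Lt.y, Lt.y, Lt.q, Lt.y, Lt.y, Lt.z, Lt.yi, Lt.z] 41 3 true (by decide +kernel) h
    · rcases brec_true h with h | h
      · exact H9.TCY.mRelD_at (T := T) (by decide) hinv hr [Lt.yi, Lt.q, Lt.yi, Lt.z, Lt.yi, Lt.z, Lt.y, Lt.z, Lt.yi, Lt.yi, Lt.q, Lt.yi, Lt.yi, Lt.z, Lt.y, Lt.z, Lt.yi, Lt.z] 41 10 false (by decide +kernel) h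
      · exact H9.TCY.mRelD_at (T := T) (by decide) hinv hr [Lt.q, Lt.z, Lt.q, Lt.z, Lt.y, Lt.z, Lt.q, Lt.z, Lt.q, Lt.v, Lt.yi, Lt.v] 13 2 true (by decide +kernel) h
theorem dM_37_s (hinv : ∀ x, g (inv x) = (g x)⁻¹) (hr : ∀ r ∈ rels, (r.map g).prod = 1) (j z1 z2 u : ℕ) (h : dM_37 j z1 z2 u = true) : GoodM (fa g) T MG M (cP g H) u := by
  unfold dM_37 at h
  rcases brec_true h with h | h
  · rcases brec_true h with h | h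
    · rcases brec_true h with h | h
      · exact H9.TCY.mRelD_at (T := T) (by decide) hinv hr [Lt.z, Lt.q, Lt.z, Lt.y, Lt.z, Lt.q, Lt.z, Lt.q, Lt.v, Lt.yi, Lt.v, Lt.q] 13 3 true (by decide +kernel) h
      · exact H9.TCY.mRelD_at (T := T) (by decide) hinv hr [Lt.v, Lt.yi, Lt.v, Lt.q, Lt.z, Lt.q, Lt.z, Lt.y, Lt.z, Lt.q, Lt.z, Lt.q] 13 11 true (by decide +kernel) h
    · rcases brec_true h with h | h
      · exact H9.TCY.mRelD_at (T := T) (by decide) hinv hr [Lt.q, Lt.yi, Lt.yi, Lt.yi, Lt.q, Lt.yi, Lt.yi, Lt.yi, Lt.q, Lt.y, Lt.y, Lt.y, Lt.q, Lt.yi, Lt.yi, Lt.yi] 30 3 false (by decide +kernel) h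
      · exact H9.TCY.mRelD_at (T := T) (by decide) hinv hr [Lt.y, Lt.z, Lt.q, Lt.y, Lt.y, Lt.q, Lt.z, Lt.y, Lt.z, Lt.yi, Lt.z, Lt.q, Lt.yi, Lt.yi, Lt.q, Lt.z, Lt.yi, Lt.z] 39 6 false (by decide +kernel) h
  · rcases brec_true h with h | h
    · rcases brec_true h with h | h
      · exact H9.TCY.mRelD_at (T := T) (by decide) hinv hr [Lt.z, Lt.q, Lt.z, Lt.yi, Lt.z, Lt.q, Lt.z, Lt.q, Lt.v, Lt.y, Lt.v, Lt.q] 13 2 false (by decide +kernel) h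
      · exact H9.TCY.mRelD_at (T := T) (by decide) hinv hr [Lt.q, Lt.z, Lt.q, Lt.z, Lt.y, Lt.y, Lt.y, Lt.q, Lt.z, Lt.q, Lt.z, Lt.y, Lt.y, Lt.y] 21 0 true (by decide +kernel) h
    · rcases brec_true h with h | h
      · exact H9.TCY.mRelD_at (T := T) (by decide) hinv hr [Lt.y, Lt.y, Lt.q, Lt.z, Lt.y, Lt.z, Lt.yi, Lt.z, Lt.q, Lt.yi, Lt.yi, Lt.q, Lt.z, Lt.yi, Lt.z, Lt.y, Lt.z, Lt.q] 39 9 false (by decide +kernel) h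
      · exact H9.TCY.mRelD_at (T := T) (by decide) hinv hr [Lt.q, Lt.z, Lt.v, Lt.q, Lt.v, Lt.q, Lt.v, Lt.z, Lt.q, Lt.z, Lt.v, Lt.z, Lt.v, Lt.z] 20 11 false (by decide +kernel) h
theorem dM_38_s (hinv : ∀ x, g (inv x) = (g x)⁻¹) (hr : ∀ r ∈ rels, (r.map g).prod = 1) (j z1 z2 u : ℕ) (h : dM_38 j z1 z2 u = true) : GoodM (fa g) T MG M (cP g H) u := by
  unfold dM_38 at h
  rcases brec_true h with h | h
  · exact dM_36_s hinv hr j z1 z2 u h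
  · exact dM_37_s hinv hr j z1 z2 u h
theorem dM_39_s (hinv : ∀ x, g (inv x) = (g x)⁻¹) (hr : ∀ r ∈ rels, (r.map g).prod = 1) (j z1 z2 u : ℕ) (h : dM_39 j z1 z2 u = true) : GoodM (fa g) T MG M (cP g H) u := by
  unfold dM_39 at h
  rcases brec_true h with h | h
  · exact dM_35_s hinv hr j z1 z2 u h
  · exact dM_38_s hinv hr j z1 z2 u h
theorem dM_40_s (hinv : ∀ x, g (inv x) = (g x)⁻¹) (hr : ∀ r ∈ rels, (r.map g).prod = 1) (j z1 z2 u : ℕ) (h : dM_40 j z1 z2 u = true) : GoodM (fa g) T MG M (cP g H) u := by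
  unfold dM_40 at h
  rcases brec_true h with h | h
  · rcases brec_true h with h | h
    · rcases brec_true h with h | h
      · exact H9.TCY.mRelD_at (T := T) (by decide) hinv hr [Lt.v, Lt.y, Lt.v, Lt.q, Lt.z, Lt.q, Lt.z, Lt.yi, Lt.z, Lt.q, Lt.z, Lt.q] 13 10 false (by decide +kernel) h
      · exact H9.TCY.mRelD_at (T := T) (by decide) hinv hr [Lt.yi, Lt.z, Lt.q, Lt.yi, Lt.yi, Lt.q, Lt.z, Lt.yi, Lt.z, Lt.y, Lt.z, Lt.q, Lt.y, Lt.y, Lt.q, Lt.z, Lt.y, Lt.z] 39 15 false (by decide +kernel) h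
    · rcases brec_true h with h | h
      · exact H9.TCY.mRelD_at (T := T) (by decide) hinv hr [Lt.yi, Lt.z, Lt.yi, Lt.q, Lt.yi, Lt.z, Lt.yi, Lt.z, Lt.y, Lt.z, Lt.yi, Lt.yi, Lt.q, Lt.yi, Lt.yi, Lt.z, Lt.y, Lt.z] 41 8 false (by decide +kernel) h
      · exact H9.TCY.mRelD_at (T := T) (by decide) hinv hr [Lt.q, Lt.z, Lt.yi, Lt.z, Lt.y, Lt.z, Lt.q, Lt.y, Lt.y, Lt.q, Lt.z, Lt.y, Lt.z, Lt.yi, Lt.z, Lt.q, Lt.yi, Lt.yi] 39 2 false (by decide +kernel) h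
  · rcases brec_true h with h | h
    · rcases brec_true h with h | h
      · exact H9.TCY.mRelD_at (T := T) (by decide) hinv hr [Lt.q, Lt.z, Lt.y, Lt.q, Lt.yi, Lt.z, Lt.q, Lt.z, Lt.y, Lt.q, Lt.yi, Lt.z] 15 2 false (by decide +kernel) h
      · exact H9.TCY.mRelD_at (T := T) (by decide) hinv hr [Lt.q, Lt.z, Lt.y, Lt.q, Lt.yi, Lt.q, Lt.z, Lt.y, Lt.z, Lt.q, Lt.yi, Lt.q, Lt.y, Lt.z, Lt.q, Lt.yi] 23 3 true (by decide +kernel) h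
    · rcases brec_true h with h | h
      · exact H9.TCY.mRelD_at (T := T) (by decide) hinv hr [Lt.q, Lt.z, Lt.yi, Lt.q, Lt.y, Lt.z, Lt.q, Lt.z, Lt.yi, Lt.q, Lt.y, Lt.z] 16 4 false (by decide +kernel) h
      · exact H9.TCY.mRelD_at (T := T) (by decide) hinv hr [Lt.z, Lt.q, Lt.y, Lt.y, Lt.q, Lt.z, Lt.y, Lt.z, Lt.yi, Lt.z, Lt.q, Lt.yi, Lt.yi, Lt.q, Lt.z, Lt.yi, Lt.z, Lt.y] 39 7 false (by decide +kernel) h
theorem dM_41_s (hinv : ∀ x, g (inv x) = (g x)⁻¹) (hr : ∀ r ∈ rels, (r.map g).prod = 1) (j z1 z2 u : ℕ) (h : dM_41 j z1 z2 u = true) : GoodM (fa g) T MG M (cP g H) u := by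
  unfold dM_41 at h
  rcases brec_true h with h | h
  · rcases brec_true h with h | h
    · rcases brec_true h with h | h
      · exact H9.TCY.mRelD_at (T := T) (by decide) hinv hr [Lt.z, Lt.yi, Lt.z, Lt.y, Lt.z, Lt.y, Lt.q, Lt.y, Lt.z, Lt.y, Lt.z, Lt.yi, Lt.z, Lt.y, Lt.y, Lt.q, Lt.y, Lt.y] 41 0 true (by decide +kernel) h
      · exact H9.TCY.mRelD_at (T := T) (by decide) hinv hr [Lt.yi, Lt.yi, Lt.q, Lt.z, Lt.yi, Lt.z, Lt.y, Lt.z, Lt.q, Lt.y, Lt.y, Lt.q, Lt.z, Lt.y, Lt.z, Lt.yi, Lt.z, Lt.q] 39 0 false (by decide +kernel) h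
    · rcases brec_true h with h | h
      · exact H9.TCY.mRelD_at (T := T) (by decide) hinv hr [Lt.yi, Lt.q, Lt.y, Lt.q, Lt.z, Lt.yi, Lt.z, Lt.q, Lt.y, Lt.q, Lt.yi, Lt.z, Lt.q, Lt.y, Lt.q, Lt.z] 23 0 false (by decide +kernel) h
      · exact H9.TCY.mRelD_at (T := T) (by decide) hinv hr [Lt.q, Lt.z, Lt.y, Lt.z, Lt.yi, Lt.z, Lt.q, Lt.yi, Lt.yi, Lt.q, Lt.z, Lt.yi, Lt.z, Lt.y, Lt.z, Lt.q, Lt.y, Lt.y] 39 11 false (by decide +kernel) h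
  · rcases brec_true h with h | h
    · rcases brec_true h with h | h
      · exact H9.TCY.mRelD_at (T := T) (by decide) hinv hr [Lt.z, Lt.yi, Lt.yi, Lt.z, Lt.q, Lt.yi, Lt.z, Lt.y, Lt.q, Lt.z, Lt.y, Lt.y, Lt.z, Lt.q, Lt.y, Lt.z, Lt.yi, Lt.q] 37 17 false (by decide +kernel) h
      · exact H9.TCY.mRelD_at (T := T) (by decide) hinv hr [Lt.z, Lt.yi, Lt.z, Lt.y, Lt.z, Lt.yi, Lt.yi, Lt.q, Lt.yi, Lt.yi, Lt.z, Lt.y, Lt.z, Lt.yi, Lt.z, Lt.yi, Lt.q, Lt.yi] 41 13 false (by decide +kernel) h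
    · rcases brec_true h with h | h
      · exact H9.TCY.mRelD_at (T := T) (by decide) hinv hr [Lt.yi, Lt.z, Lt.q, Lt.z, Lt.q, Lt.yi, Lt.yi, Lt.yi, Lt.z, Lt.q, Lt.z, Lt.q, Lt.yi, Lt.yi] 21 2 false (by decide +kernel) h
      · exact H9.TCY.mRelD_at (T := T) (by decide) hinv hr [Lt.y, Lt.z, Lt.yi, Lt.z, Lt.yi, Lt.q, Lt.yi, Lt.z, Lt.yi, Lt.z, Lt.y, Lt.z, Lt.yi, Lt.yi, Lt.q, Lt.yi, Lt.yi, Lt.z] 41 6 false (by decide +kernel) h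
theorem dM_42_s (hinv : ∀ x, g (inv x) = (g x)⁻¹) (hr : ∀ r ∈ rels, (r.map g).prod = 1) (j z1 z2 u : ℕ) (h : dM_42 j z1 z2 u = true) : GoodM (fa g) T MG M (cP g H) u := by
  unfold dM_42 at h
  rcases brec_true h with h | h
  · exact dM_40_s hinv hr j z1 z2 u h
  · exact dM_41_s hinv hr j z1 z2 u h
theorem dM_43_s (hinv : ∀ x, g (inv x) = (g x)⁻¹) (hr : ∀ r ∈ rels, (r.map g).prod = 1) (j z1 z2 u : ℕ) (h : dM_43 j z1 z2 u = true) : GoodM (fa g) T MG M (cP g H) u := by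
  unfold dM_43 at h
  rcases brec_true h with h | h
  · rcases brec_true h with h | h
    · rcases brec_true h with h | h
      · exact H9.TCY.mRelD_at (T := T) (by decide) hinv hr [Lt.y, Lt.q, Lt.yi, Lt.q, Lt.z, Lt.y, Lt.z, Lt.q, Lt.yi, Lt.q, Lt.y, Lt.z, Lt.q, Lt.yi, Lt.q, Lt.z] 23 5 true (by decide +kernel) h
      · exact H9.TCY.mRelD_at (T := T) (by decide) hinv hr [Lt.z, Lt.q, Lt.z, Lt.q, Lt.v, Lt.y, Lt.v, Lt.q, Lt.z, Lt.q, Lt.z, Lt.yi] 13 6 false (by decide +kernel) h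
    · rcases brec_true h with h | h
      · exact H9.TCY.mRelD_at (T := T) (by decide) hinv hr [Lt.y, Lt.y, Lt.y, Lt.q, Lt.yi, Lt.yi, Lt.yi, Lt.q, Lt.yi, Lt.yi, Lt.yi, Lt.q, Lt.yi, Lt.yi, Lt.yi, Lt.q] 30 12 false (by decide +kernel) h
      · exact H9.TCY.mRelD_at (T := T) (by decide) hinv hr [Lt.z, Lt.q, Lt.z, Lt.y, Lt.q, Lt.yi, Lt.z, Lt.q, Lt.z, Lt.y, Lt.q, Lt.yi] 15 1 false (by decide +kernel) h
  · rcases brec_true h with h | h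
    · rcases brec_true h with h | h
      · exact H9.TCY.mRelD_at (T := T) (by decide) hinv hr [Lt.z, Lt.y, Lt.q, Lt.yi, Lt.z, Lt.q, Lt.z, Lt.y, Lt.q, Lt.yi, Lt.z, Lt.q] 15 3 false (by decide +kernel) h
      · exact H9.TCY.mRelD_at (T := T) (by decide) hinv hr [Lt.q, Lt.z, Lt.yi, Lt.yi, Lt.z, Lt.q, Lt.yi, Lt.z, Lt.y, Lt.q, Lt.z, Lt.y, Lt.y, Lt.z, Lt.q, Lt.y, Lt.z, Lt.yi] 37 16 false (by decide +kernel) h
    · rcases brec_true h with h | h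
      · exact H9.TCY.mRelD_at (T := T) (by decide) hinv hr [Lt.z, Lt.q, Lt.v, Lt.q, Lt.z, Lt.v, Lt.z, Lt.q, Lt.z, Lt.q, Lt.v] 11 7 true (by decide +kernel) h
      · exact H9.TCY.mRelD_at (T := T) (by decide) hinv hr [Lt.z, Lt.q, Lt.z, Lt.v, Lt.q, Lt.v, Lt.q, Lt.v, Lt.z, Lt.q, Lt.z, Lt.v, Lt.z, Lt.v] 20 10 false (by decide +kernel) h
theorem dM_44_s (hinv : ∀ x, g (inv x) = (g x)⁻¹) (hr : ∀ r ∈ rels, (r.map g).prod = 1) (j z1 z2 u : ℕ) (h : dM_44 j z1 z2 u = true) : GoodM (fa g) T MG M (cP g H) u := by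
  unfold dM_44 at h
  rcases brec_true h with h | h
  · rcases brec_true h with h | h
    · rcases brec_true h with h | h
      · exact H9.TCY.mRelD_at (T := T) (by decide) hinv hr [Lt.yi, Lt.q, Lt.z, Lt.yi, Lt.z, Lt.y, Lt.z, Lt.q, Lt.y, Lt.y, Lt.q, Lt.z, Lt.y, Lt.z, Lt.yi, Lt.z, Lt.q, Lt.yi] 39 1 false (by decide +kernel) h
      · exact H9.TCY.mRelD_at (T := T) (by decide) hinv hr [Lt.z, Lt.q, Lt.yi, Lt.q, Lt.z, Lt.y, Lt.q, Lt.yi, Lt.q, Lt.z, Lt.y, Lt.z, Lt.q, Lt.yi, Lt.q, Lt.y] 23 0 true (by decide +kernel) h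
    · rcases brec_true h with h | h
      · exact H9.TCY.mRelD_at (T := T) (by decide) hinv hr [Lt.yi, Lt.z, Lt.y, Lt.z, Lt.yi, Lt.yi, Lt.q, Lt.yi, Lt.yi, Lt.z, Lt.y, Lt.z, Lt.yi, Lt.z, Lt.yi, Lt.q, Lt.yi, Lt.z] 41 14 false (by decide +kernel) h
      · exact H9.TCY.mRelD_at (T := T) (by decide) hinv hr [Lt.q, Lt.v, Lt.q, Lt.v, Lt.z, Lt.q, Lt.z, Lt.v, Lt.z, Lt.v, Lt.z, Lt.q, Lt.z, Lt.v] 20 0 false (by decide +kernel) h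
  · rcases brec_true h with h | h
    · rcases brec_true h with h | h
      · exact H9.TCY.mRelD_at (T := T) (by decide) hinv hr [Lt.z, Lt.yi, Lt.q, Lt.y, Lt.z, Lt.q, Lt.z, Lt.yi, Lt.q, Lt.y, Lt.z, Lt.q] 16 5 false (by decide +kernel) h
      · exact H9.TCY.mRelD_at (T := T) (by decide) hinv hr [Lt.q, Lt.z, Lt.v, Lt.z, Lt.q, Lt.z, Lt.q, Lt.v, Lt.z, Lt.q, Lt.v] 11 10 true (by decide +kernel) h
    · rcases brec_true h with h | h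
      · exact H9.TCY.mRelD_at (T := T) (by decide) hinv hr [Lt.q, Lt.z, Lt.v, Lt.z, Lt.v, Lt.z, Lt.q, Lt.z, Lt.v, Lt.q, Lt.v, Lt.q, Lt.v, Lt.z] 20 5 false (by decide +kernel) h
      · rcases brec_true h with h | h
        · exact H9.TCY.mRelD_at (T := T) (by decide) hinv hr [Lt.q, Lt.y, Lt.q, Lt.z, Lt.yi, Lt.q, Lt.y, Lt.q, Lt.z, Lt.yi, Lt.z, Lt.q, Lt.y, Lt.q, Lt.yi, Lt.z] 23 12 false (by decide +kernel) h
        · exact H9.TCY.mRelD_at (T := T) (by decide) hinv hr [Lt.v, Lt.q, Lt.z, Lt.q, Lt.z, Lt.y, Lt.z, Lt.q, Lt.z, Lt.q, Lt.v, Lt.yi] 13 1 true (by decide +kernel) h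
theorem dM_45_s (hinv : ∀ x, g (inv x) = (g x)⁻¹) (hr : ∀ r ∈ rels, (r.map g).prod = 1) (j z1 z2 u : ℕ) (h : dM_45 j z1 z2 u = true) : GoodM (fa g) T MG M (cP g H) u := by
  unfold dM_45 at h
  rcases brec_true h with h | h
  · exact dM_43_s hinv hr j z1 z2 u h
  · exact dM_44_s hinv hr j z1 z2 u h
theorem dM_46_s (hinv : ∀ x, g (inv x) = (g x)⁻¹) (hr : ∀ r ∈ rels, (r.map g).prod = 1) (j z1 z2 u : ℕ) (h : dM_46 j z1 z2 u = true) : GoodM (fa g) T MG M (cP g H) u := by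
  unfold dM_46 at h
  rcases brec_true h with h | h
  · exact dM_42_s hinv hr j z1 z2 u h
  · exact dM_45_s hinv hr j z1 z2 u h
theorem dM_47_s (hinv : ∀ x, g (inv x) = (g x)⁻¹) (hr : ∀ r ∈ rels, (r.map g).prod = 1) (j z1 z2 u : ℕ) (h : dM_47 j z1 z2 u = true) : GoodM (fa g) T MG M (cP g H) u := by
  unfold dM_47 at h
  rcases brec_true h with h | h
  · exact dM_39_s hinv hr j z1 z2 u h
  · exact dM_46_s hinv hr j z1 z2 u h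
theorem dM_48_s (hinv : ∀ x, g (inv x) = (g x)⁻¹) (hr : ∀ r ∈ rels, (r.map g).prod = 1) (j z1 z2 u : ℕ) (h : dM_48 j z1 z2 u = true) : GoodM (fa g) T MG M (cP g H) u := by
  unfold dM_48 at h
  rcases brec_true h with h | h
  · rcases brec_true h with h | h
    · rcases brec_true h with h | h
      · exact H9.TCY.mRelD_at (T := T) (by decide) hinv hr [Lt.v, Lt.q, Lt.z, Lt.q, Lt.z, Lt.yi, Lt.z, Lt.q, Lt.z, Lt.q, Lt.v, Lt.y] 13 0 false (by decide +kernel) h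
      · exact H9.TCY.mRelD_at (T := T) (by decide) hinv hr [Lt.q, Lt.v, Lt.z, Lt.q, Lt.z, Lt.v, Lt.z, Lt.v, Lt.z, Lt.q, Lt.z, Lt.v, Lt.q, Lt.v] 20 2 false (by decide +kernel) h
    · rcases brec_true h with h | h
      · exact H9.TCY.mRelD_at (T := T) (by decide) hinv hr [Lt.q, Lt.z, Lt.q, Lt.yi, Lt.yi, Lt.yi, Lt.z, Lt.q, Lt.z, Lt.q, Lt.yi, Lt.yi, Lt.yi, Lt.z] 21 4 false (by decide +kernel) h
      · exact H9.TCY.mRelD_at (T := T) (by decide) hinv hr [Lt.z, Lt.y, Lt.z, Lt.yi, Lt.yi, Lt.q, Lt.yi, Lt.yi, Lt.z, Lt.y, Lt.z, Lt.yi, Lt.z, Lt.yi, Lt.q, Lt.yi, Lt.z, Lt.yi] 41 15 false (by decide +kernel) h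
  · rcases brec_true h with h | h
    · rcases brec_true h with h | h
      · exact H9.TCY.mRelD_at (T := T) (by decide) hinv hr [Lt.v, Lt.q, Lt.z, Lt.v, Lt.z, Lt.q, Lt.z, Lt.q, Lt.v, Lt.z, Lt.q] 11 9 true (by decide +kernel) h
      · exact H9.TCY.mRelD_at (T := T) (by decide) hinv hr [Lt.z, Lt.y, Lt.z, Lt.yi, Lt.z, Lt.y, Lt.y, Lt.q, Lt.y, Lt.y, Lt.z, Lt.yi, Lt.z, Lt.y, Lt.z, Lt.y, Lt.q, Lt.y] 41 8 true (by decide +kernel) h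
    · rcases brec_true h with h | h
      · exact H9.TCY.mRelD_at (T := T) (by decide) hinv hr [Lt.z, Lt.q, Lt.z, Lt.yi, Lt.q, Lt.y, Lt.z, Lt.q, Lt.z, Lt.yi, Lt.q, Lt.y] 16 3 false (by decide +kernel) h
      · rcases brec_true h with h | h
        · exact H9.TCY.mRelD_at (T := T) (by decide) hinv hr [Lt.z, Lt.q, Lt.y, Lt.z, Lt.yi, Lt.q, Lt.z, Lt.yi, Lt.yi, Lt.z, Lt.q, Lt.yi, Lt.z, Lt.y, Lt.q, Lt.z, Lt.y, Lt.y] 37 11 false (by decide +kernel) h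
        · exact H9.TCY.mRelD_at (T := T) (by decide) hinv hr [Lt.z, Lt.q, Lt.y, Lt.y, Lt.z, Lt.q, Lt.y, Lt.z, Lt.yi, Lt.z, Lt.q, Lt.yi, Lt.yi, Lt.z, Lt.q, Lt.yi, Lt.z, Lt.y] 40 14 true (by decide +kernel) h
theorem dM_49_s (hinv : ∀ x, g (inv x) = (g x)⁻¹) (hr : ∀ r ∈ rels, (r.map g).prod = 1) (j z1 z2 u : ℕ) (h : dM_49 j z1 z2 u = true) : GoodM (fa g) T MG M (cP g H) u := by
  unfold dM_49 at h
  rcases brec_true h with h | h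
  · rcases brec_true h with h | h
    · rcases brec_true h with h | h
      · exact H9.TCY.mRelD_at (T := T) (by decide) hinv hr [Lt.z, Lt.v, Lt.z, Lt.q, Lt.z, Lt.v, Lt.q, Lt.v, Lt.q, Lt.v, Lt.z, Lt.q, Lt.z, Lt.v] 20 8 false (by decide +kernel) h
      · exact H9.TCY.mRelD_at (T := T) (by decide) hinv hr [Lt.yi, Lt.yi, Lt.yi, Lt.z, Lt.q, Lt.z, Lt.q, Lt.yi, Lt.yi, Lt.yi, Lt.z, Lt.q, Lt.z, Lt.q] 21 0 false (by decide +kernel) h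
    · rcases brec_true h with h | h
      · exact H9.TCY.mRelD_at (T := T) (by decide) hinv hr [Lt.z, Lt.yi, Lt.z, Lt.yi, Lt.q, Lt.yi, Lt.z, Lt.yi, Lt.z, Lt.y, Lt.z, Lt.yi, Lt.yi, Lt.q, Lt.yi, Lt.yi, Lt.z, Lt.y] 41 7 false (by decide +kernel) h
      · exact H9.TCY.mRelD_at (T := T) (by decide) hinv hr [Lt.z, Lt.q, Lt.v, Lt.y, Lt.v, Lt.q, Lt.z, Lt.q, Lt.z, Lt.yi, Lt.z, Lt.q] 13 8 false (by decide +kernel) h
  · rcases brec_true h with h | h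
    · rcases brec_true h with h | h
      · exact H9.TCY.mRelD_at (T := T) (by decide) hinv hr [Lt.z, Lt.yi, Lt.z, Lt.y, Lt.y, Lt.q, Lt.y, Lt.y, Lt.z, Lt.yi, Lt.z, Lt.y, Lt.z, Lt.y, Lt.q, Lt.y, Lt.z, Lt.y] 41 10 true (by decide +kernel) h
      · exact H9.TCY.mRelD_at (T := T) (by decide) hinv hr [Lt.z, Lt.q, Lt.yi, Lt.yi, Lt.q, Lt.z, Lt.yi, Lt.z, Lt.y, Lt.z, Lt.q, Lt.y, Lt.y, Lt.q, Lt.z, Lt.y, Lt.z, Lt.yi] 39 16 false (by decide +kernel) h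
    · rcases brec_true h with h | h
      · exact H9.TCY.mRelD_at (T := T) (by decide) hinv hr [Lt.yi, Lt.yi, Lt.q, Lt.y, Lt.y, Lt.z, Lt.q, Lt.z, Lt.yi, Lt.yi, Lt.q, Lt.y, Lt.y, Lt.z, Lt.q, Lt.z] 33 0 false (by decide +kernel) h
      · rcases brec_true h with h | h
        · exact H9.TCY.mRelD_at (T := T) (by decide) hinv hr [Lt.yi, Lt.z, Lt.y, Lt.y, Lt.q, Lt.y, Lt.y, Lt.z, Lt.yi, Lt.z, Lt.y, Lt.z, Lt.y, Lt.q, Lt.y, Lt.z, Lt.y, Lt.z] 41 11 true (by decide +kernel) h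
        · exact H9.TCY.mRelD_at (T := T) (by decide) hinv hr [Lt.z, Lt.y, Lt.y, Lt.z, Lt.q, Lt.y, Lt.z, Lt.yi, Lt.q, Lt.z, Lt.yi, Lt.yi, Lt.z, Lt.q, Lt.yi, Lt.z, Lt.y, Lt.q] 37 8 false (by decide +kernel) h
theorem dM_50_s (hinv : ∀ x, g (inv x) = (g x)⁻¹) (hr : ∀ r ∈ rels, (r.map g).prod = 1) (j z1 z2 u : ℕ) (h : dM_50 j z1 z2 u = true) : GoodM (fa g) T MG M (cP g H) u := by
  unfold dM_50 at h
  rcases brec_true h with h | h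
  · exact dM_48_s hinv hr j z1 z2 u h
  · exact dM_49_s hinv hr j z1 z2 u h
theorem dM_51_s (hinv : ∀ x, g (inv x) = (g x)⁻¹) (hr : ∀ r ∈ rels, (r.map g).prod = 1) (j z1 z2 u : ℕ) (h : dM_51 j z1 z2 u = true) : GoodM (fa g) T MG M (cP g H) u := by
  unfold dM_51 at h
  rcases brec_true h with h | h
  · rcases brec_true h with h | h
    · rcases brec_true h with h | h
      · exact H9.TCY.mRelD_at (T := T) (by decide) hinv hr [Lt.y, Lt.z, Lt.q, Lt.z, Lt.yi, Lt.yi, Lt.q, Lt.y, Lt.y, Lt.z, Lt.q, Lt.z, Lt.yi, Lt.yi, Lt.q, Lt.y] 33 4 false (by decide +kernel) h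
      · exact H9.TCY.mRelD_at (T := T) (by decide) hinv hr [Lt.yi, Lt.z, Lt.y, Lt.z, Lt.y, Lt.q, Lt.y, Lt.z, Lt.y, Lt.z, Lt.yi, Lt.z, Lt.y, Lt.y, Lt.q, Lt.y, Lt.y, Lt.z] 41 1 true (by decide +kernel) h
    · rcases brec_true h with h | h
      · exact H9.TCY.mRelD_at (T := T) (by decide) hinv hr [Lt.z, Lt.q, Lt.z, Lt.v, Lt.z, Lt.v, Lt.z, Lt.q, Lt.z, Lt.v, Lt.q, Lt.v, Lt.q, Lt.v] 20 4 false (by decide +kernel) h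
      · rcases brec_true h with h | h
        · exact H9.TCY.mRelD_at (T := T) (by decide) hinv hr [Lt.y, Lt.q, Lt.z, Lt.yi, Lt.q, Lt.y, Lt.q, Lt.z, Lt.yi, Lt.z, Lt.q, Lt.y, Lt.q, Lt.yi, Lt.z, Lt.q] 23 13 false (by decide +kernel) h
        · exact H9.TCY.mRelD_at (T := T) (by decide) hinv hr [Lt.z, Lt.q, Lt.yi, Lt.z, Lt.y, Lt.q, Lt.z, Lt.y, Lt.y, Lt.z, Lt.q, Lt.y, Lt.z, Lt.yi, Lt.q, Lt.z, Lt.yi, Lt.yi] 37 2 false (by decide +kernel) h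
  · rcases brec_true h with h | h
    · rcases brec_true h with h | h
      · exact H9.TCY.mRelD_at (T := T) (by decide) hinv hr [Lt.z, Lt.q, Lt.y, Lt.z, Lt.yi, Lt.z, Lt.q, Lt.y, Lt.q, Lt.z, Lt.yi, Lt.z, Lt.y, Lt.q, Lt.z, Lt.yi] 28 8 true (by decide +kernel) h
      · exact H9.TCY.mRelD_at (T := T) (by decide) hinv hr [Lt.y, Lt.z, Lt.yi, Lt.z, Lt.y, Lt.y, Lt.q, Lt.y, Lt.y, Lt.z, Lt.yi, Lt.z, Lt.y, Lt.z, Lt.y, Lt.q, Lt.y, Lt.z] 41 9 true (by decide +kernel) h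
    · rcases brec_true h with h | h
      · exact H9.TCY.mRelD_at (T := T) (by decide) hinv hr [Lt.q, Lt.yi, Lt.yi, Lt.q, Lt.z, Lt.yi, Lt.z, Lt.y, Lt.z, Lt.q, Lt.y, Lt.y, Lt.q, Lt.z, Lt.y, Lt.z, Lt.yi, Lt.z] 39 17 false (by decide +kernel) h
      · rcases brec_true h with h | h
        · exact H9.TCY.mRelD_at (T := T) (by decide) hinv hr [Lt.z, Lt.q, Lt.y, Lt.q, Lt.z, Lt.yi, Lt.q, Lt.y, Lt.q, Lt.z, Lt.yi, Lt.z, Lt.q, Lt.y, Lt.q, Lt.yi] 23 11 false (by decide +kernel) h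
        · exact H9.TCY.mRelD_at (T := T) (by decide) hinv hr [Lt.z, Lt.q, Lt.y, Lt.z, Lt.yi, Lt.z, Lt.q, Lt.yi, Lt.yi, Lt.z, Lt.q, Lt.yi, Lt.z, Lt.y, Lt.z, Lt.q, Lt.y, Lt.y] 40 0 true (by decide +kernel) h
theorem dM_52_s (hinv : ∀ x, g (inv x) = (g x)⁻¹) (hr : ∀ r ∈ rels, (r.map g).prod = 1) (j z1 z2 u : ℕ) (h : dM_52 j z1 z2 u = true) : GoodM (fa g) T MG M (cP g H) u := by
  unfold dM_52 at h
  rcases brec_true h with h | h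
  · rcases brec_true h with h | h
    · rcases brec_true h with h | h
      · exact H9.TCY.mRelD_at (T := T) (by decide) hinv hr [Lt.q, Lt.z, Lt.y, Lt.y, Lt.z, Lt.q, Lt.y, Lt.z, Lt.yi, Lt.q, Lt.z, Lt.yi, Lt.yi, Lt.z, Lt.q, Lt.yi, Lt.z, Lt.y] 37 7 false (by decide +kernel) h
      · exact H9.TCY.mRelD_at (T := T) (by decide) hinv hr [Lt.z, Lt.v, Lt.z, Lt.q, Lt.z, Lt.q, Lt.v, Lt.z, Lt.q, Lt.v, Lt.q] 11 0 true (by decide +kernel) h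
    · rcases brec_true h with h | h
      · exact H9.TCY.mRelD_at (T := T) (by decide) hinv hr [Lt.yi, Lt.q, Lt.z, Lt.y, Lt.q, Lt.yi, Lt.q, Lt.z, Lt.y, Lt.z, Lt.q, Lt.yi, Lt.q, Lt.y, Lt.z, Lt.q] 23 2 true (by decide +kernel) h
      · rcases brec_true h with h | h
        · exact H9.TCY.mRelD_at (T := T) (by decide) hinv hr [Lt.q, Lt.z, Lt.yi, Lt.q, Lt.y, Lt.q, Lt.z, Lt.yi, Lt.z, Lt.q, Lt.y, Lt.q, Lt.yi, Lt.z, Lt.q, Lt.y] 23 14 false (by decide +kernel) h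
        · exact H9.TCY.mRelD_at (T := T) (by decide) hinv hr [Lt.y, Lt.y, Lt.q, Lt.yi, Lt.yi, Lt.yi, Lt.q, Lt.yi, Lt.yi, Lt.yi, Lt.q, Lt.yi, Lt.yi, Lt.yi, Lt.q, Lt.y] 30 13 false (by decide +kernel) h
  · rcases brec_true h with h | h
    · rcases brec_true h with h | h
      · exact H9.TCY.mRelD_at (T := T) (by decide) hinv hr [Lt.y, Lt.z, Lt.q, Lt.z, Lt.q, Lt.v, Lt.yi, Lt.v, Lt.q, Lt.z, Lt.q, Lt.z] 13 6 true (by decide +kernel) h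
      · exact H9.TCY.mRelD_at (T := T) (by decide) hinv hr [Lt.q, Lt.z, Lt.y, Lt.z, Lt.yi, Lt.q, Lt.z, Lt.yi, Lt.yi, Lt.q, Lt.z, Lt.yi, Lt.z, Lt.y, Lt.q, Lt.z, Lt.y, Lt.y] 40 11 false (by decide +kernel) h
    · rcases brec_true h with h | h
      · exact H9.TCY.mRelD_at (T := T) (by decide) hinv hr [Lt.y, Lt.q, Lt.z, Lt.q, Lt.z, Lt.y, Lt.y, Lt.y, Lt.q, Lt.z, Lt.q, Lt.z, Lt.y, Lt.y] 21 6 true (by decide +kernel) h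
      · rcases brec_true h with h | h
        · exact H9.TCY.mRelD_at (T := T) (by decide) hinv hr [Lt.q, Lt.z, Lt.y, Lt.y, Lt.z, Lt.q, Lt.y, Lt.y, Lt.y, Lt.q, Lt.z, Lt.y, Lt.y, Lt.z, Lt.q, Lt.y, Lt.y, Lt.y, Lt.q, Lt.z, Lt.y, Lt.y, Lt.z, Lt.q, Lt.y, Lt.y, Lt.y] 47 0 false (by decide +kernel) h
        · exact H9.TCY.mRelD_at (T := T) (by decide) hinv hr [Lt.y, Lt.y, Lt.q, Lt.yi, Lt.yi, Lt.z, Lt.q, Lt.z, Lt.y, Lt.y, Lt.q, Lt.yi, Lt.yi, Lt.z, Lt.q, Lt.z] 34 5 false (by decide +kernel) h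
theorem dM_53_s (hinv : ∀ x, g (inv x) = (g x)⁻¹) (hr : ∀ r ∈ rels, (r.map g).prod = 1) (j z1 z2 u : ℕ) (h : dM_53 j z1 z2 u = true) : GoodM (fa g) T MG M (cP g H) u := by
  unfold dM_53 at h
  rcases brec_true h with h | h
  · exact dM_51_s hinv hr j z1 z2 u h
  · exact dM_52_s hinv hr j z1 z2 u h
theorem dM_54_s (hinv : ∀ x, g (inv x) = (g x)⁻¹) (hr : ∀ r ∈ rels, (r.map g).prod = 1) (j z1 z2 u : ℕ) (h : dM_54 j z1 z2 u = true) : GoodM (fa g) T MG M (cP g H) u := by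
  unfold dM_54 at h
  rcases brec_true h with h | h
  · exact dM_50_s hinv hr j z1 z2 u h
  · exact dM_53_s hinv hr j z1 z2 u h
theorem dM_55_s (hinv : ∀ x, g (inv x) = (g x)⁻¹) (hr : ∀ r ∈ rels, (r.map g).prod = 1) (j z1 z2 u : ℕ) (h : dM_55 j z1 z2 u = true) : GoodM (fa g) T MG M (cP g H) u := by
  unfold dM_55 at h
  rcases brec_true h with h | h
  · rcases brec_true h with h | h
    · rcases brec_true h with h | h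
      · exact H9.TCY.mRelD_at (T := T) (by decide) hinv hr [Lt.y, Lt.y, Lt.z, Lt.q, Lt.z, Lt.yi, Lt.yi, Lt.q, Lt.y, Lt.y, Lt.z, Lt.q, Lt.z, Lt.yi, Lt.yi, Lt.q] 33 3 false (by decide +kernel) h
      · exact H9.TCY.mRelD_at (T := T) (by decide) hinv hr [Lt.y, Lt.z, Lt.yi, Lt.yi, Lt.q, Lt.yi, Lt.yi, Lt.z, Lt.y, Lt.z, Lt.yi, Lt.z, Lt.yi, Lt.q, Lt.yi, Lt.z, Lt.yi, Lt.z] 41 16 false (by decide +kernel) h
    · rcases brec_true h with h | h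
      · exact H9.TCY.mRelD_at (T := T) (by decide) hinv hr [Lt.yi, Lt.z, Lt.y, Lt.q, Lt.z, Lt.y, Lt.y, Lt.q, Lt.z, Lt.y, Lt.z, Lt.yi, Lt.q, Lt.z, Lt.yi, Lt.yi, Lt.q, Lt.z] 40 4 false (by decide +kernel) h
      · rcases brec_true h with h | h
        · exact H9.TCY.mRelD_at (T := T) (by decide) hinv hr [Lt.q, Lt.z, Lt.q, Lt.v, Lt.yi, Lt.v, Lt.q, Lt.z, Lt.q, Lt.z, Lt.y, Lt.z] 13 8 true (by decide +kernel) h
        · exact H9.TCY.mRelD_at (T := T) (by decide) hinv hr [Lt.yi, Lt.z, Lt.q, Lt.z, Lt.y, Lt.y, Lt.q, Lt.yi, Lt.yi, Lt.z, Lt.q, Lt.z, Lt.y, Lt.y, Lt.q, Lt.yi] 34 1 false (by decide +kernel) h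
  · rcases brec_true h with h | h
    · rcases brec_true h with h | h
      · exact H9.TCY.mRelD_at (T := T) (by decide) hinv hr [Lt.q, Lt.v, Lt.q, Lt.z, Lt.v, Lt.z, Lt.q, Lt.z, Lt.q, Lt.v, Lt.z] 11 8 true (by decide +kernel) h
      · rcases brec_true h with h | h
        · exact H9.TCY.mRelD_at (T := T) (by decide) hinv hr [Lt.z, Lt.y, Lt.z, Lt.yi, Lt.z, Lt.q, Lt.yi, Lt.yi, Lt.q, Lt.z, Lt.yi, Lt.z, Lt.y, Lt.z, Lt.q, Lt.y, Lt.y, Lt.q] 39 12 false (by decide +kernel) h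
        · exact H9.TCY.mRelD_at (T := T) (by decide) hinv hr [Lt.y, Lt.y, Lt.q, Lt.z, Lt.y, Lt.y, Lt.z, Lt.q, Lt.y, Lt.y, Lt.y, Lt.q, Lt.z, Lt.y, Lt.y, Lt.z, Lt.q, Lt.y, Lt.y, Lt.y, Lt.q, Lt.z, Lt.y, Lt.y, Lt.z, Lt.q, Lt.y] 47 7 false (by decide +kernel) h
    · rcases brec_true h with h | h
      · exact H9.TCY.mRelD_at (T := T) (by decide) hinv hr [Lt.y, Lt.z, Lt.q, Lt.y, Lt.z, Lt.q, Lt.y, Lt.z, Lt.q, Lt.y, Lt.z, Lt.q, Lt.y, Lt.z, Lt.q, Lt.y, Lt.z, Lt.q, Lt.y, Lt.z, Lt.q, Lt.y, Lt.z, Lt.q] 44 2 false (by decide +kernel) h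
      · rcases brec_true h with h | h
        · exact H9.TCY.mRelD_at (T := T) (by decide) hinv hr [Lt.z, Lt.y, Lt.z, Lt.q, Lt.y, Lt.y, Lt.q, Lt.z, Lt.y, Lt.z, Lt.yi, Lt.z, Lt.q, Lt.yi, Lt.yi, Lt.q, Lt.z, Lt.yi] 39 5 false (by decide +kernel) h
        · exact H9.TCY.mRelD_at (T := T) (by decide) hinv hr [Lt.z, Lt.yi, Lt.z, Lt.y, Lt.q, Lt.z, Lt.y, Lt.y, Lt.q, Lt.z, Lt.y, Lt.z, Lt.yi, Lt.q, Lt.z, Lt.yi, Lt.yi, Lt.q] 40 3 false (by decide +kernel) h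
theorem dM_56_s (hinv : ∀ x, g (inv x) = (g x)⁻¹) (hr : ∀ r ∈ rels, (r.map g).prod = 1) (j z1 z2 u : ℕ) (h : dM_56 j z1 z2 u = true) : GoodM (fa g) T MG M (cP g H) u := by
  unfold dM_56 at h
  rcases brec_true h with h | h
  · rcases brec_true h with h | h
    · rcases brec_true h with h | h
      · exact H9.TCY.mRelD_at (T := T) (by decide) hinv hr [Lt.yi, Lt.z, Lt.y, Lt.z, Lt.q, Lt.y, Lt.y, Lt.q, Lt.z, Lt.y, Lt.z, Lt.yi, Lt.z, Lt.q, Lt.yi, Lt.yi, Lt.q, Lt.z] 39 4 false (by decide +kernel) h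
      · exact H9.TCY.mRelD_at (T := T) (by decide) hinv hr [Lt.yi, Lt.q, Lt.z, Lt.yi, Lt.z, Lt.y, Lt.q, Lt.z, Lt.y, Lt.y, Lt.q, Lt.z, Lt.y, Lt.z, Lt.yi, Lt.q, Lt.z, Lt.yi] 40 1 false (by decide +kernel) h
    · rcases brec_true h with h | h
      · exact H9.TCY.mRelD_at (T := T) (by decide) hinv hr [Lt.z, Lt.q, Lt.y, Lt.y, Lt.y, Lt.q, Lt.z, Lt.y, Lt.y, Lt.z, Lt.q, Lt.y, Lt.y, Lt.y, Lt.q, Lt.z, Lt.y, Lt.y, Lt.z, Lt.q, Lt.y, Lt.y, Lt.y, Lt.q, Lt.z, Lt.y, Lt.y] 47 4 false (by decide +kernel) h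
      · rcases brec_true h with h | h
        · exact H9.TCY.mRelD_at (T := T) (by decide) hinv hr [Lt.y, Lt.z, Lt.q, Lt.yi, Lt.z, Lt.y, Lt.z, Lt.q, Lt.yi, Lt.q, Lt.z, Lt.y, Lt.z, Lt.yi, Lt.q, Lt.z] 28 8 false (by decide +kernel) h
        · exact H9.TCY.mRelD_at (T := T) (by decide) hinv hr [Lt.z, Lt.yi, Lt.z, Lt.y, Lt.z, Lt.q, Lt.y, Lt.y, Lt.q, Lt.z, Lt.y, Lt.z, Lt.yi, Lt.z, Lt.q, Lt.yi, Lt.yi, Lt.q] 39 3 false (by decide +kernel) h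
  · rcases brec_true h with h | h
    · rcases brec_true h with h | h
      · exact H9.TCY.mRelD_at (T := T) (by decide) hinv hr [Lt.yi, Lt.yi, Lt.q, Lt.yi, Lt.q, Lt.y, Lt.y, Lt.q, Lt.y, Lt.y, Lt.y, Lt.q, Lt.yi, Lt.q, Lt.yi, Lt.q] 31 5 true (by decide +kernel) h
      · rcases brec_true h with h | h
        · exact H9.TCY.mRelD_at (T := T) (by decide) hinv hr [Lt.y, Lt.z, Lt.q, Lt.yi, Lt.z, Lt.y, Lt.q, Lt.z, Lt.yi, Lt.q, Lt.z, Lt.y, Lt.z, Lt.yi, Lt.z, Lt.q] 27 8 false (by decide +kernel) h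
        · exact H9.TCY.mRelD_at (T := T) (by decide) hinv hr [Lt.q, Lt.yi, Lt.yi, Lt.yi, Lt.z, Lt.q, Lt.z, Lt.q, Lt.yi, Lt.yi, Lt.yi, Lt.z, Lt.q, Lt.z] 21 6 false (by decide +kernel) h
    · rcases brec_true h with h | h
      · exact H9.TCY.mRelD_at (T := T) (by decide) hinv hr [Lt.yi, Lt.q, Lt.yi, Lt.yi, Lt.yi, Lt.q, Lt.yi, Lt.yi, Lt.yi, Lt.q, Lt.y, Lt.y, Lt.y, Lt.q, Lt.yi, Lt.yi] 30 2 false (by decide +kernel) h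
      · rcases brec_true h with h | h
        · exact H9.TCY.mRelD_at (T := T) (by decide) hinv hr [Lt.v, Lt.z, Lt.q, Lt.z, Lt.v, Lt.q, Lt.v, Lt.q, Lt.v, Lt.z, Lt.q, Lt.z, Lt.v, Lt.z] 20 9 false (by decide +kernel) h
        · exact H9.TCY.mRelD_at (T := T) (by decide) hinv hr [Lt.y, Lt.z, Lt.yi, Lt.z, Lt.q, Lt.yi, Lt.yi, Lt.q, Lt.z, Lt.yi, Lt.z, Lt.y, Lt.z, Lt.q, Lt.y, Lt.y, Lt.q, Lt.z] 39 13 false (by decide +kernel) h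
theorem dM_57_s (hinv : ∀ x, g (inv x) = (g x)⁻¹) (hr : ∀ r ∈ rels, (r.map g).prod = 1) (j z1 z2 u : ℕ) (h : dM_57 j z1 z2 u = true) : GoodM (fa g) T MG M (cP g H) u := by
  unfold dM_57 at h
  rcases brec_true h with h | h
  · exact dM_55_s hinv hr j z1 z2 u h
  · exact dM_56_s hinv hr j z1 z2 u h
theorem dM_58_s (hinv : ∀ x, g (inv x) = (g x)⁻¹) (hr : ∀ r ∈ rels, (r.map g).prod = 1) (j z1 z2 u : ℕ) (h : dM_58 j z1 z2 u = true) : GoodM (fa g) T MG M (cP g H) u := by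
  unfold dM_58 at h
  rcases brec_true h with h | h
  · rcases brec_true h with h | h
    · rcases brec_true h with h | h
      · exact H9.TCY.mRelD_at (T := T) (by decide) hinv hr [Lt.q, Lt.y, Lt.y, Lt.z, Lt.q, Lt.z, Lt.yi, Lt.yi, Lt.q, Lt.y, Lt.y, Lt.z, Lt.q, Lt.z, Lt.yi, Lt.yi] 33 2 false (by decide +kernel) h
      · rcases brec_true h with h | h
        · exact H9.TCY.mRelD_at (T := T) (by decide) hinv hr [Lt.q, Lt.y, Lt.y, Lt.z, Lt.q, Lt.y, Lt.z, Lt.yi, Lt.z, Lt.q, Lt.yi, Lt.yi, Lt.z, Lt.q, Lt.yi, Lt.z, Lt.y, Lt.z] 40 15 true (by decide +kernel) h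
        · exact H9.TCY.mRelD_at (T := T) (by decide) hinv hr [Lt.yi, Lt.q, Lt.y, Lt.y, Lt.z, Lt.q, Lt.z, Lt.yi, Lt.yi, Lt.q, Lt.y, Lt.y, Lt.z, Lt.q, Lt.z, Lt.yi] 33 1 false (by decide +kernel) h
    · rcases brec_true h with h | h
      · exact H9.TCY.mRelD_at (T := T) (by decide) hinv hr [Lt.y, Lt.q, Lt.z, Lt.y, Lt.z, Lt.yi, Lt.q, Lt.z, Lt.yi, Lt.yi, Lt.q, Lt.z, Lt.yi, Lt.z, Lt.y, Lt.q, Lt.z, Lt.y] 40 10 false (by decide +kernel) h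
      · rcases brec_true h with h | h
        · exact H9.TCY.mRelD_at (T := T) (by decide) hinv hr [Lt.z, Lt.y, Lt.z, Lt.y, Lt.q, Lt.y, Lt.z, Lt.y, Lt.z, Lt.yi, Lt.z, Lt.y, Lt.y, Lt.q, Lt.y, Lt.y, Lt.z, Lt.yi] 41 2 true (by decide +kernel) h
        · exact H9.TCY.mRelD_at (T := T) (by decide) hinv hr [Lt.y, Lt.y, Lt.z, Lt.q, Lt.y, Lt.y, Lt.y, Lt.q, Lt.z, Lt.y, Lt.y, Lt.z, Lt.q, Lt.y, Lt.y, Lt.y, Lt.q, Lt.z, Lt.y, Lt.y, Lt.z, Lt.q, Lt.y, Lt.y, Lt.y, Lt.q, Lt.z] 47 2 false (by decide +kernel) h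
  · rcases brec_true h with h | h
    · rcases brec_true h with h | h
      · exact H9.TCY.mRelD_at (T := T) (by decide) hinv hr [Lt.yi, Lt.yi, Lt.z, Lt.q, Lt.yi, Lt.yi, Lt.yi, Lt.q, Lt.z, Lt.yi, Lt.yi, Lt.z, Lt.q, Lt.yi, Lt.yi, Lt.yi, Lt.q, Lt.z, Lt.yi, Lt.yi, Lt.z, Lt.q, Lt.yi, Lt.yi, Lt.yi, Lt.q, Lt.z] 47 5 true (by decide +kernel) h
      · rcases brec_true h with h | h
        · exact H9.TCY.mRelD_at (T := T) (by decide) hinv hr [Lt.y, Lt.z, Lt.q, Lt.yi, Lt.q, Lt.y, Lt.z, Lt.q, Lt.yi, Lt.q, Lt.z, Lt.y, Lt.q, Lt.yi, Lt.q, Lt.z] 23 10 true (by decide +kernel) h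
        · exact H9.TCY.mRelD_at (T := T) (by decide) hinv hr [Lt.q, Lt.y, Lt.z, Lt.q, Lt.y, Lt.z, Lt.q, Lt.y, Lt.z, Lt.q, Lt.y, Lt.z, Lt.q, Lt.y, Lt.z, Lt.q, Lt.y, Lt.z, Lt.q, Lt.y, Lt.z, Lt.q, Lt.y, Lt.z] 44 1 false (by decide +kernel) h
    · rcases brec_true h with h | h
      · exact H9.TCY.mRelD_at (T := T) (by decide) hinv hr [Lt.yi, Lt.z, Lt.q, Lt.yi, Lt.z, Lt.y, Lt.z, Lt.q, Lt.y, Lt.y, Lt.z, Lt.q, Lt.y, Lt.z, Lt.yi, Lt.z, Lt.q, Lt.yi] 40 8 true (by decide +kernel) h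
      · rcases brec_true h with h | h
        · exact H9.TCY.mRelD_at (T := T) (by decide) hinv hr [Lt.yi, Lt.z, Lt.q, Lt.z, Lt.q, Lt.v, Lt.y, Lt.v, Lt.q, Lt.z, Lt.q, Lt.z] 13 5 false (by decide +kernel) h
        · exact H9.TCY.mRelD_at (T := T) (by decide) hinv hr [Lt.z, Lt.q, Lt.yi, Lt.yi, Lt.z, Lt.q, Lt.yi, Lt.z, Lt.y, Lt.z, Lt.q, Lt.y, Lt.y, Lt.z, Lt.q, Lt.y, Lt.z, Lt.yi] 40 5 true (by decide +kernel) h
theorem dM_59_s (hinv : ∀ x, g (inv x) = (g x)⁻¹) (hr : ∀ r ∈ rels, (r.map g).prod = 1) (j z1 z2 u : ℕ) (h : dM_59 j z1 z2 u = true) : GoodM (fa g) T MG M (cP g H) u := by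
  unfold dM_59 at h
  rcases brec_true h with h | h
  · rcases brec_true h with h | h
    · rcases brec_true h with h | h
      · exact H9.TCY.mRelD_at (T := T) (by decide) hinv hr [Lt.z, Lt.q, Lt.y, Lt.z, Lt.q, Lt.y, Lt.z, Lt.q, Lt.y, Lt.z, Lt.q, Lt.y, Lt.z, Lt.q, Lt.y, Lt.z, Lt.q, Lt.y, Lt.z, Lt.q, Lt.y, Lt.z, Lt.q, Lt.y] 44 0 false (by decide +kernel) h
      · rcases brec_true h with h | h
        · exact H9.TCY.mRelD_at (T := T) (by decide) hinv hr [Lt.q, Lt.yi, Lt.yi, Lt.q, Lt.y, Lt.q, Lt.y, Lt.y, Lt.q, Lt.y, Lt.q, Lt.y, Lt.q, Lt.yi, Lt.yi, Lt.yi] 31 3 false (by decide +kernel) h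
        · exact H9.TCY.mRelD_at (T := T) (by decide) hinv hr [Lt.z, Lt.yi, Lt.z, Lt.q, Lt.yi, Lt.yi, Lt.q, Lt.z, Lt.yi, Lt.z, Lt.y, Lt.z, Lt.q, Lt.y, Lt.y, Lt.q, Lt.z, Lt.y] 39 14 false (by decide +kernel) h
    · rcases brec_true h with h | h
      · exact H9.TCY.mRelD_at (T := T) (by decide) hinv hr [Lt.y, Lt.z, Lt.q, Lt.z, Lt.y, Lt.q, Lt.y, Lt.q, Lt.y, Lt.z, Lt.q, Lt.z, Lt.y, Lt.q, Lt.y, Lt.q] 35 7 true (by decide +kernel) h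
      · rcases brec_true h with h | h
        · exact H9.TCY.mRelD_at (T := T) (by decide) hinv hr [Lt.y, Lt.q, Lt.y, Lt.z, Lt.q, Lt.z, Lt.y, Lt.q, Lt.y, Lt.q, Lt.y, Lt.z, Lt.q, Lt.z, Lt.y, Lt.q] 35 5 true (by decide +kernel) h
        · exact H9.TCY.mRelD_at (T := T) (by decide) hinv hr [Lt.y, Lt.y, Lt.q, Lt.z, Lt.y, Lt.z, Lt.yi, Lt.q, Lt.z, Lt.yi, Lt.yi, Lt.q, Lt.z, Lt.yi, Lt.z, Lt.y, Lt.q, Lt.z] 40 9 false (by decide +kernel) h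
  · rcases brec_true h with h | h
    · rcases brec_true h with h | h
      · exact H9.TCY.mRelD_at (T := T) (by decide) hinv hr [Lt.y, Lt.y, Lt.y, Lt.q, Lt.z, Lt.y, Lt.y, Lt.z, Lt.q, Lt.y, Lt.y, Lt.y, Lt.q, Lt.z, Lt.y, Lt.y, Lt.z, Lt.q, Lt.y, Lt.y, Lt.y, Lt.q, Lt.z, Lt.y, Lt.y, Lt.z, Lt.q] 47 6 false (by decide +kernel) h
      · rcases brec_true h with h | h
        · exact H9.TCY.mRelD_at (T := T) (by decide) hinv hr [Lt.yi, Lt.z, Lt.q, Lt.y, Lt.q, Lt.yi, Lt.z, Lt.q, Lt.y, Lt.q, Lt.z, Lt.yi, Lt.q, Lt.y, Lt.q, Lt.z] 23 5 false (by decide +kernel) h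
        · exact H9.TCY.mRelD_at (T := T) (by decide) hinv hr [Lt.q, Lt.y, Lt.q, Lt.y, Lt.q, Lt.yi, Lt.yi, Lt.yi, Lt.q, Lt.yi, Lt.yi, Lt.q, Lt.y, Lt.q, Lt.y, Lt.y] 31 11 false (by decide +kernel) h
    · rcases brec_true h with h | h
      · exact H9.TCY.mRelD_at (T := T) (by decide) hinv hr [Lt.z, Lt.q, Lt.y, Lt.z, Lt.q, Lt.yi, Lt.z, Lt.y, Lt.q, Lt.z, Lt.yi, Lt.q, Lt.z, Lt.y, Lt.z, Lt.yi] 27 6 false (by decide +kernel) h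
      · rcases brec_true h with h | h
        · exact H9.TCY.mRelD_at (T := T) (by decide) hinv hr [Lt.y, Lt.q, Lt.yi, Lt.yi, Lt.z, Lt.q, Lt.z, Lt.y, Lt.y, Lt.q, Lt.yi, Lt.yi, Lt.z, Lt.q, Lt.z, Lt.y] 34 6 false (by decide +kernel) h
        · exact H9.TCY.mRelD_at (T := T) (by decide) hinv hr [Lt.z, Lt.y, Lt.q, Lt.z, Lt.yi, Lt.q, Lt.z, Lt.y, Lt.z, Lt.yi, Lt.z, Lt.q, Lt.y, Lt.z, Lt.q, Lt.yi] 27 12 false (by decide +kernel) h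
theorem dM_60_s (hinv : ∀ x, g (inv x) = (g x)⁻¹) (hr : ∀ r ∈ rels, (r.map g).prod = 1) (j z1 z2 u : ℕ) (h : dM_60 j z1 z2 u = true) : GoodM (fa g) T MG M (cP g H) u := by
  unfold dM_60 at h
  rcases brec_true h with h | h
  · exact dM_58_s hinv hr j z1 z2 u h
  · exact dM_59_s hinv hr j z1 z2 u h
theorem dM_61_s (hinv : ∀ x, g (inv x) = (g x)⁻¹) (hr : ∀ r ∈ rels, (r.map g).prod = 1) (j z1 z2 u : ℕ) (h : dM_61 j z1 z2 u = true) : GoodM (fa g) T MG M (cP g H) u := by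
  unfold dM_61 at h
  rcases brec_true h with h | h
  · exact dM_57_s hinv hr j z1 z2 u h
  · exact dM_60_s hinv hr j z1 z2 u h
theorem dM_62_s (hinv : ∀ x, g (inv x) = (g x)⁻¹) (hr : ∀ r ∈ rels, (r.map g).prod = 1) (j z1 z2 u : ℕ) (h : dM_62 j z1 z2 u = true) : GoodM (fa g) T MG M (cP g H) u := by
  unfold dM_62 at h
  rcases brec_true h with h | h
  · exact dM_54_s hinv hr j z1 z2 u h
  · exact dM_61_s hinv hr j z1 z2 u h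
theorem dM_63_s (hinv : ∀ x, g (inv x) = (g x)⁻¹) (hr : ∀ r ∈ rels, (r.map g).prod = 1) (j z1 z2 u : ℕ) (h : dM_63 j z1 z2 u = true) : GoodM (fa g) T MG M (cP g H) u := by
  unfold dM_63 at h
  rcases brec_true h with h | h
  · exact dM_47_s hinv hr j z1 z2 u h
  · exact dM_62_s hinv hr j z1 z2 u h
theorem dM_64_s (hinv : ∀ x, g (inv x) = (g x)⁻¹) (hr : ∀ r ∈ rels, (r.map g).prod = 1) (j z1 z2 u : ℕ) (h : dM_64 j z1 z2 u = true) : GoodM (fa g) T MG M (cP g H) u := by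
  unfold dM_64 at h
  rcases brec_true h with h | h
  · rcases brec_true h with h | h
    · exact H9.TCY.mRelD_at (T := T) (by decide) hinv hr [Lt.q, Lt.z, Lt.y, Lt.z, Lt.yi, Lt.z, Lt.q, Lt.y, Lt.z, Lt.q, Lt.yi, Lt.z, Lt.y, Lt.q, Lt.z, Lt.yi] 27 1 false (by decide +kernel) h
    · rcases brec_true h with h | h
      · exact H9.TCY.mRelD_at (T := T) (by decide) hinv hr [Lt.yi, Lt.z, Lt.q, Lt.y, Lt.z, Lt.yi, Lt.z, Lt.q, Lt.y, Lt.q, Lt.z, Lt.yi, Lt.z, Lt.y, Lt.q, Lt.z] 28 7 true (by decide +kernel) h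
      · exact H9.TCY.mRelD_at (T := T) (by decide) hinv hr [Lt.q, Lt.z, Lt.yi, Lt.q, Lt.z, Lt.yi, Lt.q, Lt.z, Lt.yi, Lt.q, Lt.z, Lt.yi, Lt.q, Lt.z, Lt.yi, Lt.q, Lt.z, Lt.yi, Lt.q, Lt.z, Lt.yi, Lt.q, Lt.z, Lt.yi] 44 1 true (by decide +kernel) h
  · rcases brec_true h with h | h
    · exact H9.TCY.mRelD_at (T := T) (by decide) hinv hr [Lt.z, Lt.q, Lt.yi, Lt.yi, Lt.yi, Lt.z, Lt.q, Lt.z, Lt.q, Lt.yi, Lt.yi, Lt.yi, Lt.z, Lt.q] 21 5 false (by decide +kernel) h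
    · rcases brec_true h with h | h
      · exact H9.TCY.mRelD_at (T := T) (by decide) hinv hr [Lt.z, Lt.yi, Lt.q, Lt.y, Lt.q, Lt.z, Lt.yi, Lt.z, Lt.q, Lt.y, Lt.q, Lt.yi, Lt.z, Lt.q, Lt.y, Lt.q] 23 15 false (by decide +kernel) h
      · exact H9.TCY.mRelD_at (T := T) (by decide) hinv hr [Lt.z, Lt.y, Lt.y, Lt.z, Lt.q, Lt.y, Lt.y, Lt.y, Lt.q, Lt.z, Lt.y, Lt.y, Lt.z, Lt.q, Lt.y, Lt.y, Lt.y, Lt.q, Lt.z, Lt.y, Lt.y, Lt.z, Lt.q, Lt.y, Lt.y, Lt.y, Lt.q] 47 1 false (by decide +kernel) h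
theorem dM_65_s (hinv : ∀ x, g (inv x) = (g x)⁻¹) (hr : ∀ r ∈ rels, (r.map g).prod = 1) (j z1 z2 u : ℕ) (h : dM_65 j z1 z2 u = true) : GoodM (fa g) T MG M (cP g H) u := by
  unfold dM_65 at h
  rcases brec_true h with h | h
  · rcases brec_true h with h | h
    · exact H9.TCY.mRelD_at (T := T) (by decide) hinv hr [Lt.z, Lt.q, Lt.z, Lt.y, Lt.y, Lt.q, Lt.yi, Lt.yi, Lt.z, Lt.q, Lt.z, Lt.y, Lt.y, Lt.q, Lt.yi, Lt.yi] 34 2 false (by decide +kernel) h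
    · rcases brec_true h with h | h
      · exact H9.TCY.mRelD_at (T := T) (by decide) hinv hr [Lt.z, Lt.yi, Lt.yi, Lt.q, Lt.z, Lt.yi, Lt.z, Lt.y, Lt.q, Lt.z, Lt.y, Lt.y, Lt.q, Lt.z, Lt.y, Lt.z, Lt.yi, Lt.q] 40 17 false (by decide +kernel) h
      · exact H9.TCY.mRelD_at (T := T) (by decide) hinv hr [Lt.q, Lt.z, Lt.yi, Lt.z, Lt.y, Lt.q, Lt.z, Lt.yi, Lt.z, Lt.q, Lt.y, Lt.z, Lt.yi, Lt.z, Lt.q, Lt.y] 28 0 true (by decide +kernel) h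
  · rcases brec_true h with h | h
    · rcases brec_true h with h | h
      · exact H9.TCY.mRelD_at (T := T) (by decide) hinv hr [Lt.z, Lt.yi, Lt.z, Lt.q, Lt.y, Lt.q, Lt.yi, Lt.z, Lt.q, Lt.y, Lt.q, Lt.z, Lt.yi, Lt.q, Lt.y, Lt.q] 23 4 false (by decide +kernel) h
      · exact H9.TCY.mRelD_at (T := T) (by decide) hinv hr [Lt.y, Lt.q, Lt.yi, Lt.z, Lt.q, Lt.y, Lt.q, Lt.z, Lt.yi, Lt.q, Lt.y, Lt.q, Lt.z, Lt.yi, Lt.z, Lt.q] 23 8 false (by decide +kernel) h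
    · rcases brec_true h with h | h
      · exact H9.TCY.mRelD_at (T := T) (by decide) hinv hr [Lt.yi, Lt.q, Lt.z, Lt.yi, Lt.q, Lt.z, Lt.yi, Lt.q, Lt.z, Lt.yi, Lt.q, Lt.z, Lt.yi, Lt.q, Lt.z, Lt.yi, Lt.q, Lt.z, Lt.yi, Lt.q, Lt.z, Lt.yi, Lt.q, Lt.z] 44 0 true (by decide +kernel) h
      · exact H9.TCY.mRelD_at (T := T) (by decide) hinv hr [Lt.z, Lt.yi, Lt.z, Lt.q, Lt.yi, Lt.yi, Lt.z, Lt.q, Lt.yi, Lt.z, Lt.y, Lt.z, Lt.q, Lt.y, Lt.y, Lt.z, Lt.q, Lt.y] 40 3 true (by decide +kernel) h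
theorem dM_66_s (hinv : ∀ x, g (inv x) = (g x)⁻¹) (hr : ∀ r ∈ rels, (r.map g).prod = 1) (j z1 z2 u : ℕ) (h : dM_66 j z1 z2 u = true) : GoodM (fa g) T MG M (cP g H) u := by
  unfold dM_66 at h
  rcases brec_true h with h | h
  · exact dM_64_s hinv hr j z1 z2 u h
  · exact dM_65_s hinv hr j z1 z2 u h
theorem dM_67_s (hinv : ∀ x, g (inv x) = (g x)⁻¹) (hr : ∀ r ∈ rels, (r.map g).prod = 1) (j z1 z2 u : ℕ) (h : dM_67 j z1 z2 u = true) : GoodM (fa g) T MG M (cP g H) u := by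
  unfold dM_67 at h
  rcases brec_true h with h | h
  · rcases brec_true h with h | h
    · exact H9.TCY.mRelD_at (T := T) (by decide) hinv hr [Lt.q, Lt.yi, Lt.yi, Lt.z, Lt.q, Lt.z, Lt.y, Lt.y, Lt.q, Lt.yi, Lt.yi, Lt.z, Lt.q, Lt.z, Lt.y, Lt.y] 34 7 false (by decide +kernel) h
    · rcases brec_true h with h | h
      · exact H9.TCY.mRelD_at (T := T) (by decide) hinv hr [Lt.z, Lt.q, Lt.z, Lt.q, Lt.yi, Lt.yi, Lt.yi, Lt.z, Lt.q, Lt.z, Lt.q, Lt.yi, Lt.yi, Lt.yi] 21 3 false (by decide +kernel) h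
      · exact H9.TCY.mRelD_at (T := T) (by decide) hinv hr [Lt.y, Lt.y, Lt.q, Lt.y, Lt.q, Lt.y, Lt.q, Lt.yi, Lt.yi, Lt.yi, Lt.q, Lt.yi, Lt.yi, Lt.q, Lt.y, Lt.q] 31 9 false (by decide +kernel) h
  · rcases brec_true h with h | h
    · exact H9.TCY.mRelD_at (T := T) (by decide) hinv hr [Lt.q, Lt.yi, Lt.q, Lt.yi, Lt.z, Lt.q, Lt.z, Lt.yi, Lt.q, Lt.yi, Lt.q, Lt.yi, Lt.z, Lt.q, Lt.z, Lt.yi] 35 1 false (by decide +kernel) h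
    · rcases brec_true h with h | h
      · exact H9.TCY.mRelD_at (T := T) (by decide) hinv hr [Lt.q, Lt.y, Lt.q, Lt.y, Lt.y, Lt.q, Lt.y, Lt.q, Lt.y, Lt.q, Lt.yi, Lt.yi, Lt.yi, Lt.q, Lt.yi, Lt.yi] 31 6 false (by decide +kernel) h
      · exact H9.TCY.mRelD_at (T := T) (by decide) hinv hr [Lt.z, Lt.q, Lt.yi, Lt.q, Lt.z, Lt.y, Lt.z, Lt.yi, Lt.q, Lt.z, Lt.y, Lt.z, Lt.q, Lt.yi, Lt.z, Lt.y] 28 14 false (by decide +kernel) h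
theorem dM_68_s (hinv : ∀ x, g (inv x) = (g x)⁻¹) (hr : ∀ r ∈ rels, (r.map g).prod = 1) (j z1 z2 u : ℕ) (h : dM_68 j z1 z2 u = true) : GoodM (fa g) T MG M (cP g H) u := by
  unfold dM_68 at h
  rcases brec_true h with h | h
  · rcases brec_true h with h | h
    · exact H9.TCY.mRelD_at (T := T) (by decide) hinv hr [Lt.z, Lt.q, Lt.v, Lt.yi, Lt.v, Lt.q, Lt.z, Lt.q, Lt.z, Lt.y, Lt.z, Lt.q] 13 9 true (by decide +kernel) h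
    · rcases brec_true h with h | h
      · exact H9.TCY.mRelD_at (T := T) (by decide) hinv hr [Lt.z, Lt.y, Lt.z, Lt.q, Lt.yi, Lt.q, Lt.y, Lt.z, Lt.q, Lt.yi, Lt.q, Lt.z, Lt.y, Lt.q, Lt.yi, Lt.q] 23 9 true (by decide +kernel) h
      · exact H9.TCY.mRelD_at (T := T) (by decide) hinv hr [Lt.q, Lt.yi, Lt.yi, Lt.z, Lt.q, Lt.yi, Lt.z, Lt.y, Lt.z, Lt.q, Lt.y, Lt.y, Lt.z, Lt.q, Lt.y, Lt.z, Lt.yi, Lt.z] 40 6 true (by decide +kernel) h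
  · rcases brec_true h with h | h
    · rcases brec_true h with h | h
      · exact H9.TCY.mRelD_at (T := T) (by decide) hinv hr [Lt.y, Lt.q, Lt.z, Lt.yi, Lt.z, Lt.q, Lt.y, Lt.q, Lt.yi, Lt.z, Lt.q, Lt.y, Lt.q, Lt.z, Lt.yi, Lt.q] 23 2 false (by decide +kernel) h
      · exact H9.TCY.mRelD_at (T := T) (by decide) hinv hr [Lt.q, Lt.y, Lt.y, Lt.y, Lt.q, Lt.z, Lt.y, Lt.y, Lt.z, Lt.q, Lt.y, Lt.y, Lt.y, Lt.q, Lt.z, Lt.y, Lt.y, Lt.z, Lt.q, Lt.y, Lt.y, Lt.y, Lt.q, Lt.z, Lt.y, Lt.y, Lt.z] 47 5 false (by decide +kernel) h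
    · rcases brec_true h with h | h
      · exact H9.TCY.mRelD_at (T := T) (by decide) hinv hr [Lt.y, Lt.z, Lt.yi, Lt.q, Lt.z, Lt.yi, Lt.yi, Lt.q, Lt.z, Lt.yi, Lt.z, Lt.y, Lt.q, Lt.z, Lt.y, Lt.y, Lt.q, Lt.z] 40 13 false (by decide +kernel) h
      · exact H9.TCY.mRelD_at (T := T) (by decide) hinv hr [Lt.y, Lt.q, Lt.y, Lt.q, Lt.y, Lt.z, Lt.q, Lt.z, Lt.y, Lt.q, Lt.y, Lt.q, Lt.y, Lt.z, Lt.q, Lt.z] 35 3 true (by decide +kernel) h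
theorem dM_69_s (hinv : ∀ x, g (inv x) = (g x)⁻¹) (hr : ∀ r ∈ rels, (r.map g).prod = 1) (j z1 z2 u : ℕ) (h : dM_69 j z1 z2 u = true) : GoodM (fa g) T MG M (cP g H) u := by
  unfold dM_69 at h
  rcases brec_true h with h | h
  · exact dM_67_s hinv hr j z1 z2 u h
  · exact dM_68_s hinv hr j z1 z2 u h
theorem dM_70_s (hinv : ∀ x, g (inv x) = (g x)⁻¹) (hr : ∀ r ∈ rels, (r.map g).prod = 1) (j z1 z2 u : ℕ) (h : dM_70 j z1 z2 u = true) : GoodM (fa g) T MG M (cP g H) u := by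
  unfold dM_70 at h
  rcases brec_true h with h | h
  · exact dM_66_s hinv hr j z1 z2 u h
  · exact dM_69_s hinv hr j z1 z2 u h
theorem dM_71_s (hinv : ∀ x, g (inv x) = (g x)⁻¹) (hr : ∀ r ∈ rels, (r.map g).prod = 1) (j z1 z2 u : ℕ) (h : dM_71 j z1 z2 u = true) : GoodM (fa g) T MG M (cP g H) u := by
  unfold dM_71 at h
  rcases brec_true h with h | h
  · rcases brec_true h with h | h
    · exact H9.TCY.mRelD_at (T := T) (by decide) hinv hr [Lt.q, Lt.z, Lt.y, Lt.z, Lt.q, Lt.yi, Lt.z, Lt.y, Lt.z, Lt.q, Lt.yi, Lt.q, Lt.z, Lt.y, Lt.z, Lt.yi] 28 6 false (by decide +kernel) h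
    · rcases brec_true h with h | h
      · exact H9.TCY.mRelD_at (T := T) (by decide) hinv hr [Lt.z, Lt.q, Lt.yi, Lt.z, Lt.y, Lt.q, Lt.z, Lt.yi, Lt.q, Lt.z, Lt.y, Lt.z, Lt.yi, Lt.z, Lt.q, Lt.y] 27 9 false (by decide +kernel) h
      · exact H9.TCY.mRelD_at (T := T) (by decide) hinv hr [Lt.q, Lt.y, Lt.z, Lt.q, Lt.yi, Lt.q, Lt.z, Lt.y, Lt.q, Lt.yi, Lt.q, Lt.z, Lt.y, Lt.z, Lt.q, Lt.yi] 23 14 true (by decide +kernel) h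
  · rcases brec_true h with h | h
    · rcases brec_true h with h | h
      · exact H9.TCY.mRelD_at (T := T) (by decide) hinv hr [Lt.q, Lt.z, Lt.yi, Lt.yi, Lt.q, Lt.z, Lt.yi, Lt.z, Lt.y, Lt.q, Lt.z, Lt.y, Lt.y, Lt.q, Lt.z, Lt.y, Lt.z, Lt.yi] 40 16 false (by decide +kernel) h
      · exact H9.TCY.mRelD_at (T := T) (by decide) hinv hr [Lt.y, Lt.z, Lt.q, Lt.yi, Lt.q, Lt.z, Lt.y, Lt.q, Lt.yi, Lt.q, Lt.z, Lt.y, Lt.z, Lt.q, Lt.yi, Lt.q] 23 15 true (by decide +kernel) h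
    · rcases brec_true h with h | h
      · exact H9.TCY.mRelD_at (T := T) (by decide) hinv hr [Lt.y, Lt.z, Lt.q, Lt.y, Lt.y, Lt.y, Lt.q, Lt.z, Lt.y, Lt.y, Lt.z, Lt.q, Lt.y, Lt.y, Lt.y, Lt.q, Lt.z, Lt.y, Lt.y, Lt.z, Lt.q, Lt.y, Lt.y, Lt.y, Lt.q, Lt.z, Lt.y] 47 3 false (by decide +kernel) h
      · exact H9.TCY.mRelD_at (T := T) (by decide) hinv hr [Lt.y, Lt.z, Lt.yi, Lt.z, Lt.q, Lt.y, Lt.z, Lt.q, Lt.yi, Lt.z, Lt.y, Lt.q, Lt.z, Lt.yi, Lt.q, Lt.z] 27 3 false (by decide +kernel) h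
theorem dM_72_s (hinv : ∀ x, g (inv x) = (g x)⁻¹) (hr : ∀ r ∈ rels, (r.map g).prod = 1) (j z1 z2 u : ℕ) (h : dM_72 j z1 z2 u = true) : GoodM (fa g) T MG M (cP g H) u := by
  unfold dM_72 at h
  rcases brec_true h with h | h
  · rcases brec_true h with h | h
    · exact H9.TCY.mRelD_at (T := T) (by decide) hinv hr [Lt.z, Lt.q, Lt.y, Lt.q, Lt.z, Lt.yi, Lt.z, Lt.y, Lt.q, Lt.z, Lt.yi, Lt.z, Lt.q, Lt.y, Lt.z, Lt.yi] 28 13 true (by decide +kernel) h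
    · rcases brec_true h with h | h
      · exact H9.TCY.mRelD_at (T := T) (by decide) hinv hr [Lt.q, Lt.z, Lt.yi, Lt.z, Lt.q, Lt.y, Lt.q, Lt.yi, Lt.z, Lt.q, Lt.y, Lt.q, Lt.z, Lt.yi, Lt.q, Lt.y] 23 3 false (by decide +kernel) h
      · exact H9.TCY.mRelD_at (T := T) (by decide) hinv hr [Lt.yi, Lt.q, Lt.z, Lt.y, Lt.z, Lt.yi, Lt.q, Lt.z, Lt.y, Lt.z, Lt.q, Lt.yi, Lt.z, Lt.y, Lt.z, Lt.q] 28 0 false (by decide +kernel) h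
  · rcases brec_true h with h | h
    · rcases brec_true h with h | h
      · exact H9.TCY.mRelD_at (T := T) (by decide) hinv hr [Lt.q, Lt.z, Lt.yi, Lt.yi, Lt.q, Lt.y, Lt.y, Lt.z, Lt.q, Lt.z, Lt.yi, Lt.yi, Lt.q, Lt.y, Lt.y, Lt.z] 33 6 false (by decide +kernel) h
      · exact H9.TCY.mRelD_at (T := T) (by decide) hinv hr [Lt.yi, Lt.q, Lt.yi, Lt.z, Lt.q, Lt.z, Lt.yi, Lt.q, Lt.yi, Lt.q, Lt.yi, Lt.z, Lt.q, Lt.z, Lt.yi, Lt.q] 35 2 false (by decide +kernel) h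
    · rcases brec_true h with h | h
      · exact H9.TCY.mRelD_at (T := T) (by decide) hinv hr [Lt.y, Lt.z, Lt.q, Lt.y, Lt.y, Lt.z, Lt.q, Lt.y, Lt.z, Lt.yi, Lt.z, Lt.q, Lt.yi, Lt.yi, Lt.z, Lt.q, Lt.yi, Lt.z] 40 13 true (by decide +kernel) h
      · exact H9.TCY.mRelD_at (T := T) (by decide) hinv hr [Lt.yi, Lt.q, Lt.yi, Lt.yi, Lt.q, Lt.y, Lt.q, Lt.y, Lt.y, Lt.q, Lt.y, Lt.q, Lt.y, Lt.q, Lt.yi, Lt.yi] 31 2 false (by decide +kernel) h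
theorem dM_73_s (hinv : ∀ x, g (inv x) = (g x)⁻¹) (hr : ∀ r ∈ rels, (r.map g).prod = 1) (j z1 z2 u : ℕ) (h : dM_73 j z1 z2 u = true) : GoodM (fa g) T MG M (cP g H) u := by
  unfold dM_73 at h
  rcases brec_true h with h | h
  · exact dM_71_s hinv hr j z1 z2 u h
  · exact dM_72_s hinv hr j z1 z2 u h
theorem dM_74_s (hinv : ∀ x, g (inv x) = (g x)⁻¹) (hr : ∀ r ∈ rels, (r.map g).prod = 1) (j z1 z2 u : ℕ) (h : dM_74 j z1 z2 u = true) : GoodM (fa g) T MG M (cP g H) u := by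
  unfold dM_74 at h
  rcases brec_true h with h | h
  · rcases brec_true h with h | h
    · exact H9.TCY.mRelD_at (T := T) (by decide) hinv hr [Lt.q, Lt.y, Lt.z, Lt.q, Lt.yi, Lt.z, Lt.y, Lt.q, Lt.z, Lt.yi, Lt.q, Lt.z, Lt.y, Lt.z, Lt.yi, Lt.z] 27 7 false (by decide +kernel) h
    · rcases brec_true h with h | h
      · exact H9.TCY.mRelD_at (T := T) (by decide) hinv hr [Lt.q, Lt.yi, Lt.q, Lt.y, Lt.y, Lt.q, Lt.y, Lt.y, Lt.y, Lt.q, Lt.yi, Lt.q, Lt.yi, Lt.q, Lt.yi, Lt.yi] 31 7 true (by decide +kernel) h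
      · exact H9.TCY.mRelD_at (T := T) (by decide) hinv hr [Lt.yi, Lt.z, Lt.q, Lt.yi, Lt.yi, Lt.z, Lt.q, Lt.yi, Lt.z, Lt.y, Lt.z, Lt.q, Lt.y, Lt.y, Lt.z, Lt.q, Lt.y, Lt.z] 40 4 true (by decide +kernel) h
  · rcases brec_true h with h | h
    · rcases brec_true h with h | h
      · exact H9.TCY.mRelD_at (T := T) (by decide) hinv hr [Lt.y, Lt.q, Lt.y, Lt.y, Lt.y, Lt.q, Lt.yi, Lt.q, Lt.yi, Lt.q, Lt.yi, Lt.yi, Lt.q, Lt.yi, Lt.q, Lt.y] 31 11 true (by decide +kernel) h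
      · exact H9.TCY.mRelD_at (T := T) (by decide) hinv hr [Lt.y, Lt.q, Lt.yi, Lt.yi, Lt.yi, Lt.q, Lt.yi, Lt.yi, Lt.yi, Lt.q, Lt.yi, Lt.yi, Lt.yi, Lt.q, Lt.y, Lt.y] 30 14 false (by decide +kernel) h
    · rcases brec_true h with h | h
      · exact H9.TCY.mRelD_at (T := T) (by decide) hinv hr [Lt.q, Lt.yi, Lt.yi, Lt.yi, Lt.q, Lt.yi, Lt.yi, Lt.yi, Lt.q, Lt.yi, Lt.yi, Lt.yi, Lt.q, Lt.y, Lt.y, Lt.y] 30 15 false (by decide +kernel) h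
      · exact H9.TCY.mRelD_at (T := T) (by decide) hinv hr [Lt.q, Lt.yi, Lt.z, Lt.y, Lt.z, Lt.q, Lt.y, Lt.y, Lt.z, Lt.q, Lt.y, Lt.z, Lt.yi, Lt.z, Lt.q, Lt.yi, Lt.yi, Lt.z] 40 10 true (by decide +kernel) h
theorem dM_75_s (hinv : ∀ x, g (inv x) = (g x)⁻¹) (hr : ∀ r ∈ rels, (r.map g).prod = 1) (j z1 z2 u : ℕ) (h : dM_75 j z1 z2 u = true) : GoodM (fa g) T MG M (cP g H) u := by
  unfold dM_75 at h
  rcases brec_true h with h | h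
  · rcases brec_true h with h | h
    · exact H9.TCY.mRelD_at (T := T) (by decide) hinv hr [Lt.yi, Lt.yi, Lt.z, Lt.q, Lt.z, Lt.y, Lt.y, Lt.q, Lt.yi, Lt.yi, Lt.z, Lt.q, Lt.z, Lt.y, Lt.y, Lt.q] 34 0 false (by decide +kernel) h
    · rcases brec_true h with h | h
      · exact H9.TCY.mRelD_at (T := T) (by decide) hinv hr [Lt.yi, Lt.q, Lt.z, Lt.y, Lt.z, Lt.q, Lt.yi, Lt.q, Lt.y, Lt.z, Lt.q, Lt.yi, Lt.q, Lt.z, Lt.y, Lt.q] 23 7 true (by decide +kernel) h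
      · exact H9.TCY.mRelD_at (T := T) (by decide) hinv hr [Lt.yi, Lt.z, Lt.y, Lt.q, Lt.z, Lt.yi, Lt.q, Lt.z, Lt.y, Lt.z, Lt.yi, Lt.z, Lt.q, Lt.y, Lt.z, Lt.q] 27 11 false (by decide +kernel) h
  · rcases brec_true h with h | h
    · rcases brec_true h with h | h
      · exact H9.TCY.mRelD_at (T := T) (by decide) hinv hr [Lt.y, Lt.q, Lt.y, Lt.y, Lt.q, Lt.y, Lt.q, Lt.y, Lt.q, Lt.yi, Lt.yi, Lt.yi, Lt.q, Lt.yi, Lt.yi, Lt.q] 31 7 false (by decide +kernel) h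
      · exact H9.TCY.mRelD_at (T := T) (by decide) hinv hr [Lt.z, Lt.q, Lt.z, Lt.y, Lt.y, Lt.y, Lt.q, Lt.z, Lt.q, Lt.z, Lt.y, Lt.y, Lt.y, Lt.q] 21 1 true (by decide +kernel) h
    · rcases brec_true h with h | h
      · exact H9.TCY.mRelD_at (T := T) (by decide) hinv hr [Lt.z, Lt.y, Lt.z, Lt.q, Lt.y, Lt.y, Lt.z, Lt.q, Lt.y, Lt.z, Lt.yi, Lt.z, Lt.q, Lt.yi, Lt.yi, Lt.z, Lt.q, Lt.yi] 40 12 true (by decide +kernel) h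
      · exact H9.TCY.mRelD_at (T := T) (by decide) hinv hr [Lt.z, Lt.y, Lt.y, Lt.q, Lt.z, Lt.y, Lt.z, Lt.yi, Lt.q, Lt.z, Lt.yi, Lt.yi, Lt.q, Lt.z, Lt.yi, Lt.z, Lt.y, Lt.q] 40 8 false (by decide +kernel) h
theorem dM_76_s (hinv : ∀ x, g (inv x) = (g x)⁻¹) (hr : ∀ r ∈ rels, (r.map g).prod = 1) (j z1 z2 u : ℕ) (h : dM_76 j z1 z2 u = true) : GoodM (fa g) T MG M (cP g H) u := by
  unfold dM_76 at h
  rcases brec_true h with h | h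
  · exact dM_74_s hinv hr j z1 z2 u h
  · exact dM_75_s hinv hr j z1 z2 u h
theorem dM_77_s (hinv : ∀ x, g (inv x) = (g x)⁻¹) (hr : ∀ r ∈ rels, (r.map g).prod = 1) (j z1 z2 u : ℕ) (h : dM_77 j z1 z2 u = true) : GoodM (fa g) T MG M (cP g H) u := by
  unfold dM_77 at h
  rcases brec_true h with h | h
  · exact dM_73_s hinv hr j z1 z2 u h
  · exact dM_76_s hinv hr j z1 z2 u h
theorem dM_78_s (hinv : ∀ x, g (inv x) = (g x)⁻¹) (hr : ∀ r ∈ rels, (r.map g).prod = 1) (j z1 z2 u : ℕ) (h : dM_78 j z1 z2 u = true) : GoodM (fa g) T MG M (cP g H) u := by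
  unfold dM_78 at h
  rcases brec_true h with h | h
  · exact dM_70_s hinv hr j z1 z2 u h
  · exact dM_77_s hinv hr j z1 z2 u h
theorem dM_79_s (hinv : ∀ x, g (inv x) = (g x)⁻¹) (hr : ∀ r ∈ rels, (r.map g).prod = 1) (j z1 z2 u : ℕ) (h : dM_79 j z1 z2 u = true) : GoodM (fa g) T MG M (cP g H) u := by
  unfold dM_79 at h
  rcases brec_true h with h | h
  · rcases brec_true h with h | h
    · exact H9.TCY.mRelD_at (T := T) (by decide) hinv hr [Lt.y, Lt.y, Lt.z, Lt.q, Lt.y, Lt.z, Lt.yi, Lt.z, Lt.q, Lt.yi, Lt.yi, Lt.z, Lt.q, Lt.yi, Lt.z, Lt.y, Lt.z, Lt.q] 40 16 true (by decide +kernel) h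
    · rcases brec_true h with h | h
      · exact H9.TCY.mRelD_at (T := T) (by decide) hinv hr [Lt.q, Lt.y, Lt.z, Lt.yi, Lt.z, Lt.q, Lt.y, Lt.q, Lt.z, Lt.yi, Lt.z, Lt.y, Lt.q, Lt.z, Lt.yi, Lt.z] 28 9 true (by decide +kernel) h
      · exact H9.TCY.mRelD_at (T := T) (by decide) hinv hr [Lt.y, Lt.q, Lt.y, Lt.q, Lt.y, Lt.q, Lt.yi, Lt.yi, Lt.yi, Lt.q, Lt.yi, Lt.yi, Lt.q, Lt.y, Lt.q, Lt.y] 31 10 false (by decide +kernel) h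
  · rcases brec_true h with h | h
    · rcases brec_true h with h | h
      · exact H9.TCY.mRelD_at (T := T) (by decide) hinv hr [Lt.z, Lt.y, Lt.z, Lt.q, Lt.yi, Lt.z, Lt.q, Lt.y, Lt.z, Lt.yi, Lt.q, Lt.z, Lt.y, Lt.q, Lt.z, Lt.yi] 36 7 false (by decide +kernel) h
      · exact H9.TCY.mRelD_at (T := T) (by decide) hinv hr [Lt.yi, Lt.yi, Lt.z, Lt.q, Lt.yi, Lt.z, Lt.y, Lt.z, Lt.q, Lt.y, Lt.y, Lt.z, Lt.q, Lt.y, Lt.z, Lt.yi, Lt.z, Lt.q] 40 7 true (by decide +kernel) h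
    · rcases brec_true h with h | h
      · exact H9.TCY.mRelD_at (T := T) (by decide) hinv hr [Lt.yi, Lt.q, Lt.z, Lt.yi, Lt.yi, Lt.q, Lt.z, Lt.yi, Lt.z, Lt.y, Lt.q, Lt.z, Lt.y, Lt.y, Lt.q, Lt.z, Lt.y, Lt.z] 40 15 false (by decide +kernel) h
      · exact H9.TCY.mRelD_at (T := T) (by decide) hinv hr [Lt.z, Lt.q, Lt.z, Lt.y, Lt.q, Lt.y, Lt.q, Lt.y, Lt.z, Lt.q, Lt.z, Lt.y, Lt.q, Lt.y, Lt.q, Lt.y] 35 0 true (by decide +kernel) h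
theorem dM_80_s (hinv : ∀ x, g (inv x) = (g x)⁻¹) (hr : ∀ r ∈ rels, (r.map g).prod = 1) (j z1 z2 u : ℕ) (h : dM_80 j z1 z2 u = true) : GoodM (fa g) T MG M (cP g H) u := by
  unfold dM_80 at h
  rcases brec_true h with h | h
  · rcases brec_true h with h | h
    · exact H9.TCY.mRelD_at (T := T) (by decide) hinv hr [Lt.y, Lt.z, Lt.q, Lt.y, Lt.z, Lt.yi, Lt.z, Lt.q, Lt.yi, Lt.yi, Lt.z, Lt.q, Lt.yi, Lt.z, Lt.y, Lt.z, Lt.q, Lt.y] 40 17 true (by decide +kernel) h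
    · rcases brec_true h with h | h
      · exact H9.TCY.mRelD_at (T := T) (by decide) hinv hr [Lt.z, Lt.v, Lt.q, Lt.v, Lt.q, Lt.v, Lt.z, Lt.q, Lt.z, Lt.v, Lt.z, Lt.v, Lt.z, Lt.q] 20 12 false (by decide +kernel) h
      · exact H9.TCY.mRelD_at (T := T) (by decide) hinv hr [Lt.yi, Lt.yi, Lt.yi, Lt.q, Lt.yi, Lt.yi, Lt.yi, Lt.q, Lt.yi, Lt.yi, Lt.yi, Lt.q, Lt.y, Lt.y, Lt.y, Lt.q] 30 0 false (by decide +kernel) h
  · rcases brec_true h with h | h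
    · rcases brec_true h with h | h
      · exact H9.TCY.mRelD_at (T := T) (by decide) hinv hr [Lt.z, Lt.q, Lt.z, Lt.yi, Lt.yi, Lt.q, Lt.y, Lt.y, Lt.z, Lt.q, Lt.z, Lt.yi, Lt.yi, Lt.q, Lt.y, Lt.y] 33 5 false (by decide +kernel) h
      · exact H9.TCY.mRelD_at (T := T) (by decide) hinv hr [Lt.q, Lt.z, Lt.yi, Lt.z, Lt.y, Lt.q, Lt.z, Lt.y, Lt.y, Lt.q, Lt.z, Lt.y, Lt.z, Lt.yi, Lt.q, Lt.z, Lt.yi, Lt.yi] 40 2 false (by decide +kernel) h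
    · rcases brec_true h with h | h
      · exact H9.TCY.mRelD_at (T := T) (by decide) hinv hr [Lt.y, Lt.q, Lt.z, Lt.y, Lt.y, Lt.z, Lt.q, Lt.y, Lt.y, Lt.y, Lt.q, Lt.z, Lt.y, Lt.y, Lt.z, Lt.q, Lt.y, Lt.y, Lt.y, Lt.q, Lt.z, Lt.y, Lt.y, Lt.z, Lt.q, Lt.y, Lt.y] 47 8 false (by decide +kernel) h
      · exact H9.TCY.mRelD_at (T := T) (by decide) hinv hr [Lt.y, Lt.z, Lt.q, Lt.yi, Lt.q, Lt.z, Lt.y, Lt.z, Lt.yi, Lt.q, Lt.z, Lt.y, Lt.z, Lt.q, Lt.yi, Lt.z] 28 13 false (by decide +kernel) h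
theorem dM_81_s (hinv : ∀ x, g (inv x) = (g x)⁻¹) (hr : ∀ r ∈ rels, (r.map g).prod = 1) (j z1 z2 u : ℕ) (h : dM_81 j z1 z2 u = true) : GoodM (fa g) T MG M (cP g H) u := by
  unfold dM_81 at h
  rcases brec_true h with h | h
  · exact dM_79_s hinv hr j z1 z2 u h
  · exact dM_80_s hinv hr j z1 z2 u h
theorem dM_82_s (hinv : ∀ x, g (inv x) = (g x)⁻¹) (hr : ∀ r ∈ rels, (r.map g).prod = 1) (j z1 z2 u : ℕ) (h : dM_82 j z1 z2 u = true) : GoodM (fa g) T MG M (cP g H) u := by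
  unfold dM_82 at h
  rcases brec_true h with h | h
  · rcases brec_true h with h | h
    · rcases brec_true h with h | h
      · exact H9.TCY.mRelD_at (T := T) (by decide) hinv hr [Lt.q, Lt.yi, Lt.z, Lt.q, Lt.y, Lt.q, Lt.z, Lt.yi, Lt.q, Lt.y, Lt.q, Lt.z, Lt.yi, Lt.z, Lt.q, Lt.y] 23 9 false (by decide +kernel) h
      · exact H9.TCY.mRelD_at (T := T) (by decide) hinv hr [Lt.q, Lt.z, Lt.y, Lt.z, Lt.q, Lt.yi, Lt.q, Lt.y, Lt.z, Lt.q, Lt.yi, Lt.q, Lt.z, Lt.y, Lt.q, Lt.yi] 23 8 true (by decide +kernel) h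
    · rcases brec_true h with h | h
      · exact H9.TCY.mRelD_at (T := T) (by decide) hinv hr [Lt.q, Lt.y, Lt.q, Lt.yi, Lt.z, Lt.q, Lt.y, Lt.q, Lt.z, Lt.yi, Lt.q, Lt.y, Lt.q, Lt.z, Lt.yi, Lt.z] 23 7 false (by decide +kernel) h
      · exact H9.TCY.mRelD_at (T := T) (by decide) hinv hr [Lt.z, Lt.yi, Lt.z, Lt.q, Lt.y, Lt.z, Lt.yi, Lt.z, Lt.q, Lt.y, Lt.q, Lt.z, Lt.yi, Lt.z, Lt.y, Lt.q] 28 6 true (by decide +kernel) h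
  · rcases brec_true h with h | h
    · rcases brec_true h with h | h
      · exact H9.TCY.mRelD_at (T := T) (by decide) hinv hr [Lt.z, Lt.yi, Lt.z, Lt.q, Lt.y, Lt.z, Lt.q, Lt.yi, Lt.z, Lt.y, Lt.q, Lt.z, Lt.yi, Lt.q, Lt.z, Lt.y] 27 4 false (by decide +kernel) h
      · exact H9.TCY.mRelD_at (T := T) (by decide) hinv hr [Lt.yi, Lt.z, Lt.q, Lt.y, Lt.q, Lt.z, Lt.yi, Lt.q, Lt.y, Lt.q, Lt.z, Lt.yi, Lt.z, Lt.q, Lt.y, Lt.q] 23 10 false (by decide +kernel) h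
    · rcases brec_true h with h | h
      · exact H9.TCY.mRelD_at (T := T) (by decide) hinv hr [Lt.q, Lt.yi, Lt.q, Lt.z, Lt.y, Lt.z, Lt.q, Lt.yi, Lt.q, Lt.y, Lt.z, Lt.q, Lt.yi, Lt.q, Lt.z, Lt.y] 23 6 true (by decide +kernel) h
      · exact H9.TCY.mRelD_at (T := T) (by decide) hinv hr [Lt.z, Lt.q, Lt.yi, Lt.q, Lt.y, Lt.z, Lt.q, Lt.yi, Lt.q, Lt.z, Lt.y, Lt.q, Lt.yi, Lt.q, Lt.z, Lt.y] 23 11 true (by decide +kernel) h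
theorem dM_83_s (hinv : ∀ x, g (inv x) = (g x)⁻¹) (hr : ∀ r ∈ rels, (r.map g).prod = 1) (j z1 z2 u : ℕ) (h : dM_83 j z1 z2 u = true) : GoodM (fa g) T MG M (cP g H) u := by
  unfold dM_83 at h
  rcases brec_true h with h | h
  · rcases brec_true h with h | h
    · rcases brec_true h with h | h
      · exact H9.TCY.mRelD_at (T := T) (by decide) hinv hr [Lt.yi, Lt.yi, Lt.q, Lt.z, Lt.yi, Lt.z, Lt.y, Lt.q, Lt.z, Lt.y, Lt.y, Lt.q, Lt.z, Lt.y, Lt.z, Lt.yi, Lt.q, Lt.z] 40 0 false (by decide +kernel) h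
      · exact H9.TCY.mRelD_at (T := T) (by decide) hinv hr [Lt.z, Lt.yi, Lt.z, Lt.q, Lt.y, Lt.q, Lt.z, Lt.yi, Lt.z, Lt.y, Lt.q, Lt.z, Lt.yi, Lt.z, Lt.q, Lt.y] 28 11 true (by decide +kernel) h
    · rcases brec_true h with h | h
      · exact H9.TCY.mRelD_at (T := T) (by decide) hinv hr [Lt.q, Lt.y, Lt.q, Lt.z, Lt.yi, Lt.z, Lt.q, Lt.y, Lt.q, Lt.yi, Lt.z, Lt.q, Lt.y, Lt.q, Lt.z, Lt.yi] 23 1 false (by decide +kernel) h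
      · exact H9.TCY.mRelD_at (T := T) (by decide) hinv hr [Lt.q, Lt.y, Lt.y, Lt.q, Lt.y, Lt.q, Lt.y, Lt.q, Lt.yi, Lt.yi, Lt.yi, Lt.q, Lt.yi, Lt.yi, Lt.q, Lt.y] 31 8 false (by decide +kernel) h
  · rcases brec_true h with h | h
    · rcases brec_true h with h | h
      · exact H9.TCY.mRelD_at (T := T) (by decide) hinv hr [Lt.z, Lt.yi, Lt.q, Lt.z, Lt.y, Lt.z, Lt.q, Lt.yi, Lt.z, Lt.y, Lt.z, Lt.q, Lt.yi, Lt.q, Lt.z, Lt.y] 28 4 false (by decide +kernel) h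
      · exact H9.TCY.mRelD_at (T := T) (by decide) hinv hr [Lt.q, Lt.z, Lt.y, Lt.y, Lt.q, Lt.yi, Lt.yi, Lt.z, Lt.q, Lt.z, Lt.y, Lt.y, Lt.q, Lt.yi, Lt.yi, Lt.z] 34 3 false (by decide +kernel) h
    · rcases brec_true h with h | h
      · exact H9.TCY.mRelD_at (T := T) (by decide) hinv hr [Lt.q, Lt.yi, Lt.z, Lt.y, Lt.q, Lt.z, Lt.yi, Lt.q, Lt.z, Lt.y, Lt.z, Lt.yi, Lt.z, Lt.q, Lt.y, Lt.z] 27 10 false (by decide +kernel) h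
      · exact H9.TCY.mRelD_at (T := T) (by decide) hinv hr [Lt.yi, Lt.z, Lt.q, Lt.y, Lt.z, Lt.q, Lt.yi, Lt.z, Lt.y, Lt.q, Lt.z, Lt.yi, Lt.q, Lt.z, Lt.y, Lt.z] 27 5 false (by decide +kernel) h
theorem dM_84_s (hinv : ∀ x, g (inv x) = (g x)⁻¹) (hr : ∀ r ∈ rels, (r.map g).prod = 1) (j z1 z2 u : ℕ) (h : dM_84 j z1 z2 u = true) : GoodM (fa g) T MG M (cP g H) u := by
  unfold dM_84 at h
  rcases brec_true h with h | h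
  · exact dM_82_s hinv hr j z1 z2 u h
  · exact dM_83_s hinv hr j z1 z2 u h
theorem dM_85_s (hinv : ∀ x, g (inv x) = (g x)⁻¹) (hr : ∀ r ∈ rels, (r.map g).prod = 1) (j z1 z2 u : ℕ) (h : dM_85 j z1 z2 u = true) : GoodM (fa g) T MG M (cP g H) u := by
  unfold dM_85 at h
  rcases brec_true h with h | h
  · exact dM_81_s hinv hr j z1 z2 u h
  · exact dM_84_s hinv hr j z1 z2 u h
theorem dM_86_s (hinv : ∀ x, g (inv x) = (g x)⁻¹) (hr : ∀ r ∈ rels, (r.map g).prod = 1) (j z1 z2 u : ℕ) (h : dM_86 j z1 z2 u = true) : GoodM (fa g) T MG M (cP g H) u := by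
  unfold dM_86 at h
  rcases brec_true h with h | h
  · rcases brec_true h with h | h
    · rcases brec_true h with h | h
      · exact H9.TCY.mRelD_at (T := T) (by decide) hinv hr [Lt.q, Lt.y, Lt.z, Lt.q, Lt.z, Lt.y, Lt.q, Lt.y, Lt.q, Lt.y, Lt.z, Lt.q, Lt.z, Lt.y, Lt.q, Lt.y] 35 6 true (by decide +kernel) h
      · exact H9.TCY.mRelD_at (T := T) (by decide) hinv hr [Lt.y, Lt.q, Lt.z, Lt.y, Lt.y, Lt.q, Lt.z, Lt.y, Lt.z, Lt.yi, Lt.q, Lt.z, Lt.yi, Lt.yi, Lt.q, Lt.z, Lt.yi, Lt.z] 40 6 false (by decide +kernel) h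
    · rcases brec_true h with h | h
      · exact H9.TCY.mRelD_at (T := T) (by decide) hinv hr [Lt.z, Lt.q, Lt.y, Lt.q, Lt.yi, Lt.z, Lt.q, Lt.y, Lt.q, Lt.z, Lt.yi, Lt.q, Lt.y, Lt.q, Lt.z, Lt.yi] 23 6 false (by decide +kernel) h
      · exact H9.TCY.mRelD_at (T := T) (by decide) hinv hr [Lt.z, Lt.yi, Lt.q, Lt.z, Lt.y, Lt.z, Lt.yi, Lt.z, Lt.q, Lt.y, Lt.z, Lt.q, Lt.yi, Lt.z, Lt.y, Lt.q] 27 15 false (by decide +kernel) h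
  · rcases brec_true h with h | h
    · rcases brec_true h with h | h
      · exact H9.TCY.mRelD_at (T := T) (by decide) hinv hr [Lt.q, Lt.y, Lt.z, Lt.yi, Lt.z, Lt.q, Lt.yi, Lt.yi, Lt.z, Lt.q, Lt.yi, Lt.z, Lt.y, Lt.z, Lt.q, Lt.y, Lt.y, Lt.z] 40 1 true (by decide +kernel) h
      · exact H9.TCY.mRelD_at (T := T) (by decide) hinv hr [Lt.yi, Lt.q, Lt.yi, Lt.q, Lt.y, Lt.y, Lt.q, Lt.y, Lt.y, Lt.y, Lt.q, Lt.yi, Lt.q, Lt.yi, Lt.q, Lt.yi] 31 6 true (by decide +kernel) h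
    · rcases brec_true h with h | h
      · exact H9.TCY.mRelD_at (T := T) (by decide) hinv hr [Lt.z, Lt.y, Lt.z, Lt.q, Lt.yi, Lt.q, Lt.z, Lt.y, Lt.z, Lt.yi, Lt.q, Lt.z, Lt.y, Lt.z, Lt.q, Lt.yi] 28 12 false (by decide +kernel) h
      · exact H9.TCY.mRelD_at (T := T) (by decide) hinv hr [Lt.y, Lt.y, Lt.q, Lt.y, Lt.y, Lt.y, Lt.q, Lt.yi, Lt.q, Lt.yi, Lt.q, Lt.yi, Lt.yi, Lt.q, Lt.yi, Lt.q] 31 10 true (by decide +kernel) h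
theorem dM_87_s (hinv : ∀ x, g (inv x) = (g x)⁻¹) (hr : ∀ r ∈ rels, (r.map g).prod = 1) (j z1 z2 u : ℕ) (h : dM_87 j z1 z2 u = true) : GoodM (fa g) T MG M (cP g H) u := by
  unfold dM_87 at h
  rcases brec_true h with h | h
  · rcases brec_true h with h | h
    · rcases brec_true h with h | h
      · exact H9.TCY.mRelD_at (T := T) (by decide) hinv hr [Lt.q, Lt.y, Lt.q, Lt.y, Lt.q, Lt.y, Lt.y, Lt.q, Lt.y, Lt.q, Lt.yi, Lt.yi, Lt.q, Lt.yi, Lt.yi, Lt.yi] 32 3 false (by decide +kernel) h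
      · exact H9.TCY.mRelD_at (T := T) (by decide) hinv hr [Lt.z, Lt.yi, Lt.yi, Lt.q, Lt.y, Lt.y, Lt.z, Lt.q, Lt.z, Lt.yi, Lt.yi, Lt.q, Lt.y, Lt.y, Lt.z, Lt.q] 33 7 false (by decide +kernel) h
    · rcases brec_true h with h | h
      · exact H9.TCY.mRelD_at (T := T) (by decide) hinv hr [Lt.q, Lt.yi, Lt.q, Lt.z, Lt.q, Lt.y, Lt.z, Lt.yi, Lt.q, Lt.y, Lt.q, Lt.z, Lt.q, Lt.yi, Lt.z, Lt.y] 24 9 false (by decide +kernel) h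
      · exact H9.TCY.mRelD_at (T := T) (by decide) hinv hr [Lt.yi, Lt.q, Lt.z, Lt.y, Lt.z, Lt.q, Lt.yi, Lt.q, Lt.z, Lt.y, Lt.z, Lt.q, Lt.yi, Lt.q, Lt.z, Lt.y, Lt.z, Lt.q] 42 0 true (by decide +kernel) h
  · rcases brec_true h with h | h
    · rcases brec_true h with h | h
      · exact H9.TCY.mRelD_at (T := T) (by decide) hinv hr [Lt.z, Lt.yi, Lt.yi, Lt.z, Lt.q, Lt.yi, Lt.yi, Lt.yi, Lt.q, Lt.z, Lt.yi, Lt.yi, Lt.z, Lt.q, Lt.yi, Lt.yi, Lt.yi, Lt.q, Lt.z, Lt.yi, Lt.yi, Lt.z, Lt.q, Lt.yi, Lt.yi, Lt.yi, Lt.q] 47 4 true (by decide +kernel) h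
      · exact H9.TCY.mRelD_at (T := T) (by decide) hinv hr [Lt.z, Lt.q, Lt.z, Lt.q, Lt.v, Lt.yi, Lt.v, Lt.q, Lt.z, Lt.q, Lt.z, Lt.y] 13 7 true (by decide +kernel) h
    · rcases brec_true h with h | h
      · exact H9.TCY.mRelD_at (T := T) (by decide) hinv hr [Lt.z, Lt.q, Lt.yi, Lt.q, Lt.z, Lt.y, Lt.z, Lt.q, Lt.yi, Lt.q, Lt.z, Lt.y, Lt.z, Lt.q, Lt.yi, Lt.q, Lt.z, Lt.y] 42 4 true (by decide +kernel) h
      · rcases brec_true h with h | h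
        · exact H9.TCY.mRelD_at (T := T) (by decide) hinv hr [Lt.z, Lt.y, Lt.z, Lt.yi, Lt.z, Lt.q, Lt.y, Lt.z, Lt.q, Lt.yi, Lt.z, Lt.y, Lt.q, Lt.z, Lt.yi, Lt.q] 27 2 false (by decide +kernel) h
        · exact H9.TCY.mRelD_at (T := T) (by decide) hinv hr [Lt.z, Lt.y, Lt.q, Lt.yi, Lt.q, Lt.z, Lt.y, Lt.z, Lt.q, Lt.yi, Lt.q, Lt.y, Lt.z, Lt.q, Lt.yi, Lt.q] 23 4 true (by decide +kernel) h
theorem dM_88_s (hinv : ∀ x, g (inv x) = (g x)⁻¹) (hr : ∀ r ∈ rels, (r.map g).prod = 1) (j z1 z2 u : ℕ) (h : dM_88 j z1 z2 u = true) : GoodM (fa g) T MG M (cP g H) u := by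
  unfold dM_88 at h
  rcases brec_true h with h | h
  · exact dM_86_s hinv hr j z1 z2 u h
  · exact dM_87_s hinv hr j z1 z2 u h
theorem dM_89_s (hinv : ∀ x, g (inv x) = (g x)⁻¹) (hr : ∀ r ∈ rels, (r.map g).prod = 1) (j z1 z2 u : ℕ) (h : dM_89 j z1 z2 u = true) : GoodM (fa g) T MG M (cP g H) u := by
  unfold dM_89 at h
  rcases brec_true h with h | h
  · rcases brec_true h with h | h
    · rcases brec_true h with h | h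
      · exact H9.TCY.mRelD_at (T := T) (by decide) hinv hr [Lt.q, Lt.yi, Lt.q, Lt.y, Lt.z, Lt.q, Lt.yi, Lt.q, Lt.z, Lt.y, Lt.q, Lt.yi, Lt.q, Lt.z, Lt.y, Lt.z] 23 12 true (by decide +kernel) h
      · exact H9.TCY.mRelD_at (T := T) (by decide) hinv hr [Lt.yi, Lt.z, Lt.y, Lt.z, Lt.q, Lt.yi, Lt.z, Lt.q, Lt.y, Lt.z, Lt.yi, Lt.q, Lt.z, Lt.y, Lt.q, Lt.z] 36 6 false (by decide +kernel) h
    · rcases brec_true h with h | h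
      · exact H9.TCY.mRelD_at (T := T) (by decide) hinv hr [Lt.q, Lt.y, Lt.y, Lt.q, Lt.y, Lt.y, Lt.y, Lt.q, Lt.yi, Lt.q, Lt.yi, Lt.q, Lt.yi, Lt.yi, Lt.q, Lt.yi] 31 9 true (by decide +kernel) h
      · exact H9.TCY.mRelD_at (T := T) (by decide) hinv hr [Lt.z, Lt.q, Lt.yi, Lt.z, Lt.y, Lt.z, Lt.q, Lt.y, Lt.y, Lt.z, Lt.q, Lt.y, Lt.z, Lt.yi, Lt.z, Lt.q, Lt.yi, Lt.yi] 40 9 true (by decide +kernel) h
  · rcases brec_true h with h | h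
    · rcases brec_true h with h | h
      · exact H9.TCY.mRelD_at (T := T) (by decide) hinv hr [Lt.y, Lt.q, Lt.y, Lt.q, Lt.yi, Lt.yi, Lt.q, Lt.yi, Lt.yi, Lt.yi, Lt.q, Lt.y, Lt.q, Lt.y, Lt.q, Lt.y] 32 9 false (by decide +kernel) h
      · exact H9.TCY.mRelD_at (T := T) (by decide) hinv hr [Lt.z, Lt.q, Lt.z, Lt.yi, Lt.q, Lt.yi, Lt.q, Lt.yi, Lt.z, Lt.q, Lt.z, Lt.yi, Lt.q, Lt.yi, Lt.q, Lt.yi] 35 5 false (by decide +kernel) h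
    · rcases brec_true h with h | h
      · exact H9.TCY.mRelD_at (T := T) (by decide) hinv hr [Lt.yi, Lt.yi, Lt.q, Lt.yi, Lt.yi, Lt.yi, Lt.q, Lt.y, Lt.q, Lt.y, Lt.q, Lt.y, Lt.y, Lt.q, Lt.y, Lt.q] 32 13 false (by decide +kernel) h
      · rcases brec_true h with h | h
        · exact H9.TCY.mRelD_at (T := T) (by decide) hinv hr [Lt.yi, Lt.yi, Lt.q, Lt.y, Lt.q, Lt.y, Lt.y, Lt.q, Lt.y, Lt.q, Lt.y, Lt.q, Lt.yi, Lt.yi, Lt.yi, Lt.q] 31 4 false (by decide +kernel) h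
        · exact H9.TCY.mRelD_at (T := T) (by decide) hinv hr [Lt.z, Lt.y, Lt.z, Lt.yi, Lt.q, Lt.z, Lt.yi, Lt.yi, Lt.q, Lt.z, Lt.yi, Lt.z, Lt.y, Lt.q, Lt.z, Lt.y, Lt.y, Lt.q] 40 12 false (by decide +kernel) h
theorem dM_90_s (hinv : ∀ x, g (inv x) = (g x)⁻¹) (hr : ∀ r ∈ rels, (r.map g).prod = 1) (j z1 z2 u : ℕ) (h : dM_90 j z1 z2 u = true) : GoodM (fa g) T MG M (cP g H) u := by
  unfold dM_90 at h
  rcases brec_true h with h | h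
  · rcases brec_true h with h | h
    · rcases brec_true h with h | h
      · exact H9.TCY.mRelD_at (T := T) (by decide) hinv hr [Lt.yi, Lt.q, Lt.z, Lt.y, Lt.z, Lt.yi, Lt.z, Lt.q, Lt.y, Lt.z, Lt.q, Lt.yi, Lt.z, Lt.y, Lt.q, Lt.z] 27 0 false (by decide +kernel) h
      · exact H9.TCY.mRelD_at (T := T) (by decide) hinv hr [Lt.z, Lt.yi, Lt.z, Lt.q, Lt.z, Lt.q, Lt.v, Lt.y, Lt.v, Lt.q, Lt.z, Lt.q] 13 4 false (by decide +kernel) h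
    · rcases brec_true h with h | h
      · exact H9.TCY.mRelD_at (T := T) (by decide) hinv hr [Lt.yi, Lt.z, Lt.y, Lt.z, Lt.q, Lt.yi, Lt.q, Lt.z, Lt.y, Lt.z, Lt.yi, Lt.q, Lt.z, Lt.y, Lt.z, Lt.q] 28 11 false (by decide +kernel) h
      · exact H9.TCY.mRelD_at (T := T) (by decide) hinv hr [Lt.z, Lt.q, Lt.y, Lt.q, Lt.z, Lt.yi, Lt.z, Lt.q, Lt.y, Lt.q, Lt.z, Lt.yi, Lt.z, Lt.q, Lt.y, Lt.q, Lt.z, Lt.yi] 42 3 false (by decide +kernel) h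
  · rcases brec_true h with h | h
    · rcases brec_true h with h | h
      · exact H9.TCY.mRelD_at (T := T) (by decide) hinv hr [Lt.z, Lt.q, Lt.yi, Lt.z, Lt.q, Lt.y, Lt.z, Lt.yi, Lt.q, Lt.z, Lt.y, Lt.q, Lt.z, Lt.yi, Lt.z, Lt.y] 36 9 false (by decide +kernel) h
      · exact H9.TCY.mRelD_at (T := T) (by decide) hinv hr [Lt.q, Lt.y, Lt.y, Lt.y, Lt.q, Lt.yi, Lt.q, Lt.yi, Lt.q, Lt.yi, Lt.yi, Lt.q, Lt.yi, Lt.q, Lt.y, Lt.y] 31 12 true (by decide +kernel) h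
    · rcases brec_true h with h | h
      · exact H9.TCY.mRelD_at (T := T) (by decide) hinv hr [Lt.q, Lt.y, Lt.q, Lt.z, Lt.yi, Lt.z, Lt.y, Lt.q, Lt.z, Lt.yi, Lt.z, Lt.q, Lt.y, Lt.z, Lt.yi, Lt.z] 28 14 true (by decide +kernel) h
      · rcases brec_true h with h | h
        · exact H9.TCY.mRelD_at (T := T) (by decide) hinv hr [Lt.q, Lt.z, Lt.q, Lt.v, Lt.y, Lt.v, Lt.q, Lt.z, Lt.q, Lt.z, Lt.yi, Lt.z] 13 7 false (by decide +kernel) h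
        · exact H9.TCY.mRelD_at (T := T) (by decide) hinv hr [Lt.q, Lt.y, Lt.q, Lt.y, Lt.z, Lt.q, Lt.z, Lt.y, Lt.q, Lt.y, Lt.q, Lt.y, Lt.z, Lt.q, Lt.z, Lt.y] 35 4 true (by decide +kernel) h
theorem dM_91_s (hinv : ∀ x, g (inv x) = (g x)⁻¹) (hr : ∀ r ∈ rels, (r.map g).prod = 1) (j z1 z2 u : ℕ) (h : dM_91 j z1 z2 u = true) : GoodM (fa g) T MG M (cP g H) u := by
  unfold dM_91 at h
  rcases brec_true h with h | h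
  · exact dM_89_s hinv hr j z1 z2 u h
  · exact dM_90_s hinv hr j z1 z2 u h
theorem dM_92_s (hinv : ∀ x, g (inv x) = (g x)⁻¹) (hr : ∀ r ∈ rels, (r.map g).prod = 1) (j z1 z2 u : ℕ) (h : dM_92 j z1 z2 u = true) : GoodM (fa g) T MG M (cP g H) u := by
  unfold dM_92 at h
  rcases brec_true h with h | h
  · exact dM_88_s hinv hr j z1 z2 u h
  · exact dM_91_s hinv hr j z1 z2 u h
theorem dM_93_s (hinv : ∀ x, g (inv x) = (g x)⁻¹) (hr : ∀ r ∈ rels, (r.map g).prod = 1) (j z1 z2 u : ℕ) (h : dM_93 j z1 z2 u = true) : GoodM (fa g) T MG M (cP g H) u := by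
  unfold dM_93 at h
  rcases brec_true h with h | h
  · exact dM_85_s hinv hr j z1 z2 u h
  · exact dM_92_s hinv hr j z1 z2 u h
theorem dM_94_s (hinv : ∀ x, g (inv x) = (g x)⁻¹) (hr : ∀ r ∈ rels, (r.map g).prod = 1) (j z1 z2 u : ℕ) (h : dM_94 j z1 z2 u = true) : GoodM (fa g) T MG M (cP g H) u := by
  unfold dM_94 at h
  rcases brec_true h with h | h
  · exact dM_78_s hinv hr j z1 z2 u h
  · exact dM_93_s hinv hr j z1 z2 u h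
theorem dM_95_s (hinv : ∀ x, g (inv x) = (g x)⁻¹) (hr : ∀ r ∈ rels, (r.map g).prod = 1) (j z1 z2 u : ℕ) (h : dM_95 j z1 z2 u = true) : GoodM (fa g) T MG M (cP g H) u := by
  unfold dM_95 at h
  rcases brec_true h with h | h
  · rcases brec_true h with h | h
    · rcases brec_true h with h | h
      · exact H9.TCY.mRelD_at (T := T) (by decide) hinv hr [Lt.y, Lt.y, Lt.y, Lt.q, Lt.y, Lt.y, Lt.y, Lt.q, Lt.yi, Lt.yi, Lt.yi, Lt.q, Lt.y, Lt.y, Lt.y, Lt.q] 30 9 true (by decide +kernel) h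
      · exact H9.TCY.mRelD_at (T := T) (by decide) hinv hr [Lt.yi, Lt.q, Lt.z, Lt.q, Lt.y, Lt.z, Lt.yi, Lt.q, Lt.y, Lt.q, Lt.z, Lt.q, Lt.yi, Lt.z, Lt.y, Lt.q] 24 10 false (by decide +kernel) h
    · rcases brec_true h with h | h
      · exact H9.TCY.mRelD_at (T := T) (by decide) hinv hr [Lt.q, Lt.yi, Lt.z, Lt.y, Lt.z, Lt.q, Lt.yi, Lt.q, Lt.z, Lt.y, Lt.z, Lt.yi, Lt.q, Lt.z, Lt.y, Lt.z] 28 10 false (by decide +kernel) h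
      · exact H9.TCY.mRelD_at (T := T) (by decide) hinv hr [Lt.y, Lt.y, Lt.q, Lt.yi, Lt.q, Lt.yi, Lt.q, Lt.yi, Lt.yi, Lt.q, Lt.yi, Lt.q, Lt.y, Lt.y, Lt.q, Lt.y] 31 14 true (by decide +kernel) h
  · rcases brec_true h with h | h
    · rcases brec_true h with h | h
      · exact H9.TCY.mRelD_at (T := T) (by decide) hinv hr [Lt.y, Lt.y, Lt.y, Lt.q, Lt.yi, Lt.q, Lt.yi, Lt.q, Lt.yi, Lt.yi, Lt.q, Lt.yi, Lt.q, Lt.y, Lt.y, Lt.q] 31 13 true (by decide +kernel) h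
      · exact H9.TCY.mRelD_at (T := T) (by decide) hinv hr [Lt.q, Lt.yi, Lt.yi, Lt.q, Lt.yi, Lt.q, Lt.y, Lt.y, Lt.q, Lt.y, Lt.y, Lt.y, Lt.q, Lt.yi, Lt.q, Lt.yi] 31 4 true (by decide +kernel) h
    · rcases brec_true h with h | h
      · exact H9.TCY.mRelD_at (T := T) (by decide) hinv hr [Lt.q, Lt.yi, Lt.q, Lt.z, Lt.y, Lt.z, Lt.yi, Lt.q, Lt.z, Lt.y, Lt.z, Lt.q, Lt.yi, Lt.z, Lt.y, Lt.z] 28 15 false (by decide +kernel) h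
      · rcases brec_true h with h | h
        · exact H9.TCY.mRelD_at (T := T) (by decide) hinv hr [Lt.yi, Lt.yi, Lt.q, Lt.yi, Lt.yi, Lt.yi, Lt.q, Lt.yi, Lt.yi, Lt.yi, Lt.q, Lt.y, Lt.y, Lt.y, Lt.q, Lt.yi] 30 1 false (by decide +kernel) h
        · exact H9.TCY.mRelD_at (T := T) (by decide) hinv hr [Lt.q, Lt.z, Lt.yi, Lt.yi, Lt.z, Lt.q, Lt.yi, Lt.yi, Lt.yi, Lt.q, Lt.z, Lt.yi, Lt.yi, Lt.z, Lt.q, Lt.yi, Lt.yi, Lt.yi, Lt.q, Lt.z, Lt.yi, Lt.yi, Lt.z, Lt.q, Lt.yi, Lt.yi, Lt.yi] 47 3 true (by decide +kernel) h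
theorem dM_96_s (hinv : ∀ x, g (inv x) = (g x)⁻¹) (hr : ∀ r ∈ rels, (r.map g).prod = 1) (j z1 z2 u : ℕ) (h : dM_96 j z1 z2 u = true) : GoodM (fa g) T MG M (cP g H) u := by
  unfold dM_96 at h
  rcases brec_true h with h | h
  · rcases brec_true h with h | h
    · rcases brec_true h with h | h
      · exact H9.TCY.mRelD_at (T := T) (by decide) hinv hr [Lt.y, Lt.q, Lt.yi, Lt.z, Lt.y, Lt.q, Lt.z, Lt.q, Lt.yi, Lt.q, Lt.y, Lt.z, Lt.yi, Lt.q, Lt.z, Lt.q] 24 5 true (by decide +kernel) h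
      · exact H9.TCY.mRelD_at (T := T) (by decide) hinv hr [Lt.y, Lt.z, Lt.yi, Lt.q, Lt.z, Lt.y, Lt.z, Lt.q, Lt.yi, Lt.z, Lt.y, Lt.z, Lt.q, Lt.yi, Lt.q, Lt.z] 28 3 false (by decide +kernel) h
    · rcases brec_true h with h | h
      · exact H9.TCY.mRelD_at (T := T) (by decide) hinv hr [Lt.yi, Lt.q, Lt.y, Lt.z, Lt.q, Lt.yi, Lt.q, Lt.z, Lt.y, Lt.q, Lt.yi, Lt.q, Lt.z, Lt.y, Lt.z, Lt.q] 23 13 true (by decide +kernel) h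
      · rcases brec_true h with h | h
        · exact H9.TCY.mRelD_at (T := T) (by decide) hinv hr [Lt.z, Lt.yi, Lt.z, Lt.y, Lt.z, Lt.q, Lt.yi, Lt.z, Lt.q, Lt.y, Lt.z, Lt.yi, Lt.q, Lt.z, Lt.y, Lt.q] 36 5 false (by decide +kernel) h
        · exact H9.TCY.mRelD_at (T := T) (by decide) hinv hr [Lt.q, Lt.z, Lt.yi, Lt.z, Lt.y, Lt.z, Lt.q, Lt.y, Lt.z, Lt.q, Lt.y, Lt.y, Lt.z, Lt.q, Lt.yi, Lt.q, Lt.z, Lt.q, Lt.y, Lt.q, Lt.z, Lt.yi, Lt.yi, Lt.q, Lt.z, Lt.yi] 46 8 false (by decide +kernel) h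
  · rcases brec_true h with h | h
    · rcases brec_true h with h | h
      · exact H9.TCY.mRelD_at (T := T) (by decide) hinv hr [Lt.y, Lt.q, Lt.z, Lt.yi, Lt.z, Lt.y, Lt.z, Lt.q, Lt.yi, Lt.z, Lt.q, Lt.y, Lt.z, Lt.yi, Lt.q, Lt.z] 36 3 false (by decide +kernel) h
      · exact H9.TCY.mRelD_at (T := T) (by decide) hinv hr [Lt.z, Lt.yi, Lt.q, Lt.z, Lt.yi, Lt.yi, Lt.q, Lt.z, Lt.yi, Lt.z, Lt.y, Lt.q, Lt.z, Lt.y, Lt.y, Lt.q, Lt.z, Lt.y] 40 14 false (by decide +kernel) h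
    · rcases brec_true h with h | h
      · exact H9.TCY.mRelD_at (T := T) (by decide) hinv hr [Lt.yi, Lt.q, Lt.y, Lt.y, Lt.q, Lt.y, Lt.y, Lt.y, Lt.q, Lt.yi, Lt.q, Lt.yi, Lt.q, Lt.yi, Lt.yi, Lt.q] 31 8 true (by decide +kernel) h
      · rcases brec_true h with h | h
        · exact H9.TCY.mRelD_at (T := T) (by decide) hinv hr [Lt.y, Lt.q, Lt.z, Lt.yi, Lt.q, Lt.z, Lt.y, Lt.z, Lt.yi, Lt.z, Lt.q, Lt.y, Lt.z, Lt.q, Lt.yi, Lt.z] 27 13 false (by decide +kernel) h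
        · exact H9.TCY.mRelD_at (T := T) (by decide) hinv hr [Lt.q, Lt.z, Lt.yi, Lt.q, Lt.yi, Lt.q, Lt.yi, Lt.z, Lt.q, Lt.z, Lt.yi, Lt.q, Lt.yi, Lt.q, Lt.yi, Lt.z] 35 6 false (by decide +kernel) h
theorem dM_97_s (hinv : ∀ x, g (inv x) = (g x)⁻¹) (hr : ∀ r ∈ rels, (r.map g).prod = 1) (j z1 z2 u : ℕ) (h : dM_97 j z1 z2 u = true) : GoodM (fa g) T MG M (cP g H) u := by
  unfold dM_97 at h
  rcases brec_true h with h | h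
  · exact dM_95_s hinv hr j z1 z2 u h
  · exact dM_96_s hinv hr j z1 z2 u h
theorem dM_98_s (hinv : ∀ x, g (inv x) = (g x)⁻¹) (hr : ∀ r ∈ rels, (r.map g).prod = 1) (j z1 z2 u : ℕ) (h : dM_98 j z1 z2 u = true) : GoodM (fa g) T MG M (cP g H) u := by
  unfold dM_98 at h
  rcases brec_true h with h | h
  · rcases brec_true h with h | h
    · rcases brec_true h with h | h
      · exact H9.TCY.mRelD_at (T := T) (by decide) hinv hr [Lt.q, Lt.yi, Lt.yi, Lt.q, Lt.yi, Lt.yi, Lt.yi, Lt.q, Lt.y, Lt.q, Lt.y, Lt.q, Lt.y, Lt.y, Lt.q, Lt.y] 32 12 false (by decide +kernel) h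
      · exact H9.TCY.mRelD_at (T := T) (by decide) hinv hr [Lt.q, Lt.yi, Lt.z, Lt.q, Lt.z, Lt.yi, Lt.q, Lt.yi, Lt.q, Lt.yi, Lt.z, Lt.q, Lt.z, Lt.yi, Lt.q, Lt.yi] 35 3 false (by decide +kernel) h
    · rcases brec_true h with h | h
      · exact H9.TCY.mRelD_at (T := T) (by decide) hinv hr [Lt.z, Lt.yi, Lt.q, Lt.z, Lt.yi, Lt.q, Lt.z, Lt.yi, Lt.q, Lt.z, Lt.yi, Lt.q, Lt.z, Lt.yi, Lt.q, Lt.z, Lt.yi, Lt.q, Lt.z, Lt.yi, Lt.q, Lt.z, Lt.yi, Lt.q] 44 2 true (by decide +kernel) h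
      · rcases brec_true h with h | h
        · exact H9.TCY.mRelD_at (T := T) (by decide) hinv hr [Lt.yi, Lt.yi, Lt.yi, Lt.q, Lt.z, Lt.yi, Lt.yi, Lt.z, Lt.q, Lt.yi, Lt.yi, Lt.yi, Lt.q, Lt.z, Lt.yi, Lt.yi, Lt.z, Lt.q, Lt.yi, Lt.yi, Lt.yi, Lt.q, Lt.z, Lt.yi, Lt.yi, Lt.z, Lt.q] 47 0 true (by decide +kernel) h
        · exact H9.TCY.mRelD_at (T := T) (by decide) hinv hr [Lt.q, Lt.z, Lt.yi, Lt.q, Lt.z, Lt.y, Lt.z, Lt.yi, Lt.z, Lt.q, Lt.y, Lt.z, Lt.q, Lt.yi, Lt.z, Lt.y] 27 14 false (by decide +kernel) h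
  · rcases brec_true h with h | h
    · rcases brec_true h with h | h
      · exact H9.TCY.mRelD_at (T := T) (by decide) hinv hr [Lt.q, Lt.yi, Lt.z, Lt.y, Lt.q, Lt.yi, Lt.q, Lt.z, Lt.q, Lt.y, Lt.z, Lt.yi, Lt.q, Lt.y, Lt.q, Lt.z] 24 5 false (by decide +kernel) h
      · exact H9.TCY.mRelD_at (T := T) (by decide) hinv hr [Lt.z, Lt.q, Lt.yi, Lt.yi, Lt.yi, Lt.q, Lt.z, Lt.yi, Lt.yi, Lt.z, Lt.q, Lt.yi, Lt.yi, Lt.yi, Lt.q, Lt.z, Lt.yi, Lt.yi, Lt.z, Lt.q, Lt.yi, Lt.yi, Lt.yi, Lt.q, Lt.z, Lt.yi, Lt.yi] 47 7 true (by decide +kernel) h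
    · rcases brec_true h with h | h
      · exact H9.TCY.mRelD_at (T := T) (by decide) hinv hr [Lt.z, Lt.y, Lt.q, Lt.yi, Lt.q, Lt.z, Lt.q, Lt.y, Lt.z, Lt.yi, Lt.q, Lt.y, Lt.q, Lt.z, Lt.q, Lt.yi] 24 7 false (by decide +kernel) h
      · rcases brec_true h with h | h
        · exact H9.TCY.mRelD_at (T := T) (by decide) hinv hr [Lt.y, Lt.z, Lt.yi, Lt.z, Lt.q, Lt.y, Lt.q, Lt.z, Lt.yi, Lt.z, Lt.y, Lt.q, Lt.z, Lt.yi, Lt.z, Lt.q] 28 10 true (by decide +kernel) h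
        · exact H9.TCY.mRelD_at (T := T) (by decide) hinv hr [Lt.q, Lt.y, Lt.z, Lt.yi, Lt.q, Lt.z, Lt.y, Lt.q, Lt.z, Lt.yi, Lt.z, Lt.y, Lt.z, Lt.q, Lt.yi, Lt.z] 36 13 false (by decide +kernel) h
theorem dM_99_s (hinv : ∀ x, g (inv x) = (g x)⁻¹) (hr : ∀ r ∈ rels, (r.map g).prod = 1) (j z1 z2 u : ℕ) (h : dM_99 j z1 z2 u = true) : GoodM (fa g) T MG M (cP g H) u := by
  unfold dM_99 at h
  rcases brec_true h with h | h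
  · rcases brec_true h with h | h
    · rcases brec_true h with h | h
      · exact H9.TCY.mRelD_at (T := T) (by decide) hinv hr [Lt.y, Lt.q, Lt.z, Lt.q, Lt.yi, Lt.z, Lt.y, Lt.q, Lt.yi, Lt.q, Lt.z, Lt.q, Lt.y, Lt.z, Lt.yi, Lt.q] 24 2 false (by decide +kernel) h
      · exact H9.TCY.mRelD_at (T := T) (by decide) hinv hr [Lt.q, Lt.z, Lt.y, Lt.y, Lt.q, Lt.z, Lt.y, Lt.z, Lt.yi, Lt.q, Lt.z, Lt.yi, Lt.yi, Lt.q, Lt.z, Lt.yi, Lt.z, Lt.y] 40 7 false (by decide +kernel) h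
    · rcases brec_true h with h | h
      · exact H9.TCY.mRelD_at (T := T) (by decide) hinv hr [Lt.yi, Lt.q, Lt.y, Lt.q, Lt.y, Lt.y, Lt.q, Lt.y, Lt.q, Lt.y, Lt.q, Lt.yi, Lt.yi, Lt.yi, Lt.q, Lt.yi] 31 5 false (by decide +kernel) h
      · rcases brec_true h with h | h
        · exact H9.TCY.mRelD_at (T := T) (by decide) hinv hr [Lt.q, Lt.yi, Lt.q, Lt.yi, Lt.q, Lt.y, Lt.y, Lt.y, Lt.q, Lt.y, Lt.y, Lt.q, Lt.yi, Lt.q, Lt.yi, Lt.yi] 32 8 true (by decide +kernel) h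
        · exact H9.TCY.mRelD_at (T := T) (by decide) hinv hr [Lt.yi, Lt.z, Lt.q, Lt.y, Lt.z, Lt.yi, Lt.q, Lt.z, Lt.y, Lt.q, Lt.z, Lt.yi, Lt.z, Lt.y, Lt.z, Lt.q] 36 11 false (by decide +kernel) h
  · rcases brec_true h with h | h
    · rcases brec_true h with h | h
      · exact H9.TCY.mRelD_at (T := T) (by decide) hinv hr [Lt.q, Lt.z, Lt.y, Lt.z, Lt.yi, Lt.q, Lt.z, Lt.y, Lt.z, Lt.q, Lt.yi, Lt.z, Lt.y, Lt.z, Lt.q, Lt.yi] 28 1 false (by decide +kernel) h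
      · exact H9.TCY.mRelD_at (T := T) (by decide) hinv hr [Lt.q, Lt.z, Lt.q, Lt.y, Lt.q, Lt.yi, Lt.z, Lt.y, Lt.q, Lt.z, Lt.q, Lt.yi, Lt.q, Lt.y, Lt.z, Lt.yi] 24 2 true (by decide +kernel) h
    · rcases brec_true h with h | h
      · exact H9.TCY.mRelD_at (T := T) (by decide) hinv hr [Lt.q, Lt.y, Lt.y, Lt.q, Lt.y, Lt.q, Lt.yi, Lt.yi, Lt.q, Lt.yi, Lt.yi, Lt.yi, Lt.q, Lt.y, Lt.q, Lt.y] 32 7 false (by decide +kernel) h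
      · rcases brec_true h with h | h
        · exact H9.TCY.mRelD_at (T := T) (by decide) hinv hr [Lt.yi, Lt.q, Lt.z, Lt.y, Lt.z, Lt.q, Lt.yi, Lt.z, Lt.y, Lt.z, Lt.q, Lt.yi, Lt.q, Lt.z, Lt.y, Lt.z] 28 5 false (by decide +kernel) h
        · exact H9.TCY.mRelD_at (T := T) (by decide) hinv hr [Lt.y, Lt.z, Lt.q, Lt.yi, Lt.z, Lt.q, Lt.y, Lt.z, Lt.yi, Lt.q, Lt.z, Lt.y, Lt.q, Lt.z, Lt.yi, Lt.z] 36 8 false (by decide +kernel) h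
theorem dM_100_s (hinv : ∀ x, g (inv x) = (g x)⁻¹) (hr : ∀ r ∈ rels, (r.map g).prod = 1) (j z1 z2 u : ℕ) (h : dM_100 j z1 z2 u = true) : GoodM (fa g) T MG M (cP g H) u := by
  unfold dM_100 at h
  rcases brec_true h with h | h
  · exact dM_98_s hinv hr j z1 z2 u h
  · exact dM_99_s hinv hr j z1 z2 u h
theorem dM_101_s (hinv : ∀ x, g (inv x) = (g x)⁻¹) (hr : ∀ r ∈ rels, (r.map g).prod = 1) (j z1 z2 u : ℕ) (h : dM_101 j z1 z2 u = true) : GoodM (fa g) T MG M (cP g H) u := by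
  unfold dM_101 at h
  rcases brec_true h with h | h
  · exact dM_97_s hinv hr j z1 z2 u h
  · exact dM_100_s hinv hr j z1 z2 u h
theorem dM_102_s (hinv : ∀ x, g (inv x) = (g x)⁻¹) (hr : ∀ r ∈ rels, (r.map g).prod = 1) (j z1 z2 u : ℕ) (h : dM_102 j z1 z2 u = true) : GoodM (fa g) T MG M (cP g H) u := by
  unfold dM_102 at h
  rcases brec_true h with h | h
  · rcases brec_true h with h | h
    · rcases brec_true h with h | h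
      · exact H9.TCY.mRelD_at (T := T) (by decide) hinv hr [Lt.q, Lt.z, Lt.yi, Lt.z, Lt.y, Lt.z, Lt.q, Lt.yi, Lt.z, Lt.q, Lt.y, Lt.z, Lt.yi, Lt.q, Lt.z, Lt.y] 36 4 false (by decide +kernel) h
      · exact H9.TCY.mRelD_at (T := T) (by decide) hinv hr [Lt.q, Lt.y, Lt.q, Lt.yi, Lt.yi, Lt.q, Lt.yi, Lt.yi, Lt.yi, Lt.q, Lt.y, Lt.q, Lt.y, Lt.q, Lt.y, Lt.y] 32 10 false (by decide +kernel) h
    · rcases brec_true h with h | h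
      · exact H9.TCY.mRelD_at (T := T) (by decide) hinv hr [Lt.q, Lt.y, Lt.y, Lt.y, Lt.q, Lt.y, Lt.y, Lt.y, Lt.q, Lt.yi, Lt.yi, Lt.yi, Lt.q, Lt.y, Lt.y, Lt.y] 30 8 true (by decide +kernel) h
      · rcases brec_true h with h | h
        · exact H9.TCY.mRelD_at (T := T) (by decide) hinv hr [Lt.q, Lt.yi, Lt.yi, Lt.yi, Lt.q, Lt.y, Lt.y, Lt.y, Lt.q, Lt.yi, Lt.yi, Lt.yi, Lt.q, Lt.yi, Lt.yi, Lt.yi] 30 7 false (by decide +kernel) h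
        · exact H9.TCY.mRelD_at (T := T) (by decide) hinv hr [Lt.yi, Lt.z, Lt.q, Lt.z, Lt.yi, Lt.q, Lt.yi, Lt.q, Lt.yi, Lt.z, Lt.q, Lt.z, Lt.yi, Lt.q, Lt.yi, Lt.q] 35 4 false (by decide +kernel) h
  · rcases brec_true h with h | h
    · rcases brec_true h with h | h
      · exact H9.TCY.mRelD_at (T := T) (by decide) hinv hr [Lt.q, Lt.z, Lt.q, Lt.yi, Lt.z, Lt.y, Lt.q, Lt.yi, Lt.q, Lt.z, Lt.q, Lt.y, Lt.z, Lt.yi, Lt.q, Lt.y] 24 3 false (by decide +kernel) h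
      · exact H9.TCY.mRelD_at (T := T) (by decide) hinv hr [Lt.q, Lt.yi, Lt.z, Lt.q, Lt.y, Lt.z, Lt.yi, Lt.q, Lt.z, Lt.y, Lt.q, Lt.z, Lt.yi, Lt.z, Lt.y, Lt.z] 36 10 false (by decide +kernel) h
    · rcases brec_true h with h | h
      · exact H9.TCY.mRelD_at (T := T) (by decide) hinv hr [Lt.q, Lt.z, Lt.yi, Lt.q, Lt.z, Lt.yi, Lt.z, Lt.y, Lt.z, Lt.q, Lt.y, Lt.z, Lt.q, Lt.y, Lt.y, Lt.z, Lt.q, Lt.yi, Lt.q, Lt.z, Lt.q, Lt.y, Lt.q, Lt.z, Lt.yi, Lt.yi] 46 5 false (by decide +kernel) h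
      · rcases brec_true h with h | h
        · exact H9.TCY.mRelD_at (T := T) (by decide) hinv hr [Lt.yi, Lt.z, Lt.q, Lt.y, Lt.q, Lt.z, Lt.yi, Lt.z, Lt.q, Lt.y, Lt.q, Lt.z, Lt.yi, Lt.z, Lt.q, Lt.y, Lt.q, Lt.z] 42 2 false (by decide +kernel) h
        · exact H9.TCY.mRelD_at (T := T) (by decide) hinv hr [Lt.z, Lt.q, Lt.y, Lt.z, Lt.yi, Lt.q, Lt.z, Lt.y, Lt.q, Lt.z, Lt.yi, Lt.z, Lt.y, Lt.z, Lt.q, Lt.yi] 36 12 false (by decide +kernel) h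
theorem dM_103_s (hinv : ∀ x, g (inv x) = (g x)⁻¹) (hr : ∀ r ∈ rels, (r.map g).prod = 1) (j z1 z2 u : ℕ) (h : dM_103 j z1 z2 u = true) : GoodM (fa g) T MG M (cP g H) u := by
  unfold dM_103 at h
  rcases brec_true h with h | h
  · rcases brec_true h with h | h
    · rcases brec_true h with h | h
      · exact H9.TCY.mRelD_at (T := T) (by decide) hinv hr [Lt.yi, Lt.z, Lt.q, Lt.yi, Lt.yi, Lt.yi, Lt.q, Lt.z, Lt.yi, Lt.yi, Lt.z, Lt.q, Lt.yi, Lt.yi, Lt.yi, Lt.q, Lt.z, Lt.yi, Lt.yi, Lt.z, Lt.q, Lt.yi, Lt.yi, Lt.yi, Lt.q, Lt.z, Lt.yi] 47 6 true (by decide +kernel) h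
      · exact H9.TCY.mRelD_at (T := T) (by decide) hinv hr [Lt.yi, Lt.z, Lt.y, Lt.q, Lt.z, Lt.q, Lt.yi, Lt.q, Lt.y, Lt.z, Lt.yi, Lt.q, Lt.z, Lt.q, Lt.y, Lt.q] 24 7 true (by decide +kernel) h
    · rcases brec_true h with h | h
      · exact H9.TCY.mRelD_at (T := T) (by decide) hinv hr [Lt.z, Lt.y, Lt.y, Lt.y, Lt.q, Lt.z, Lt.q, Lt.z, Lt.y, Lt.y, Lt.y, Lt.q, Lt.z, Lt.q] 21 3 true (by decide +kernel) h
      · rcases brec_true h with h | h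
        · exact H9.TCY.mRelD_at (T := T) (by decide) hinv hr [Lt.yi, Lt.q, Lt.yi, Lt.yi, Lt.q, Lt.yi, Lt.q, Lt.yi, Lt.q, Lt.y, Lt.y, Lt.y, Lt.q, Lt.y, Lt.y, Lt.q] 32 4 true (by decide +kernel) h
        · exact H9.TCY.mRelD_at (T := T) (by decide) hinv hr [Lt.z, Lt.yi, Lt.q, Lt.yi, Lt.q, Lt.yi, Lt.z, Lt.q, Lt.z, Lt.yi, Lt.q, Lt.yi, Lt.q, Lt.yi, Lt.z, Lt.q] 35 7 false (by decide +kernel) h
  · rcases brec_true h with h | h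
    · rcases brec_true h with h | h
      · exact H9.TCY.mRelD_at (T := T) (by decide) hinv hr [Lt.y, Lt.q, Lt.yi, Lt.q, Lt.yi, Lt.yi, Lt.q, Lt.yi, Lt.q, Lt.yi, Lt.q, Lt.y, Lt.y, Lt.y, Lt.q, Lt.y] 32 2 true (by decide +kernel) h
      · rcases brec_true h with h | h
        · exact H9.TCY.mRelD_at (T := T) (by decide) hinv hr [Lt.z, Lt.yi, Lt.q, Lt.y, Lt.q, Lt.z, Lt.q, Lt.yi, Lt.z, Lt.y, Lt.q, Lt.yi, Lt.q, Lt.z, Lt.q, Lt.y] 24 15 false (by decide +kernel) h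
        · exact H9.TCY.mRelD_at (T := T) (by decide) hinv hr [Lt.z, Lt.yi, Lt.z, Lt.y, Lt.q, Lt.z, Lt.yi, Lt.z, Lt.q, Lt.y, Lt.z, Lt.yi, Lt.z, Lt.q, Lt.y, Lt.q] 28 1 true (by decide +kernel) h
    · rcases brec_true h with h | h
      · exact H9.TCY.mRelD_at (T := T) (by decide) hinv hr [Lt.y, Lt.z, Lt.yi, Lt.q, Lt.y, Lt.q, Lt.z, Lt.q, Lt.yi, Lt.z, Lt.y, Lt.q, Lt.yi, Lt.q, Lt.z, Lt.q] 24 14 false (by decide +kernel) h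
      · rcases brec_true h with h | h
        · exact H9.TCY.mRelD_at (T := T) (by decide) hinv hr [Lt.z, Lt.y, Lt.y, Lt.q, Lt.yi, Lt.yi, Lt.z, Lt.q, Lt.z, Lt.y, Lt.y, Lt.q, Lt.yi, Lt.yi, Lt.z, Lt.q] 34 4 false (by decide +kernel) h
        · exact H9.TCY.mRelD_at (T := T) (by decide) hinv hr [Lt.q, Lt.y, Lt.y, Lt.y, Lt.q, Lt.yi, Lt.yi, Lt.yi, Lt.q, Lt.yi, Lt.yi, Lt.yi, Lt.q, Lt.yi, Lt.yi, Lt.yi] 30 11 false (by decide +kernel) h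
theorem dM_104_s (hinv : ∀ x, g (inv x) = (g x)⁻¹) (hr : ∀ r ∈ rels, (r.map g).prod = 1) (j z1 z2 u : ℕ) (h : dM_104 j z1 z2 u = true) : GoodM (fa g) T MG M (cP g H) u := by
  unfold dM_104 at h
  rcases brec_true h with h | h
  · exact dM_102_s hinv hr j z1 z2 u h
  · exact dM_103_s hinv hr j z1 z2 u h
theorem dM_105_s (hinv : ∀ x, g (inv x) = (g x)⁻¹) (hr : ∀ r ∈ rels, (r.map g).prod = 1) (j z1 z2 u : ℕ) (h : dM_105 j z1 z2 u = true) : GoodM (fa g) T MG M (cP g H) u := by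
  unfold dM_105 at h
  rcases brec_true h with h | h
  · rcases brec_true h with h | h
    · rcases brec_true h with h | h
      · exact H9.TCY.mRelD_at (T := T) (by decide) hinv hr [Lt.q, Lt.y, Lt.q, Lt.y, Lt.y, Lt.q, Lt.y, Lt.q, Lt.yi, Lt.yi, Lt.q, Lt.yi, Lt.yi, Lt.yi, Lt.q, Lt.y] 32 5 false (by decide +kernel) h
      · exact H9.TCY.mRelD_at (T := T) (by decide) hinv hr [Lt.y, Lt.y, Lt.q, Lt.yi, Lt.q, Lt.yi, Lt.yi, Lt.q, Lt.yi, Lt.q, Lt.yi, Lt.q, Lt.y, Lt.y, Lt.y, Lt.q] 32 1 true (by decide +kernel) h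
    · rcases brec_true h with h | h
      · exact H9.TCY.mRelD_at (T := T) (by decide) hinv hr [Lt.yi, Lt.q, Lt.yi, Lt.yi, Lt.q, Lt.yi, Lt.q, Lt.y, Lt.y, Lt.q, Lt.y, Lt.y, Lt.y, Lt.q, Lt.yi, Lt.q] 31 3 true (by decide +kernel) h
      · rcases brec_true h with h | h
        · exact H9.TCY.mRelD_at (T := T) (by decide) hinv hr [Lt.y, Lt.y, Lt.q, Lt.y, Lt.q, Lt.yi, Lt.yi, Lt.q, Lt.yi, Lt.yi, Lt.yi, Lt.q, Lt.y, Lt.q, Lt.y, Lt.q] 32 8 false (by decide +kernel) h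
        · exact H9.TCY.mRelD_at (T := T) (by decide) hinv hr [Lt.q, Lt.yi, Lt.yi, Lt.yi, Lt.q, Lt.z, Lt.yi, Lt.yi, Lt.z, Lt.q, Lt.yi, Lt.yi, Lt.yi, Lt.q, Lt.z, Lt.yi, Lt.yi, Lt.z, Lt.q, Lt.yi, Lt.yi, Lt.yi, Lt.q, Lt.z, Lt.yi, Lt.yi, Lt.z] 47 8 true (by decide +kernel) h
  · rcases brec_true h with h | h
    · rcases brec_true h with h | h
      · exact H9.TCY.mRelD_at (T := T) (by decide) hinv hr [Lt.z, Lt.yi, Lt.q, Lt.z, Lt.q, Lt.y, Lt.q, Lt.yi, Lt.z, Lt.y, Lt.q, Lt.z, Lt.q, Lt.yi, Lt.q, Lt.y] 24 0 true (by decide +kernel) h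
      · rcases brec_true h with h | h
        · exact H9.TCY.mRelD_at (T := T) (by decide) hinv hr [Lt.yi, Lt.q, Lt.yi, Lt.q, Lt.yi, Lt.z, Lt.q, Lt.z, Lt.yi, Lt.q, Lt.yi, Lt.q, Lt.yi, Lt.z, Lt.q, Lt.z] 35 0 false (by decide +kernel) h
        · exact H9.TCY.mRelD_at (T := T) (by decide) hinv hr [Lt.yi, Lt.z, Lt.q, Lt.y, Lt.q, Lt.z, Lt.yi, Lt.z, Lt.y, Lt.q, Lt.z, Lt.yi, Lt.z, Lt.q, Lt.y, Lt.z] 28 12 true (by decide +kernel) h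
    · rcases brec_true h with h | h
      · exact H9.TCY.mRelD_at (T := T) (by decide) hinv hr [Lt.q, Lt.yi, Lt.q, Lt.yi, Lt.yi, Lt.q, Lt.yi, Lt.q, Lt.y, Lt.y, Lt.q, Lt.y, Lt.y, Lt.y, Lt.q, Lt.yi] 31 2 true (by decide +kernel) h
      · rcases brec_true h with h | h
        · exact H9.TCY.mRelD_at (T := T) (by decide) hinv hr [Lt.y, Lt.q, Lt.z, Lt.yi, Lt.z, Lt.y, Lt.q, Lt.z, Lt.yi, Lt.z, Lt.q, Lt.y, Lt.z, Lt.yi, Lt.z, Lt.q] 28 15 true (by decide +kernel) h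
        · exact H9.TCY.mRelD_at (T := T) (by decide) hinv hr [Lt.y, Lt.q, Lt.z, Lt.q, Lt.yi, Lt.q, Lt.y, Lt.z, Lt.yi, Lt.q, Lt.z, Lt.q, Lt.y, Lt.q, Lt.yi, Lt.z] 24 9 true (by decide +kernel) h
theorem dM_106_s (hinv : ∀ x, g (inv x) = (g x)⁻¹) (hr : ∀ r ∈ rels, (r.map g).prod = 1) (j z1 z2 u : ℕ) (h : dM_106 j z1 z2 u = true) : GoodM (fa g) T MG M (cP g H) u := by
  unfold dM_106 at h
  rcases brec_true h with h | h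
  · rcases brec_true h with h | h
    · rcases brec_true h with h | h
      · exact H9.TCY.mRelD_at (T := T) (by decide) hinv hr [Lt.y, Lt.q, Lt.y, Lt.q, Lt.yi, Lt.yi, Lt.yi, Lt.q, Lt.yi, Lt.yi, Lt.q, Lt.y, Lt.q, Lt.y, Lt.y, Lt.q] 31 12 false (by decide +kernel) h
      · rcases brec_true h with h | h
        · exact H9.TCY.mRelD_at (T := T) (by decide) hinv hr [Lt.q, Lt.y, Lt.q, Lt.z, Lt.q, Lt.yi, Lt.z, Lt.y, Lt.q, Lt.yi, Lt.q, Lt.z, Lt.q, Lt.y, Lt.z, Lt.yi] 24 1 false (by decide +kernel) h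
        · exact H9.TCY.mRelD_at (T := T) (by decide) hinv hr [Lt.q, Lt.y, Lt.z, Lt.yi, Lt.q, Lt.z, Lt.q, Lt.y, Lt.q, Lt.yi, Lt.z, Lt.y, Lt.q, Lt.z, Lt.q, Lt.yi] 24 14 true (by decide +kernel) h
    · rcases brec_true h with h | h
      · exact H9.TCY.mRelD_at (T := T) (by decide) hinv hr [Lt.y, Lt.z, Lt.yi, Lt.z, Lt.q, Lt.yi, Lt.yi, Lt.z, Lt.q, Lt.yi, Lt.z, Lt.y, Lt.z, Lt.q, Lt.y, Lt.y, Lt.z, Lt.q] 40 2 true (by decide +kernel) h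
      · rcases brec_true h with h | h
        · exact H9.TCY.mRelD_at (T := T) (by decide) hinv hr [Lt.yi, Lt.z, Lt.y, Lt.q, Lt.z, Lt.yi, Lt.z, Lt.q, Lt.y, Lt.z, Lt.yi, Lt.z, Lt.q, Lt.y, Lt.q, Lt.z] 28 2 true (by decide +kernel) h
        · exact H9.TCY.mRelD_at (T := T) (by decide) hinv hr [Lt.z, Lt.q, Lt.y, Lt.q, Lt.yi, Lt.z, Lt.y, Lt.q, Lt.z, Lt.q, Lt.yi, Lt.q, Lt.y, Lt.z, Lt.yi, Lt.q] 24 3 true (by decide +kernel) h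
  · rcases brec_true h with h | h
    · rcases brec_true h with h | h
      · exact H9.TCY.mRelD_at (T := T) (by decide) hinv hr [Lt.y, Lt.q, Lt.z, Lt.yi, Lt.z, Lt.q, Lt.y, Lt.q, Lt.z, Lt.yi, Lt.z, Lt.q, Lt.y, Lt.q, Lt.z, Lt.yi, Lt.z, Lt.q] 42 5 false (by decide +kernel) h
      · rcases brec_true h with h | h
        · exact H9.TCY.mRelD_at (T := T) (by decide) hinv hr [Lt.yi, Lt.q, Lt.z, Lt.yi, Lt.yi, Lt.z, Lt.q, Lt.yi, Lt.yi, Lt.yi, Lt.q, Lt.z, Lt.yi, Lt.yi, Lt.z, Lt.q, Lt.yi, Lt.yi, Lt.yi, Lt.q, Lt.z, Lt.yi, Lt.yi, Lt.z, Lt.q, Lt.yi, Lt.yi] 47 2 true (by decide +kernel) h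
        · exact H9.TCY.mRelD_at (T := T) (by decide) hinv hr [Lt.q, Lt.z, Lt.yi, Lt.z, Lt.q, Lt.y, Lt.q, Lt.z, Lt.yi, Lt.z, Lt.q, Lt.y, Lt.q, Lt.z, Lt.yi, Lt.z, Lt.q, Lt.y] 42 0 false (by decide +kernel) h
    · rcases brec_true h with h | h
      · exact H9.TCY.mRelD_at (T := T) (by decide) hinv hr [Lt.z, Lt.y, Lt.q, Lt.z, Lt.y, Lt.y, Lt.q, Lt.z, Lt.y, Lt.z, Lt.yi, Lt.q, Lt.z, Lt.yi, Lt.yi, Lt.q, Lt.z, Lt.yi] 40 5 false (by decide +kernel) h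
      · rcases brec_true h with h | h
        · exact H9.TCY.mRelD_at (T := T) (by decide) hinv hr [Lt.z, Lt.y, Lt.z, Lt.q, Lt.yi, Lt.z, Lt.y, Lt.z, Lt.q, Lt.yi, Lt.q, Lt.z, Lt.y, Lt.z, Lt.yi, Lt.q] 28 7 false (by decide +kernel) h
        · exact H9.TCY.mRelD_at (T := T) (by decide) hinv hr [Lt.z, Lt.q, Lt.yi, Lt.q, Lt.z, Lt.q, Lt.y, Lt.q, Lt.z, Lt.yi, Lt.yi, Lt.q, Lt.z, Lt.yi, Lt.q, Lt.z, Lt.yi, Lt.z, Lt.y, Lt.z, Lt.q, Lt.y, Lt.z, Lt.q, Lt.y, Lt.y] 46 20 false (by decide +kernel) h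
theorem dM_107_s (hinv : ∀ x, g (inv x) = (g x)⁻¹) (hr : ∀ r ∈ rels, (r.map g).prod = 1) (j z1 z2 u : ℕ) (h : dM_107 j z1 z2 u = true) : GoodM (fa g) T MG M (cP g H) u := by
  unfold dM_107 at h
  rcases brec_true h with h | h
  · exact dM_105_s hinv hr j z1 z2 u h
  · exact dM_106_s hinv hr j z1 z2 u h
theorem dM_108_s (hinv : ∀ x, g (inv x) = (g x)⁻¹) (hr : ∀ r ∈ rels, (r.map g).prod = 1) (j z1 z2 u : ℕ) (h : dM_108 j z1 z2 u = true) : GoodM (fa g) T MG M (cP g H) u := by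
  unfold dM_108 at h
  rcases brec_true h with h | h
  · exact dM_104_s hinv hr j z1 z2 u h
  · exact dM_107_s hinv hr j z1 z2 u h
theorem dM_109_s (hinv : ∀ x, g (inv x) = (g x)⁻¹) (hr : ∀ r ∈ rels, (r.map g).prod = 1) (j z1 z2 u : ℕ) (h : dM_109 j z1 z2 u = true) : GoodM (fa g) T MG M (cP g H) u := by
  unfold dM_109 at h
  rcases brec_true h with h | h
  · exact dM_101_s hinv hr j z1 z2 u h
  · exact dM_108_s hinv hr j z1 z2 u h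
theorem dM_110_s (hinv : ∀ x, g (inv x) = (g x)⁻¹) (hr : ∀ r ∈ rels, (r.map g).prod = 1) (j z1 z2 u : ℕ) (h : dM_110 j z1 z2 u = true) : GoodM (fa g) T MG M (cP g H) u := by
  unfold dM_110 at h
  rcases brec_true h with h | h
  · rcases brec_true h with h | h
    · exact H9.TCY.mRelD_at (T := T) (by decide) hinv hr [Lt.yi, Lt.q, Lt.y, Lt.q, Lt.z, Lt.q, Lt.yi, Lt.z, Lt.y, Lt.q, Lt.yi, Lt.q, Lt.z, Lt.q, Lt.y, Lt.z] 24 0 false (by decide +kernel) h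
    · rcases brec_true h with h | h
      · exact H9.TCY.mRelD_at (T := T) (by decide) hinv hr [Lt.z, Lt.q, Lt.yi, Lt.z, Lt.y, Lt.z, Lt.q, Lt.yi, Lt.q, Lt.z, Lt.y, Lt.z, Lt.yi, Lt.q, Lt.z, Lt.y] 28 9 false (by decide +kernel) h
      · exact H9.TCY.mRelD_at (T := T) (by decide) hinv hr [Lt.yi, Lt.q, Lt.z, Lt.y, Lt.q, Lt.z, Lt.yi, Lt.z, Lt.y, Lt.z, Lt.q, Lt.yi, Lt.z, Lt.q, Lt.y, Lt.z] 36 0 false (by decide +kernel) h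
  · rcases brec_true h with h | h
    · exact H9.TCY.mRelD_at (T := T) (by decide) hinv hr [Lt.q, Lt.yi, Lt.yi, Lt.yi, Lt.q, Lt.yi, Lt.yi, Lt.q, Lt.y, Lt.q, Lt.y, Lt.y, Lt.q, Lt.y, Lt.q, Lt.y] 31 15 false (by decide +kernel) h
    · rcases brec_true h with h | h
      · exact H9.TCY.mRelD_at (T := T) (by decide) hinv hr [Lt.q, Lt.y, Lt.q, Lt.yi, Lt.yi, Lt.yi, Lt.q, Lt.yi, Lt.yi, Lt.q, Lt.y, Lt.q, Lt.y, Lt.y, Lt.q, Lt.y] 31 13 false (by decide +kernel) h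
      · exact H9.TCY.mRelD_at (T := T) (by decide) hinv hr [Lt.y, Lt.q, Lt.yi, Lt.q, Lt.yi, Lt.q, Lt.yi, Lt.yi, Lt.q, Lt.yi, Lt.q, Lt.y, Lt.y, Lt.q, Lt.y, Lt.y] 31 15 true (by decide +kernel) h
theorem dM_111_s (hinv : ∀ x, g (inv x) = (g x)⁻¹) (hr : ∀ r ∈ rels, (r.map g).prod = 1) (j z1 z2 u : ℕ) (h : dM_111 j z1 z2 u = true) : GoodM (fa g) T MG M (cP g H) u := by
  unfold dM_111 at h
  rcases brec_true h with h | h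
  · rcases brec_true h with h | h
    · exact H9.TCY.mRelD_at (T := T) (by decide) hinv hr [Lt.yi, Lt.q, Lt.z, Lt.q, Lt.y, Lt.q, Lt.yi, Lt.z, Lt.y, Lt.q, Lt.z, Lt.q, Lt.yi, Lt.q, Lt.y, Lt.z] 24 1 true (by decide +kernel) h
    · rcases brec_true h with h | h
      · exact H9.TCY.mRelD_at (T := T) (by decide) hinv hr [Lt.yi, Lt.z, Lt.y, Lt.z, Lt.q, Lt.y, Lt.y, Lt.z, Lt.q, Lt.y, Lt.z, Lt.yi, Lt.z, Lt.q, Lt.yi, Lt.yi, Lt.z, Lt.q] 40 11 true (by decide +kernel) h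
      · exact H9.TCY.mRelD_at (T := T) (by decide) hinv hr [Lt.yi, Lt.q, Lt.y, Lt.q, Lt.y, Lt.q, Lt.y, Lt.y, Lt.q, Lt.y, Lt.q, Lt.yi, Lt.yi, Lt.q, Lt.yi, Lt.yi] 32 2 false (by decide +kernel) h
  · rcases brec_true h with h | h
    · rcases brec_true h with h | h
      · exact H9.TCY.mRelD_at (T := T) (by decide) hinv hr [Lt.y, Lt.q, Lt.yi, Lt.q, Lt.z, Lt.q, Lt.y, Lt.z, Lt.yi, Lt.q, Lt.y, Lt.q, Lt.z, Lt.q, Lt.yi, Lt.z] 24 8 false (by decide +kernel) h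
      · exact H9.TCY.mRelD_at (T := T) (by decide) hinv hr [Lt.q, Lt.z, Lt.y, Lt.y, Lt.y, Lt.q, Lt.z, Lt.q, Lt.z, Lt.y, Lt.y, Lt.y, Lt.q, Lt.z] 21 2 true (by decide +kernel) h
    · rcases brec_true h with h | h
      · exact H9.TCY.mRelD_at (T := T) (by decide) hinv hr [Lt.z, Lt.q, Lt.y, Lt.z, Lt.q, Lt.y, Lt.y, Lt.z, Lt.q, Lt.yi, Lt.q, Lt.z, Lt.q, Lt.y, Lt.q, Lt.z, Lt.yi, Lt.yi, Lt.q, Lt.z, Lt.yi, Lt.q, Lt.z, Lt.yi, Lt.z, Lt.y] 46 13 false (by decide +kernel) h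
      · exact H9.TCY.mRelD_at (T := T) (by decide) hinv hr [Lt.y, Lt.y, Lt.q, Lt.y, Lt.y, Lt.q, Lt.yi, Lt.q, Lt.yi, Lt.yi, Lt.q, Lt.yi, Lt.q, Lt.yi, Lt.q, Lt.y] 32 14 true (by decide +kernel) h
theorem dM_112_s (hinv : ∀ x, g (inv x) = (g x)⁻¹) (hr : ∀ r ∈ rels, (r.map g).prod = 1) (j z1 z2 u : ℕ) (h : dM_112 j z1 z2 u = true) : GoodM (fa g) T MG M (cP g H) u := by
  unfold dM_112 at h
  rcases brec_true h with h | h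
  · exact dM_110_s hinv hr j z1 z2 u h
  · exact dM_111_s hinv hr j z1 z2 u h
theorem dM_113_s (hinv : ∀ x, g (inv x) = (g x)⁻¹) (hr : ∀ r ∈ rels, (r.map g).prod = 1) (j z1 z2 u : ℕ) (h : dM_113 j z1 z2 u = true) : GoodM (fa g) T MG M (cP g H) u := by
  unfold dM_113 at h
  rcases brec_true h with h | h
  · rcases brec_true h with h | h
    · exact H9.TCY.mRelD_at (T := T) (by decide) hinv hr [Lt.q, Lt.z, Lt.y, Lt.z, Lt.q, Lt.yi, Lt.q, Lt.z, Lt.y, Lt.z, Lt.q, Lt.yi, Lt.q, Lt.z, Lt.y, Lt.z, Lt.q, Lt.yi] 42 1 true (by decide +kernel) h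
    · rcases brec_true h with h | h
      · exact H9.TCY.mRelD_at (T := T) (by decide) hinv hr [Lt.y, Lt.z, Lt.q, Lt.yi, Lt.q, Lt.z, Lt.y, Lt.z, Lt.q, Lt.yi, Lt.q, Lt.z, Lt.y, Lt.z, Lt.q, Lt.yi, Lt.q, Lt.z] 42 3 true (by decide +kernel) h
      · exact H9.TCY.mRelD_at (T := T) (by decide) hinv hr [Lt.z, Lt.q, Lt.y, Lt.y, Lt.z, Lt.q, Lt.yi, Lt.q, Lt.z, Lt.q, Lt.y, Lt.q, Lt.z, Lt.yi, Lt.yi, Lt.q, Lt.z, Lt.yi, Lt.q, Lt.z, Lt.yi, Lt.z, Lt.y, Lt.z, Lt.q, Lt.y] 46 16 false (by decide +kernel) h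
  · rcases brec_true h with h | h
    · exact H9.TCY.mRelD_at (T := T) (by decide) hinv hr [Lt.yi, Lt.yi, Lt.yi, Lt.q, Lt.y, Lt.q, Lt.y, Lt.q, Lt.y, Lt.y, Lt.q, Lt.y, Lt.q, Lt.yi, Lt.yi, Lt.q] 32 0 false (by decide +kernel) h
    · rcases brec_true h with h | h
      · exact H9.TCY.mRelD_at (T := T) (by decide) hinv hr [Lt.yi, Lt.yi, Lt.q, Lt.yi, Lt.q, Lt.yi, Lt.q, Lt.y, Lt.y, Lt.y, Lt.q, Lt.y, Lt.y, Lt.q, Lt.yi, Lt.q] 32 6 true (by decide +kernel) h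
      · exact H9.TCY.mRelD_at (T := T) (by decide) hinv hr [Lt.z, Lt.y, Lt.q, Lt.z, Lt.yi, Lt.z, Lt.q, Lt.y, Lt.z, Lt.yi, Lt.z, Lt.q, Lt.y, Lt.q, Lt.z, Lt.yi] 28 3 true (by decide +kernel) h
theorem dM_114_s (hinv : ∀ x, g (inv x) = (g x)⁻¹) (hr : ∀ r ∈ rels, (r.map g).prod = 1) (j z1 z2 u : ℕ) (h : dM_114 j z1 z2 u = true) : GoodM (fa g) T MG M (cP g H) u := by
  unfold dM_114 at h
  rcases brec_true h with h | h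
  · rcases brec_true h with h | h
    · exact H9.TCY.mRelD_at (T := T) (by decide) hinv hr [Lt.z, Lt.yi, Lt.q, Lt.z, Lt.y, Lt.q, Lt.z, Lt.yi, Lt.z, Lt.y, Lt.z, Lt.q, Lt.yi, Lt.z, Lt.q, Lt.y] 36 15 false (by decide +kernel) h
    · rcases brec_true h with h | h
      · exact H9.TCY.mRelD_at (T := T) (by decide) hinv hr [Lt.q, Lt.yi, Lt.q, Lt.yi, Lt.yi, Lt.q, Lt.yi, Lt.q, Lt.yi, Lt.q, Lt.y, Lt.y, Lt.y, Lt.q, Lt.y, Lt.y] 32 3 true (by decide +kernel) h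
      · exact H9.TCY.mRelD_at (T := T) (by decide) hinv hr [Lt.q, Lt.yi, Lt.q, Lt.y, Lt.z, Lt.yi, Lt.q, Lt.z, Lt.q, Lt.y, Lt.q, Lt.yi, Lt.z, Lt.y, Lt.q, Lt.z] 24 12 true (by decide +kernel) h
  · rcases brec_true h with h | h
    · rcases brec_true h with h | h
      · exact H9.TCY.mRelD_at (T := T) (by decide) hinv hr [Lt.z, Lt.y, Lt.q, Lt.z, Lt.q, Lt.yi, Lt.q, Lt.y, Lt.z, Lt.yi, Lt.q, Lt.z, Lt.q, Lt.y, Lt.q, Lt.yi] 24 8 true (by decide +kernel) h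
      · exact H9.TCY.mRelD_at (T := T) (by decide) hinv hr [Lt.q, Lt.yi, Lt.z, Lt.y, Lt.q, Lt.z, Lt.q, Lt.yi, Lt.q, Lt.y, Lt.z, Lt.yi, Lt.q, Lt.z, Lt.q, Lt.y] 24 6 true (by decide +kernel) h
    · rcases brec_true h with h | h
      · exact H9.TCY.mRelD_at (T := T) (by decide) hinv hr [Lt.y, Lt.z, Lt.yi, Lt.q, Lt.z, Lt.q, Lt.y, Lt.q, Lt.yi, Lt.z, Lt.y, Lt.q, Lt.z, Lt.q, Lt.yi, Lt.q] 24 15 true (by decide +kernel) h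
      · exact H9.TCY.mRelD_at (T := T) (by decide) hinv hr [Lt.q, Lt.y, Lt.q, Lt.z, Lt.yi, Lt.z, Lt.q, Lt.y, Lt.q, Lt.z, Lt.yi, Lt.z, Lt.q, Lt.y, Lt.q, Lt.z, Lt.yi, Lt.z] 42 4 false (by decide +kernel) h
theorem dM_115_s (hinv : ∀ x, g (inv x) = (g x)⁻¹) (hr : ∀ r ∈ rels, (r.map g).prod = 1) (j z1 z2 u : ℕ) (h : dM_115 j z1 z2 u = true) : GoodM (fa g) T MG M (cP g H) u := by
  unfold dM_115 at h
  rcases brec_true h with h | h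
  · exact dM_113_s hinv hr j z1 z2 u h
  · exact dM_114_s hinv hr j z1 z2 u h
theorem dM_116_s (hinv : ∀ x, g (inv x) = (g x)⁻¹) (hr : ∀ r ∈ rels, (r.map g).prod = 1) (j z1 z2 u : ℕ) (h : dM_116 j z1 z2 u = true) : GoodM (fa g) T MG M (cP g H) u := by
  unfold dM_116 at h
  rcases brec_true h with h | h
  · exact dM_112_s hinv hr j z1 z2 u h
  · exact dM_115_s hinv hr j z1 z2 u h
theorem dM_117_s (hinv : ∀ x, g (inv x) = (g x)⁻¹) (hr : ∀ r ∈ rels, (r.map g).prod = 1) (j z1 z2 u : ℕ) (h : dM_117 j z1 z2 u = true) : GoodM (fa g) T MG M (cP g H) u := by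
  unfold dM_117 at h
  rcases brec_true h with h | h
  · rcases brec_true h with h | h
    · exact H9.TCY.mRelD_at (T := T) (by decide) hinv hr [Lt.yi, Lt.v, Lt.q, Lt.z, Lt.q, Lt.z, Lt.y, Lt.z, Lt.q, Lt.z, Lt.q, Lt.v] 13 0 true (by decide +kernel) h
    · rcases brec_true h with h | h
      · exact H9.TCY.mRelD_at (T := T) (by decide) hinv hr [Lt.yi, Lt.yi, Lt.q, Lt.z, Lt.yi, Lt.yi, Lt.z, Lt.q, Lt.yi, Lt.yi, Lt.yi, Lt.q, Lt.z, Lt.yi, Lt.yi, Lt.z, Lt.q, Lt.yi, Lt.yi, Lt.yi, Lt.q, Lt.z, Lt.yi, Lt.yi, Lt.z, Lt.q, Lt.yi] 47 1 true (by decide +kernel) h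
      · exact H9.TCY.mRelD_at (T := T) (by decide) hinv hr [Lt.yi, Lt.q, Lt.yi, Lt.yi, Lt.yi, Lt.q, Lt.y, Lt.y, Lt.y, Lt.q, Lt.yi, Lt.yi, Lt.yi, Lt.q, Lt.yi, Lt.yi] 30 6 false (by decide +kernel) h
  · rcases brec_true h with h | h
    · rcases brec_true h with h | h
      · exact H9.TCY.mRelD_at (T := T) (by decide) hinv hr [Lt.q, Lt.z, Lt.yi, Lt.z, Lt.q, Lt.y, Lt.z, Lt.yi, Lt.z, Lt.q, Lt.y, Lt.q, Lt.z, Lt.yi, Lt.z, Lt.y] 28 5 true (by decide +kernel) h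
      · exact H9.TCY.mRelD_at (T := T) (by decide) hinv hr [Lt.y, Lt.q, Lt.y, Lt.y, Lt.y, Lt.q, Lt.y, Lt.y, Lt.y, Lt.q, Lt.yi, Lt.yi, Lt.yi, Lt.q, Lt.y, Lt.y] 30 7 true (by decide +kernel) h
    · rcases brec_true h with h | h
      · exact H9.TCY.mRelD_at (T := T) (by decide) hinv hr [Lt.q, Lt.z, Lt.q, Lt.y, Lt.z, Lt.yi, Lt.q, Lt.y, Lt.q, Lt.z, Lt.q, Lt.yi, Lt.z, Lt.y, Lt.q, Lt.yi] 24 11 false (by decide +kernel) h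
      · exact H9.TCY.mRelD_at (T := T) (by decide) hinv hr [Lt.yi, Lt.q, Lt.y, Lt.z, Lt.yi, Lt.q, Lt.z, Lt.q, Lt.y, Lt.q, Lt.yi, Lt.z, Lt.y, Lt.q, Lt.z, Lt.q] 24 13 true (by decide +kernel) h
theorem dM_118_s (hinv : ∀ x, g (inv x) = (g x)⁻¹) (hr : ∀ r ∈ rels, (r.map g).prod = 1) (j z1 z2 u : ℕ) (h : dM_118 j z1 z2 u = true) : GoodM (fa g) T MG M (cP g H) u := by
  unfold dM_118 at h
  rcases brec_true h with h | h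
  · rcases brec_true h with h | h
    · exact H9.TCY.mRelD_at (T := T) (by decide) hinv hr [Lt.z, Lt.q, Lt.yi, Lt.z, Lt.y, Lt.q, Lt.yi, Lt.q, Lt.z, Lt.q, Lt.y, Lt.z, Lt.yi, Lt.q, Lt.y, Lt.q] 24 4 false (by decide +kernel) h
    · rcases brec_true h with h | h
      · exact H9.TCY.mRelD_at (T := T) (by decide) hinv hr [Lt.z, Lt.y, Lt.z, Lt.q, Lt.z, Lt.q, Lt.v, Lt.yi, Lt.v, Lt.q, Lt.z, Lt.q] 13 5 true (by decide +kernel) h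
      · exact H9.TCY.mRelD_at (T := T) (by decide) hinv hr [Lt.z, Lt.y, Lt.q, Lt.y, Lt.q, Lt.y, Lt.z, Lt.q, Lt.z, Lt.y, Lt.q, Lt.y, Lt.q, Lt.y, Lt.z, Lt.q] 35 2 true (by decide +kernel) h
  · rcases brec_true h with h | h
    · rcases brec_true h with h | h
      · exact H9.TCY.mRelD_at (T := T) (by decide) hinv hr [Lt.y, Lt.z, Lt.q, Lt.y, Lt.y, Lt.z, Lt.q, Lt.yi, Lt.q, Lt.z, Lt.q, Lt.y, Lt.q, Lt.z, Lt.yi, Lt.yi, Lt.q, Lt.z, Lt.yi, Lt.q, Lt.z, Lt.yi, Lt.z, Lt.y, Lt.z, Lt.q] 46 15 false (by decide +kernel) h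
      · exact H9.TCY.mRelD_at (T := T) (by decide) hinv hr [Lt.z, Lt.q, Lt.z, Lt.q, Lt.z, Lt.q, Lt.v, Lt.z, Lt.q, Lt.z, Lt.q, Lt.v, Lt.z, Lt.q, Lt.v] 22 3 false (by decide +kernel) h
    · rcases brec_true h with h | h
      · exact H9.TCY.mRelD_at (T := T) (by decide) hinv hr [Lt.yi, Lt.q, Lt.yi, Lt.yi, Lt.yi, Lt.q, Lt.y, Lt.q, Lt.y, Lt.q, Lt.y, Lt.y, Lt.q, Lt.y, Lt.q, Lt.yi] 32 14 false (by decide +kernel) h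
      · exact H9.TCY.mRelD_at (T := T) (by decide) hinv hr [Lt.yi, Lt.q, Lt.yi, Lt.q, Lt.yi, Lt.yi, Lt.q, Lt.yi, Lt.q, Lt.y, Lt.y, Lt.q, Lt.y, Lt.y, Lt.y, Lt.q] 31 1 true (by decide +kernel) h
theorem dM_119_s (hinv : ∀ x, g (inv x) = (g x)⁻¹) (hr : ∀ r ∈ rels, (r.map g).prod = 1) (j z1 z2 u : ℕ) (h : dM_119 j z1 z2 u = true) : GoodM (fa g) T MG M (cP g H) u := by
  unfold dM_119 at h
  rcases brec_true h with h | h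
  · exact dM_117_s hinv hr j z1 z2 u h
  · exact dM_118_s hinv hr j z1 z2 u h
theorem dM_120_s (hinv : ∀ x, g (inv x) = (g x)⁻¹) (hr : ∀ r ∈ rels, (r.map g).prod = 1) (j z1 z2 u : ℕ) (h : dM_120 j z1 z2 u = true) : GoodM (fa g) T MG M (cP g H) u := by
  unfold dM_120 at h
  rcases brec_true h with h | h
  · rcases brec_true h with h | h
    · exact H9.TCY.mRelD_at (T := T) (by decide) hinv hr [Lt.q, Lt.y, Lt.y, Lt.y, Lt.q, Lt.y, Lt.y, Lt.q, Lt.yi, Lt.q, Lt.yi, Lt.yi, Lt.q, Lt.yi, Lt.q, Lt.yi] 32 12 true (by decide +kernel) h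
    · rcases brec_true h with h | h
      · exact H9.TCY.mRelD_at (T := T) (by decide) hinv hr [Lt.yi, Lt.yi, Lt.yi, Lt.q, Lt.yi, Lt.yi, Lt.yi, Lt.q, Lt.y, Lt.y, Lt.y, Lt.q, Lt.yi, Lt.yi, Lt.yi, Lt.q] 30 4 false (by decide +kernel) h
      · exact H9.TCY.mRelD_at (T := T) (by decide) hinv hr [Lt.q, Lt.z, Lt.yi, Lt.q, Lt.z, Lt.yi, Lt.yi, Lt.yi, Lt.q, Lt.z, Lt.yi, Lt.q, Lt.z, Lt.yi, Lt.yi, Lt.yi, Lt.q, Lt.z, Lt.yi, Lt.q, Lt.z, Lt.yi, Lt.yi, Lt.yi, Lt.q, Lt.z, Lt.yi, Lt.q, Lt.z, Lt.yi, Lt.yi, Lt.yi] 48 3 true (by decide +kernel) h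
  · rcases brec_true h with h | h
    · rcases brec_true h with h | h
      · exact H9.TCY.mRelD_at (T := T) (by decide) hinv hr [Lt.q, Lt.yi, Lt.q, Lt.z, Lt.y, Lt.z, Lt.q, Lt.yi, Lt.q, Lt.z, Lt.y, Lt.z, Lt.q, Lt.yi, Lt.q, Lt.z, Lt.y, Lt.z] 42 5 true (by decide +kernel) h
      · exact H9.TCY.mRelD_at (T := T) (by decide) hinv hr [Lt.y, Lt.z, Lt.q, Lt.y, Lt.z, Lt.q, Lt.y, Lt.y, Lt.z, Lt.q, Lt.yi, Lt.q, Lt.z, Lt.q, Lt.y, Lt.q, Lt.z, Lt.yi, Lt.yi, Lt.q, Lt.z, Lt.yi, Lt.q, Lt.z, Lt.yi, Lt.z] 46 12 false (by decide +kernel) h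
    · rcases brec_true h with h | h
      · exact H9.TCY.mRelD_at (T := T) (by decide) hinv hr [Lt.q, Lt.z, Lt.q, Lt.yi, Lt.q, Lt.y, Lt.z, Lt.yi, Lt.q, Lt.z, Lt.q, Lt.y, Lt.q, Lt.yi, Lt.z, Lt.y] 24 10 true (by decide +kernel) h
      · exact H9.TCY.mRelD_at (T := T) (by decide) hinv hr [Lt.y, Lt.q, Lt.z, Lt.yi, Lt.yi, Lt.q, Lt.z, Lt.yi, Lt.q, Lt.z, Lt.yi, Lt.z, Lt.y, Lt.z, Lt.q, Lt.y, Lt.z, Lt.q, Lt.y, Lt.y, Lt.z, Lt.q, Lt.yi, Lt.q, Lt.z, Lt.q] 46 0 false (by decide +kernel) h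
theorem dM_121_s (hinv : ∀ x, g (inv x) = (g x)⁻¹) (hr : ∀ r ∈ rels, (r.map g).prod = 1) (j z1 z2 u : ℕ) (h : dM_121 j z1 z2 u = true) : GoodM (fa g) T MG M (cP g H) u := by
  unfold dM_121 at h
  rcases brec_true h with h | h
  · rcases brec_true h with h | h
    · rcases brec_true h with h | h
      · exact H9.TCY.mRelD_at (T := T) (by decide) hinv hr [Lt.yi, Lt.q, Lt.yi, Lt.q, Lt.yi, Lt.q, Lt.y, Lt.y, Lt.y, Lt.q, Lt.y, Lt.y, Lt.q, Lt.yi, Lt.q, Lt.yi] 32 7 true (by decide +kernel) h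
      · exact H9.TCY.mRelD_at (T := T) (by decide) hinv hr [Lt.y, Lt.y, Lt.y, Lt.q, Lt.y, Lt.y, Lt.y, Lt.q, Lt.y, Lt.y, Lt.y, Lt.q, Lt.yi, Lt.yi, Lt.yi, Lt.q] 30 5 true (by decide +kernel) h
    · rcases brec_true h with h | h
      · exact H9.TCY.mRelD_at (T := T) (by decide) hinv hr [Lt.yi, Lt.q, Lt.y, Lt.y, Lt.y, Lt.q, Lt.yi, Lt.yi, Lt.yi, Lt.q, Lt.yi, Lt.yi, Lt.yi, Lt.q, Lt.yi, Lt.yi] 30 10 false (by decide +kernel) h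
      · exact H9.TCY.mRelD_at (T := T) (by decide) hinv hr [Lt.q, Lt.z, Lt.y, Lt.q, Lt.z, Lt.yi, Lt.z, Lt.y, Lt.z, Lt.q, Lt.yi, Lt.z, Lt.q, Lt.y, Lt.z, Lt.yi] 36 1 false (by decide +kernel) h
  · rcases brec_true h with h | h
    · rcases brec_true h with h | h
      · exact H9.TCY.mRelD_at (T := T) (by decide) hinv hr [Lt.q, Lt.yi, Lt.q, Lt.yi, Lt.q, Lt.yi, Lt.yi, Lt.q, Lt.yi, Lt.q, Lt.y, Lt.y, Lt.q, Lt.y, Lt.y, Lt.y] 31 0 true (by decide +kernel) h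
      · exact H9.TCY.mRelD_at (T := T) (by decide) hinv hr [Lt.q, Lt.yi, Lt.yi, Lt.q, Lt.yi, Lt.q, Lt.yi, Lt.q, Lt.y, Lt.y, Lt.y, Lt.q, Lt.y, Lt.y, Lt.q, Lt.yi] 32 5 true (by decide +kernel) h
    · rcases brec_true h with h | h
      · exact H9.TCY.mRelD_at (T := T) (by decide) hinv hr [Lt.y, Lt.q, Lt.yi, Lt.yi, Lt.q, Lt.yi, Lt.yi, Lt.yi, Lt.q, Lt.y, Lt.q, Lt.y, Lt.q, Lt.y, Lt.y, Lt.q] 32 11 false (by decide +kernel) h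
      · exact H9.TCY.mRelD_at (T := T) (by decide) hinv hr [Lt.y, Lt.q, Lt.z, Lt.yi, Lt.z, Lt.q, Lt.y, Lt.z, Lt.yi, Lt.z, Lt.q, Lt.y, Lt.q, Lt.z, Lt.yi, Lt.z] 28 4 true (by decide +kernel) h
theorem dM_122_s (hinv : ∀ x, g (inv x) = (g x)⁻¹) (hr : ∀ r ∈ rels, (r.map g).prod = 1) (j z1 z2 u : ℕ) (h : dM_122 j z1 z2 u = true) : GoodM (fa g) T MG M (cP g H) u := by
  unfold dM_122 at h
  rcases brec_true h with h | h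
  · exact dM_120_s hinv hr j z1 z2 u h
  · exact dM_121_s hinv hr j z1 z2 u h
theorem dM_123_s (hinv : ∀ x, g (inv x) = (g x)⁻¹) (hr : ∀ r ∈ rels, (r.map g).prod = 1) (j z1 z2 u : ℕ) (h : dM_123 j z1 z2 u = true) : GoodM (fa g) T MG M (cP g H) u := by
  unfold dM_123 at h
  rcases brec_true h with h | h
  · exact dM_119_s hinv hr j z1 z2 u h
  · exact dM_122_s hinv hr j z1 z2 u h
theorem dM_124_s (hinv : ∀ x, g (inv x) = (g x)⁻¹) (hr : ∀ r ∈ rels, (r.map g).prod = 1) (j z1 z2 u : ℕ) (h : dM_124 j z1 z2 u = true) : GoodM (fa g) T MG M (cP g H) u := by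
  unfold dM_124 at h
  rcases brec_true h with h | h
  · exact dM_116_s hinv hr j z1 z2 u h
  · exact dM_123_s hinv hr j z1 z2 u h
theorem dM_125_s (hinv : ∀ x, g (inv x) = (g x)⁻¹) (hr : ∀ r ∈ rels, (r.map g).prod = 1) (j z1 z2 u : ℕ) (h : dM_125 j z1 z2 u = true) : GoodM (fa g) T MG M (cP g H) u := by
  unfold dM_125 at h
  rcases brec_true h with h | h
  · rcases brec_true h with h | h
    · rcases brec_true h with h | h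
      · exact H9.TCY.mRelD_at (T := T) (by decide) hinv hr [Lt.y, Lt.y, Lt.y, Lt.q, Lt.y, Lt.y, Lt.q, Lt.yi, Lt.q, Lt.yi, Lt.yi, Lt.q, Lt.yi, Lt.q, Lt.yi, Lt.q] 32 13 true (by decide +kernel) h
      · exact H9.TCY.mRelD_at (T := T) (by decide) hinv hr [Lt.yi, Lt.yi, Lt.q, Lt.y, Lt.q, Lt.y, Lt.q, Lt.y, Lt.y, Lt.q, Lt.y, Lt.q, Lt.yi, Lt.yi, Lt.q, Lt.yi] 32 1 false (by decide +kernel) h
    · rcases brec_true h with h | h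
      · exact H9.TCY.mRelD_at (T := T) (by decide) hinv hr [Lt.q, Lt.z, Lt.y, Lt.q, Lt.y, Lt.q, Lt.y, Lt.z, Lt.q, Lt.z, Lt.y, Lt.q, Lt.y, Lt.q, Lt.y, Lt.z] 35 1 true (by decide +kernel) h
      · exact H9.TCY.mRelD_at (T := T) (by decide) hinv hr [Lt.yi, Lt.yi, Lt.yi, Lt.q, Lt.y, Lt.y, Lt.y, Lt.q, Lt.yi, Lt.yi, Lt.yi, Lt.q, Lt.yi, Lt.yi, Lt.yi, Lt.q] 30 8 false (by decide +kernel) h
  · rcases brec_true h with h | h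
    · rcases brec_true h with h | h
      · exact H9.TCY.mRelD_at (T := T) (by decide) hinv hr [Lt.q, Lt.y, Lt.z, Lt.q, Lt.y, Lt.y, Lt.y, Lt.z, Lt.q, Lt.y, Lt.z, Lt.q, Lt.y, Lt.y, Lt.y, Lt.z, Lt.q, Lt.y, Lt.z, Lt.q, Lt.y, Lt.y, Lt.y, Lt.z, Lt.q, Lt.y, Lt.z, Lt.q, Lt.y, Lt.y, Lt.y, Lt.z] 48 1 false (by decide +kernel) h
      · exact H9.TCY.mRelD_at (T := T) (by decide) hinv hr [Lt.y, Lt.z, Lt.yi, Lt.q, Lt.z, Lt.y, Lt.q, Lt.z, Lt.yi, Lt.z, Lt.y, Lt.z, Lt.q, Lt.yi, Lt.z, Lt.q] 36 14 false (by decide +kernel) h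
    · rcases brec_true h with h | h
      · exact H9.TCY.mRelD_at (T := T) (by decide) hinv hr [Lt.y, Lt.q, Lt.y, Lt.y, Lt.q, Lt.yi, Lt.q, Lt.yi, Lt.yi, Lt.q, Lt.yi, Lt.q, Lt.yi, Lt.q, Lt.y, Lt.y] 32 15 true (by decide +kernel) h
      · exact H9.TCY.mRelD_at (T := T) (by decide) hinv hr [Lt.q, Lt.yi, Lt.q, Lt.y, Lt.y, Lt.y, Lt.q, Lt.y, Lt.y, Lt.q, Lt.yi, Lt.q, Lt.yi, Lt.yi, Lt.q, Lt.yi] 32 10 true (by decide +kernel) h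
theorem dM_126_s (hinv : ∀ x, g (inv x) = (g x)⁻¹) (hr : ∀ r ∈ rels, (r.map g).prod = 1) (j z1 z2 u : ℕ) (h : dM_126 j z1 z2 u = true) : GoodM (fa g) T MG M (cP g H) u := by
  unfold dM_126 at h
  rcases brec_true h with h | h
  · rcases brec_true h with h | h
    · rcases brec_true h with h | h
      · exact H9.TCY.mRelD_at (T := T) (by decide) hinv hr [Lt.y, Lt.q, Lt.y, Lt.y, Lt.q, Lt.y, Lt.q, Lt.yi, Lt.yi, Lt.q, Lt.yi, Lt.yi, Lt.yi, Lt.q, Lt.y, Lt.q] 32 6 false (by decide +kernel) h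
      · exact H9.TCY.mRelD_at (T := T) (by decide) hinv hr [Lt.z, Lt.y, Lt.q, Lt.z, Lt.yi, Lt.z, Lt.y, Lt.z, Lt.q, Lt.yi, Lt.z, Lt.q, Lt.y, Lt.z, Lt.yi, Lt.q] 36 2 false (by decide +kernel) h
    · rcases brec_true h with h | h
      · exact H9.TCY.mRelD_at (T := T) (by decide) hinv hr [Lt.yi, Lt.z, Lt.y, Lt.q, Lt.yi, Lt.q, Lt.z, Lt.q, Lt.y, Lt.z, Lt.yi, Lt.q, Lt.y, Lt.q, Lt.z, Lt.q] 24 6 false (by decide +kernel) h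
      · exact H9.TCY.mRelD_at (T := T) (by decide) hinv hr [Lt.q, Lt.yi, Lt.yi, Lt.yi, Lt.q, Lt.y, Lt.q, Lt.y, Lt.q, Lt.y, Lt.y, Lt.q, Lt.y, Lt.q, Lt.yi, Lt.yi] 32 15 false (by decide +kernel) h
  · rcases brec_true h with h | h
    · rcases brec_true h with h | h
      · exact H9.TCY.mRelD_at (T := T) (by decide) hinv hr [Lt.y, Lt.q, Lt.yi, Lt.yi, Lt.yi, Lt.q, Lt.yi, Lt.yi, Lt.q, Lt.y, Lt.q, Lt.y, Lt.y, Lt.q, Lt.y, Lt.q] 31 14 false (by decide +kernel) h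
      · exact H9.TCY.mRelD_at (T := T) (by decide) hinv hr [Lt.yi, Lt.yi, Lt.yi, Lt.q, Lt.yi, Lt.yi, Lt.q, Lt.y, Lt.q, Lt.y, Lt.y, Lt.q, Lt.y, Lt.q, Lt.y, Lt.q] 31 0 false (by decide +kernel) h
    · rcases brec_true h with h | h
      · exact H9.TCY.mRelD_at (T := T) (by decide) hinv hr [Lt.yi, Lt.q, Lt.yi, Lt.q, Lt.y, Lt.y, Lt.y, Lt.q, Lt.y, Lt.y, Lt.q, Lt.yi, Lt.q, Lt.yi, Lt.yi, Lt.q] 32 9 true (by decide +kernel) h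
      · exact H9.TCY.mRelD_at (T := T) (by decide) hinv hr [Lt.z, Lt.yi, Lt.z, Lt.q, Lt.y, Lt.q, Lt.z, Lt.yi, Lt.z, Lt.q, Lt.y, Lt.q, Lt.z, Lt.yi, Lt.z, Lt.q, Lt.y, Lt.q] 42 1 false (by decide +kernel) h
theorem dM_127_s (hinv : ∀ x, g (inv x) = (g x)⁻¹) (hr : ∀ r ∈ rels, (r.map g).prod = 1) (j z1 z2 u : ℕ) (h : dM_127 j z1 z2 u = true) : GoodM (fa g) T MG M (cP g H) u := by
  unfold dM_127 at h
  rcases brec_true h with h | h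
  · exact dM_125_s hinv hr j z1 z2 u h
  · exact dM_126_s hinv hr j z1 z2 u h
theorem dM_128_s (hinv : ∀ x, g (inv x) = (g x)⁻¹) (hr : ∀ r ∈ rels, (r.map g).prod = 1) (j z1 z2 u : ℕ) (h : dM_128 j z1 z2 u = true) : GoodM (fa g) T MG M (cP g H) u := by
  unfold dM_128 at h
  rcases brec_true h with h | h
  · rcases brec_true h with h | h
    · rcases brec_true h with h | h
      · exact H9.TCY.mRelD_at (T := T) (by decide) hinv hr [Lt.y, Lt.z, Lt.q, Lt.yi, Lt.q, Lt.z, Lt.q, Lt.y, Lt.q, Lt.z, Lt.yi, Lt.yi, Lt.q, Lt.z, Lt.yi, Lt.q, Lt.z, Lt.yi, Lt.z, Lt.y, Lt.z, Lt.q, Lt.y, Lt.z, Lt.q, Lt.y] 46 19 false (by decide +kernel) h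
      · exact H9.TCY.mRelD_at (T := T) (by decide) hinv hr [Lt.yi, Lt.yi, Lt.q, Lt.yi, Lt.yi, Lt.q, Lt.y, Lt.q, Lt.y, Lt.y, Lt.q, Lt.y, Lt.q, Lt.y, Lt.q, Lt.yi] 31 1 false (by decide +kernel) h
    · rcases brec_true h with h | h
      · exact H9.TCY.mRelD_at (T := T) (by decide) hinv hr [Lt.z, Lt.y, Lt.z, Lt.q, Lt.yi, Lt.q, Lt.z, Lt.y, Lt.z, Lt.q, Lt.yi, Lt.q, Lt.z, Lt.y, Lt.z, Lt.q, Lt.yi, Lt.q] 42 2 true (by decide +kernel) h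
      · exact H9.TCY.mRelD_at (T := T) (by decide) hinv hr [Lt.q, Lt.y, Lt.y, Lt.z, Lt.q, Lt.yi, Lt.q, Lt.z, Lt.q, Lt.y, Lt.q, Lt.z, Lt.yi, Lt.yi, Lt.q, Lt.z, Lt.yi, Lt.q, Lt.z, Lt.yi, Lt.z, Lt.y, Lt.z, Lt.q, Lt.y, Lt.z] 46 17 false (by decide +kernel) h
  · rcases brec_true h with h | h
    · rcases brec_true h with h | h
      · exact H9.TCY.mRelD_at (T := T) (by decide) hinv hr [Lt.yi, Lt.z, Lt.y, Lt.z, Lt.q, Lt.y, Lt.z, Lt.q, Lt.y, Lt.y, Lt.z, Lt.q, Lt.yi, Lt.q, Lt.z, Lt.q, Lt.y, Lt.q, Lt.z, Lt.yi, Lt.yi, Lt.q, Lt.z, Lt.yi, Lt.q, Lt.z] 46 10 false (by decide +kernel) h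
      · exact H9.TCY.mRelD_at (T := T) (by decide) hinv hr [Lt.q, Lt.z, Lt.yi, Lt.yi, Lt.q, Lt.z, Lt.yi, Lt.q, Lt.z, Lt.yi, Lt.z, Lt.y, Lt.z, Lt.q, Lt.y, Lt.z, Lt.q, Lt.y, Lt.y, Lt.z, Lt.q, Lt.yi, Lt.q, Lt.z, Lt.q, Lt.y] 46 1 false (by decide +kernel) h
    · rcases brec_true h with h | h
      · exact H9.TCY.mRelD_at (T := T) (by decide) hinv hr [Lt.y, Lt.z, Lt.q, Lt.y, Lt.y, Lt.y, Lt.z, Lt.q, Lt.y, Lt.z, Lt.q, Lt.y, Lt.y, Lt.y, Lt.z, Lt.q, Lt.y, Lt.z, Lt.q, Lt.y, Lt.y, Lt.y, Lt.z, Lt.q, Lt.y, Lt.z, Lt.q, Lt.y, Lt.y, Lt.y, Lt.z, Lt.q] 48 2 false (by decide +kernel) h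
      · rcases brec_true h with h | h
        · exact H9.TCY.mRelD_at (T := T) (by decide) hinv hr [Lt.y, Lt.y, Lt.y, Lt.z, Lt.q, Lt.y, Lt.z, Lt.q, Lt.y, Lt.y, Lt.y, Lt.z, Lt.q, Lt.y, Lt.z, Lt.q, Lt.y, Lt.y, Lt.y, Lt.z, Lt.q, Lt.y, Lt.z, Lt.q, Lt.y, Lt.y, Lt.y, Lt.z, Lt.q, Lt.y, Lt.z, Lt.q] 48 5 false (by decide +kernel) h
        · exact H9.TCY.mRelD_at (T := T) (by decide) hinv hr [Lt.z, Lt.yi, Lt.q, Lt.z, Lt.yi, Lt.z, Lt.y, Lt.z, Lt.q, Lt.y, Lt.z, Lt.q, Lt.y, Lt.y, Lt.z, Lt.q, Lt.yi, Lt.q, Lt.z, Lt.q, Lt.y, Lt.q, Lt.z, Lt.yi, Lt.yi, Lt.q] 46 6 false (by decide +kernel) h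
theorem dM_129_s (hinv : ∀ x, g (inv x) = (g x)⁻¹) (hr : ∀ r ∈ rels, (r.map g).prod = 1) (j z1 z2 u : ℕ) (h : dM_129 j z1 z2 u = true) : GoodM (fa g) T MG M (cP g H) u := by
  unfold dM_129 at h
  rcases brec_true h with h | h
  · rcases brec_true h with h | h
    · rcases brec_true h with h | h
      · exact H9.TCY.mRelD_at (T := T) (by decide) hinv hr [Lt.z, Lt.y, Lt.z, Lt.yi, Lt.q, Lt.z, Lt.y, Lt.z, Lt.q, Lt.yi, Lt.z, Lt.y, Lt.z, Lt.q, Lt.yi, Lt.q] 28 2 false (by decide +kernel) h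
      · exact H9.TCY.mRelD_at (T := T) (by decide) hinv hr [Lt.yi, Lt.q, Lt.y, Lt.y, Lt.y, Lt.q, Lt.y, Lt.y, Lt.q, Lt.yi, Lt.q, Lt.yi, Lt.yi, Lt.q, Lt.yi, Lt.q] 32 11 true (by decide +kernel) h
    · rcases brec_true h with h | h
      · exact H9.TCY.mRelD_at (T := T) (by decide) hinv hr [Lt.y, Lt.y, Lt.y, Lt.q, Lt.yi, Lt.yi, Lt.yi, Lt.q, Lt.y, Lt.y, Lt.y, Lt.q, Lt.y, Lt.y, Lt.y, Lt.q] 30 13 true (by decide +kernel) h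
      · rcases brec_true h with h | h
        · exact H9.TCY.mRelD_at (T := T) (by decide) hinv hr [Lt.z, Lt.q, Lt.y, Lt.z, Lt.yi, Lt.q, Lt.y, Lt.q, Lt.z, Lt.q, Lt.yi, Lt.z, Lt.y, Lt.q, Lt.yi, Lt.q] 24 12 false (by decide +kernel) h
        · exact H9.TCY.mRelD_at (T := T) (by decide) hinv hr [Lt.y, Lt.z, Lt.q, Lt.y, Lt.z, Lt.q, Lt.y, Lt.y, Lt.y, Lt.z, Lt.q, Lt.y, Lt.z, Lt.q, Lt.y, Lt.y, Lt.y, Lt.z, Lt.q, Lt.y, Lt.z, Lt.q, Lt.y, Lt.y, Lt.y, Lt.z, Lt.q, Lt.y, Lt.z, Lt.q, Lt.y, Lt.y] 48 7 false (by decide +kernel) h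
  · rcases brec_true h with h | h
    · rcases brec_true h with h | h
      · exact H9.TCY.mRelD_at (T := T) (by decide) hinv hr [Lt.z, Lt.q, Lt.yi, Lt.q, Lt.y, Lt.z, Lt.yi, Lt.q, Lt.z, Lt.q, Lt.y, Lt.q, Lt.yi, Lt.z, Lt.y, Lt.q] 24 11 true (by decide +kernel) h
      · exact H9.TCY.mRelD_at (T := T) (by decide) hinv hr [Lt.z, Lt.q, Lt.v, Lt.z, Lt.q, Lt.z, Lt.q, Lt.v, Lt.z, Lt.q, Lt.v, Lt.z, Lt.q, Lt.z, Lt.q] 22 7 false (by decide +kernel) h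
    · rcases brec_true h with h | h
      · exact H9.TCY.mRelD_at (T := T) (by decide) hinv hr [Lt.yi, Lt.q, Lt.z, Lt.yi, Lt.z, Lt.y, Lt.z, Lt.q, Lt.y, Lt.z, Lt.q, Lt.y, Lt.y, Lt.z, Lt.q, Lt.yi, Lt.q, Lt.z, Lt.q, Lt.y, Lt.q, Lt.z, Lt.yi, Lt.yi, Lt.q, Lt.z] 46 7 false (by decide +kernel) h
      · rcases brec_true h with h | h
        · exact H9.TCY.mRelD_at (T := T) (by decide) hinv hr [Lt.q, Lt.y, Lt.q, Lt.yi, Lt.z, Lt.y, Lt.q, Lt.z, Lt.q, Lt.yi, Lt.q, Lt.y, Lt.z, Lt.yi, Lt.q, Lt.z] 24 4 true (by decide +kernel) h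
        · exact H9.TCY.mRelD_at (T := T) (by decide) hinv hr [Lt.y, Lt.y, Lt.q, Lt.y, Lt.y, Lt.y, Lt.q, Lt.y, Lt.y, Lt.y, Lt.q, Lt.yi, Lt.yi, Lt.yi, Lt.q, Lt.y] 30 6 true (by decide +kernel) h
theorem dM_130_s (hinv : ∀ x, g (inv x) = (g x)⁻¹) (hr : ∀ r ∈ rels, (r.map g).prod = 1) (j z1 z2 u : ℕ) (h : dM_130 j z1 z2 u = true) : GoodM (fa g) T MG M (cP g H) u := by
  unfold dM_130 at h
  rcases brec_true h with h | h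
  · exact dM_128_s hinv hr j z1 z2 u h
  · exact dM_129_s hinv hr j z1 z2 u h
theorem dM_131_s (hinv : ∀ x, g (inv x) = (g x)⁻¹) (hr : ∀ r ∈ rels, (r.map g).prod = 1) (j z1 z2 u : ℕ) (h : dM_131 j z1 z2 u = true) : GoodM (fa g) T MG M (cP g H) u := by
  unfold dM_131 at h
  rcases brec_true h with h | h
  · exact dM_127_s hinv hr j z1 z2 u h
  · exact dM_130_s hinv hr j z1 z2 u h
theorem dM_132_s (hinv : ∀ x, g (inv x) = (g x)⁻¹) (hr : ∀ r ∈ rels, (r.map g).prod = 1) (j z1 z2 u : ℕ) (h : dM_132 j z1 z2 u = true) : GoodM (fa g) T MG M (cP g H) u := by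
  unfold dM_132 at h
  rcases brec_true h with h | h
  · rcases brec_true h with h | h
    · rcases brec_true h with h | h
      · exact H9.TCY.mRelD_at (T := T) (by decide) hinv hr [Lt.yi, Lt.yi, Lt.q, Lt.yi, Lt.yi, Lt.yi, Lt.q, Lt.y, Lt.y, Lt.y, Lt.q, Lt.yi, Lt.yi, Lt.yi, Lt.q, Lt.yi] 30 5 false (by decide +kernel) h
      · exact H9.TCY.mRelD_at (T := T) (by decide) hinv hr [Lt.y, Lt.q, Lt.y, Lt.q, Lt.y, Lt.y, Lt.q, Lt.y, Lt.q, Lt.yi, Lt.yi, Lt.q, Lt.yi, Lt.yi, Lt.yi, Lt.q] 32 4 false (by decide +kernel) h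
    · rcases brec_true h with h | h
      · exact H9.TCY.mRelD_at (T := T) (by decide) hinv hr [Lt.z, Lt.q, Lt.z, Lt.yi, Lt.z, Lt.q, Lt.z, Lt.y, Lt.z, Lt.q, Lt.z, Lt.yi, Lt.z, Lt.q, Lt.z, Lt.y] 25 5 false (by decide +kernel) h
      · rcases brec_true h with h | h
        · exact H9.TCY.mRelD_at (T := T) (by decide) hinv hr [Lt.y, Lt.q, Lt.y, Lt.y, Lt.y, Lt.q, Lt.yi, Lt.yi, Lt.yi, Lt.q, Lt.y, Lt.y, Lt.y, Lt.q, Lt.y, Lt.y] 30 11 true (by decide +kernel) h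
        · exact H9.TCY.mRelD_at (T := T) (by decide) hinv hr [Lt.q, Lt.y, Lt.y, Lt.q, Lt.yi, Lt.q, Lt.yi, Lt.yi, Lt.q, Lt.yi, Lt.q, Lt.yi, Lt.q, Lt.y, Lt.y, Lt.y] 32 0 true (by decide +kernel) h
  · rcases brec_true h with h | h
    · rcases brec_true h with h | h
      · exact H9.TCY.mRelD_at (T := T) (by decide) hinv hr [Lt.z, Lt.q, Lt.y, Lt.z, Lt.q, Lt.y, Lt.y, Lt.y, Lt.z, Lt.q, Lt.y, Lt.z, Lt.q, Lt.y, Lt.y, Lt.y, Lt.z, Lt.q, Lt.y, Lt.z, Lt.q, Lt.y, Lt.y, Lt.y, Lt.z, Lt.q, Lt.y, Lt.z, Lt.q, Lt.y, Lt.y, Lt.y] 48 0 false (by decide +kernel) h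
      · rcases brec_true h with h | h
        · exact H9.TCY.mRelD_at (T := T) (by decide) hinv hr [Lt.q, Lt.y, Lt.z, Lt.q, Lt.y, Lt.y, Lt.z, Lt.q, Lt.yi, Lt.q, Lt.z, Lt.q, Lt.y, Lt.q, Lt.z, Lt.yi, Lt.yi, Lt.q, Lt.z, Lt.yi, Lt.q, Lt.z, Lt.yi, Lt.z, Lt.y, Lt.z] 46 14 false (by decide +kernel) h
        · exact H9.TCY.mRelD_at (T := T) (by decide) hinv hr [Lt.q, Lt.y, Lt.q, Lt.z, Lt.yi, Lt.yi, Lt.q, Lt.z, Lt.yi, Lt.q, Lt.z, Lt.yi, Lt.z, Lt.y, Lt.z, Lt.q, Lt.y, Lt.z, Lt.q, Lt.y, Lt.y, Lt.z, Lt.q, Lt.yi, Lt.q, Lt.z] 46 25 false (by decide +kernel) h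
    · rcases brec_true h with h | h
      · exact H9.TCY.mRelD_at (T := T) (by decide) hinv hr [Lt.z, Lt.yi, Lt.z, Lt.y, Lt.z, Lt.q, Lt.y, Lt.z, Lt.q, Lt.y, Lt.y, Lt.z, Lt.q, Lt.yi, Lt.q, Lt.z, Lt.q, Lt.y, Lt.q, Lt.z, Lt.yi, Lt.yi, Lt.q, Lt.z, Lt.yi, Lt.q] 46 9 false (by decide +kernel) h
      · rcases brec_true h with h | h
        · exact H9.TCY.mRelD_at (T := T) (by decide) hinv hr [Lt.z, Lt.yi, Lt.q, Lt.z, Lt.yi, Lt.yi, Lt.yi, Lt.q, Lt.z, Lt.yi, Lt.q, Lt.z, Lt.yi, Lt.yi, Lt.yi, Lt.q, Lt.z, Lt.yi, Lt.q, Lt.z, Lt.yi, Lt.yi, Lt.yi, Lt.q, Lt.z, Lt.yi, Lt.q, Lt.z, Lt.yi, Lt.yi, Lt.yi, Lt.q] 48 4 true (by decide +kernel) h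
        · exact H9.TCY.mRelD_at (T := T) (by decide) hinv hr [Lt.z, Lt.yi, Lt.yi, Lt.yi, Lt.q, Lt.z, Lt.yi, Lt.q, Lt.z, Lt.yi, Lt.yi, Lt.yi, Lt.q, Lt.z, Lt.yi, Lt.q, Lt.z, Lt.yi, Lt.yi, Lt.yi, Lt.q, Lt.z, Lt.yi, Lt.q, Lt.z, Lt.yi, Lt.yi, Lt.yi, Lt.q, Lt.z, Lt.yi, Lt.q] 48 7 true (by decide +kernel) h
theorem dM_133_s (hinv : ∀ x, g (inv x) = (g x)⁻¹) (hr : ∀ r ∈ rels, (r.map g).prod = 1) (j z1 z2 u : ℕ) (h : dM_133 j z1 z2 u = true) : GoodM (fa g) T MG M (cP g H) u := by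
  unfold dM_133 at h
  rcases brec_true h with h | h
  · rcases brec_true h with h | h
    · exact H9.TCY.mRelD_at (T := T) (by decide) hinv hr [Lt.y, Lt.y, Lt.z, Lt.q, Lt.yi, Lt.q, Lt.z, Lt.q, Lt.y, Lt.q, Lt.z, Lt.yi, Lt.yi, Lt.q, Lt.z, Lt.yi, Lt.q, Lt.z, Lt.yi, Lt.z, Lt.y, Lt.z, Lt.q, Lt.y, Lt.z, Lt.q] 46 18 false (by decide +kernel) h
    · rcases brec_true h with h | h
      · exact H9.TCY.mRelD_at (T := T) (by decide) hinv hr [Lt.y, Lt.y, Lt.z, Lt.q, Lt.y, Lt.z, Lt.q, Lt.y, Lt.y, Lt.y, Lt.z, Lt.q, Lt.y, Lt.z, Lt.q, Lt.y, Lt.y, Lt.y, Lt.z, Lt.q, Lt.y, Lt.z, Lt.q, Lt.y, Lt.y, Lt.y, Lt.z, Lt.q, Lt.y, Lt.z, Lt.q, Lt.y] 48 6 false (by decide +kernel) h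
      · exact H9.TCY.mRelD_at (T := T) (by decide) hinv hr [Lt.y, Lt.v, Lt.q, Lt.z, Lt.q, Lt.z, Lt.yi, Lt.z, Lt.q, Lt.z, Lt.q, Lt.v] 13 11 false (by decide +kernel) h
  · rcases brec_true h with h | h
    · rcases brec_true h with h | h
      · exact H9.TCY.mRelD_at (T := T) (by decide) hinv hr [Lt.q, Lt.z, Lt.yi, Lt.yi, Lt.yi, Lt.q, Lt.z, Lt.yi, Lt.q, Lt.z, Lt.yi, Lt.yi, Lt.yi, Lt.q, Lt.z, Lt.yi, Lt.q, Lt.z, Lt.yi, Lt.yi, Lt.yi, Lt.q, Lt.z, Lt.yi, Lt.q, Lt.z, Lt.yi, Lt.yi, Lt.yi, Lt.q, Lt.z, Lt.yi] 48 6 true (by decide +kernel) h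
      · exact H9.TCY.mRelD_at (T := T) (by decide) hinv hr [Lt.q, Lt.yi, Lt.yi, Lt.yi, Lt.q, Lt.y, Lt.y, Lt.y, Lt.q, Lt.y, Lt.y, Lt.y, Lt.q, Lt.y, Lt.y, Lt.y] 30 0 true (by decide +kernel) h
    · rcases brec_true h with h | h
      · exact H9.TCY.mRelD_at (T := T) (by decide) hinv hr [Lt.z, Lt.yi, Lt.yi, Lt.q, Lt.z, Lt.yi, Lt.q, Lt.z, Lt.yi, Lt.z, Lt.y, Lt.z, Lt.q, Lt.y, Lt.z, Lt.q, Lt.y, Lt.y, Lt.z, Lt.q, Lt.yi, Lt.q, Lt.z, Lt.q, Lt.y, Lt.q] 46 2 false (by decide +kernel) h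
      · exact H9.TCY.mRelD_at (T := T) (by decide) hinv hr [Lt.z, Lt.y, Lt.z, Lt.q, Lt.y, Lt.z, Lt.q, Lt.y, Lt.y, Lt.z, Lt.q, Lt.yi, Lt.q, Lt.z, Lt.q, Lt.y, Lt.q, Lt.z, Lt.yi, Lt.yi, Lt.q, Lt.z, Lt.yi, Lt.q, Lt.z, Lt.yi] 46 11 false (by decide +kernel) h
theorem dM_134_s (hinv : ∀ x, g (inv x) = (g x)⁻¹) (hr : ∀ r ∈ rels, (r.map g).prod = 1) (j z1 z2 u : ℕ) (h : dM_134 j z1 z2 u = true) : GoodM (fa g) T MG M (cP g H) u := by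
  unfold dM_134 at h
  rcases brec_true h with h | h
  · rcases brec_true h with h | h
    · exact H9.TCY.mRelD_at (T := T) (by decide) hinv hr [Lt.q, Lt.y, Lt.z, Lt.yi, Lt.q, Lt.y, Lt.q, Lt.z, Lt.q, Lt.yi, Lt.z, Lt.y, Lt.q, Lt.yi, Lt.q, Lt.z] 24 13 false (by decide +kernel) h
    · rcases brec_true h with h | h
      · exact H9.TCY.mRelD_at (T := T) (by decide) hinv hr [Lt.yi, Lt.z, Lt.q, Lt.z, Lt.y, Lt.z, Lt.q, Lt.z, Lt.yi, Lt.z, Lt.q, Lt.z, Lt.y, Lt.z, Lt.q, Lt.z] 25 0 false (by decide +kernel) h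
      · exact H9.TCY.mRelD_at (T := T) (by decide) hinv hr [Lt.y, Lt.z, Lt.q, Lt.z, Lt.yi, Lt.z, Lt.q, Lt.z, Lt.y, Lt.z, Lt.q, Lt.z, Lt.yi, Lt.z, Lt.q, Lt.z] 25 4 false (by decide +kernel) h
  · rcases brec_true h with h | h
    · rcases brec_true h with h | h
      · exact H9.TCY.mRelD_at (T := T) (by decide) hinv hr [Lt.q, Lt.y, Lt.y, Lt.y, Lt.q, Lt.y, Lt.y, Lt.y, Lt.q, Lt.y, Lt.y, Lt.y, Lt.q, Lt.yi, Lt.yi, Lt.yi] 30 4 true (by decide +kernel) h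
      · exact H9.TCY.mRelD_at (T := T) (by decide) hinv hr [Lt.z, Lt.q, Lt.y, Lt.y, Lt.y, Lt.z, Lt.q, Lt.y, Lt.z, Lt.q, Lt.y, Lt.y, Lt.y, Lt.z, Lt.q, Lt.y, Lt.z, Lt.q, Lt.y, Lt.y, Lt.y, Lt.z, Lt.q, Lt.y, Lt.z, Lt.q, Lt.y, Lt.y, Lt.y, Lt.z, Lt.q, Lt.y] 48 3 false (by decide +kernel) h
    · rcases brec_true h with h | h
      · exact H9.TCY.mRelD_at (T := T) (by decide) hinv hr [Lt.v, Lt.z, Lt.q, Lt.z, Lt.q, Lt.z, Lt.q, Lt.v, Lt.z, Lt.q, Lt.z, Lt.q, Lt.v, Lt.z, Lt.q] 22 2 false (by decide +kernel) h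
      · exact H9.TCY.mRelD_at (T := T) (by decide) hinv hr [Lt.yi, Lt.q, Lt.z, Lt.yi, Lt.yi, Lt.yi, Lt.q, Lt.z, Lt.yi, Lt.q, Lt.z, Lt.yi, Lt.yi, Lt.yi, Lt.q, Lt.z, Lt.yi, Lt.q, Lt.z, Lt.yi, Lt.yi, Lt.yi, Lt.q, Lt.z, Lt.yi, Lt.q, Lt.z, Lt.yi, Lt.yi, Lt.yi, Lt.q, Lt.z] 48 5 true (by decide +kernel) h
theorem dM_135_s (hinv : ∀ x, g (inv x) = (g x)⁻¹) (hr : ∀ r ∈ rels, (r.map g).prod = 1) (j z1 z2 u : ℕ) (h : dM_135 j z1 z2 u = true) : GoodM (fa g) T MG M (cP g H) u := by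
  unfold dM_135 at h
  rcases brec_true h with h | h
  · exact dM_133_s hinv hr j z1 z2 u h
  · exact dM_134_s hinv hr j z1 z2 u h
theorem dM_136_s (hinv : ∀ x, g (inv x) = (g x)⁻¹) (hr : ∀ r ∈ rels, (r.map g).prod = 1) (j z1 z2 u : ℕ) (h : dM_136 j z1 z2 u = true) : GoodM (fa g) T MG M (cP g H) u := by
  unfold dM_136 at h
  rcases brec_true h with h | h
  · exact dM_132_s hinv hr j z1 z2 u h
  · exact dM_135_s hinv hr j z1 z2 u h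
theorem dM_137_s (hinv : ∀ x, g (inv x) = (g x)⁻¹) (hr : ∀ r ∈ rels, (r.map g).prod = 1) (j z1 z2 u : ℕ) (h : dM_137 j z1 z2 u = true) : GoodM (fa g) T MG M (cP g H) u := by
  unfold dM_137 at h
  rcases brec_true h with h | h
  · rcases brec_true h with h | h
    · rcases brec_true h with h | h
      · exact H9.TCY.mRelD_at (T := T) (by decide) hinv hr [Lt.q, Lt.z, Lt.q, Lt.y, Lt.q, Lt.z, Lt.yi, Lt.yi, Lt.q, Lt.z, Lt.yi, Lt.q, Lt.z, Lt.yi, Lt.z, Lt.y, Lt.z, Lt.q, Lt.y, Lt.z, Lt.q, Lt.y, Lt.y, Lt.z, Lt.q, Lt.yi] 46 23 false (by decide +kernel) h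
      · exact H9.TCY.mRelD_at (T := T) (by decide) hinv hr [Lt.q, Lt.yi, Lt.q, Lt.z, Lt.q, Lt.y, Lt.q, Lt.z, Lt.yi, Lt.yi, Lt.q, Lt.z, Lt.yi, Lt.q, Lt.z, Lt.yi, Lt.z, Lt.y, Lt.z, Lt.q, Lt.y, Lt.z, Lt.q, Lt.y, Lt.y, Lt.z] 46 21 false (by decide +kernel) h
    · rcases brec_true h with h | h
      · exact H9.TCY.mRelD_at (T := T) (by decide) hinv hr [Lt.q, Lt.z, Lt.q, Lt.z, Lt.v, Lt.q, Lt.z, Lt.v, Lt.q, Lt.z, Lt.q, Lt.z, Lt.v, Lt.q, Lt.z] 22 8 true (by decide +kernel) h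
      · exact H9.TCY.mRelD_at (T := T) (by decide) hinv hr [Lt.q, Lt.z, Lt.y, Lt.z, Lt.q, Lt.z, Lt.yi, Lt.z, Lt.q, Lt.z, Lt.y, Lt.z, Lt.q, Lt.z, Lt.yi, Lt.z] 25 2 false (by decide +kernel) h
  · rcases brec_true h with h | h
    · rcases brec_true h with h | h
      · exact H9.TCY.mRelD_at (T := T) (by decide) hinv hr [Lt.z, Lt.v, Lt.q, Lt.z, Lt.v, Lt.q, Lt.z, Lt.q, Lt.z, Lt.v, Lt.q, Lt.z, Lt.q, Lt.z, Lt.q] 22 11 true (by decide +kernel) h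
      · exact H9.TCY.mRelD_at (T := T) (by decide) hinv hr [Lt.yi, Lt.q, Lt.z, Lt.yi, Lt.q, Lt.z, Lt.yi, Lt.z, Lt.y, Lt.z, Lt.q, Lt.y, Lt.z, Lt.q, Lt.y, Lt.y, Lt.z, Lt.q, Lt.yi, Lt.q, Lt.z, Lt.q, Lt.y, Lt.q, Lt.z, Lt.yi] 46 4 false (by decide +kernel) h
    · rcases brec_true h with h | h
      · exact H9.TCY.mRelD_at (T := T) (by decide) hinv hr [Lt.q, Lt.y, Lt.y, Lt.y, Lt.z, Lt.q, Lt.y, Lt.z, Lt.q, Lt.y, Lt.y, Lt.y, Lt.z, Lt.q, Lt.y, Lt.z, Lt.q, Lt.y, Lt.y, Lt.y, Lt.z, Lt.q, Lt.y, Lt.z, Lt.q, Lt.y, Lt.y, Lt.y, Lt.z, Lt.q, Lt.y, Lt.z] 48 4 false (by decide +kernel) h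
      · exact H9.TCY.mRelD_at (T := T) (by decide) hinv hr [Lt.v, Lt.q, Lt.z, Lt.q, Lt.z, Lt.q, Lt.z, Lt.v, Lt.q, Lt.z, Lt.v, Lt.q, Lt.z, Lt.q, Lt.z] 22 5 true (by decide +kernel) h
theorem dM_138_s (hinv : ∀ x, g (inv x) = (g x)⁻¹) (hr : ∀ r ∈ rels, (r.map g).prod = 1) (j z1 z2 u : ℕ) (h : dM_138 j z1 z2 u = true) : GoodM (fa g) T MG M (cP g H) u := by
  unfold dM_138 at h
  rcases brec_true h with h | h
  · rcases brec_true h with h | h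
    · rcases brec_true h with h | h
      · exact H9.TCY.mRelD_at (T := T) (by decide) hinv hr [Lt.yi, Lt.yi, Lt.q, Lt.y, Lt.y, Lt.y, Lt.q, Lt.yi, Lt.yi, Lt.yi, Lt.q, Lt.yi, Lt.yi, Lt.yi, Lt.q, Lt.yi] 30 9 false (by decide +kernel) h
      · exact H9.TCY.mRelD_at (T := T) (by decide) hinv hr [Lt.yi, Lt.yi, Lt.q, Lt.z, Lt.yi, Lt.q, Lt.z, Lt.yi, Lt.z, Lt.y, Lt.z, Lt.q, Lt.y, Lt.z, Lt.q, Lt.y, Lt.y, Lt.z, Lt.q, Lt.yi, Lt.q, Lt.z, Lt.q, Lt.y, Lt.q, Lt.z] 46 3 false (by decide +kernel) h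
    · rcases brec_true h with h | h
      · exact H9.TCY.mRelD_at (T := T) (by decide) hinv hr [Lt.yi, Lt.q, Lt.y, Lt.y, Lt.y, Lt.q, Lt.y, Lt.y, Lt.y, Lt.q, Lt.y, Lt.y, Lt.y, Lt.q, Lt.yi, Lt.yi] 30 3 true (by decide +kernel) h
      · exact H9.TCY.mRelD_at (T := T) (by decide) hinv hr [Lt.yi, Lt.q, Lt.z, Lt.yi, Lt.q, Lt.z, Lt.yi, Lt.yi, Lt.yi, Lt.q, Lt.z, Lt.yi, Lt.q, Lt.z, Lt.yi, Lt.yi, Lt.yi, Lt.q, Lt.z, Lt.yi, Lt.q, Lt.z, Lt.yi, Lt.yi, Lt.yi, Lt.q, Lt.z, Lt.yi, Lt.q, Lt.z, Lt.yi, Lt.yi] 48 2 true (by decide +kernel) h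
  · rcases brec_true h with h | h
    · rcases brec_true h with h | h
      · exact H9.TCY.mRelD_at (T := T) (by decide) hinv hr [Lt.q, Lt.v, Lt.z, Lt.q, Lt.z, Lt.q, Lt.z, Lt.q, Lt.v, Lt.z, Lt.q, Lt.z, Lt.q, Lt.v, Lt.z] 22 1 false (by decide +kernel) h
      · exact H9.TCY.mRelD_at (T := T) (by decide) hinv hr [Lt.y, Lt.y, Lt.q, Lt.y, Lt.y, Lt.y, Lt.q, Lt.yi, Lt.yi, Lt.yi, Lt.q, Lt.y, Lt.y, Lt.y, Lt.q, Lt.y] 30 10 true (by decide +kernel) h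
    · rcases brec_true h with h | h
      · exact H9.TCY.mRelD_at (T := T) (by decide) hinv hr [Lt.q, Lt.z, Lt.yi, Lt.z, Lt.q, Lt.z, Lt.y, Lt.z, Lt.q, Lt.z, Lt.yi, Lt.z, Lt.q, Lt.z, Lt.y, Lt.z] 25 6 false (by decide +kernel) h
      · rcases brec_true h with h | h
        · exact H9.TCY.mRelD_at (T := T) (by decide) hinv hr [Lt.q, Lt.z, Lt.q, Lt.z, Lt.q, Lt.v, Lt.z, Lt.q, Lt.z, Lt.q, Lt.v, Lt.z, Lt.q, Lt.v, Lt.z] 22 4 false (by decide +kernel) h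
        · exact H9.TCY.mRelD_at (T := T) (by decide) hinv hr [Lt.q, Lt.v, Lt.z, Lt.q, Lt.z, Lt.q, Lt.v, Lt.z, Lt.q, Lt.v, Lt.z, Lt.q, Lt.z, Lt.q, Lt.z] 22 8 false (by decide +kernel) h
theorem dM_139_s (hinv : ∀ x, g (inv x) = (g x)⁻¹) (hr : ∀ r ∈ rels, (r.map g).prod = 1) (j z1 z2 u : ℕ) (h : dM_139 j z1 z2 u = true) : GoodM (fa g) T MG M (cP g H) u := by
  unfold dM_139 at h
  rcases brec_true h with h | h
  · exact dM_137_s hinv hr j z1 z2 u h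
  · exact dM_138_s hinv hr j z1 z2 u h
theorem dM_140_s (hinv : ∀ x, g (inv x) = (g x)⁻¹) (hr : ∀ r ∈ rels, (r.map g).prod = 1) (j z1 z2 u : ℕ) (h : dM_140 j z1 z2 u = true) : GoodM (fa g) T MG M (cP g H) u := by
  unfold dM_140 at h
  rcases brec_true h with h | h
  · rcases brec_true h with h | h
    · exact H9.TCY.mRelD_at (T := T) (by decide) hinv hr [Lt.yi, Lt.yi, Lt.yi, Lt.q, Lt.z, Lt.yi, Lt.q, Lt.z, Lt.yi, Lt.yi, Lt.yi, Lt.q, Lt.z, Lt.yi, Lt.q, Lt.z, Lt.yi, Lt.yi, Lt.yi, Lt.q, Lt.z, Lt.yi, Lt.q, Lt.z, Lt.yi, Lt.yi, Lt.yi, Lt.q, Lt.z, Lt.yi, Lt.q, Lt.z] 48 0 true (by decide +kernel) h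
    · rcases brec_true h with h | h
      · exact H9.TCY.mRelD_at (T := T) (by decide) hinv hr [Lt.z, Lt.q, Lt.z, Lt.y, Lt.z, Lt.q, Lt.z, Lt.yi, Lt.z, Lt.q, Lt.z, Lt.y, Lt.z, Lt.q, Lt.z, Lt.yi] 25 1 false (by decide +kernel) h
      · exact H9.TCY.mRelD_at (T := T) (by decide) hinv hr [Lt.z, Lt.q, Lt.z, Lt.v, Lt.q, Lt.z, Lt.q, Lt.z, Lt.q, Lt.z, Lt.v, Lt.q, Lt.z, Lt.v, Lt.q] 22 2 true (by decide +kernel) h
  · rcases brec_true h with h | h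
    · exact H9.TCY.mRelD_at (T := T) (by decide) hinv hr [Lt.q, Lt.z, Lt.q, Lt.v, Lt.z, Lt.q, Lt.z, Lt.q, Lt.v, Lt.z, Lt.q, Lt.v, Lt.z, Lt.q, Lt.z] 22 6 false (by decide +kernel) h
    · rcases brec_true h with h | h
      · exact H9.TCY.mRelD_at (T := T) (by decide) hinv hr [Lt.v, Lt.q, Lt.z, Lt.v, Lt.q, Lt.z, Lt.q, Lt.z, Lt.v, Lt.q, Lt.z, Lt.q, Lt.z, Lt.q, Lt.z] 22 12 true (by decide +kernel) h
      · exact H9.TCY.mRelD_at (T := T) (by decide) hinv hr [Lt.q, Lt.z, Lt.v, Lt.q, Lt.z, Lt.q, Lt.z, Lt.q, Lt.z, Lt.v, Lt.q, Lt.z, Lt.v, Lt.q, Lt.z] 22 3 true (by decide +kernel) h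
theorem dM_141_s (hinv : ∀ x, g (inv x) = (g x)⁻¹) (hr : ∀ r ∈ rels, (r.map g).prod = 1) (j z1 z2 u : ℕ) (h : dM_141 j z1 z2 u = true) : GoodM (fa g) T MG M (cP g H) u := by
  unfold dM_141 at h
  rcases brec_true h with h | h
  · rcases brec_true h with h | h
    · rcases brec_true h with h | h
      · exact H9.TCY.mRelD_at (T := T) (by decide) hinv hr [Lt.z, Lt.v, Lt.q, Lt.z, Lt.q, Lt.z, Lt.v, Lt.q, Lt.z, Lt.q, Lt.z, Lt.q, Lt.z, Lt.v, Lt.q] 22 14 true (by decide +kernel) h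
      · exact H9.TCY.mRelD_at (T := T) (by decide) hinv hr [Lt.z, Lt.yi, Lt.z, Lt.q, Lt.z, Lt.y, Lt.z, Lt.q, Lt.z, Lt.yi, Lt.z, Lt.q, Lt.z, Lt.y, Lt.z, Lt.q] 25 7 false (by decide +kernel) h
    · rcases brec_true h with h | h
      · exact H9.TCY.mRelD_at (T := T) (by decide) hinv hr [Lt.q, Lt.z, Lt.v, Lt.q, Lt.z, Lt.q, Lt.z, Lt.v, Lt.q, Lt.z, Lt.q, Lt.z, Lt.q, Lt.z, Lt.v] 22 13 true (by decide +kernel) h
      · exact H9.TCY.mRelD_at (T := T) (by decide) hinv hr [Lt.q, Lt.z, Lt.q, Lt.z, Lt.q, Lt.z, Lt.v, Lt.q, Lt.z, Lt.v, Lt.q, Lt.z, Lt.q, Lt.z, Lt.v] 22 6 true (by decide +kernel) h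
  · rcases brec_true h with h | h
    · rcases brec_true h with h | h
      · exact H9.TCY.mRelD_at (T := T) (by decide) hinv hr [Lt.yi, Lt.yi, Lt.yi, Lt.q, Lt.y, Lt.y, Lt.y, Lt.q, Lt.y, Lt.y, Lt.y, Lt.q, Lt.y, Lt.y, Lt.y, Lt.q] 30 1 true (by decide +kernel) h
      · exact H9.TCY.mRelD_at (T := T) (by decide) hinv hr [Lt.v, Lt.z, Lt.q, Lt.z, Lt.q, Lt.v, Lt.z, Lt.q, Lt.v, Lt.z, Lt.q, Lt.z, Lt.q, Lt.z, Lt.q] 22 9 false (by decide +kernel) h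
    · rcases brec_true h with h | h
      · exact H9.TCY.mRelD_at (T := T) (by decide) hinv hr [Lt.z, Lt.y, Lt.z, Lt.q, Lt.z, Lt.yi, Lt.z, Lt.q, Lt.z, Lt.y, Lt.z, Lt.q, Lt.z, Lt.yi, Lt.z, Lt.q] 25 3 false (by decide +kernel) h
      · rcases brec_true h with h | h
        · exact H9.TCY.mRelD_at (T := T) (by decide) hinv hr [Lt.y, Lt.y, Lt.z, Lt.q, Lt.y, Lt.z, Lt.q, Lt.y, Lt.z, Lt.q, Lt.yi, Lt.q, Lt.z, Lt.yi, Lt.q, Lt.z, Lt.yi, Lt.yi, Lt.yi, Lt.z, Lt.y, Lt.y, Lt.y, Lt.z, Lt.q, Lt.y, Lt.z, Lt.q, Lt.y, Lt.z, Lt.q, Lt.yi, Lt.q, Lt.z, Lt.yi, Lt.q, Lt.z, Lt.yi, Lt.yi, Lt.yi, Lt.z, Lt.y, Lt.y, Lt.y, Lt.z, Lt.q, Lt.y, Lt.z, Lt.q, Lt.y, Lt.z, Lt.q, Lt.z, Lt.yi, Lt.q, Lt.z, Lt.yi, Lt.q, Lt.z, Lt.yi, Lt.yi, Lt.yi, Lt.z, Lt.y] 49 12 false (by decide +kernel) h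
        · exact H9.TCY.mRelD_at (T := T) (by decide) hinv hr [Lt.z, Lt.y, Lt.y, Lt.y, Lt.z, Lt.q, Lt.y, Lt.z, Lt.q, Lt.y, Lt.q, Lt.z, Lt.yi, Lt.q, Lt.z, Lt.yi, Lt.q, Lt.z, Lt.yi, Lt.yi, Lt.yi, Lt.z, Lt.y, Lt.y, Lt.y, Lt.z, Lt.q, Lt.y, Lt.z, Lt.q, Lt.y, Lt.q, Lt.z, Lt.yi, Lt.q, Lt.z, Lt.yi, Lt.q, Lt.z, Lt.yi, Lt.yi, Lt.yi, Lt.z, Lt.y, Lt.y, Lt.y, Lt.z, Lt.q, Lt.y, Lt.z, Lt.q, Lt.y, Lt.z, Lt.q, Lt.z, Lt.yi, Lt.q, Lt.z, Lt.yi, Lt.q, Lt.z, Lt.yi, Lt.yi, Lt.yi] 49 11 true (by decide +kernel) h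
theorem dM_142_s (hinv : ∀ x, g (inv x) = (g x)⁻¹) (hr : ∀ r ∈ rels, (r.map g).prod = 1) (j z1 z2 u : ℕ) (h : dM_142 j z1 z2 u = true) : GoodM (fa g) T MG M (cP g H) u := by
  unfold dM_142 at h
  rcases brec_true h with h | h
  · exact dM_140_s hinv hr j z1 z2 u h
  · exact dM_141_s hinv hr j z1 z2 u h
theorem dM_143_s (hinv : ∀ x, g (inv x) = (g x)⁻¹) (hr : ∀ r ∈ rels, (r.map g).prod = 1) (j z1 z2 u : ℕ) (h : dM_143 j z1 z2 u = true) : GoodM (fa g) T MG M (cP g H) u := by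
  unfold dM_143 at h
  rcases brec_true h with h | h
  · rcases brec_true h with h | h
    · exact H9.TCY.mRelD_at (T := T) (by decide) hinv hr [Lt.z, Lt.q, Lt.v, Lt.z, Lt.q, Lt.z, Lt.q, Lt.z, Lt.q, Lt.v, Lt.z, Lt.q, Lt.z, Lt.q, Lt.v] 22 0 false (by decide +kernel) h
    · rcases brec_true h with h | h
      · exact H9.TCY.mRelD_at (T := T) (by decide) hinv hr [Lt.yi, Lt.yi, Lt.q, Lt.z, Lt.yi, Lt.q, Lt.z, Lt.yi, Lt.yi, Lt.yi, Lt.q, Lt.z, Lt.yi, Lt.q, Lt.z, Lt.yi, Lt.yi, Lt.yi, Lt.q, Lt.z, Lt.yi, Lt.q, Lt.z, Lt.yi, Lt.yi, Lt.yi, Lt.q, Lt.z, Lt.yi, Lt.q, Lt.z, Lt.yi] 48 1 true (by decide +kernel) h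
      · exact H9.TCY.mRelD_at (T := T) (by decide) hinv hr [Lt.v, Lt.z, Lt.q, Lt.v, Lt.z, Lt.q, Lt.z, Lt.q, Lt.z, Lt.q, Lt.v, Lt.z, Lt.q, Lt.z, Lt.q] 22 14 false (by decide +kernel) h
  · rcases brec_true h with h | h
    · exact H9.TCY.mRelD_at (T := T) (by decide) hinv hr [Lt.yi, Lt.q, Lt.z, Lt.q, Lt.y, Lt.q, Lt.z, Lt.yi, Lt.yi, Lt.q, Lt.z, Lt.yi, Lt.q, Lt.z, Lt.yi, Lt.z, Lt.y, Lt.z, Lt.q, Lt.y, Lt.z, Lt.q, Lt.y, Lt.y, Lt.z, Lt.q] 46 22 false (by decide +kernel) h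
    · rcases brec_true h with h | h
      · exact H9.TCY.mRelD_at (T := T) (by decide) hinv hr [Lt.q, Lt.v, Lt.z, Lt.q, Lt.v, Lt.z, Lt.q, Lt.z, Lt.q, Lt.z, Lt.q, Lt.v, Lt.z, Lt.q, Lt.z] 22 13 false (by decide +kernel) h
      · exact H9.TCY.mRelD_at (T := T) (by decide) hinv hr [Lt.q, Lt.z, Lt.v, Lt.q, Lt.z, Lt.v, Lt.q, Lt.z, Lt.q, Lt.z, Lt.v, Lt.q, Lt.z, Lt.q, Lt.z] 22 10 true (by decide +kernel) h
theorem dM_144_s (hinv : ∀ x, g (inv x) = (g x)⁻¹) (hr : ∀ r ∈ rels, (r.map g).prod = 1) (j z1 z2 u : ℕ) (h : dM_144 j z1 z2 u = true) : GoodM (fa g) T MG M (cP g H) u := by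
  unfold dM_144 at h
  rcases brec_true h with h | h
  · rcases brec_true h with h | h
    · exact H9.TCY.mRelD_at (T := T) (by decide) hinv hr [Lt.z, Lt.q, Lt.y, Lt.q, Lt.z, Lt.yi, Lt.yi, Lt.q, Lt.z, Lt.yi, Lt.q, Lt.z, Lt.yi, Lt.z, Lt.y, Lt.z, Lt.q, Lt.y, Lt.z, Lt.q, Lt.y, Lt.y, Lt.z, Lt.q, Lt.yi, Lt.q] 46 24 false (by decide +kernel) h
    · rcases brec_true h with h | h
      · exact H9.TCY.mRelD_at (T := T) (by decide) hinv hr [Lt.q, Lt.y, Lt.y, Lt.y, Lt.q, Lt.yi, Lt.yi, Lt.yi, Lt.q, Lt.y, Lt.y, Lt.y, Lt.q, Lt.y, Lt.y, Lt.y] 30 12 true (by decide +kernel) h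
      · exact H9.TCY.mRelD_at (T := T) (by decide) hinv hr [Lt.y, Lt.y, Lt.q, Lt.yi, Lt.yi, Lt.yi, Lt.q, Lt.y, Lt.y, Lt.y, Lt.q, Lt.y, Lt.y, Lt.y, Lt.q, Lt.y] 30 14 true (by decide +kernel) h
  · rcases brec_true h with h | h
    · exact H9.TCY.mRelD_at (T := T) (by decide) hinv hr [Lt.q, Lt.z, Lt.q, Lt.v, Lt.z, Lt.q, Lt.v, Lt.z, Lt.q, Lt.z, Lt.q, Lt.z, Lt.q, Lt.v, Lt.z] 22 11 false (by decide +kernel) h
    · rcases brec_true h with h | h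
      · exact H9.TCY.mRelD_at (T := T) (by decide) hinv hr [Lt.q, Lt.z, Lt.yi, Lt.q, Lt.z, Lt.yi, Lt.yi, Lt.yi, Lt.z, Lt.y, Lt.y, Lt.y, Lt.z, Lt.q, Lt.y, Lt.z, Lt.q, Lt.y, Lt.z, Lt.q, Lt.yi, Lt.q, Lt.z, Lt.yi, Lt.q, Lt.z, Lt.yi, Lt.yi, Lt.yi, Lt.z, Lt.y, Lt.y, Lt.y, Lt.z, Lt.q, Lt.y, Lt.z, Lt.q, Lt.y, Lt.z, Lt.q, Lt.yi, Lt.q, Lt.z, Lt.yi, Lt.q, Lt.z, Lt.yi, Lt.yi, Lt.yi, Lt.z, Lt.y, Lt.y, Lt.y, Lt.z, Lt.q, Lt.y, Lt.z, Lt.q, Lt.y, Lt.z, Lt.q, Lt.z, Lt.yi] 49 2 false (by decide +kernel) h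
      · rcases brec_true h with h | h
        · exact H9.TCY.mRelD_at (T := T) (by decide) hinv hr [Lt.q, Lt.y, Lt.z, Lt.q, Lt.z, Lt.yi, Lt.q, Lt.z, Lt.yi, Lt.q, Lt.z, Lt.yi, Lt.yi, Lt.yi, Lt.z, Lt.y, Lt.y, Lt.y, Lt.z, Lt.q, Lt.y, Lt.z, Lt.q, Lt.y, Lt.z, Lt.q, Lt.yi, Lt.q, Lt.z, Lt.yi, Lt.q, Lt.z, Lt.yi, Lt.yi, Lt.yi, Lt.z, Lt.y, Lt.y, Lt.y, Lt.z, Lt.q, Lt.y, Lt.z, Lt.q, Lt.y, Lt.z, Lt.q, Lt.yi, Lt.q, Lt.z, Lt.yi, Lt.q, Lt.z, Lt.yi, Lt.yi, Lt.yi, Lt.z, Lt.y, Lt.y, Lt.y, Lt.z, Lt.q, Lt.y, Lt.z] 49 60 false (by decide +kernel) h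
        · exact H9.TCY.mRelD_at (T := T) (by decide) hinv hr [Lt.yi, Lt.yi, Lt.z, Lt.y, Lt.y, Lt.y, Lt.z, Lt.q, Lt.y, Lt.z, Lt.q, Lt.y, Lt.z, Lt.q, Lt.yi, Lt.q, Lt.z, Lt.yi, Lt.q, Lt.z, Lt.yi, Lt.yi, Lt.yi, Lt.z, Lt.y, Lt.y, Lt.y, Lt.z, Lt.q, Lt.y, Lt.z, Lt.q, Lt.y, Lt.z, Lt.q, Lt.z, Lt.yi, Lt.q, Lt.z, Lt.yi, Lt.q, Lt.z, Lt.yi, Lt.yi, Lt.yi, Lt.z, Lt.y, Lt.y, Lt.y, Lt.z, Lt.q, Lt.y, Lt.z, Lt.q, Lt.y, Lt.z, Lt.q, Lt.yi, Lt.q, Lt.z, Lt.yi, Lt.q, Lt.z, Lt.yi] 49 29 false (by decide +kernel) h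
theorem dM_145_s (hinv : ∀ x, g (inv x) = (g x)⁻¹) (hr : ∀ r ∈ rels, (r.map g).prod = 1) (j z1 z2 u : ℕ) (h : dM_145 j z1 z2 u = true) : GoodM (fa g) T MG M (cP g H) u := by
  unfold dM_145 at h
  rcases brec_true h with h | h
  · exact dM_143_s hinv hr j z1 z2 u h
  · exact dM_144_s hinv hr j z1 z2 u h
theorem dM_146_s (hinv : ∀ x, g (inv x) = (g x)⁻¹) (hr : ∀ r ∈ rels, (r.map g).prod = 1) (j z1 z2 u : ℕ) (h : dM_146 j z1 z2 u = true) : GoodM (fa g) T MG M (cP g H) u := by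
  unfold dM_146 at h
  rcases brec_true h with h | h
  · rcases brec_true h with h | h
    · rcases brec_true h with h | h
      · exact H9.TCY.mRelD_at (T := T) (by decide) hinv hr [Lt.y, Lt.y, Lt.z, Lt.q, Lt.y, Lt.z, Lt.q, Lt.y, Lt.z, Lt.q, Lt.z, Lt.yi, Lt.q, Lt.z, Lt.yi, Lt.q, Lt.z, Lt.yi, Lt.yi, Lt.yi, Lt.z, Lt.y, Lt.y, Lt.y, Lt.z, Lt.q, Lt.y, Lt.z, Lt.q, Lt.y, Lt.z, Lt.q, Lt.yi, Lt.q, Lt.z, Lt.yi, Lt.q, Lt.z, Lt.yi, Lt.yi, Lt.yi, Lt.z, Lt.y, Lt.y, Lt.y, Lt.z, Lt.q, Lt.y, Lt.z, Lt.q, Lt.y, Lt.z, Lt.q, Lt.yi, Lt.q, Lt.z, Lt.yi, Lt.q, Lt.z, Lt.yi, Lt.yi, Lt.yi, Lt.z, Lt.y] 49 54 false (by decide +kernel) h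
      · exact H9.TCY.mRelD_at (T := T) (by decide) hinv hr [Lt.yi, Lt.yi, Lt.yi, Lt.z, Lt.y, Lt.y, Lt.y, Lt.z, Lt.q, Lt.y, Lt.z, Lt.q, Lt.y, Lt.z, Lt.q, Lt.yi, Lt.q, Lt.z, Lt.yi, Lt.q, Lt.z, Lt.yi, Lt.yi, Lt.yi, Lt.z, Lt.y, Lt.y, Lt.y, Lt.z, Lt.q, Lt.y, Lt.z, Lt.q, Lt.y, Lt.z, Lt.q, Lt.yi, Lt.q, Lt.z, Lt.yi, Lt.q, Lt.z, Lt.yi, Lt.yi, Lt.yi, Lt.z, Lt.y, Lt.y, Lt.y, Lt.z, Lt.q, Lt.y, Lt.z, Lt.q, Lt.y, Lt.z, Lt.q, Lt.z, Lt.yi, Lt.q, Lt.z, Lt.yi, Lt.q, Lt.z] 49 7 false (by decide +kernel) h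
    · rcases brec_true h with h | h
      · exact H9.TCY.mRelD_at (T := T) (by decide) hinv hr [Lt.z, Lt.q, Lt.y, Lt.z, Lt.q, Lt.z, Lt.yi, Lt.q, Lt.z, Lt.yi, Lt.q, Lt.z, Lt.yi, Lt.yi, Lt.yi, Lt.z, Lt.y, Lt.y, Lt.y, Lt.z, Lt.q, Lt.y, Lt.z, Lt.q, Lt.y, Lt.z, Lt.q, Lt.yi, Lt.q, Lt.z, Lt.yi, Lt.q, Lt.z, Lt.yi, Lt.yi, Lt.yi, Lt.z, Lt.y, Lt.y, Lt.y, Lt.z, Lt.q, Lt.y, Lt.z, Lt.q, Lt.y, Lt.z, Lt.q, Lt.yi, Lt.q, Lt.z, Lt.yi, Lt.q, Lt.z, Lt.yi, Lt.yi, Lt.yi, Lt.z, Lt.y, Lt.y, Lt.y, Lt.z, Lt.q, Lt.y] 49 59 false (by decide +kernel) h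
      · rcases brec_true h with h | h
        · exact H9.TCY.mRelD_at (T := T) (by decide) hinv hr [Lt.yi, Lt.yi, Lt.z, Lt.y, Lt.y, Lt.y, Lt.z, Lt.q, Lt.y, Lt.z, Lt.q, Lt.y, Lt.z, Lt.q, Lt.z, Lt.yi, Lt.q, Lt.z, Lt.yi, Lt.q, Lt.z, Lt.yi, Lt.yi, Lt.yi, Lt.z, Lt.y, Lt.y, Lt.y, Lt.z, Lt.q, Lt.y, Lt.z, Lt.q, Lt.y, Lt.z, Lt.q, Lt.yi, Lt.q, Lt.z, Lt.yi, Lt.q, Lt.z, Lt.yi, Lt.yi, Lt.yi, Lt.z, Lt.y, Lt.y, Lt.y, Lt.z, Lt.q, Lt.y, Lt.z, Lt.q, Lt.y, Lt.z, Lt.q, Lt.yi, Lt.q, Lt.z, Lt.yi, Lt.q, Lt.z, Lt.yi] 49 50 false (by decide +kernel) h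
        · exact H9.TCY.mRelD_at (T := T) (by decide) hinv hr [Lt.z, Lt.q, Lt.y, Lt.z, Lt.q, Lt.y, Lt.q, Lt.z, Lt.yi, Lt.q, Lt.z, Lt.yi, Lt.q, Lt.z, Lt.yi, Lt.yi, Lt.yi, Lt.z, Lt.y, Lt.y, Lt.y, Lt.z, Lt.q, Lt.y, Lt.z, Lt.q, Lt.y, Lt.q, Lt.z, Lt.yi, Lt.q, Lt.z, Lt.yi, Lt.q, Lt.z, Lt.yi, Lt.yi, Lt.yi, Lt.z, Lt.y, Lt.y, Lt.y, Lt.z, Lt.q, Lt.y, Lt.z, Lt.q, Lt.y, Lt.z, Lt.q, Lt.z, Lt.yi, Lt.q, Lt.z, Lt.yi, Lt.q, Lt.z, Lt.yi, Lt.yi, Lt.yi, Lt.z, Lt.y, Lt.y, Lt.y] 49 15 true (by decide +kernel) h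
  · rcases brec_true h with h | h
    · rcases brec_true h with h | h
      · exact H9.TCY.mRelD_at (T := T) (by decide) hinv hr [Lt.y, Lt.q, Lt.z, Lt.yi, Lt.q, Lt.z, Lt.yi, Lt.q, Lt.z, Lt.yi, Lt.yi, Lt.yi, Lt.z, Lt.y, Lt.y, Lt.y, Lt.z, Lt.q, Lt.y, Lt.z, Lt.q, Lt.y, Lt.q, Lt.z, Lt.yi, Lt.q, Lt.z, Lt.yi, Lt.q, Lt.z, Lt.yi, Lt.yi, Lt.yi, Lt.z, Lt.y, Lt.y, Lt.y, Lt.z, Lt.q, Lt.y, Lt.z, Lt.q, Lt.y, Lt.z, Lt.q, Lt.z, Lt.yi, Lt.q, Lt.z, Lt.yi, Lt.q, Lt.z, Lt.yi, Lt.yi, Lt.yi, Lt.z, Lt.y, Lt.y, Lt.y, Lt.z, Lt.q, Lt.y, Lt.z, Lt.q] 49 20 true (by decide +kernel) h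
      · rcases brec_true h with h | h
        · exact H9.TCY.mRelD_at (T := T) (by decide) hinv hr [Lt.y, Lt.z, Lt.q, Lt.z, Lt.yi, Lt.q, Lt.z, Lt.yi, Lt.q, Lt.z, Lt.yi, Lt.yi, Lt.yi, Lt.z, Lt.y, Lt.y, Lt.y, Lt.z, Lt.q, Lt.y, Lt.z, Lt.q, Lt.y, Lt.q, Lt.z, Lt.yi, Lt.q, Lt.z, Lt.yi, Lt.q, Lt.z, Lt.yi, Lt.yi, Lt.yi, Lt.z, Lt.y, Lt.y, Lt.y, Lt.z, Lt.q, Lt.y, Lt.z, Lt.q, Lt.y, Lt.q, Lt.z, Lt.yi, Lt.q, Lt.z, Lt.yi, Lt.q, Lt.z, Lt.yi, Lt.yi, Lt.yi, Lt.z, Lt.y, Lt.y, Lt.y, Lt.z, Lt.q, Lt.y, Lt.z, Lt.q] 49 62 true (by decide +kernel) h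
        · exact H9.TCY.mRelD_at (T := T) (by decide) hinv hr [Lt.yi, Lt.q, Lt.z, Lt.yi, Lt.yi, Lt.yi, Lt.z, Lt.y, Lt.y, Lt.y, Lt.z, Lt.q, Lt.y, Lt.z, Lt.q, Lt.y, Lt.z, Lt.q, Lt.z, Lt.yi, Lt.q, Lt.z, Lt.yi, Lt.q, Lt.z, Lt.yi, Lt.yi, Lt.yi, Lt.z, Lt.y, Lt.y, Lt.y, Lt.z, Lt.q, Lt.y, Lt.z, Lt.q, Lt.y, Lt.z, Lt.q, Lt.yi, Lt.q, Lt.z, Lt.yi, Lt.q, Lt.z, Lt.yi, Lt.yi, Lt.yi, Lt.z, Lt.y, Lt.y, Lt.y, Lt.z, Lt.q, Lt.y, Lt.z, Lt.q, Lt.y, Lt.z, Lt.q, Lt.yi, Lt.q, Lt.z] 49 46 false (by decide +kernel) h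
    · rcases brec_true h with h | h
      · exact H9.TCY.mRelD_at (T := T) (by decide) hinv hr [Lt.z, Lt.q, Lt.z, Lt.q, Lt.v, Lt.z, Lt.q, Lt.z, Lt.q, Lt.v, Lt.z, Lt.q, Lt.v, Lt.z, Lt.q] 22 5 false (by decide +kernel) h
      · rcases brec_true h with h | h
        · exact H9.TCY.mRelD_at (T := T) (by decide) hinv hr [Lt.z, Lt.q, Lt.z, Lt.q, Lt.z, Lt.v, Lt.q, Lt.z, Lt.v, Lt.q, Lt.z, Lt.q, Lt.z, Lt.v, Lt.q] 22 7 true (by decide +kernel) h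
        · exact H9.TCY.mRelD_at (T := T) (by decide) hinv hr [Lt.z, Lt.q, Lt.y, Lt.z, Lt.q, Lt.y, Lt.z, Lt.q, Lt.z, Lt.yi, Lt.q, Lt.z, Lt.yi, Lt.q, Lt.z, Lt.yi, Lt.yi, Lt.yi, Lt.z, Lt.y, Lt.y, Lt.y, Lt.z, Lt.q, Lt.y, Lt.z, Lt.q, Lt.y, Lt.q, Lt.z, Lt.yi, Lt.q, Lt.z, Lt.yi, Lt.q, Lt.z, Lt.yi, Lt.yi, Lt.yi, Lt.z, Lt.y, Lt.y, Lt.y, Lt.z, Lt.q, Lt.y, Lt.z, Lt.q, Lt.y, Lt.q, Lt.z, Lt.yi, Lt.q, Lt.z, Lt.yi, Lt.q, Lt.z, Lt.yi, Lt.yi, Lt.yi, Lt.z, Lt.y, Lt.y, Lt.y] 49 57 true (by decide +kernel) h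
theorem dM_147_s (hinv : ∀ x, g (inv x) = (g x)⁻¹) (hr : ∀ r ∈ rels, (r.map g).prod = 1) (j z1 z2 u : ℕ) (h : dM_147 j z1 z2 u = true) : GoodM (fa g) T MG M (cP g H) u := by
  unfold dM_147 at h
  rcases brec_true h with h | h
  · rcases brec_true h with h | h
    · rcases brec_true h with h | h
      · exact H9.TCY.mRelD_at (T := T) (by decide) hinv hr [Lt.z, Lt.y, Lt.y, Lt.y, Lt.z, Lt.q, Lt.y, Lt.z, Lt.q, Lt.y, Lt.z, Lt.q, Lt.yi, Lt.q, Lt.z, Lt.yi, Lt.q, Lt.z, Lt.yi, Lt.yi, Lt.yi, Lt.z, Lt.y, Lt.y, Lt.y, Lt.z, Lt.q, Lt.y, Lt.z, Lt.q, Lt.y, Lt.z, Lt.q, Lt.z, Lt.yi, Lt.q, Lt.z, Lt.yi, Lt.q, Lt.z, Lt.yi, Lt.yi, Lt.yi, Lt.z, Lt.y, Lt.y, Lt.y, Lt.z, Lt.q, Lt.y, Lt.z, Lt.q, Lt.y, Lt.z, Lt.q, Lt.yi, Lt.q, Lt.z, Lt.yi, Lt.q, Lt.z, Lt.yi, Lt.yi, Lt.yi] 49 31 false (by decide +kernel) h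
      · rcases brec_true h with h | h
        · exact H9.TCY.mRelD_at (T := T) (by decide) hinv hr [Lt.q, Lt.z, Lt.yi, Lt.q, Lt.z, Lt.yi, Lt.yi, Lt.yi, Lt.z, Lt.y, Lt.y, Lt.y, Lt.z, Lt.q, Lt.y, Lt.z, Lt.q, Lt.y, Lt.q, Lt.z, Lt.yi, Lt.q, Lt.z, Lt.yi, Lt.q, Lt.z, Lt.yi, Lt.yi, Lt.yi, Lt.z, Lt.y, Lt.y, Lt.y, Lt.z, Lt.q, Lt.y, Lt.z, Lt.q, Lt.y, Lt.q, Lt.z, Lt.yi, Lt.q, Lt.z, Lt.yi, Lt.q, Lt.z, Lt.yi, Lt.yi, Lt.yi, Lt.z, Lt.y, Lt.y, Lt.y, Lt.z, Lt.q, Lt.y, Lt.z, Lt.q, Lt.y, Lt.z, Lt.q, Lt.z, Lt.yi] 49 3 true (by decide +kernel) h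
        · exact H9.TCY.mRelD_at (T := T) (by decide) hinv hr [Lt.z, Lt.q, Lt.y, Lt.z, Lt.q, Lt.yi, Lt.q, Lt.z, Lt.yi, Lt.q, Lt.z, Lt.yi, Lt.yi, Lt.yi, Lt.z, Lt.y, Lt.y, Lt.y, Lt.z, Lt.q, Lt.y, Lt.z, Lt.q, Lt.y, Lt.z, Lt.q, Lt.yi, Lt.q, Lt.z, Lt.yi, Lt.q, Lt.z, Lt.yi, Lt.yi, Lt.yi, Lt.z, Lt.y, Lt.y, Lt.y, Lt.z, Lt.q, Lt.y, Lt.z, Lt.q, Lt.y, Lt.z, Lt.q, Lt.z, Lt.yi, Lt.q, Lt.z, Lt.yi, Lt.q, Lt.z, Lt.yi, Lt.yi, Lt.yi, Lt.z, Lt.y, Lt.y, Lt.y, Lt.z, Lt.q, Lt.y] 49 17 false (by decide +kernel) h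
    · rcases brec_true h with h | h
      · exact H9.TCY.mRelD_at (T := T) (by decide) hinv hr [Lt.yi, Lt.yi, Lt.yi, Lt.z, Lt.y, Lt.y, Lt.y, Lt.z, Lt.q, Lt.y, Lt.z, Lt.q, Lt.y, Lt.z, Lt.q, Lt.z, Lt.yi, Lt.q, Lt.z, Lt.yi, Lt.q, Lt.z, Lt.yi, Lt.yi, Lt.yi, Lt.z, Lt.y, Lt.y, Lt.y, Lt.z, Lt.q, Lt.y, Lt.z, Lt.q, Lt.y, Lt.z, Lt.q, Lt.yi, Lt.q, Lt.z, Lt.yi, Lt.q, Lt.z, Lt.yi, Lt.yi, Lt.yi, Lt.z, Lt.y, Lt.y, Lt.y, Lt.z, Lt.q, Lt.y, Lt.z, Lt.q, Lt.y, Lt.z, Lt.q, Lt.yi, Lt.q, Lt.z, Lt.yi, Lt.q, Lt.z] 49 49 false (by decide +kernel) h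
      · rcases brec_true h with h | h
        · exact H9.TCY.mRelD_at (T := T) (by decide) hinv hr [Lt.yi, Lt.yi, Lt.q, Lt.y, Lt.y, Lt.y, Lt.q, Lt.y, Lt.y, Lt.y, Lt.q, Lt.y, Lt.y, Lt.y, Lt.q, Lt.yi] 30 2 true (by decide +kernel) h
        · exact H9.TCY.mRelD_at (T := T) (by decide) hinv hr [Lt.z, Lt.v, Lt.q, Lt.z, Lt.q, Lt.z, Lt.q, Lt.z, Lt.v, Lt.q, Lt.z, Lt.v, Lt.q, Lt.z, Lt.q] 22 4 true (by decide +kernel) h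
  · rcases brec_true h with h | h
    · rcases brec_true h with h | h
      · exact H9.TCY.mRelD_at (T := T) (by decide) hinv hr [Lt.z, Lt.q, Lt.y, Lt.z, Lt.q, Lt.y, Lt.z, Lt.q, Lt.yi, Lt.q, Lt.z, Lt.yi, Lt.q, Lt.z, Lt.yi, Lt.yi, Lt.yi, Lt.z, Lt.y, Lt.y, Lt.y, Lt.z, Lt.q, Lt.y, Lt.z, Lt.q, Lt.y, Lt.z, Lt.q, Lt.yi, Lt.q, Lt.z, Lt.yi, Lt.q, Lt.z, Lt.yi, Lt.yi, Lt.yi, Lt.z, Lt.y, Lt.y, Lt.y, Lt.z, Lt.q, Lt.y, Lt.z, Lt.q, Lt.y, Lt.z, Lt.q, Lt.z, Lt.yi, Lt.q, Lt.z, Lt.yi, Lt.q, Lt.z, Lt.yi, Lt.yi, Lt.yi, Lt.z, Lt.y, Lt.y, Lt.y] 49 14 false (by decide +kernel) h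
      · rcases brec_true h with h | h
        · exact H9.TCY.mRelD_at (T := T) (by decide) hinv hr [Lt.z, Lt.yi, Lt.q, Lt.z, Lt.yi, Lt.yi, Lt.yi, Lt.z, Lt.y, Lt.y, Lt.y, Lt.z, Lt.q, Lt.y, Lt.z, Lt.q, Lt.y, Lt.z, Lt.q, Lt.z, Lt.yi, Lt.q, Lt.z, Lt.yi, Lt.q, Lt.z, Lt.yi, Lt.yi, Lt.yi, Lt.z, Lt.y, Lt.y, Lt.y, Lt.z, Lt.q, Lt.y, Lt.z, Lt.q, Lt.y, Lt.z, Lt.q, Lt.yi, Lt.q, Lt.z, Lt.yi, Lt.q, Lt.z, Lt.yi, Lt.yi, Lt.yi, Lt.z, Lt.y, Lt.y, Lt.y, Lt.z, Lt.q, Lt.y, Lt.z, Lt.q, Lt.y, Lt.z, Lt.q, Lt.yi, Lt.q] 49 45 false (by decide +kernel) h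
        · exact H9.TCY.mRelD_at (T := T) (by decide) hinv hr [Lt.z, Lt.q, Lt.z, Lt.q, Lt.v, Lt.z, Lt.q, Lt.v, Lt.z, Lt.q, Lt.z, Lt.q, Lt.z, Lt.q, Lt.v] 22 10 false (by decide +kernel) h
    · rcases brec_true h with h | h
      · exact H9.TCY.mRelD_at (T := T) (by decide) hinv hr [Lt.z, Lt.yi, Lt.yi, Lt.yi, Lt.z, Lt.y, Lt.y, Lt.y, Lt.z, Lt.q, Lt.y, Lt.z, Lt.q, Lt.y, Lt.z, Lt.q, Lt.z, Lt.yi, Lt.q, Lt.z, Lt.yi, Lt.q, Lt.z, Lt.yi, Lt.yi, Lt.yi, Lt.z, Lt.y, Lt.y, Lt.y, Lt.z, Lt.q, Lt.y, Lt.z, Lt.q, Lt.y, Lt.z, Lt.q, Lt.yi, Lt.q, Lt.z, Lt.yi, Lt.q, Lt.z, Lt.yi, Lt.yi, Lt.yi, Lt.z, Lt.y, Lt.y, Lt.y, Lt.z, Lt.q, Lt.y, Lt.z, Lt.q, Lt.y, Lt.z, Lt.q, Lt.yi, Lt.q, Lt.z, Lt.yi, Lt.q] 49 48 false (by decide +kernel) h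
      · rcases brec_true h with h | h
        · exact H9.TCY.mRelD_at (T := T) (by decide) hinv hr [Lt.z, Lt.q, Lt.z, Lt.v, Lt.q, Lt.z, Lt.v, Lt.q, Lt.z, Lt.q, Lt.z, Lt.v, Lt.q, Lt.z, Lt.q] 22 9 true (by decide +kernel) h
        · exact H9.TCY.mRelD_at (T := T) (by decide) hinv hr [Lt.z, Lt.q, Lt.y, Lt.q, Lt.z, Lt.yi, Lt.q, Lt.z, Lt.yi, Lt.q, Lt.z, Lt.yi, Lt.yi, Lt.yi, Lt.z, Lt.y, Lt.y, Lt.y, Lt.z, Lt.q, Lt.y, Lt.z, Lt.q, Lt.y, Lt.q, Lt.z, Lt.yi, Lt.q, Lt.z, Lt.yi, Lt.q, Lt.z, Lt.yi, Lt.yi, Lt.yi, Lt.z, Lt.y, Lt.y, Lt.y, Lt.z, Lt.q, Lt.y, Lt.z, Lt.q, Lt.y, Lt.z, Lt.q, Lt.z, Lt.yi, Lt.q, Lt.z, Lt.yi, Lt.q, Lt.z, Lt.yi, Lt.yi, Lt.yi, Lt.z, Lt.y, Lt.y, Lt.y, Lt.z, Lt.q, Lt.y] 49 18 true (by decide +kernel) h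
theorem dM_148_s (hinv : ∀ x, g (inv x) = (g x)⁻¹) (hr : ∀ r ∈ rels, (r.map g).prod = 1) (j z1 z2 u : ℕ) (h : dM_148 j z1 z2 u = true) : GoodM (fa g) T MG M (cP g H) u := by
  unfold dM_148 at h
  rcases brec_true h with h | h
  · exact dM_146_s hinv hr j z1 z2 u h
  · exact dM_147_s hinv hr j z1 z2 u h
theorem dM_149_s (hinv : ∀ x, g (inv x) = (g x)⁻¹) (hr : ∀ r ∈ rels, (r.map g).prod = 1) (j z1 z2 u : ℕ) (h : dM_149 j z1 z2 u = true) : GoodM (fa g) T MG M (cP g H) u := by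
  unfold dM_149 at h
  rcases brec_true h with h | h
  · exact dM_145_s hinv hr j z1 z2 u h
  · exact dM_148_s hinv hr j z1 z2 u h
theorem dM_150_s (hinv : ∀ x, g (inv x) = (g x)⁻¹) (hr : ∀ r ∈ rels, (r.map g).prod = 1) (j z1 z2 u : ℕ) (h : dM_150 j z1 z2 u = true) : GoodM (fa g) T MG M (cP g H) u := by
  unfold dM_150 at h
  rcases brec_true h with h | h
  · exact dM_142_s hinv hr j z1 z2 u h
  · exact dM_149_s hinv hr j z1 z2 u h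
theorem dM_151_s (hinv : ∀ x, g (inv x) = (g x)⁻¹) (hr : ∀ r ∈ rels, (r.map g).prod = 1) (j z1 z2 u : ℕ) (h : dM_151 j z1 z2 u = true) : GoodM (fa g) T MG M (cP g H) u := by
  unfold dM_151 at h
  rcases brec_true h with h | h
  · exact dM_139_s hinv hr j z1 z2 u h
  · exact dM_150_s hinv hr j z1 z2 u h
theorem dM_152_s (hinv : ∀ x, g (inv x) = (g x)⁻¹) (hr : ∀ r ∈ rels, (r.map g).prod = 1) (j z1 z2 u : ℕ) (h : dM_152 j z1 z2 u = true) : GoodM (fa g) T MG M (cP g H) u := by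
  unfold dM_152 at h
  rcases brec_true h with h | h
  · exact dM_136_s hinv hr j z1 z2 u h
  · exact dM_151_s hinv hr j z1 z2 u h
theorem dM_153_s (hinv : ∀ x, g (inv x) = (g x)⁻¹) (hr : ∀ r ∈ rels, (r.map g).prod = 1) (j z1 z2 u : ℕ) (h : dM_153 j z1 z2 u = true) : GoodM (fa g) T MG M (cP g H) u := by
  unfold dM_153 at h
  rcases brec_true h with h | h
  · exact dM_131_s hinv hr j z1 z2 u h
  · exact dM_152_s hinv hr j z1 z2 u h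
theorem dM_154_s (hinv : ∀ x, g (inv x) = (g x)⁻¹) (hr : ∀ r ∈ rels, (r.map g).prod = 1) (j z1 z2 u : ℕ) (h : dM_154 j z1 z2 u = true) : GoodM (fa g) T MG M (cP g H) u := by
  unfold dM_154 at h
  rcases brec_true h with h | h
  · exact dM_124_s hinv hr j z1 z2 u h
  · exact dM_153_s hinv hr j z1 z2 u h
theorem dM_155_s (hinv : ∀ x, g (inv x) = (g x)⁻¹) (hr : ∀ r ∈ rels, (r.map g).prod = 1) (j z1 z2 u : ℕ) (h : dM_155 j z1 z2 u = true) : GoodM (fa g) T MG M (cP g H) u := by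
  unfold dM_155 at h
  rcases brec_true h with h | h
  · exact dM_109_s hinv hr j z1 z2 u h
  · exact dM_154_s hinv hr j z1 z2 u h
theorem dM_156_s (hinv : ∀ x, g (inv x) = (g x)⁻¹) (hr : ∀ r ∈ rels, (r.map g).prod = 1) (j z1 z2 u : ℕ) (h : dM_156 j z1 z2 u = true) : GoodM (fa g) T MG M (cP g H) u := by
  unfold dM_156 at h
  rcases brec_true h with h | h
  · exact dM_94_s hinv hr j z1 z2 u h
  · exact dM_155_s hinv hr j z1 z2 u h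
theorem dM_157_s (hinv : ∀ x, g (inv x) = (g x)⁻¹) (hr : ∀ r ∈ rels, (r.map g).prod = 1) (j z1 z2 u : ℕ) (h : dM_157 j z1 z2 u = true) : GoodM (fa g) T MG M (cP g H) u := by
  unfold dM_157 at h
  rcases brec_true h with h | h
  · exact dM_63_s hinv hr j z1 z2 u h
  · exact dM_156_s hinv hr j z1 z2 u h
theorem dM_158_s (hinv : ∀ x, g (inv x) = (g x)⁻¹) (hr : ∀ r ∈ rels, (r.map g).prod = 1) (j z1 z2 u : ℕ) (h : dM_158 j z1 z2 u = true) : GoodM (fa g) T MG M (cP g H) u := by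
  unfold dM_158 at h
  rcases brec_true h with h | h
  · exact dM_32_s hinv hr j z1 z2 u h
  · exact dM_157_s hinv hr j z1 z2 u h
theorem dM_159_s (hinv : ∀ x, g (inv x) = (g x)⁻¹) (hr : ∀ r ∈ rels, (r.map g).prod = 1) (j z1 z2 u : ℕ) (h : dM_159 j z1 z2 u = true) : GoodM (fa g) T MG M (cP g H) u := by
  unfold dM_159 at h
  rcases brec_true h with h | h
  · exact dM_11_s hinv hr j z1 z2 u h
  · exact dM_158_s hinv hr j z1 z2 u h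
theorem dM_160_s (hinv : ∀ x, g (inv x) = (g x)⁻¹) (hr : ∀ r ∈ rels, (r.map g).prod = 1) (j z1 z2 u : ℕ) (h : dM_160 j z1 z2 u = true) : GoodM (fa g) T MG M (cP g H) u := by
  unfold dM_160 at h
  rcases brec_true h with h | h
  · exact dM_0_s hinv hr j z1 z2 u h
  · exact dM_159_s hinv hr j z1 z2 u h
theorem sndM (hinv : ∀ x, g (inv x) = (g x)⁻¹) (hr : ∀ r ∈ rels, (r.map g).prod = 1) (u : ℕ) (h : chkM u = true) :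
    MG u < A → MG u % M < u ∧ GoodM (fa g) T MG M (cP g H) u := by
  intro hA
  unfold chkM at h
  cases hb : Nat.ble A (MG u) with
  | true => exact absurd (le_of_ble hb) (by omega)
  | false =>
    rw [hb] at h
    obtain ⟨h1, h2⟩ := band_eq_true.1 h
    exact ⟨le_of_ble h1, dM_160_s hinv hr _ _ _ _ h2⟩
end
end H9.HN.TCHN
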