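import Cfsg.Agent.Lib.H9.HN.TCHN.Snd0
import Cfsg.Agent.Lib.H9.HN.TCY
set_option autoImplicit false
set_option maxRecDepth 100000
set_option linter.all false
namespace H9.HN.TCHN
open H35.TC
section
variable {G : Type} [Group G] {g : Lt → G} {H : Subgroup G}
theorem dp_q_0_s (hinv : ∀ x, g (inv x) = (g x)⁻¹) (hr : ∀ r ∈ rels, (r.map g).prod = 1) (hH : ∀ r ∈ subs, (r.map g).prod ∈ H)
    (j u : ℕ) (hu : u < M) (h : dp_q_0 j u = true) : Good (fa g) T MG M (cP g H) Lt.q u := by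
  unfold dp_q_0 at h
  rcases brec_true h with h | h
  · exact lF_good (T := T) (x := Lt.q) (by decide) [Lt.y, Lt.q, Lt.yi, Lt.q, Lt.y, Lt.q, Lt.yi] (H9.TCY.hole_at hinv hr 8 2 false (by decide +kernel)) h
  · exact lF_good (T := T) (x := Lt.q) (by decide) [Lt.yi, Lt.q, Lt.y, Lt.q, Lt.yi, Lt.q, Lt.y] (H9.TCY.hole_at hinv hr 8 0 false (by decide +kernel)) h
theorem dp_q_1_s (hinv : ∀ x, g (inv x) = (g x)⁻¹) (hr : ∀ r ∈ rels, (r.map g).prod = 1) (hH : ∀ r ∈ subs, (r.map g).prod ∈ H)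
    (j u : ℕ) (hu : u < M) (h : dp_q_1 j u = true) : Good (fa g) T MG M (cP g H) Lt.q u := by
  unfold dp_q_1 at h
  rcases brec_true h with h | h
  · exact lF_good (T := T) (x := Lt.q) (by decide) [Lt.z, Lt.q, Lt.z, Lt.q, Lt.z, Lt.q, Lt.z] (H9.TCY.hole_at hinv hr 0 1 false (by decide +kernel)) h
  · exact lS_good (T := T) (x := Lt.q) (by decide) hu [Lt.q] (H9.TCY.hole_at hinv hr 4 0 false (by decide +kernel)) h
theorem dp_q_2_s (hinv : ∀ x, g (inv x) = (g x)⁻¹) (hr : ∀ r ∈ rels, (r.map g).prod = 1) (hH : ∀ r ∈ subs, (r.map g).prod ∈ H)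
    (j u : ℕ) (hu : u < M) (h : dp_q_2 j u = true) : Good (fa g) T MG M (cP g H) Lt.q u := by
  unfold dp_q_2 at h
  rcases brec_true h with h | h
  · exact lF_good (T := T) (x := Lt.q) (by decide) [Lt.z, Lt.q, Lt.yi, Lt.z, Lt.q, Lt.z, Lt.q, Lt.y, Lt.z] (H9.TCY.hole_at hinv hr 10 2 true (by decide +kernel)) h
  · exact lF_good (T := T) (x := Lt.q) (by decide) [Lt.z, Lt.y, Lt.q, Lt.z, Lt.q, Lt.z, Lt.yi, Lt.q, Lt.z] (H9.TCY.hole_at hinv hr 10 4 false (by decide +kernel)) h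
theorem dp_q_3_s (hinv : ∀ x, g (inv x) = (g x)⁻¹) (hr : ∀ r ∈ rels, (r.map g).prod = 1) (hH : ∀ r ∈ subs, (r.map g).prod ∈ H)
    (j u : ℕ) (hu : u < M) (h : dp_q_3 j u = true) : Good (fa g) T MG M (cP g H) Lt.q u := by
  unfold dp_q_3 at h
  rcases brec_true h with h | h
  · exact lF_good (T := T) (x := Lt.q) (by decide) [Lt.z, Lt.v, Lt.q, Lt.z, Lt.q, Lt.z, Lt.v, Lt.z, Lt.q, Lt.v] (H9.TCY.hole_at hinv hr 11 3 false (by decide +kernel)) h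
  · exact lF_good (T := T) (x := Lt.q) (by decide) [Lt.z, Lt.q, Lt.z, Lt.y, Lt.q, Lt.z, Lt.q, Lt.z, Lt.yi] (H9.TCY.hole_at hinv hr 10 2 false (by decide +kernel)) h
theorem dp_q_4_s (hinv : ∀ x, g (inv x) = (g x)⁻¹) (hr : ∀ r ∈ rels, (r.map g).prod = 1) (hH : ∀ r ∈ subs, (r.map g).prod ∈ H)
    (j u : ℕ) (hu : u < M) (h : dp_q_4 j u = true) : Good (fa g) T MG M (cP g H) Lt.q u := by
  unfold dp_q_4 at h
  rcases brec_true h with h | h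
  · exact lF_good (T := T) (x := Lt.q) (by decide) [Lt.yi, Lt.z, Lt.q, Lt.z, Lt.q, Lt.y, Lt.z, Lt.q, Lt.z] (H9.TCY.hole_at hinv hr 10 4 true (by decide +kernel)) h
  · exact dp_q_3_s hinv hr hH j u hu h
theorem dp_q_5_s (hinv : ∀ x, g (inv x) = (g x)⁻¹) (hr : ∀ r ∈ rels, (r.map g).prod = 1) (hH : ∀ r ∈ subs, (r.map g).prod ∈ H)
    (j u : ℕ) (hu : u < M) (h : dp_q_5 j u = true) : Good (fa g) T MG M (cP g H) Lt.q u := by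
  unfold dp_q_5 at h
  rcases brec_true h with h | h
  · exact dp_q_2_s hinv hr hH j u hu h
  · exact dp_q_4_s hinv hr hH j u hu h
theorem dp_q_6_s (hinv : ∀ x, g (inv x) = (g x)⁻¹) (hr : ∀ r ∈ rels, (r.map g).prod = 1) (hH : ∀ r ∈ subs, (r.map g).prod ∈ H)
    (j u : ℕ) (hu : u < M) (h : dp_q_6 j u = true) : Good (fa g) T MG M (cP g H) Lt.q u := by
  unfold dp_q_6 at h
  rcases brec_true h with h | h
  · exact lS_good (T := T) (x := Lt.q) (by decide) hu [Lt.v, Lt.z, Lt.v, Lt.q, Lt.v, Lt.z, Lt.v] (H9.TCY.hole_at hinv hr 9 1 false (by decide +kernel)) h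
  · exact lF_good (T := T) (x := Lt.q) (by decide) [Lt.v, Lt.q, Lt.z, Lt.v, Lt.q, Lt.z, Lt.q, Lt.z, Lt.v, Lt.z] (H9.TCY.hole_at hinv hr 11 1 false (by decide +kernel)) h
theorem dp_q_7_s (hinv : ∀ x, g (inv x) = (g x)⁻¹) (hr : ∀ r ∈ rels, (r.map g).prod = 1) (hH : ∀ r ∈ subs, (r.map g).prod ∈ H)
    (j u : ℕ) (hu : u < M) (h : dp_q_7 j u = true) : Good (fa g) T MG M (cP g H) Lt.q u := by
  unfold dp_q_7 at h
  rcases brec_true h with h | h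
  · exact lF_good (T := T) (x := Lt.q) (by decide) [Lt.z, Lt.q, Lt.z, Lt.yi, Lt.q, Lt.z, Lt.q, Lt.z, Lt.y] (H9.TCY.hole_at hinv hr 10 7 false (by decide +kernel)) h
  · exact dp_q_6_s hinv hr hH j u hu h
theorem dp_q_8_s (hinv : ∀ x, g (inv x) = (g x)⁻¹) (hr : ∀ r ∈ rels, (r.map g).prod = 1) (hH : ∀ r ∈ subs, (r.map g).prod ∈ H)
    (j u : ℕ) (hu : u < M) (h : dp_q_8 j u = true) : Good (fa g) T MG M (cP g H) Lt.q u := by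
  unfold dp_q_8 at h
  rcases brec_true h with h | h
  · exact lF_good (T := T) (x := Lt.q) (by decide) [Lt.y, Lt.z, Lt.q, Lt.z, Lt.q, Lt.yi, Lt.z, Lt.q, Lt.z] (H9.TCY.hole_at hinv hr 10 9 true (by decide +kernel)) h
  · exact lS_good (T := T) (x := Lt.q) (by decide) hu [Lt.y, Lt.q, Lt.yi, Lt.q, Lt.y, Lt.q, Lt.yi] (H9.TCY.hole_at hinv hr 8 2 false (by decide +kernel)) h
theorem dp_q_9_s (hinv : ∀ x, g (inv x) = (g x)⁻¹) (hr : ∀ r ∈ rels, (r.map g).prod = 1) (hH : ∀ r ∈ subs, (r.map g).prod ∈ H)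
    (j u : ℕ) (hu : u < M) (h : dp_q_9 j u = true) : Good (fa g) T MG M (cP g H) Lt.q u := by
  unfold dp_q_9 at h
  rcases brec_true h with h | h
  · exact lS_good (T := T) (x := Lt.q) (by decide) hu [Lt.yi, Lt.q, Lt.y, Lt.q, Lt.yi, Lt.q, Lt.y] (H9.TCY.hole_at hinv hr 8 0 false (by decide +kernel)) h
  · exact lF_good (T := T) (x := Lt.q) (by decide) [Lt.z, Lt.q, Lt.y, Lt.z, Lt.q, Lt.z, Lt.q, Lt.yi, Lt.z] (H9.TCY.hole_at hinv hr 10 7 true (by decide +kernel)) h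
theorem dp_q_10_s (hinv : ∀ x, g (inv x) = (g x)⁻¹) (hr : ∀ r ∈ rels, (r.map g).prod = 1) (hH : ∀ r ∈ subs, (r.map g).prod ∈ H)
    (j u : ℕ) (hu : u < M) (h : dp_q_10 j u = true) : Good (fa g) T MG M (cP g H) Lt.q u := by
  unfold dp_q_10 at h
  rcases brec_true h with h | h
  · exact dp_q_8_s hinv hr hH j u hu h
  · exact dp_q_9_s hinv hr hH j u hu h
theorem dp_q_11_s (hinv : ∀ x, g (inv x) = (g x)⁻¹) (hr : ∀ r ∈ rels, (r.map g).prod = 1) (hH : ∀ r ∈ subs, (r.map g).prod ∈ H)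
    (j u : ℕ) (hu : u < M) (h : dp_q_11 j u = true) : Good (fa g) T MG M (cP g H) Lt.q u := by
  unfold dp_q_11 at h
  rcases brec_true h with h | h
  · exact dp_q_7_s hinv hr hH j u hu h
  · exact dp_q_10_s hinv hr hH j u hu h
theorem dp_q_12_s (hinv : ∀ x, g (inv x) = (g x)⁻¹) (hr : ∀ r ∈ rels, (r.map g).prod = 1) (hH : ∀ r ∈ subs, (r.map g).prod ∈ H)
    (j u : ℕ) (hu : u < M) (h : dp_q_12 j u = true) : Good (fa g) T MG M (cP g H) Lt.q u := by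
  unfold dp_q_12 at h
  rcases brec_true h with h | h
  · exact dp_q_5_s hinv hr hH j u hu h
  · exact dp_q_11_s hinv hr hH j u hu h
theorem dp_q_13_s (hinv : ∀ x, g (inv x) = (g x)⁻¹) (hr : ∀ r ∈ rels, (r.map g).prod = 1) (hH : ∀ r ∈ subs, (r.map g).prod ∈ H)
    (j u : ℕ) (hu : u < M) (h : dp_q_13 j u = true) : Good (fa g) T MG M (cP g H) Lt.q u := by
  unfold dp_q_13 at h
  rcases brec_true h with h | h
  · exact lF_good (T := T) (x := Lt.q) (by decide) [Lt.z, Lt.yi, Lt.q, Lt.z, Lt.q, Lt.z, Lt.y, Lt.q, Lt.z] (H9.TCY.hole_at hinv hr 10 9 false (by decide +kernel)) h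
  · exact lS_good (T := T) (x := Lt.q) (by decide) hu [Lt.z, Lt.q, Lt.z, Lt.q, Lt.z, Lt.q, Lt.z] (H9.TCY.hole_at hinv hr 0 1 false (by decide +kernel)) h
theorem dp_q_14_s (hinv : ∀ x, g (inv x) = (g x)⁻¹) (hr : ∀ r ∈ rels, (r.map g).prod = 1) (hH : ∀ r ∈ subs, (r.map g).prod ∈ H)
    (j u : ℕ) (hu : u < M) (h : dp_q_14 j u = true) : Good (fa g) T MG M (cP g H) Lt.q u := by
  unfold dp_q_14 at h
  rcases brec_true h with h | h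
  · exact lF_good (T := T) (x := Lt.q) (by decide) [Lt.y, Lt.q, Lt.y, Lt.q, Lt.y, Lt.q, Lt.y, Lt.q, Lt.y, Lt.q, Lt.y] (H9.TCY.hole_at hinv hr 18 1 true (by decide +kernel)) h
  · exact lF_good (T := T) (x := Lt.q) (by decide) [Lt.yi, Lt.q, Lt.yi, Lt.q, Lt.yi, Lt.q, Lt.yi, Lt.q, Lt.yi, Lt.q, Lt.yi] (H9.TCY.hole_at hinv hr 18 0 false (by decide +kernel)) h
theorem dp_q_15_s (hinv : ∀ x, g (inv x) = (g x)⁻¹) (hr : ∀ r ∈ rels, (r.map g).prod = 1) (hH : ∀ r ∈ subs, (r.map g).prod ∈ H)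
    (j u : ℕ) (hu : u < M) (h : dp_q_15 j u = true) : Good (fa g) T MG M (cP g H) Lt.q u := by
  unfold dp_q_15 at h
  rcases brec_true h with h | h
  · exact lF_good (T := T) (x := Lt.q) (by decide) [Lt.y, Lt.y, Lt.q, Lt.yi, Lt.yi, Lt.q, Lt.y, Lt.y, Lt.q, Lt.yi, Lt.yi] (H9.TCY.hole_at hinv hr 19 3 false (by decide +kernel)) h
  · exact lF_good (T := T) (x := Lt.q) (by decide) [Lt.yi, Lt.yi, Lt.q, Lt.y, Lt.y, Lt.q, Lt.yi, Lt.yi, Lt.q, Lt.y, Lt.y] (H9.TCY.hole_at hinv hr 19 0 false (by decide +kernel)) h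
theorem dp_q_16_s (hinv : ∀ x, g (inv x) = (g x)⁻¹) (hr : ∀ r ∈ rels, (r.map g).prod = 1) (hH : ∀ r ∈ subs, (r.map g).prod ∈ H)
    (j u : ℕ) (hu : u < M) (h : dp_q_16 j u = true) : Good (fa g) T MG M (cP g H) Lt.q u := by
  unfold dp_q_16 at h
  rcases brec_true h with h | h
  · exact dp_q_14_s hinv hr hH j u hu h
  · exact dp_q_15_s hinv hr hH j u hu h
theorem dp_q_17_s (hinv : ∀ x, g (inv x) = (g x)⁻¹) (hr : ∀ r ∈ rels, (r.map g).prod = 1) (hH : ∀ r ∈ subs, (r.map g).prod ∈ H)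
    (j u : ℕ) (hu : u < M) (h : dp_q_17 j u = true) : Good (fa g) T MG M (cP g H) Lt.q u := by
  unfold dp_q_17 at h
  rcases brec_true h with h | h
  · exact dp_q_13_s hinv hr hH j u hu h
  · exact dp_q_16_s hinv hr hH j u hu h
theorem dp_q_18_s (hinv : ∀ x, g (inv x) = (g x)⁻¹) (hr : ∀ r ∈ rels, (r.map g).prod = 1) (hH : ∀ r ∈ subs, (r.map g).prod ∈ H)
    (j u : ℕ) (hu : u < M) (h : dp_q_18 j u = true) : Good (fa g) T MG M (cP g H) Lt.q u := by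
  unfold dp_q_18 at h
  rcases brec_true h with h | h
  · exact lF_good (T := T) (x := Lt.q) (by decide) [Lt.y, Lt.z, Lt.yi, Lt.z, Lt.y, Lt.q, Lt.yi, Lt.z, Lt.y, Lt.z, Lt.yi] (H9.TCY.hole_at hinv hr 17 2 false (by decide +kernel)) h
  · exact lF_good (T := T) (x := Lt.q) (by decide) [Lt.yi, Lt.z, Lt.q, Lt.z, Lt.y, Lt.q, Lt.yi, Lt.z, Lt.q, Lt.z, Lt.y] (H9.TCY.hole_at hinv hr 15 0 false (by decide +kernel)) h
theorem dp_q_19_s (hinv : ∀ x, g (inv x) = (g x)⁻¹) (hr : ∀ r ∈ rels, (r.map g).prod = 1) (hH : ∀ r ∈ subs, (r.map g).prod ∈ H)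
    (j u : ℕ) (hu : u < M) (h : dp_q_19 j u = true) : Good (fa g) T MG M (cP g H) Lt.q u := by
  unfold dp_q_19 at h
  rcases brec_true h with h | h
  · exact lF_good (T := T) (x := Lt.q) (by decide) [Lt.yi, Lt.z, Lt.y, Lt.z, Lt.yi, Lt.q, Lt.y, Lt.z, Lt.yi, Lt.z, Lt.y] (H9.TCY.hole_at hinv hr 17 8 false (by decide +kernel)) h
  · exact dp_q_18_s hinv hr hH j u hu h
theorem dp_q_20_s (hinv : ∀ x, g (inv x) = (g x)⁻¹) (hr : ∀ r ∈ rels, (r.map g).prod = 1) (hH : ∀ r ∈ subs, (r.map g).prod ∈ H)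
    (j u : ℕ) (hu : u < M) (h : dp_q_20 j u = true) : Good (fa g) T MG M (cP g H) Lt.q u := by
  unfold dp_q_20 at h
  rcases brec_true h with h | h
  · exact lS_good (T := T) (x := Lt.q) (by decide) hu [Lt.z, Lt.v, Lt.q, Lt.z, Lt.q, Lt.z, Lt.v, Lt.z, Lt.q, Lt.v] (H9.TCY.hole_at hinv hr 11 3 false (by decide +kernel)) h
  · exact lS_good (T := T) (x := Lt.q) (by decide) hu [Lt.z, Lt.q, Lt.yi, Lt.z, Lt.q, Lt.z, Lt.q, Lt.y, Lt.z] (H9.TCY.hole_at hinv hr 10 2 true (by decide +kernel)) h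
theorem dp_q_21_s (hinv : ∀ x, g (inv x) = (g x)⁻¹) (hr : ∀ r ∈ rels, (r.map g).prod = 1) (hH : ∀ r ∈ subs, (r.map g).prod ∈ H)
    (j u : ℕ) (hu : u < M) (h : dp_q_21 j u = true) : Good (fa g) T MG M (cP g H) Lt.q u := by
  unfold dp_q_21 at h
  rcases brec_true h with h | h
  · exact lF_good (T := T) (x := Lt.q) (by decide) [Lt.y, Lt.z, Lt.q, Lt.z, Lt.yi, Lt.q, Lt.y, Lt.z, Lt.q, Lt.z, Lt.yi] (H9.TCY.hole_at hinv hr 16 2 false (by decide +kernel)) h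
  · exact dp_q_20_s hinv hr hH j u hu h
theorem dp_q_22_s (hinv : ∀ x, g (inv x) = (g x)⁻¹) (hr : ∀ r ∈ rels, (r.map g).prod = 1) (hH : ∀ r ∈ subs, (r.map g).prod ∈ H)
    (j u : ℕ) (hu : u < M) (h : dp_q_22 j u = true) : Good (fa g) T MG M (cP g H) Lt.q u := by
  unfold dp_q_22 at h
  rcases brec_true h with h | h
  · exact dp_q_19_s hinv hr hH j u hu h
  · exact dp_q_21_s hinv hr hH j u hu h
theorem dp_q_23_s (hinv : ∀ x, g (inv x) = (g x)⁻¹) (hr : ∀ r ∈ rels, (r.map g).prod = 1) (hH : ∀ r ∈ subs, (r.map g).prod ∈ H)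
    (j u : ℕ) (hu : u < M) (h : dp_q_23 j u = true) : Good (fa g) T MG M (cP g H) Lt.q u := by
  unfold dp_q_23 at h
  rcases brec_true h with h | h
  · exact lS_good (T := T) (x := Lt.q) (by decide) hu [Lt.v, Lt.q, Lt.z, Lt.v, Lt.q, Lt.z, Lt.q, Lt.z, Lt.v, Lt.z] (H9.TCY.hole_at hinv hr 11 1 false (by decide +kernel)) h
  · exact lS_good (T := T) (x := Lt.q) (by decide) hu [Lt.yi, Lt.z, Lt.q, Lt.z, Lt.q, Lt.y, Lt.z, Lt.q, Lt.z] (H9.TCY.hole_at hinv hr 10 4 true (by decide +kernel)) h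
theorem dp_q_24_s (hinv : ∀ x, g (inv x) = (g x)⁻¹) (hr : ∀ r ∈ rels, (r.map g).prod = 1) (hH : ∀ r ∈ subs, (r.map g).prod ∈ H)
    (j u : ℕ) (hu : u < M) (h : dp_q_24 j u = true) : Good (fa g) T MG M (cP g H) Lt.q u := by
  unfold dp_q_24 at h
  rcases brec_true h with h | h
  · exact lF_good (T := T) (x := Lt.q) (by decide) [Lt.z, Lt.q, Lt.v, Lt.q, Lt.z, Lt.q, Lt.v, Lt.q, Lt.z, Lt.q, Lt.v] (H9.TCY.hole_at hinv hr 14 3 false (by decide +kernel)) h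
  · exact lS_good (T := T) (x := Lt.q) (by decide) hu [Lt.z, Lt.y, Lt.q, Lt.z, Lt.q, Lt.z, Lt.yi, Lt.q, Lt.z] (H9.TCY.hole_at hinv hr 10 4 false (by decide +kernel)) h
theorem dp_q_25_s (hinv : ∀ x, g (inv x) = (g x)⁻¹) (hr : ∀ r ∈ rels, (r.map g).prod = 1) (hH : ∀ r ∈ subs, (r.map g).prod ∈ H)
    (j u : ℕ) (hu : u < M) (h : dp_q_25 j u = true) : Good (fa g) T MG M (cP g H) Lt.q u := by
  unfold dp_q_25 at h
  rcases brec_true h with h | h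
  · exact dp_q_23_s hinv hr hH j u hu h
  · exact dp_q_24_s hinv hr hH j u hu h
theorem dp_q_26_s (hinv : ∀ x, g (inv x) = (g x)⁻¹) (hr : ∀ r ∈ rels, (r.map g).prod = 1) (hH : ∀ r ∈ subs, (r.map g).prod ∈ H)
    (j u : ℕ) (hu : u < M) (h : dp_q_26 j u = true) : Good (fa g) T MG M (cP g H) Lt.q u := by
  unfold dp_q_26 at h
  rcases brec_true h with h | h
  · exact lS_good (T := T) (x := Lt.q) (by decide) hu [Lt.z, Lt.q, Lt.z, Lt.y, Lt.q, Lt.z, Lt.q, Lt.z, Lt.yi] (H9.TCY.hole_at hinv hr 10 2 false (by decide +kernel)) h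
  · exact lS_good (T := T) (x := Lt.q) (by decide) hu [Lt.y, Lt.q, Lt.y, Lt.q, Lt.y, Lt.q, Lt.y, Lt.q, Lt.y, Lt.q, Lt.y] (H9.TCY.hole_at hinv hr 18 1 true (by decide +kernel)) h
theorem dp_q_27_s (hinv : ∀ x, g (inv x) = (g x)⁻¹) (hr : ∀ r ∈ rels, (r.map g).prod = 1) (hH : ∀ r ∈ subs, (r.map g).prod ∈ H)
    (j u : ℕ) (hu : u < M) (h : dp_q_27 j u = true) : Good (fa g) T MG M (cP g H) Lt.q u := by
  unfold dp_q_27 at h
  rcases brec_true h with h | h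
  · exact lF_good (T := T) (x := Lt.q) (by decide) [Lt.v, Lt.q, Lt.z, Lt.q, Lt.v, Lt.q, Lt.z, Lt.q, Lt.v, Lt.q, Lt.z] (H9.TCY.hole_at hinv hr 14 1 false (by decide +kernel)) h
  · exact lS_good (T := T) (x := Lt.q) (by decide) hu [Lt.z, Lt.q, Lt.z, Lt.yi, Lt.q, Lt.z, Lt.q, Lt.z, Lt.y] (H9.TCY.hole_at hinv hr 10 7 false (by decide +kernel)) h
theorem dp_q_28_s (hinv : ∀ x, g (inv x) = (g x)⁻¹) (hr : ∀ r ∈ rels, (r.map g).prod = 1) (hH : ∀ r ∈ subs, (r.map g).prod ∈ H)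
    (j u : ℕ) (hu : u < M) (h : dp_q_28 j u = true) : Good (fa g) T MG M (cP g H) Lt.q u := by
  unfold dp_q_28 at h
  rcases brec_true h with h | h
  · exact dp_q_26_s hinv hr hH j u hu h
  · exact dp_q_27_s hinv hr hH j u hu h
theorem dp_q_29_s (hinv : ∀ x, g (inv x) = (g x)⁻¹) (hr : ∀ r ∈ rels, (r.map g).prod = 1) (hH : ∀ r ∈ subs, (r.map g).prod ∈ H)
    (j u : ℕ) (hu : u < M) (h : dp_q_29 j u = true) : Good (fa g) T MG M (cP g H) Lt.q u := by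
  unfold dp_q_29 at h
  rcases brec_true h with h | h
  · exact dp_q_25_s hinv hr hH j u hu h
  · exact dp_q_28_s hinv hr hH j u hu h
theorem dp_q_30_s (hinv : ∀ x, g (inv x) = (g x)⁻¹) (hr : ∀ r ∈ rels, (r.map g).prod = 1) (hH : ∀ r ∈ subs, (r.map g).prod ∈ H)
    (j u : ℕ) (hu : u < M) (h : dp_q_30 j u = true) : Good (fa g) T MG M (cP g H) Lt.q u := by
  unfold dp_q_30 at h
  rcases brec_true h with h | h
  · exact dp_q_22_s hinv hr hH j u hu h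
  · exact dp_q_29_s hinv hr hH j u hu h
theorem dp_q_31_s (hinv : ∀ x, g (inv x) = (g x)⁻¹) (hr : ∀ r ∈ rels, (r.map g).prod = 1) (hH : ∀ r ∈ subs, (r.map g).prod ∈ H)
    (j u : ℕ) (hu : u < M) (h : dp_q_31 j u = true) : Good (fa g) T MG M (cP g H) Lt.q u := by
  unfold dp_q_31 at h
  rcases brec_true h with h | h
  · exact dp_q_17_s hinv hr hH j u hu h
  · exact dp_q_30_s hinv hr hH j u hu h
theorem dp_q_32_s (hinv : ∀ x, g (inv x) = (g x)⁻¹) (hr : ∀ r ∈ rels, (r.map g).prod = 1) (hH : ∀ r ∈ subs, (r.map g).prod ∈ H)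
    (j u : ℕ) (hu : u < M) (h : dp_q_32 j u = true) : Good (fa g) T MG M (cP g H) Lt.q u := by
  unfold dp_q_32 at h
  rcases brec_true h with h | h
  · exact lF_good (T := T) (x := Lt.q) (by decide) [Lt.z, Lt.v, Lt.z, Lt.q, Lt.z, Lt.q, Lt.v, Lt.z, Lt.q, Lt.v] (H9.TCY.hole_at hinv hr 11 0 true (by decide +kernel)) h
  · exact lS_good (T := T) (x := Lt.q) (by decide) hu [Lt.yi, Lt.q, Lt.yi, Lt.q, Lt.yi, Lt.q, Lt.yi, Lt.q, Lt.yi, Lt.q, Lt.yi] (H9.TCY.hole_at hinv hr 18 0 false (by decide +kernel)) h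
theorem dp_q_33_s (hinv : ∀ x, g (inv x) = (g x)⁻¹) (hr : ∀ r ∈ rels, (r.map g).prod = 1) (hH : ∀ r ∈ subs, (r.map g).prod ∈ H)
    (j u : ℕ) (hu : u < M) (h : dp_q_33 j u = true) : Good (fa g) T MG M (cP g H) Lt.q u := by
  unfold dp_q_33 at h
  rcases brec_true h with h | h
  · exact lF_good (T := T) (x := Lt.q) (by decide) [Lt.z, Lt.q, Lt.z, Lt.v, Lt.z, Lt.q, Lt.v, Lt.q, Lt.z, Lt.v] (H9.TCY.hole_at hinv hr 11 6 false (by decide +kernel)) h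
  · exact lF_good (T := T) (x := Lt.q) (by decide) [Lt.v, Lt.z, Lt.q, Lt.v, Lt.q, Lt.z, Lt.v, Lt.z, Lt.q, Lt.z] (H9.TCY.hole_at hinv hr 11 6 true (by decide +kernel)) h
theorem dp_q_34_s (hinv : ∀ x, g (inv x) = (g x)⁻¹) (hr : ∀ r ∈ rels, (r.map g).prod = 1) (hH : ∀ r ∈ subs, (r.map g).prod ∈ H)
    (j u : ℕ) (hu : u < M) (h : dp_q_34 j u = true) : Good (fa g) T MG M (cP g H) Lt.q u := by
  unfold dp_q_34 at h
  rcases brec_true h with h | h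
  · exact lS_good (T := T) (x := Lt.q) (by decide) hu [Lt.y, Lt.z, Lt.q, Lt.z, Lt.q, Lt.yi, Lt.z, Lt.q, Lt.z] (H9.TCY.hole_at hinv hr 10 9 true (by decide +kernel)) h
  · exact dp_q_33_s hinv hr hH j u hu h
theorem dp_q_35_s (hinv : ∀ x, g (inv x) = (g x)⁻¹) (hr : ∀ r ∈ rels, (r.map g).prod = 1) (hH : ∀ r ∈ subs, (r.map g).prod ∈ H)
    (j u : ℕ) (hu : u < M) (h : dp_q_35 j u = true) : Good (fa g) T MG M (cP g H) Lt.q u := by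
  unfold dp_q_35 at h
  rcases brec_true h with h | h
  · exact dp_q_32_s hinv hr hH j u hu h
  · exact dp_q_34_s hinv hr hH j u hu h
theorem dp_q_36_s (hinv : ∀ x, g (inv x) = (g x)⁻¹) (hr : ∀ r ∈ rels, (r.map g).prod = 1) (hH : ∀ r ∈ subs, (r.map g).prod ∈ H)
    (j u : ℕ) (hu : u < M) (h : dp_q_36 j u = true) : Good (fa g) T MG M (cP g H) Lt.q u := by
  unfold dp_q_36 at h
  rcases brec_true h with h | h
  · exact lF_good (T := T) (x := Lt.q) (by decide) [Lt.v, Lt.q, Lt.v, Lt.q, Lt.v, Lt.q, Lt.v, Lt.q, Lt.v, Lt.q, Lt.v] (H9.TCY.hole_at hinv hr 2 1 false (by decide +kernel)) h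
  · exact lF_good (T := T) (x := Lt.q) (by decide) [Lt.v, Lt.q, Lt.z, Lt.v, Lt.z, Lt.q, Lt.z, Lt.q, Lt.v, Lt.z] (H9.TCY.hole_at hinv hr 11 9 true (by decide +kernel)) h
theorem dp_q_37_s (hinv : ∀ x, g (inv x) = (g x)⁻¹) (hr : ∀ r ∈ rels, (r.map g).prod = 1) (hH : ∀ r ∈ subs, (r.map g).prod ∈ H)
    (j u : ℕ) (hu : u < M) (h : dp_q_37 j u = true) : Good (fa g) T MG M (cP g H) Lt.q u := by
  unfold dp_q_37 at h
  rcases brec_true h with h | h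
  · exact lS_good (T := T) (x := Lt.q) (by decide) hu [Lt.yi, Lt.yi, Lt.q, Lt.y, Lt.y, Lt.q, Lt.yi, Lt.yi, Lt.q, Lt.y, Lt.y] (H9.TCY.hole_at hinv hr 19 0 false (by decide +kernel)) h
  · exact dp_q_36_s hinv hr hH j u hu h
theorem dp_q_38_s (hinv : ∀ x, g (inv x) = (g x)⁻¹) (hr : ∀ r ∈ rels, (r.map g).prod = 1) (hH : ∀ r ∈ subs, (r.map g).prod ∈ H)
    (j u : ℕ) (hu : u < M) (h : dp_q_38 j u = true) : Good (fa g) T MG M (cP g H) Lt.q u := by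
  unfold dp_q_38 at h
  rcases brec_true h with h | h
  · exact lS_good (T := T) (x := Lt.q) (by decide) hu [Lt.y, Lt.y, Lt.q, Lt.yi, Lt.yi, Lt.q, Lt.y, Lt.y, Lt.q, Lt.yi, Lt.yi] (H9.TCY.hole_at hinv hr 19 3 false (by decide +kernel)) h
  · exact lS_good (T := T) (x := Lt.q) (by decide) hu [Lt.z, Lt.q, Lt.y, Lt.z, Lt.q, Lt.z, Lt.q, Lt.yi, Lt.z] (H9.TCY.hole_at hinv hr 10 7 true (by decide +kernel)) h
theorem dp_q_39_s (hinv : ∀ x, g (inv x) = (g x)⁻¹) (hr : ∀ r ∈ rels, (r.map g).prod = 1) (hH : ∀ r ∈ subs, (r.map g).prod ∈ H)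
    (j u : ℕ) (hu : u < M) (h : dp_q_39 j u = true) : Good (fa g) T MG M (cP g H) Lt.q u := by
  unfold dp_q_39 at h
  rcases brec_true h with h | h
  · exact lS_good (T := T) (x := Lt.q) (by decide) hu [Lt.y, Lt.z, Lt.yi, Lt.z, Lt.y, Lt.q, Lt.yi, Lt.z, Lt.y, Lt.z, Lt.yi] (H9.TCY.hole_at hinv hr 17 2 false (by decide +kernel)) h
  · exact lS_good (T := T) (x := Lt.q) (by decide) hu [Lt.yi, Lt.z, Lt.y, Lt.z, Lt.yi, Lt.q, Lt.y, Lt.z, Lt.yi, Lt.z, Lt.y] (H9.TCY.hole_at hinv hr 17 8 false (by decide +kernel)) h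
theorem dp_q_40_s (hinv : ∀ x, g (inv x) = (g x)⁻¹) (hr : ∀ r ∈ rels, (r.map g).prod = 1) (hH : ∀ r ∈ subs, (r.map g).prod ∈ H)
    (j u : ℕ) (hu : u < M) (h : dp_q_40 j u = true) : Good (fa g) T MG M (cP g H) Lt.q u := by
  unfold dp_q_40 at h
  rcases brec_true h with h | h
  · exact dp_q_38_s hinv hr hH j u hu h
  · exact dp_q_39_s hinv hr hH j u hu h
theorem dp_q_41_s (hinv : ∀ x, g (inv x) = (g x)⁻¹) (hr : ∀ r ∈ rels, (r.map g).prod = 1) (hH : ∀ r ∈ subs, (r.map g).prod ∈ H)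
    (j u : ℕ) (hu : u < M) (h : dp_q_41 j u = true) : Good (fa g) T MG M (cP g H) Lt.q u := by
  unfold dp_q_41 at h
  rcases brec_true h with h | h
  · exact dp_q_37_s hinv hr hH j u hu h
  · exact dp_q_40_s hinv hr hH j u hu h
theorem dp_q_42_s (hinv : ∀ x, g (inv x) = (g x)⁻¹) (hr : ∀ r ∈ rels, (r.map g).prod = 1) (hH : ∀ r ∈ subs, (r.map g).prod ∈ H)
    (j u : ℕ) (hu : u < M) (h : dp_q_42 j u = true) : Good (fa g) T MG M (cP g H) Lt.q u := by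
  unfold dp_q_42 at h
  rcases brec_true h with h | h
  · exact dp_q_35_s hinv hr hH j u hu h
  · exact dp_q_41_s hinv hr hH j u hu h
theorem dp_q_43_s (hinv : ∀ x, g (inv x) = (g x)⁻¹) (hr : ∀ r ∈ rels, (r.map g).prod = 1) (hH : ∀ r ∈ subs, (r.map g).prod ∈ H)
    (j u : ℕ) (hu : u < M) (h : dp_q_43 j u = true) : Good (fa g) T MG M (cP g H) Lt.q u := by
  unfold dp_q_43 at h
  rcases brec_true h with h | h
  · exact lS_good (T := T) (x := Lt.q) (by decide) hu [Lt.z, Lt.yi, Lt.q, Lt.z, Lt.q, Lt.z, Lt.y, Lt.q, Lt.z] (H9.TCY.hole_at hinv hr 10 9 false (by decide +kernel)) h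
  · exact lF_good (T := T) (x := Lt.q) (by decide) [Lt.yi, Lt.q, Lt.z, Lt.y, Lt.q, Lt.yi, Lt.q, Lt.z, Lt.y, Lt.z, Lt.q, Lt.yi, Lt.q, Lt.y, Lt.z] (H9.TCY.hole_at hinv hr 23 2 true (by decide +kernel)) h
theorem dp_q_44_s (hinv : ∀ x, g (inv x) = (g x)⁻¹) (hr : ∀ r ∈ rels, (r.map g).prod = 1) (hH : ∀ r ∈ subs, (r.map g).prod ∈ H)
    (j u : ℕ) (hu : u < M) (h : dp_q_44 j u = true) : Good (fa g) T MG M (cP g H) Lt.q u := by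
  unfold dp_q_44 at h
  rcases brec_true h with h | h
  · exact lF_good (T := T) (x := Lt.q) (by decide) [Lt.y, Lt.q, Lt.yi, Lt.z, Lt.q, Lt.y, Lt.q, Lt.z, Lt.yi, Lt.q, Lt.y, Lt.q, Lt.z, Lt.yi, Lt.z] (H9.TCY.hole_at hinv hr 23 8 false (by decide +kernel)) h
  · exact lS_good (T := T) (x := Lt.q) (by decide) hu [Lt.yi, Lt.z, Lt.q, Lt.z, Lt.y, Lt.q, Lt.yi, Lt.z, Lt.q, Lt.z, Lt.y] (H9.TCY.hole_at hinv hr 15 0 false (by decide +kernel)) h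
theorem dp_q_45_s (hinv : ∀ x, g (inv x) = (g x)⁻¹) (hr : ∀ r ∈ rels, (r.map g).prod = 1) (hH : ∀ r ∈ subs, (r.map g).prod ∈ H)
    (j u : ℕ) (hu : u < M) (h : dp_q_45 j u = true) : Good (fa g) T MG M (cP g H) Lt.q u := by
  unfold dp_q_45 at h
  rcases brec_true h with h | h
  · exact lF_good (T := T) (x := Lt.q) (by decide) [Lt.y, Lt.q, Lt.z, Lt.yi, Lt.q, Lt.y, Lt.q, Lt.z, Lt.yi, Lt.z, Lt.q, Lt.y, Lt.q, Lt.yi, Lt.z] (H9.TCY.hole_at hinv hr 23 13 false (by decide +kernel)) h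
  · exact dp_q_44_s hinv hr hH j u hu h
theorem dp_q_46_s (hinv : ∀ x, g (inv x) = (g x)⁻¹) (hr : ∀ r ∈ rels, (r.map g).prod = 1) (hH : ∀ r ∈ subs, (r.map g).prod ∈ H)
    (j u : ℕ) (hu : u < M) (h : dp_q_46 j u = true) : Good (fa g) T MG M (cP g H) Lt.q u := by
  unfold dp_q_46 at h
  rcases brec_true h with h | h
  · exact dp_q_43_s hinv hr hH j u hu h
  · exact dp_q_45_s hinv hr hH j u hu h
theorem dp_q_47_s (hinv : ∀ x, g (inv x) = (g x)⁻¹) (hr : ∀ r ∈ rels, (r.map g).prod = 1) (hH : ∀ r ∈ subs, (r.map g).prod ∈ H)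
    (j u : ℕ) (hu : u < M) (h : dp_q_47 j u = true) : Good (fa g) T MG M (cP g H) Lt.q u := by
  unfold dp_q_47 at h
  rcases brec_true h with h | h
  · exact lS_good (T := T) (x := Lt.q) (by decide) hu [Lt.y, Lt.z, Lt.q, Lt.z, Lt.yi, Lt.q, Lt.y, Lt.z, Lt.q, Lt.z, Lt.yi] (H9.TCY.hole_at hinv hr 16 2 false (by decide +kernel)) h
  · exact lF_good (T := T) (x := Lt.q) (by decide) [Lt.yi, Lt.z, Lt.yi, Lt.z, Lt.y, Lt.z, Lt.y, Lt.q, Lt.yi, Lt.z, Lt.yi, Lt.z, Lt.y, Lt.z, Lt.y] (H9.TCY.hole_at hinv hr 26 0 false (by decide +kernel)) h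
theorem dp_q_48_s (hinv : ∀ x, g (inv x) = (g x)⁻¹) (hr : ∀ r ∈ rels, (r.map g).prod = 1) (hH : ∀ r ∈ subs, (r.map g).prod ∈ H)
    (j u : ℕ) (hu : u < M) (h : dp_q_48 j u = true) : Good (fa g) T MG M (cP g H) Lt.q u := by
  unfold dp_q_48 at h
  rcases brec_true h with h | h
  · exact lF_good (T := T) (x := Lt.q) (by decide) [Lt.z, Lt.v, Lt.z, Lt.q, Lt.v, Lt.q, Lt.z, Lt.v, Lt.q, Lt.z] (H9.TCY.hole_at hinv hr 11 8 false (by decide +kernel)) h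
  · exact dp_q_47_s hinv hr hH j u hu h
theorem dp_q_49_s (hinv : ∀ x, g (inv x) = (g x)⁻¹) (hr : ∀ r ∈ rels, (r.map g).prod = 1) (hH : ∀ r ∈ subs, (r.map g).prod ∈ H)
    (j u : ℕ) (hu : u < M) (h : dp_q_49 j u = true) : Good (fa g) T MG M (cP g H) Lt.q u := by
  unfold dp_q_49 at h
  rcases brec_true h with h | h
  · exact lS_good (T := T) (x := Lt.q) (by decide) hu [Lt.z, Lt.q, Lt.v, Lt.q, Lt.z, Lt.q, Lt.v, Lt.q, Lt.z, Lt.q, Lt.v] (H9.TCY.hole_at hinv hr 14 3 false (by decide +kernel)) h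
  · exact lF_good (T := T) (x := Lt.q) (by decide) [Lt.z, Lt.y, Lt.q, Lt.yi, Lt.z, Lt.q, Lt.z, Lt.y, Lt.q, Lt.yi, Lt.z] (H9.TCY.hole_at hinv hr 15 3 false (by decide +kernel)) h
theorem dp_q_50_s (hinv : ∀ x, g (inv x) = (g x)⁻¹) (hr : ∀ r ∈ rels, (r.map g).prod = 1) (hH : ∀ r ∈ subs, (r.map g).prod ∈ H)
    (j u : ℕ) (hu : u < M) (h : dp_q_50 j u = true) : Good (fa g) T MG M (cP g H) Lt.q u := by
  unfold dp_q_50 at h
  rcases brec_true h with h | h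
  · exact lS_good (T := T) (x := Lt.q) (by decide) hu [Lt.v, Lt.q, Lt.v, Lt.q, Lt.v, Lt.q, Lt.v, Lt.q, Lt.v, Lt.q, Lt.v] (H9.TCY.hole_at hinv hr 2 1 false (by decide +kernel)) h
  · exact lF_good (T := T) (x := Lt.q) (by decide) [Lt.y, Lt.z, Lt.y, Lt.z, Lt.yi, Lt.z, Lt.yi, Lt.q, Lt.y, Lt.z, Lt.y, Lt.z, Lt.yi, Lt.z, Lt.yi] (H9.TCY.hole_at hinv hr 29 2 false (by decide +kernel)) h
theorem dp_q_51_s (hinv : ∀ x, g (inv x) = (g x)⁻¹) (hr : ∀ r ∈ rels, (r.map g).prod = 1) (hH : ∀ r ∈ subs, (r.map g).prod ∈ H)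
    (j u : ℕ) (hu : u < M) (h : dp_q_51 j u = true) : Good (fa g) T MG M (cP g H) Lt.q u := by
  unfold dp_q_51 at h
  rcases brec_true h with h | h
  · exact dp_q_49_s hinv hr hH j u hu h
  · exact dp_q_50_s hinv hr hH j u hu h
theorem dp_q_52_s (hinv : ∀ x, g (inv x) = (g x)⁻¹) (hr : ∀ r ∈ rels, (r.map g).prod = 1) (hH : ∀ r ∈ subs, (r.map g).prod ∈ H)
    (j u : ℕ) (hu : u < M) (h : dp_q_52 j u = true) : Good (fa g) T MG M (cP g H) Lt.q u := by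
  unfold dp_q_52 at h
  rcases brec_true h with h | h
  · exact dp_q_48_s hinv hr hH j u hu h
  · exact dp_q_51_s hinv hr hH j u hu h
theorem dp_q_53_s (hinv : ∀ x, g (inv x) = (g x)⁻¹) (hr : ∀ r ∈ rels, (r.map g).prod = 1) (hH : ∀ r ∈ subs, (r.map g).prod ∈ H)
    (j u : ℕ) (hu : u < M) (h : dp_q_53 j u = true) : Good (fa g) T MG M (cP g H) Lt.q u := by
  unfold dp_q_53 at h
  rcases brec_true h with h | h
  · exact dp_q_46_s hinv hr hH j u hu h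
  · exact dp_q_52_s hinv hr hH j u hu h
theorem dp_q_54_s (hinv : ∀ x, g (inv x) = (g x)⁻¹) (hr : ∀ r ∈ rels, (r.map g).prod = 1) (hH : ∀ r ∈ subs, (r.map g).prod ∈ H)
    (j u : ℕ) (hu : u < M) (h : dp_q_54 j u = true) : Good (fa g) T MG M (cP g H) Lt.q u := by
  unfold dp_q_54 at h
  rcases brec_true h with h | h
  · exact lF_good (T := T) (x := Lt.q) (by decide) [Lt.z, Lt.y, Lt.q, Lt.yi, Lt.q, Lt.z, Lt.y, Lt.z, Lt.q, Lt.yi, Lt.q, Lt.y, Lt.z, Lt.q, Lt.yi] (H9.TCY.hole_at hinv hr 23 4 true (by decide +kernel)) h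
  · exact lF_good (T := T) (x := Lt.q) (by decide) [Lt.z, Lt.yi, Lt.q, Lt.y, Lt.q, Lt.z, Lt.yi, Lt.z, Lt.q, Lt.y, Lt.q, Lt.yi, Lt.z, Lt.q, Lt.y] (H9.TCY.hole_at hinv hr 23 15 false (by decide +kernel)) h
theorem dp_q_55_s (hinv : ∀ x, g (inv x) = (g x)⁻¹) (hr : ∀ r ∈ rels, (r.map g).prod = 1) (hH : ∀ r ∈ subs, (r.map g).prod ∈ H)
    (j u : ℕ) (hu : u < M) (h : dp_q_55 j u = true) : Good (fa g) T MG M (cP g H) Lt.q u := by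
  unfold dp_q_55 at h
  rcases brec_true h with h | h
  · exact lF_good (T := T) (x := Lt.q) (by decide) [Lt.yi, Lt.yi, Lt.yi, Lt.q, Lt.yi, Lt.yi, Lt.yi, Lt.q, Lt.y, Lt.y, Lt.y, Lt.q, Lt.yi, Lt.yi, Lt.yi] (H9.TCY.hole_at hinv hr 30 4 false (by decide +kernel)) h
  · exact lF_good (T := T) (x := Lt.q) (by decide) [Lt.z, Lt.yi, Lt.q, Lt.y, Lt.z, Lt.q, Lt.z, Lt.yi, Lt.q, Lt.y, Lt.z] (H9.TCY.hole_at hinv hr 16 5 false (by decide +kernel)) h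
theorem dp_q_56_s (hinv : ∀ x, g (inv x) = (g x)⁻¹) (hr : ∀ r ∈ rels, (r.map g).prod = 1) (hH : ∀ r ∈ subs, (r.map g).prod ∈ H)
    (j u : ℕ) (hu : u < M) (h : dp_q_56 j u = true) : Good (fa g) T MG M (cP g H) Lt.q u := by
  unfold dp_q_56 at h
  rcases brec_true h with h | h
  · exact dp_q_54_s hinv hr hH j u hu h
  · exact dp_q_55_s hinv hr hH j u hu h
theorem dp_q_57_s (hinv : ∀ x, g (inv x) = (g x)⁻¹) (hr : ∀ r ∈ rels, (r.map g).prod = 1) (hH : ∀ r ∈ subs, (r.map g).prod ∈ H)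
    (j u : ℕ) (hu : u < M) (h : dp_q_57 j u = true) : Good (fa g) T MG M (cP g H) Lt.q u := by
  unfold dp_q_57 at h
  rcases brec_true h with h | h
  · exact lF_good (T := T) (x := Lt.q) (by decide) [Lt.yi, Lt.q, Lt.y, Lt.z, Lt.q, Lt.yi, Lt.q, Lt.z, Lt.y, Lt.q, Lt.yi, Lt.q, Lt.z, Lt.y, Lt.z] (H9.TCY.hole_at hinv hr 23 13 true (by decide +kernel)) h
  · exact lF_good (T := T) (x := Lt.q) (by decide) [Lt.v, Lt.q, Lt.v, Lt.z, Lt.q, Lt.z, Lt.v, Lt.z, Lt.v, Lt.z, Lt.q, Lt.z, Lt.v] (H9.TCY.hole_at hinv hr 20 1 false (by decide +kernel)) h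
theorem dp_q_58_s (hinv : ∀ x, g (inv x) = (g x)⁻¹) (hr : ∀ r ∈ rels, (r.map g).prod = 1) (hH : ∀ r ∈ subs, (r.map g).prod ∈ H)
    (j u : ℕ) (hu : u < M) (h : dp_q_58 j u = true) : Good (fa g) T MG M (cP g H) Lt.q u := by
  unfold dp_q_58 at h
  rcases brec_true h with h | h
  · exact lS_good (T := T) (x := Lt.q) (by decide) hu [Lt.yi, Lt.q, Lt.z, Lt.y, Lt.q, Lt.yi, Lt.q, Lt.z, Lt.y, Lt.z, Lt.q, Lt.yi, Lt.q, Lt.y, Lt.z] (H9.TCY.hole_at hinv hr 23 2 true (by decide +kernel)) h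
  · exact lS_good (T := T) (x := Lt.q) (by decide) hu [Lt.v, Lt.q, Lt.z, Lt.q, Lt.v, Lt.q, Lt.z, Lt.q, Lt.v, Lt.q, Lt.z] (H9.TCY.hole_at hinv hr 14 1 false (by decide +kernel)) h
theorem dp_q_59_s (hinv : ∀ x, g (inv x) = (g x)⁻¹) (hr : ∀ r ∈ rels, (r.map g).prod = 1) (hH : ∀ r ∈ subs, (r.map g).prod ∈ H)
    (j u : ℕ) (hu : u < M) (h : dp_q_59 j u = true) : Good (fa g) T MG M (cP g H) Lt.q u := by
  unfold dp_q_59 at h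
  rcases brec_true h with h | h
  · exact lF_good (T := T) (x := Lt.q) (by decide) [Lt.v, Lt.z, Lt.q, Lt.z, Lt.v, Lt.z, Lt.v, Lt.z, Lt.q, Lt.z, Lt.v, Lt.q, Lt.v] (H9.TCY.hole_at hinv hr 20 3 false (by decide +kernel)) h
  · exact dp_q_58_s hinv hr hH j u hu h
theorem dp_q_60_s (hinv : ∀ x, g (inv x) = (g x)⁻¹) (hr : ∀ r ∈ rels, (r.map g).prod = 1) (hH : ∀ r ∈ subs, (r.map g).prod ∈ H)
    (j u : ℕ) (hu : u < M) (h : dp_q_60 j u = true) : Good (fa g) T MG M (cP g H) Lt.q u := by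
  unfold dp_q_60 at h
  rcases brec_true h with h | h
  · exact dp_q_57_s hinv hr hH j u hu h
  · exact dp_q_59_s hinv hr hH j u hu h
theorem dp_q_61_s (hinv : ∀ x, g (inv x) = (g x)⁻¹) (hr : ∀ r ∈ rels, (r.map g).prod = 1) (hH : ∀ r ∈ subs, (r.map g).prod ∈ H)
    (j u : ℕ) (hu : u < M) (h : dp_q_61 j u = true) : Good (fa g) T MG M (cP g H) Lt.q u := by
  unfold dp_q_61 at h
  rcases brec_true h with h | h
  · exact dp_q_56_s hinv hr hH j u hu h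
  · exact dp_q_60_s hinv hr hH j u hu h
theorem dp_q_62_s (hinv : ∀ x, g (inv x) = (g x)⁻¹) (hr : ∀ r ∈ rels, (r.map g).prod = 1) (hH : ∀ r ∈ subs, (r.map g).prod ∈ H)
    (j u : ℕ) (hu : u < M) (h : dp_q_62 j u = true) : Good (fa g) T MG M (cP g H) Lt.q u := by
  unfold dp_q_62 at h
  rcases brec_true h with h | h
  · exact lF_good (T := T) (x := Lt.q) (by decide) [Lt.z, Lt.yi, Lt.z, Lt.q, Lt.y, Lt.q, Lt.yi, Lt.z, Lt.q, Lt.y, Lt.q, Lt.z, Lt.yi, Lt.q, Lt.y] (H9.TCY.hole_at hinv hr 23 4 false (by decide +kernel)) h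
  · exact lF_good (T := T) (x := Lt.q) (by decide) [Lt.y, Lt.y, Lt.y, Lt.q, Lt.y, Lt.y, Lt.y, Lt.q, Lt.yi, Lt.yi, Lt.yi, Lt.q, Lt.y, Lt.y, Lt.y] (H9.TCY.hole_at hinv hr 30 9 true (by decide +kernel)) h
theorem dp_q_63_s (hinv : ∀ x, g (inv x) = (g x)⁻¹) (hr : ∀ r ∈ rels, (r.map g).prod = 1) (hH : ∀ r ∈ subs, (r.map g).prod ∈ H)
    (j u : ℕ) (hu : u < M) (h : dp_q_63 j u = true) : Good (fa g) T MG M (cP g H) Lt.q u := by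
  unfold dp_q_63 at h
  rcases brec_true h with h | h
  · exact lF_good (T := T) (x := Lt.q) (by decide) [Lt.y, Lt.y, Lt.q, Lt.z, Lt.y, Lt.z, Lt.yi, Lt.z, Lt.q, Lt.yi, Lt.yi, Lt.q, Lt.z, Lt.yi, Lt.z, Lt.y, Lt.z] (H9.TCY.hole_at hinv hr 39 9 false (by decide +kernel)) h
  · exact lF_good (T := T) (x := Lt.q) (by decide) [Lt.y, Lt.z, Lt.q, Lt.yi, Lt.z, Lt.y, Lt.q, Lt.z, Lt.yi, Lt.q, Lt.z, Lt.y, Lt.z, Lt.yi, Lt.z] (H9.TCY.hole_at hinv hr 27 8 false (by decide +kernel)) h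
theorem dp_q_64_s (hinv : ∀ x, g (inv x) = (g x)⁻¹) (hr : ∀ r ∈ rels, (r.map g).prod = 1) (hH : ∀ r ∈ subs, (r.map g).prod ∈ H)
    (j u : ℕ) (hu : u < M) (h : dp_q_64 j u = true) : Good (fa g) T MG M (cP g H) Lt.q u := by
  unfold dp_q_64 at h
  rcases brec_true h with h | h
  · exact lF_good (T := T) (x := Lt.q) (by decide) [Lt.z, Lt.q, Lt.z, Lt.y, Lt.y, Lt.y, Lt.q, Lt.z, Lt.q, Lt.z, Lt.y, Lt.y, Lt.y] (H9.TCY.hole_at hinv hr 21 1 true (by decide +kernel)) h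
  · exact dp_q_63_s hinv hr hH j u hu h
theorem dp_q_65_s (hinv : ∀ x, g (inv x) = (g x)⁻¹) (hr : ∀ r ∈ rels, (r.map g).prod = 1) (hH : ∀ r ∈ subs, (r.map g).prod ∈ H)
    (j u : ℕ) (hu : u < M) (h : dp_q_65 j u = true) : Good (fa g) T MG M (cP g H) Lt.q u := by
  unfold dp_q_65 at h
  rcases brec_true h with h | h
  · exact dp_q_62_s hinv hr hH j u hu h
  · exact dp_q_64_s hinv hr hH j u hu h
theorem dp_q_66_s (hinv : ∀ x, g (inv x) = (g x)⁻¹) (hr : ∀ r ∈ rels, (r.map g).prod = 1) (hH : ∀ r ∈ subs, (r.map g).prod ∈ H)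
    (j u : ℕ) (hu : u < M) (h : dp_q_66 j u = true) : Good (fa g) T MG M (cP g H) Lt.q u := by
  unfold dp_q_66 at h
  rcases brec_true h with h | h
  · exact lS_good (T := T) (x := Lt.q) (by decide) hu [Lt.y, Lt.q, Lt.z, Lt.yi, Lt.q, Lt.y, Lt.q, Lt.z, Lt.yi, Lt.z, Lt.q, Lt.y, Lt.q, Lt.yi, Lt.z] (H9.TCY.hole_at hinv hr 23 13 false (by decide +kernel)) h
  · exact lS_good (T := T) (x := Lt.q) (by decide) hu [Lt.yi, Lt.z, Lt.yi, Lt.z, Lt.y, Lt.z, Lt.y, Lt.q, Lt.yi, Lt.z, Lt.yi, Lt.z, Lt.y, Lt.z, Lt.y] (H9.TCY.hole_at hinv hr 26 0 false (by decide +kernel)) h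
theorem dp_q_67_s (hinv : ∀ x, g (inv x) = (g x)⁻¹) (hr : ∀ r ∈ rels, (r.map g).prod = 1) (hH : ∀ r ∈ subs, (r.map g).prod ∈ H)
    (j u : ℕ) (hu : u < M) (h : dp_q_67 j u = true) : Good (fa g) T MG M (cP g H) Lt.q u := by
  unfold dp_q_67 at h
  rcases brec_true h with h | h
  · exact lF_good (T := T) (x := Lt.q) (by decide) [Lt.yi, Lt.yi, Lt.q, Lt.z, Lt.yi, Lt.z, Lt.y, Lt.z, Lt.q, Lt.y, Lt.y, Lt.q, Lt.z, Lt.y, Lt.z, Lt.yi, Lt.z] (H9.TCY.hole_at hinv hr 39 0 false (by decide +kernel)) h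
  · exact lF_good (T := T) (x := Lt.q) (by decide) [Lt.y, Lt.z, Lt.y, Lt.z, Lt.yi, Lt.z, Lt.y, Lt.y, Lt.q, Lt.y, Lt.y, Lt.z, Lt.yi, Lt.z, Lt.y, Lt.z, Lt.y] (H9.TCY.hole_at hinv hr 41 7 true (by decide +kernel)) h
theorem dp_q_68_s (hinv : ∀ x, g (inv x) = (g x)⁻¹) (hr : ∀ r ∈ rels, (r.map g).prod = 1) (hH : ∀ r ∈ subs, (r.map g).prod ∈ H)
    (j u : ℕ) (hu : u < M) (h : dp_q_68 j u = true) : Good (fa g) T MG M (cP g H) Lt.q u := by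
  unfold dp_q_68 at h
  rcases brec_true h with h | h
  · exact lF_good (T := T) (x := Lt.q) (by decide) [Lt.yi, Lt.yi, Lt.yi, Lt.q, Lt.yi, Lt.yi, Lt.yi, Lt.q, Lt.yi, Lt.yi, Lt.yi, Lt.q, Lt.y, Lt.y, Lt.y] (H9.TCY.hole_at hinv hr 30 0 false (by decide +kernel)) h
  · exact dp_q_67_s hinv hr hH j u hu h
theorem dp_q_69_s (hinv : ∀ x, g (inv x) = (g x)⁻¹) (hr : ∀ r ∈ rels, (r.map g).prod = 1) (hH : ∀ r ∈ subs, (r.map g).prod ∈ H)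
    (j u : ℕ) (hu : u < M) (h : dp_q_69 j u = true) : Good (fa g) T MG M (cP g H) Lt.q u := by
  unfold dp_q_69 at h
  rcases brec_true h with h | h
  · exact dp_q_66_s hinv hr hH j u hu h
  · exact dp_q_68_s hinv hr hH j u hu h
theorem dp_q_70_s (hinv : ∀ x, g (inv x) = (g x)⁻¹) (hr : ∀ r ∈ rels, (r.map g).prod = 1) (hH : ∀ r ∈ subs, (r.map g).prod ∈ H)
    (j u : ℕ) (hu : u < M) (h : dp_q_70 j u = true) : Good (fa g) T MG M (cP g H) Lt.q u := by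
  unfold dp_q_70 at h
  rcases brec_true h with h | h
  · exact dp_q_65_s hinv hr hH j u hu h
  · exact dp_q_69_s hinv hr hH j u hu h
theorem dp_q_71_s (hinv : ∀ x, g (inv x) = (g x)⁻¹) (hr : ∀ r ∈ rels, (r.map g).prod = 1) (hH : ∀ r ∈ subs, (r.map g).prod ∈ H)
    (j u : ℕ) (hu : u < M) (h : dp_q_71 j u = true) : Good (fa g) T MG M (cP g H) Lt.q u := by
  unfold dp_q_71 at h
  rcases brec_true h with h | h
  · exact dp_q_61_s hinv hr hH j u hu h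
  · exact dp_q_70_s hinv hr hH j u hu h
theorem dp_q_72_s (hinv : ∀ x, g (inv x) = (g x)⁻¹) (hr : ∀ r ∈ rels, (r.map g).prod = 1) (hH : ∀ r ∈ subs, (r.map g).prod ∈ H)
    (j u : ℕ) (hu : u < M) (h : dp_q_72 j u = true) : Good (fa g) T MG M (cP g H) Lt.q u := by
  unfold dp_q_72 at h
  rcases brec_true h with h | h
  · exact dp_q_53_s hinv hr hH j u hu h
  · exact dp_q_71_s hinv hr hH j u hu h
theorem dp_q_73_s (hinv : ∀ x, g (inv x) = (g x)⁻¹) (hr : ∀ r ∈ rels, (r.map g).prod = 1) (hH : ∀ r ∈ subs, (r.map g).prod ∈ H)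
    (j u : ℕ) (hu : u < M) (h : dp_q_73 j u = true) : Good (fa g) T MG M (cP g H) Lt.q u := by
  unfold dp_q_73 at h
  rcases brec_true h with h | h
  · exact dp_q_42_s hinv hr hH j u hu h
  · exact dp_q_72_s hinv hr hH j u hu h
theorem dp_q_74_s (hinv : ∀ x, g (inv x) = (g x)⁻¹) (hr : ∀ r ∈ rels, (r.map g).prod = 1) (hH : ∀ r ∈ subs, (r.map g).prod ∈ H)
    (j u : ℕ) (hu : u < M) (h : dp_q_74 j u = true) : Good (fa g) T MG M (cP g H) Lt.q u := by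
  unfold dp_q_74 at h
  rcases brec_true h with h | h
  · exact lF_good (T := T) (x := Lt.q) (by decide) [Lt.yi, Lt.z, Lt.y, Lt.q, Lt.z, Lt.y, Lt.y, Lt.z, Lt.q, Lt.y, Lt.z, Lt.yi, Lt.q, Lt.z, Lt.yi, Lt.yi, Lt.z] (H9.TCY.hole_at hinv hr 37 4 false (by decide +kernel)) h
  · exact lS_good (T := T) (x := Lt.q) (by decide) hu [Lt.z, Lt.q, Lt.z, Lt.v, Lt.z, Lt.q, Lt.v, Lt.q, Lt.z, Lt.v] (H9.TCY.hole_at hinv hr 11 6 false (by decide +kernel)) h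
theorem dp_q_75_s (hinv : ∀ x, g (inv x) = (g x)⁻¹) (hr : ∀ r ∈ rels, (r.map g).prod = 1) (hH : ∀ r ∈ subs, (r.map g).prod ∈ H)
    (j u : ℕ) (hu : u < M) (h : dp_q_75 j u = true) : Good (fa g) T MG M (cP g H) Lt.q u := by
  unfold dp_q_75 at h
  rcases brec_true h with h | h
  · exact lF_good (T := T) (x := Lt.q) (by decide) [Lt.yi, Lt.yi, Lt.q, Lt.y, Lt.q, Lt.y, Lt.y, Lt.q, Lt.y, Lt.q, Lt.y, Lt.q, Lt.yi, Lt.yi, Lt.yi] (H9.TCY.hole_at hinv hr 31 4 false (by decide +kernel)) h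
  · exact dp_q_74_s hinv hr hH j u hu h
theorem dp_q_76_s (hinv : ∀ x, g (inv x) = (g x)⁻¹) (hr : ∀ r ∈ rels, (r.map g).prod = 1) (hH : ∀ r ∈ subs, (r.map g).prod ∈ H)
    (j u : ℕ) (hu : u < M) (h : dp_q_76 j u = true) : Good (fa g) T MG M (cP g H) Lt.q u := by
  unfold dp_q_76 at h
  rcases brec_true h with h | h
  · exact lS_good (T := T) (x := Lt.q) (by decide) hu [Lt.v, Lt.z, Lt.q, Lt.v, Lt.q, Lt.z, Lt.v, Lt.z, Lt.q, Lt.z] (H9.TCY.hole_at hinv hr 11 6 true (by decide +kernel)) h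
  · exact lS_good (T := T) (x := Lt.q) (by decide) hu [Lt.z, Lt.v, Lt.z, Lt.q, Lt.z, Lt.q, Lt.v, Lt.z, Lt.q, Lt.v] (H9.TCY.hole_at hinv hr 11 0 true (by decide +kernel)) h
theorem dp_q_77_s (hinv : ∀ x, g (inv x) = (g x)⁻¹) (hr : ∀ r ∈ rels, (r.map g).prod = 1) (hH : ∀ r ∈ subs, (r.map g).prod ∈ H)
    (j u : ℕ) (hu : u < M) (h : dp_q_77 j u = true) : Good (fa g) T MG M (cP g H) Lt.q u := by
  unfold dp_q_77 at h
  rcases brec_true h with h | h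
  · exact lF_good (T := T) (x := Lt.q) (by decide) [Lt.z, Lt.y, Lt.z, Lt.yi, Lt.z, Lt.q, Lt.yi, Lt.yi, Lt.q, Lt.z, Lt.yi, Lt.z, Lt.y, Lt.z, Lt.q, Lt.y, Lt.y] (H9.TCY.hole_at hinv hr 39 12 false (by decide +kernel)) h
  · exact dp_q_76_s hinv hr hH j u hu h
theorem dp_q_78_s (hinv : ∀ x, g (inv x) = (g x)⁻¹) (hr : ∀ r ∈ rels, (r.map g).prod = 1) (hH : ∀ r ∈ subs, (r.map g).prod ∈ H)
    (j u : ℕ) (hu : u < M) (h : dp_q_78 j u = true) : Good (fa g) T MG M (cP g H) Lt.q u := by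
  unfold dp_q_78 at h
  rcases brec_true h with h | h
  · exact dp_q_75_s hinv hr hH j u hu h
  · exact dp_q_77_s hinv hr hH j u hu h
theorem dp_q_79_s (hinv : ∀ x, g (inv x) = (g x)⁻¹) (hr : ∀ r ∈ rels, (r.map g).prod = 1) (hH : ∀ r ∈ subs, (r.map g).prod ∈ H)
    (j u : ℕ) (hu : u < M) (h : dp_q_79 j u = true) : Good (fa g) T MG M (cP g H) Lt.q u := by
  unfold dp_q_79 at h
  rcases brec_true h with h | h
  · exact lS_good (T := T) (x := Lt.q) (by decide) hu [Lt.y, Lt.z, Lt.y, Lt.z, Lt.yi, Lt.z, Lt.y, Lt.y, Lt.q, Lt.y, Lt.y, Lt.z, Lt.yi, Lt.z, Lt.y, Lt.z, Lt.y] (H9.TCY.hole_at hinv hr 41 7 true (by decide +kernel)) h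
  · exact lF_good (T := T) (x := Lt.q) (by decide) [Lt.y, Lt.y, Lt.q, Lt.y, Lt.q, Lt.y, Lt.q, Lt.yi, Lt.yi, Lt.yi, Lt.q, Lt.yi, Lt.yi, Lt.q, Lt.y] (H9.TCY.hole_at hinv hr 31 9 false (by decide +kernel)) h
theorem dp_q_80_s (hinv : ∀ x, g (inv x) = (g x)⁻¹) (hr : ∀ r ∈ rels, (r.map g).prod = 1) (hH : ∀ r ∈ subs, (r.map g).prod ∈ H)
    (j u : ℕ) (hu : u < M) (h : dp_q_80 j u = true) : Good (fa g) T MG M (cP g H) Lt.q u := by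
  unfold dp_q_80 at h
  rcases brec_true h with h | h
  · exact lF_good (T := T) (x := Lt.q) (by decide) [Lt.yi, Lt.z, Lt.y, Lt.q, Lt.z, Lt.yi, Lt.q, Lt.z, Lt.y, Lt.z, Lt.yi, Lt.z, Lt.q, Lt.y, Lt.z] (H9.TCY.hole_at hinv hr 27 11 false (by decide +kernel)) h
  · exact dp_q_79_s hinv hr hH j u hu h
theorem dp_q_81_s (hinv : ∀ x, g (inv x) = (g x)⁻¹) (hr : ∀ r ∈ rels, (r.map g).prod = 1) (hH : ∀ r ∈ subs, (r.map g).prod ∈ H)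
    (j u : ℕ) (hu : u < M) (h : dp_q_81 j u = true) : Good (fa g) T MG M (cP g H) Lt.q u := by
  unfold dp_q_81 at h
  rcases brec_true h with h | h
  · exact lS_good (T := T) (x := Lt.q) (by decide) hu [Lt.y, Lt.z, Lt.y, Lt.z, Lt.yi, Lt.z, Lt.yi, Lt.q, Lt.y, Lt.z, Lt.y, Lt.z, Lt.yi, Lt.z, Lt.yi] (H9.TCY.hole_at hinv hr 29 2 false (by decide +kernel)) h
  · exact lF_good (T := T) (x := Lt.q) (by decide) [Lt.z, Lt.yi, Lt.z, Lt.y, Lt.z, Lt.q, Lt.y, Lt.y, Lt.q, Lt.z, Lt.y, Lt.z, Lt.yi, Lt.z, Lt.q, Lt.yi, Lt.yi] (H9.TCY.hole_at hinv hr 39 3 false (by decide +kernel)) h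
theorem dp_q_82_s (hinv : ∀ x, g (inv x) = (g x)⁻¹) (hr : ∀ r ∈ rels, (r.map g).prod = 1) (hH : ∀ r ∈ subs, (r.map g).prod ∈ H)
    (j u : ℕ) (hu : u < M) (h : dp_q_82 j u = true) : Good (fa g) T MG M (cP g H) Lt.q u := by
  unfold dp_q_82 at h
  rcases brec_true h with h | h
  · exact lF_good (T := T) (x := Lt.q) (by decide) [Lt.z, Lt.q, Lt.v, Lt.z, Lt.q, Lt.v, Lt.q, Lt.z, Lt.v, Lt.z] (H9.TCY.hole_at hinv hr 11 4 true (by decide +kernel)) h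
  · exact lF_good (T := T) (x := Lt.q) (by decide) [Lt.z, Lt.yi, Lt.yi, Lt.z, Lt.q, Lt.yi, Lt.z, Lt.y, Lt.q, Lt.z, Lt.y, Lt.y, Lt.z, Lt.q, Lt.y, Lt.z, Lt.yi] (H9.TCY.hole_at hinv hr 37 17 false (by decide +kernel)) h
theorem dp_q_83_s (hinv : ∀ x, g (inv x) = (g x)⁻¹) (hr : ∀ r ∈ rels, (r.map g).prod = 1) (hH : ∀ r ∈ subs, (r.map g).prod ∈ H)
    (j u : ℕ) (hu : u < M) (h : dp_q_83 j u = true) : Good (fa g) T MG M (cP g H) Lt.q u := by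
  unfold dp_q_83 at h
  rcases brec_true h with h | h
  · exact dp_q_81_s hinv hr hH j u hu h
  · exact dp_q_82_s hinv hr hH j u hu h
theorem dp_q_84_s (hinv : ∀ x, g (inv x) = (g x)⁻¹) (hr : ∀ r ∈ rels, (r.map g).prod = 1) (hH : ∀ r ∈ subs, (r.map g).prod ∈ H)
    (j u : ℕ) (hu : u < M) (h : dp_q_84 j u = true) : Good (fa g) T MG M (cP g H) Lt.q u := by
  unfold dp_q_84 at h
  rcases brec_true h with h | h
  · exact dp_q_80_s hinv hr hH j u hu h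
  · exact dp_q_83_s hinv hr hH j u hu h
theorem dp_q_85_s (hinv : ∀ x, g (inv x) = (g x)⁻¹) (hr : ∀ r ∈ rels, (r.map g).prod = 1) (hH : ∀ r ∈ subs, (r.map g).prod ∈ H)
    (j u : ℕ) (hu : u < M) (h : dp_q_85 j u = true) : Good (fa g) T MG M (cP g H) Lt.q u := by
  unfold dp_q_85 at h
  rcases brec_true h with h | h
  · exact dp_q_78_s hinv hr hH j u hu h
  · exact dp_q_84_s hinv hr hH j u hu h
theorem dp_q_86_s (hinv : ∀ x, g (inv x) = (g x)⁻¹) (hr : ∀ r ∈ rels, (r.map g).prod = 1) (hH : ∀ r ∈ subs, (r.map g).prod ∈ H)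
    (j u : ℕ) (hu : u < M) (h : dp_q_86 j u = true) : Good (fa g) T MG M (cP g H) Lt.q u := by
  unfold dp_q_86 at h
  rcases brec_true h with h | h
  · exact lF_good (T := T) (x := Lt.q) (by decide) [Lt.yi, Lt.q, Lt.y, Lt.y, Lt.q, Lt.y, Lt.y, Lt.y, Lt.q, Lt.yi, Lt.q, Lt.yi, Lt.q, Lt.yi, Lt.yi] (H9.TCY.hole_at hinv hr 31 8 true (by decide +kernel)) h
  · exact lF_good (T := T) (x := Lt.q) (by decide) [Lt.yi, Lt.z, Lt.yi, Lt.z, Lt.y, Lt.z, Lt.yi, Lt.yi, Lt.q, Lt.yi, Lt.yi, Lt.z, Lt.y, Lt.z, Lt.yi, Lt.z, Lt.yi] (H9.TCY.hole_at hinv hr 41 12 false (by decide +kernel)) h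
theorem dp_q_87_s (hinv : ∀ x, g (inv x) = (g x)⁻¹) (hr : ∀ r ∈ rels, (r.map g).prod = 1) (hH : ∀ r ∈ subs, (r.map g).prod ∈ H)
    (j u : ℕ) (hu : u < M) (h : dp_q_87 j u = true) : Good (fa g) T MG M (cP g H) Lt.q u := by
  unfold dp_q_87 at h
  rcases brec_true h with h | h
  · exact lF_good (T := T) (x := Lt.q) (by decide) [Lt.y, Lt.z, Lt.yi, Lt.q, Lt.z, Lt.yi, Lt.yi, Lt.z, Lt.q, Lt.yi, Lt.z, Lt.y, Lt.q, Lt.z, Lt.y, Lt.y, Lt.z] (H9.TCY.hole_at hinv hr 37 13 false (by decide +kernel)) h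
  · exact dp_q_86_s hinv hr hH j u hu h
theorem dp_q_88_s (hinv : ∀ x, g (inv x) = (g x)⁻¹) (hr : ∀ r ∈ rels, (r.map g).prod = 1) (hH : ∀ r ∈ subs, (r.map g).prod ∈ H)
    (j u : ℕ) (hu : u < M) (h : dp_q_88 j u = true) : Good (fa g) T MG M (cP g H) Lt.q u := by
  unfold dp_q_88 at h
  rcases brec_true h with h | h
  · exact lF_good (T := T) (x := Lt.q) (by decide) [Lt.yi, Lt.yi, Lt.z, Lt.y, Lt.z, Lt.yi, Lt.z, Lt.yi, Lt.q, Lt.yi, Lt.z, Lt.yi, Lt.z, Lt.y, Lt.z, Lt.yi, Lt.yi] (H9.TCY.hole_at hinv hr 41 3 false (by decide +kernel)) h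
  · exact lF_good (T := T) (x := Lt.q) (by decide) [Lt.z, Lt.y, Lt.z, Lt.q, Lt.yi, Lt.q, Lt.y, Lt.z, Lt.q, Lt.yi, Lt.q, Lt.z, Lt.y, Lt.q, Lt.yi] (H9.TCY.hole_at hinv hr 23 9 true (by decide +kernel)) h
theorem dp_q_89_s (hinv : ∀ x, g (inv x) = (g x)⁻¹) (hr : ∀ r ∈ rels, (r.map g).prod = 1) (hH : ∀ r ∈ subs, (r.map g).prod ∈ H)
    (j u : ℕ) (hu : u < M) (h : dp_q_89 j u = true) : Good (fa g) T MG M (cP g H) Lt.q u := by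
  unfold dp_q_89 at h
  rcases brec_true h with h | h
  · exact lS_good (T := T) (x := Lt.q) (by decide) hu [Lt.z, Lt.y, Lt.q, Lt.yi, Lt.q, Lt.z, Lt.y, Lt.z, Lt.q, Lt.yi, Lt.q, Lt.y, Lt.z, Lt.q, Lt.yi] (H9.TCY.hole_at hinv hr 23 4 true (by decide +kernel)) h
  · exact lF_good (T := T) (x := Lt.q) (by decide) [Lt.z, Lt.y, Lt.y, Lt.z, Lt.q, Lt.y, Lt.z, Lt.yi, Lt.q, Lt.z, Lt.yi, Lt.yi, Lt.z, Lt.q, Lt.yi, Lt.z, Lt.y] (H9.TCY.hole_at hinv hr 37 8 false (by decide +kernel)) h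
theorem dp_q_90_s (hinv : ∀ x, g (inv x) = (g x)⁻¹) (hr : ∀ r ∈ rels, (r.map g).prod = 1) (hH : ∀ r ∈ subs, (r.map g).prod ∈ H)
    (j u : ℕ) (hu : u < M) (h : dp_q_90 j u = true) : Good (fa g) T MG M (cP g H) Lt.q u := by
  unfold dp_q_90 at h
  rcases brec_true h with h | h
  · exact dp_q_88_s hinv hr hH j u hu h
  · exact dp_q_89_s hinv hr hH j u hu h
theorem dp_q_91_s (hinv : ∀ x, g (inv x) = (g x)⁻¹) (hr : ∀ r ∈ rels, (r.map g).prod = 1) (hH : ∀ r ∈ subs, (r.map g).prod ∈ H)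
    (j u : ℕ) (hu : u < M) (h : dp_q_91 j u = true) : Good (fa g) T MG M (cP g H) Lt.q u := by
  unfold dp_q_91 at h
  rcases brec_true h with h | h
  · exact dp_q_87_s hinv hr hH j u hu h
  · exact dp_q_90_s hinv hr hH j u hu h
theorem dp_q_92_s (hinv : ∀ x, g (inv x) = (g x)⁻¹) (hr : ∀ r ∈ rels, (r.map g).prod = 1) (hH : ∀ r ∈ subs, (r.map g).prod ∈ H)
    (j u : ℕ) (hu : u < M) (h : dp_q_92 j u = true) : Good (fa g) T MG M (cP g H) Lt.q u := by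
  unfold dp_q_92 at h
  rcases brec_true h with h | h
  · exact lS_good (T := T) (x := Lt.q) (by decide) hu [Lt.y, Lt.q, Lt.yi, Lt.z, Lt.q, Lt.y, Lt.q, Lt.z, Lt.yi, Lt.q, Lt.y, Lt.q, Lt.z, Lt.yi, Lt.z] (H9.TCY.hole_at hinv hr 23 8 false (by decide +kernel)) h
  · exact lF_good (T := T) (x := Lt.q) (by decide) [Lt.y, Lt.q, Lt.y, Lt.q, Lt.yi, Lt.yi, Lt.yi, Lt.q, Lt.yi, Lt.yi, Lt.q, Lt.y, Lt.q, Lt.y, Lt.y] (H9.TCY.hole_at hinv hr 31 12 false (by decide +kernel)) h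
theorem dp_q_93_s (hinv : ∀ x, g (inv x) = (g x)⁻¹) (hr : ∀ r ∈ rels, (r.map g).prod = 1) (hH : ∀ r ∈ subs, (r.map g).prod ∈ H)
    (j u : ℕ) (hu : u < M) (h : dp_q_93 j u = true) : Good (fa g) T MG M (cP g H) Lt.q u := by
  unfold dp_q_93 at h
  rcases brec_true h with h | h
  · exact lS_good (T := T) (x := Lt.q) (by decide) hu [Lt.yi, Lt.yi, Lt.q, Lt.z, Lt.yi, Lt.z, Lt.y, Lt.z, Lt.q, Lt.y, Lt.y, Lt.q, Lt.z, Lt.y, Lt.z, Lt.yi, Lt.z] (H9.TCY.hole_at hinv hr 39 0 false (by decide +kernel)) h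
  · exact dp_q_92_s hinv hr hH j u hu h
theorem dp_q_94_s (hinv : ∀ x, g (inv x) = (g x)⁻¹) (hr : ∀ r ∈ rels, (r.map g).prod = 1) (hH : ∀ r ∈ subs, (r.map g).prod ∈ H)
    (j u : ℕ) (hu : u < M) (h : dp_q_94 j u = true) : Good (fa g) T MG M (cP g H) Lt.q u := by
  unfold dp_q_94 at h
  rcases brec_true h with h | h
  · exact lS_good (T := T) (x := Lt.q) (by decide) hu [Lt.y, Lt.y, Lt.q, Lt.z, Lt.y, Lt.z, Lt.yi, Lt.z, Lt.q, Lt.yi, Lt.yi, Lt.q, Lt.z, Lt.yi, Lt.z, Lt.y, Lt.z] (H9.TCY.hole_at hinv hr 39 9 false (by decide +kernel)) h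
  · exact lF_good (T := T) (x := Lt.q) (by decide) [Lt.z, Lt.yi, Lt.q, Lt.z, Lt.y, Lt.z, Lt.yi, Lt.z, Lt.q, Lt.y, Lt.z, Lt.q, Lt.yi, Lt.z, Lt.y] (H9.TCY.hole_at hinv hr 27 15 false (by decide +kernel)) h
theorem dp_q_95_s (hinv : ∀ x, g (inv x) = (g x)⁻¹) (hr : ∀ r ∈ rels, (r.map g).prod = 1) (hH : ∀ r ∈ subs, (r.map g).prod ∈ H)
    (j u : ℕ) (hu : u < M) (h : dp_q_95 j u = true) : Good (fa g) T MG M (cP g H) Lt.q u := by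
  unfold dp_q_95 at h
  rcases brec_true h with h | h
  · exact lF_good (T := T) (x := Lt.q) (by decide) [Lt.yi, Lt.q, Lt.yi, Lt.z, Lt.q, Lt.z, Lt.yi, Lt.q, Lt.yi, Lt.q, Lt.yi, Lt.z, Lt.q, Lt.z, Lt.yi] (H9.TCY.hole_at hinv hr 35 2 false (by decide +kernel)) h
  · exact lF_good (T := T) (x := Lt.q) (by decide) [Lt.y, Lt.y, Lt.y, Lt.q, Lt.yi, Lt.q, Lt.yi, Lt.q, Lt.yi, Lt.yi, Lt.q, Lt.yi, Lt.q, Lt.y, Lt.y] (H9.TCY.hole_at hinv hr 31 13 true (by decide +kernel)) h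
theorem dp_q_96_s (hinv : ∀ x, g (inv x) = (g x)⁻¹) (hr : ∀ r ∈ rels, (r.map g).prod = 1) (hH : ∀ r ∈ subs, (r.map g).prod ∈ H)
    (j u : ℕ) (hu : u < M) (h : dp_q_96 j u = true) : Good (fa g) T MG M (cP g H) Lt.q u := by
  unfold dp_q_96 at h
  rcases brec_true h with h | h
  · exact dp_q_94_s hinv hr hH j u hu h
  · exact dp_q_95_s hinv hr hH j u hu h
theorem dp_q_97_s (hinv : ∀ x, g (inv x) = (g x)⁻¹) (hr : ∀ r ∈ rels, (r.map g).prod = 1) (hH : ∀ r ∈ subs, (r.map g).prod ∈ H)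
    (j u : ℕ) (hu : u < M) (h : dp_q_97 j u = true) : Good (fa g) T MG M (cP g H) Lt.q u := by
  unfold dp_q_97 at h
  rcases brec_true h with h | h
  · exact dp_q_93_s hinv hr hH j u hu h
  · exact dp_q_96_s hinv hr hH j u hu h
theorem dp_q_98_s (hinv : ∀ x, g (inv x) = (g x)⁻¹) (hr : ∀ r ∈ rels, (r.map g).prod = 1) (hH : ∀ r ∈ subs, (r.map g).prod ∈ H)
    (j u : ℕ) (hu : u < M) (h : dp_q_98 j u = true) : Good (fa g) T MG M (cP g H) Lt.q u := by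
  unfold dp_q_98 at h
  rcases brec_true h with h | h
  · exact dp_q_91_s hinv hr hH j u hu h
  · exact dp_q_97_s hinv hr hH j u hu h
theorem dp_q_99_s (hinv : ∀ x, g (inv x) = (g x)⁻¹) (hr : ∀ r ∈ rels, (r.map g).prod = 1) (hH : ∀ r ∈ subs, (r.map g).prod ∈ H)
    (j u : ℕ) (hu : u < M) (h : dp_q_99 j u = true) : Good (fa g) T MG M (cP g H) Lt.q u := by
  unfold dp_q_99 at h
  rcases brec_true h with h | h
  · exact dp_q_85_s hinv hr hH j u hu h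
  · exact dp_q_98_s hinv hr hH j u hu h
theorem dp_q_100_s (hinv : ∀ x, g (inv x) = (g x)⁻¹) (hr : ∀ r ∈ rels, (r.map g).prod = 1) (hH : ∀ r ∈ subs, (r.map g).prod ∈ H)
    (j u : ℕ) (hu : u < M) (h : dp_q_100 j u = true) : Good (fa g) T MG M (cP g H) Lt.q u := by
  unfold dp_q_100 at h
  rcases brec_true h with h | h
  · exact lF_good (T := T) (x := Lt.q) (by decide) [Lt.y, Lt.q, Lt.y, Lt.z, Lt.q, Lt.z, Lt.y, Lt.q, Lt.y, Lt.q, Lt.y, Lt.z, Lt.q, Lt.z, Lt.y] (H9.TCY.hole_at hinv hr 35 5 true (by decide +kernel)) h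
  · exact lF_good (T := T) (x := Lt.q) (by decide) [Lt.z, Lt.y, Lt.z, Lt.q, Lt.yi, Lt.z, Lt.y, Lt.z, Lt.q, Lt.yi, Lt.q, Lt.z, Lt.y, Lt.z, Lt.yi] (H9.TCY.hole_at hinv hr 28 7 false (by decide +kernel)) h
theorem dp_q_101_s (hinv : ∀ x, g (inv x) = (g x)⁻¹) (hr : ∀ r ∈ rels, (r.map g).prod = 1) (hH : ∀ r ∈ subs, (r.map g).prod ∈ H)
    (j u : ℕ) (hu : u < M) (h : dp_q_101 j u = true) : Good (fa g) T MG M (cP g H) Lt.q u := by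
  unfold dp_q_101 at h
  rcases brec_true h with h | h
  · exact lS_good (T := T) (x := Lt.q) (by decide) hu [Lt.yi, Lt.z, Lt.yi, Lt.z, Lt.y, Lt.z, Lt.yi, Lt.yi, Lt.q, Lt.yi, Lt.yi, Lt.z, Lt.y, Lt.z, Lt.yi, Lt.z, Lt.yi] (H9.TCY.hole_at hinv hr 41 12 false (by decide +kernel)) h
  · exact lF_good (T := T) (x := Lt.q) (by decide) [Lt.y, Lt.z, Lt.yi, Lt.z, Lt.q, Lt.y, Lt.q, Lt.z, Lt.yi, Lt.z, Lt.y, Lt.q, Lt.z, Lt.yi, Lt.z] (H9.TCY.hole_at hinv hr 28 10 true (by decide +kernel)) h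
theorem dp_q_102_s (hinv : ∀ x, g (inv x) = (g x)⁻¹) (hr : ∀ r ∈ rels, (r.map g).prod = 1) (hH : ∀ r ∈ subs, (r.map g).prod ∈ H)
    (j u : ℕ) (hu : u < M) (h : dp_q_102 j u = true) : Good (fa g) T MG M (cP g H) Lt.q u := by
  unfold dp_q_102 at h
  rcases brec_true h with h | h
  · exact dp_q_100_s hinv hr hH j u hu h
  · exact dp_q_101_s hinv hr hH j u hu h
theorem dp_q_103_s (hinv : ∀ x, g (inv x) = (g x)⁻¹) (hr : ∀ r ∈ rels, (r.map g).prod = 1) (hH : ∀ r ∈ subs, (r.map g).prod ∈ H)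
    (j u : ℕ) (hu : u < M) (h : dp_q_103 j u = true) : Good (fa g) T MG M (cP g H) Lt.q u := by
  unfold dp_q_103 at h
  rcases brec_true h with h | h
  · exact lF_good (T := T) (x := Lt.q) (by decide) [Lt.y, Lt.q, Lt.yi, Lt.yi, Lt.q, Lt.yi, Lt.yi, Lt.yi, Lt.q, Lt.y, Lt.q, Lt.y, Lt.q, Lt.y, Lt.y] (H9.TCY.hole_at hinv hr 32 11 false (by decide +kernel)) h
  · exact lS_good (T := T) (x := Lt.q) (by decide) hu [Lt.z, Lt.yi, Lt.q, Lt.y, Lt.q, Lt.z, Lt.yi, Lt.z, Lt.q, Lt.y, Lt.q, Lt.yi, Lt.z, Lt.q, Lt.y] (H9.TCY.hole_at hinv hr 23 15 false (by decide +kernel)) h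
theorem dp_q_104_s (hinv : ∀ x, g (inv x) = (g x)⁻¹) (hr : ∀ r ∈ rels, (r.map g).prod = 1) (hH : ∀ r ∈ subs, (r.map g).prod ∈ H)
    (j u : ℕ) (hu : u < M) (h : dp_q_104 j u = true) : Good (fa g) T MG M (cP g H) Lt.q u := by
  unfold dp_q_104 at h
  rcases brec_true h with h | h
  · exact lS_good (T := T) (x := Lt.q) (by decide) hu [Lt.v, Lt.q, Lt.z, Lt.v, Lt.z, Lt.q, Lt.z, Lt.q, Lt.v, Lt.z] (H9.TCY.hole_at hinv hr 11 9 true (by decide +kernel)) h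
  · exact lS_good (T := T) (x := Lt.q) (by decide) hu [Lt.yi, Lt.yi, Lt.z, Lt.y, Lt.z, Lt.yi, Lt.z, Lt.yi, Lt.q, Lt.yi, Lt.z, Lt.yi, Lt.z, Lt.y, Lt.z, Lt.yi, Lt.yi] (H9.TCY.hole_at hinv hr 41 3 false (by decide +kernel)) h
theorem dp_q_105_s (hinv : ∀ x, g (inv x) = (g x)⁻¹) (hr : ∀ r ∈ rels, (r.map g).prod = 1) (hH : ∀ r ∈ subs, (r.map g).prod ∈ H)
    (j u : ℕ) (hu : u < M) (h : dp_q_105 j u = true) : Good (fa g) T MG M (cP g H) Lt.q u := by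
  unfold dp_q_105 at h
  rcases brec_true h with h | h
  · exact lF_good (T := T) (x := Lt.q) (by decide) [Lt.yi, Lt.yi, Lt.q, Lt.yi, Lt.q, Lt.y, Lt.y, Lt.q, Lt.y, Lt.y, Lt.y, Lt.q, Lt.yi, Lt.q, Lt.yi] (H9.TCY.hole_at hinv hr 31 5 true (by decide +kernel)) h
  · exact dp_q_104_s hinv hr hH j u hu h
theorem dp_q_106_s (hinv : ∀ x, g (inv x) = (g x)⁻¹) (hr : ∀ r ∈ rels, (r.map g).prod = 1) (hH : ∀ r ∈ subs, (r.map g).prod ∈ H)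
    (j u : ℕ) (hu : u < M) (h : dp_q_106 j u = true) : Good (fa g) T MG M (cP g H) Lt.q u := by
  unfold dp_q_106 at h
  rcases brec_true h with h | h
  · exact dp_q_103_s hinv hr hH j u hu h
  · exact dp_q_105_s hinv hr hH j u hu h
theorem dp_q_107_s (hinv : ∀ x, g (inv x) = (g x)⁻¹) (hr : ∀ r ∈ rels, (r.map g).prod = 1) (hH : ∀ r ∈ subs, (r.map g).prod ∈ H)
    (j u : ℕ) (hu : u < M) (h : dp_q_107 j u = true) : Good (fa g) T MG M (cP g H) Lt.q u := by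
  unfold dp_q_107 at h
  rcases brec_true h with h | h
  · exact dp_q_102_s hinv hr hH j u hu h
  · exact dp_q_106_s hinv hr hH j u hu h
theorem dp_q_108_s (hinv : ∀ x, g (inv x) = (g x)⁻¹) (hr : ∀ r ∈ rels, (r.map g).prod = 1) (hH : ∀ r ∈ subs, (r.map g).prod ∈ H)
    (j u : ℕ) (hu : u < M) (h : dp_q_108 j u = true) : Good (fa g) T MG M (cP g H) Lt.q u := by
  unfold dp_q_108 at h
  rcases brec_true h with h | h
  · exact lS_good (T := T) (x := Lt.q) (by decide) hu [Lt.yi, Lt.yi, Lt.yi, Lt.q, Lt.yi, Lt.yi, Lt.yi, Lt.q, Lt.yi, Lt.yi, Lt.yi, Lt.q, Lt.y, Lt.y, Lt.y] (H9.TCY.hole_at hinv hr 30 0 false (by decide +kernel)) h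
  · exact lF_good (T := T) (x := Lt.q) (by decide) [Lt.y, Lt.y, Lt.z, Lt.yi, Lt.z, Lt.y, Lt.z, Lt.y, Lt.q, Lt.y, Lt.z, Lt.y, Lt.z, Lt.yi, Lt.z, Lt.y, Lt.y] (H9.TCY.hole_at hinv hr 41 16 true (by decide +kernel)) h
theorem dp_q_109_s (hinv : ∀ x, g (inv x) = (g x)⁻¹) (hr : ∀ r ∈ rels, (r.map g).prod = 1) (hH : ∀ r ∈ subs, (r.map g).prod ∈ H)
    (j u : ℕ) (hu : u < M) (h : dp_q_109 j u = true) : Good (fa g) T MG M (cP g H) Lt.q u := by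
  unfold dp_q_109 at h
  rcases brec_true h with h | h
  · exact lF_good (T := T) (x := Lt.q) (by decide) [Lt.z, Lt.y, Lt.z, Lt.yi, Lt.z, Lt.q, Lt.y, Lt.z, Lt.q, Lt.yi, Lt.z, Lt.y, Lt.q, Lt.z, Lt.yi] (H9.TCY.hole_at hinv hr 27 2 false (by decide +kernel)) h
  · exact lS_good (T := T) (x := Lt.q) (by decide) hu [Lt.y, Lt.z, Lt.yi, Lt.q, Lt.z, Lt.yi, Lt.yi, Lt.z, Lt.q, Lt.yi, Lt.z, Lt.y, Lt.q, Lt.z, Lt.y, Lt.y, Lt.z] (H9.TCY.hole_at hinv hr 37 13 false (by decide +kernel)) h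
theorem dp_q_110_s (hinv : ∀ x, g (inv x) = (g x)⁻¹) (hr : ∀ r ∈ rels, (r.map g).prod = 1) (hH : ∀ r ∈ subs, (r.map g).prod ∈ H)
    (j u : ℕ) (hu : u < M) (h : dp_q_110 j u = true) : Good (fa g) T MG M (cP g H) Lt.q u := by
  unfold dp_q_110 at h
  rcases brec_true h with h | h
  · exact dp_q_108_s hinv hr hH j u hu h
  · exact dp_q_109_s hinv hr hH j u hu h
theorem dp_q_111_s (hinv : ∀ x, g (inv x) = (g x)⁻¹) (hr : ∀ r ∈ rels, (r.map g).prod = 1) (hH : ∀ r ∈ subs, (r.map g).prod ∈ H)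
    (j u : ℕ) (hu : u < M) (h : dp_q_111 j u = true) : Good (fa g) T MG M (cP g H) Lt.q u := by
  unfold dp_q_111 at h
  rcases brec_true h with h | h
  · exact lF_good (T := T) (x := Lt.q) (by decide) [Lt.z, Lt.q, Lt.yi, Lt.q, Lt.y, Lt.z, Lt.yi, Lt.q, Lt.z, Lt.q, Lt.y, Lt.q, Lt.yi, Lt.z, Lt.y] (H9.TCY.hole_at hinv hr 24 11 true (by decide +kernel)) h
  · exact lS_good (T := T) (x := Lt.q) (by decide) hu [Lt.z, Lt.y, Lt.z, Lt.yi, Lt.z, Lt.q, Lt.yi, Lt.yi, Lt.q, Lt.z, Lt.yi, Lt.z, Lt.y, Lt.z, Lt.q, Lt.y, Lt.y] (H9.TCY.hole_at hinv hr 39 12 false (by decide +kernel)) h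
theorem dp_q_112_s (hinv : ∀ x, g (inv x) = (g x)⁻¹) (hr : ∀ r ∈ rels, (r.map g).prod = 1) (hH : ∀ r ∈ subs, (r.map g).prod ∈ H)
    (j u : ℕ) (hu : u < M) (h : dp_q_112 j u = true) : Good (fa g) T MG M (cP g H) Lt.q u := by
  unfold dp_q_112 at h
  rcases brec_true h with h | h
  · exact lS_good (T := T) (x := Lt.q) (by decide) hu [Lt.yi, Lt.yi, Lt.yi, Lt.q, Lt.yi, Lt.yi, Lt.yi, Lt.q, Lt.y, Lt.y, Lt.y, Lt.q, Lt.yi, Lt.yi, Lt.yi] (H9.TCY.hole_at hinv hr 30 4 false (by decide +kernel)) h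
  · exact lF_good (T := T) (x := Lt.q) (by decide) [Lt.yi, Lt.q, Lt.z, Lt.y, Lt.z, Lt.yi, Lt.q, Lt.z, Lt.y, Lt.z, Lt.q, Lt.yi, Lt.z, Lt.y, Lt.z] (H9.TCY.hole_at hinv hr 28 0 false (by decide +kernel)) h
theorem dp_q_113_s (hinv : ∀ x, g (inv x) = (g x)⁻¹) (hr : ∀ r ∈ rels, (r.map g).prod = 1) (hH : ∀ r ∈ subs, (r.map g).prod ∈ H)
    (j u : ℕ) (hu : u < M) (h : dp_q_113 j u = true) : Good (fa g) T MG M (cP g H) Lt.q u := by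
  unfold dp_q_113 at h
  rcases brec_true h with h | h
  · exact lF_good (T := T) (x := Lt.q) (by decide) [Lt.y, Lt.y, Lt.y, Lt.q, Lt.yi, Lt.yi, Lt.yi, Lt.q, Lt.yi, Lt.yi, Lt.yi, Lt.q, Lt.yi, Lt.yi, Lt.yi] (H9.TCY.hole_at hinv hr 30 12 false (by decide +kernel)) h
  · exact dp_q_112_s hinv hr hH j u hu h
theorem dp_q_114_s (hinv : ∀ x, g (inv x) = (g x)⁻¹) (hr : ∀ r ∈ rels, (r.map g).prod = 1) (hH : ∀ r ∈ subs, (r.map g).prod ∈ H)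
    (j u : ℕ) (hu : u < M) (h : dp_q_114 j u = true) : Good (fa g) T MG M (cP g H) Lt.q u := by
  unfold dp_q_114 at h
  rcases brec_true h with h | h
  · exact dp_q_111_s hinv hr hH j u hu h
  · exact dp_q_113_s hinv hr hH j u hu h
theorem dp_q_115_s (hinv : ∀ x, g (inv x) = (g x)⁻¹) (hr : ∀ r ∈ rels, (r.map g).prod = 1) (hH : ∀ r ∈ subs, (r.map g).prod ∈ H)
    (j u : ℕ) (hu : u < M) (h : dp_q_115 j u = true) : Good (fa g) T MG M (cP g H) Lt.q u := by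
  unfold dp_q_115 at h
  rcases brec_true h with h | h
  · exact dp_q_110_s hinv hr hH j u hu h
  · exact dp_q_114_s hinv hr hH j u hu h
theorem dp_q_116_s (hinv : ∀ x, g (inv x) = (g x)⁻¹) (hr : ∀ r ∈ rels, (r.map g).prod = 1) (hH : ∀ r ∈ subs, (r.map g).prod ∈ H)
    (j u : ℕ) (hu : u < M) (h : dp_q_116 j u = true) : Good (fa g) T MG M (cP g H) Lt.q u := by
  unfold dp_q_116 at h
  rcases brec_true h with h | h
  · exact dp_q_107_s hinv hr hH j u hu h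
  · exact dp_q_115_s hinv hr hH j u hu h
theorem dp_q_117_s (hinv : ∀ x, g (inv x) = (g x)⁻¹) (hr : ∀ r ∈ rels, (r.map g).prod = 1) (hH : ∀ r ∈ subs, (r.map g).prod ∈ H)
    (j u : ℕ) (hu : u < M) (h : dp_q_117 j u = true) : Good (fa g) T MG M (cP g H) Lt.q u := by
  unfold dp_q_117 at h
  rcases brec_true h with h | h
  · exact lS_good (T := T) (x := Lt.q) (by decide) hu [Lt.yi, Lt.z, Lt.y, Lt.q, Lt.z, Lt.y, Lt.y, Lt.z, Lt.q, Lt.y, Lt.z, Lt.yi, Lt.q, Lt.z, Lt.yi, Lt.yi, Lt.z] (H9.TCY.hole_at hinv hr 37 4 false (by decide +kernel)) h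
  · exact lS_good (T := T) (x := Lt.q) (by decide) hu [Lt.z, Lt.yi, Lt.yi, Lt.z, Lt.q, Lt.yi, Lt.z, Lt.y, Lt.q, Lt.z, Lt.y, Lt.y, Lt.z, Lt.q, Lt.y, Lt.z, Lt.yi] (H9.TCY.hole_at hinv hr 37 17 false (by decide +kernel)) h
theorem dp_q_118_s (hinv : ∀ x, g (inv x) = (g x)⁻¹) (hr : ∀ r ∈ rels, (r.map g).prod = 1) (hH : ∀ r ∈ subs, (r.map g).prod ∈ H)
    (j u : ℕ) (hu : u < M) (h : dp_q_118 j u = true) : Good (fa g) T MG M (cP g H) Lt.q u := by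
  unfold dp_q_118 at h
  rcases brec_true h with h | h
  · exact lF_good (T := T) (x := Lt.q) (by decide) [Lt.yi, Lt.q, Lt.z, Lt.y, Lt.z, Lt.q, Lt.yi, Lt.q, Lt.y, Lt.z, Lt.q, Lt.yi, Lt.q, Lt.z, Lt.y] (H9.TCY.hole_at hinv hr 23 7 true (by decide +kernel)) h
  · exact lF_good (T := T) (x := Lt.q) (by decide) [Lt.y, Lt.q, Lt.yi, Lt.yi, Lt.yi, Lt.q, Lt.yi, Lt.yi, Lt.q, Lt.y, Lt.q, Lt.y, Lt.y, Lt.q, Lt.y] (H9.TCY.hole_at hinv hr 31 14 false (by decide +kernel)) h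
theorem dp_q_119_s (hinv : ∀ x, g (inv x) = (g x)⁻¹) (hr : ∀ r ∈ rels, (r.map g).prod = 1) (hH : ∀ r ∈ subs, (r.map g).prod ∈ H)
    (j u : ℕ) (hu : u < M) (h : dp_q_119 j u = true) : Good (fa g) T MG M (cP g H) Lt.q u := by
  unfold dp_q_119 at h
  rcases brec_true h with h | h
  · exact lF_good (T := T) (x := Lt.q) (by decide) [Lt.yi, Lt.q, Lt.yi, Lt.yi, Lt.q, Lt.yi, Lt.q, Lt.yi, Lt.q, Lt.y, Lt.y, Lt.y, Lt.q, Lt.y, Lt.y] (H9.TCY.hole_at hinv hr 32 4 true (by decide +kernel)) h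
  · exact dp_q_118_s hinv hr hH j u hu h
theorem dp_q_120_s (hinv : ∀ x, g (inv x) = (g x)⁻¹) (hr : ∀ r ∈ rels, (r.map g).prod = 1) (hH : ∀ r ∈ subs, (r.map g).prod ∈ H)
    (j u : ℕ) (hu : u < M) (h : dp_q_120 j u = true) : Good (fa g) T MG M (cP g H) Lt.q u := by
  unfold dp_q_120 at h
  rcases brec_true h with h | h
  · exact dp_q_117_s hinv hr hH j u hu h
  · exact dp_q_119_s hinv hr hH j u hu h
theorem dp_q_121_s (hinv : ∀ x, g (inv x) = (g x)⁻¹) (hr : ∀ r ∈ rels, (r.map g).prod = 1) (hH : ∀ r ∈ subs, (r.map g).prod ∈ H)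
    (j u : ℕ) (hu : u < M) (h : dp_q_121 j u = true) : Good (fa g) T MG M (cP g H) Lt.q u := by
  unfold dp_q_121 at h
  rcases brec_true h with h | h
  · exact lF_good (T := T) (x := Lt.q) (by decide) [Lt.yi, Lt.yi, Lt.yi, Lt.z, Lt.q, Lt.z, Lt.q, Lt.yi, Lt.yi, Lt.yi, Lt.z, Lt.q, Lt.z] (H9.TCY.hole_at hinv hr 21 0 false (by decide +kernel)) h
  · exact lF_good (T := T) (x := Lt.q) (by decide) [Lt.y, Lt.q, Lt.z, Lt.yi, Lt.z, Lt.q, Lt.y, Lt.q, Lt.yi, Lt.z, Lt.q, Lt.y, Lt.q, Lt.z, Lt.yi] (H9.TCY.hole_at hinv hr 23 2 false (by decide +kernel)) h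
theorem dp_q_122_s (hinv : ∀ x, g (inv x) = (g x)⁻¹) (hr : ∀ r ∈ rels, (r.map g).prod = 1) (hH : ∀ r ∈ subs, (r.map g).prod ∈ H)
    (j u : ℕ) (hu : u < M) (h : dp_q_122 j u = true) : Good (fa g) T MG M (cP g H) Lt.q u := by
  unfold dp_q_122 at h
  rcases brec_true h with h | h
  · exact lF_good (T := T) (x := Lt.q) (by decide) [Lt.yi, Lt.q, Lt.yi, Lt.yi, Lt.q, Lt.yi, Lt.q, Lt.y, Lt.y, Lt.q, Lt.y, Lt.y, Lt.y, Lt.q, Lt.yi] (H9.TCY.hole_at hinv hr 31 3 true (by decide +kernel)) h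
  · exact dp_q_121_s hinv hr hH j u hu h
theorem dp_q_123_s (hinv : ∀ x, g (inv x) = (g x)⁻¹) (hr : ∀ r ∈ rels, (r.map g).prod = 1) (hH : ∀ r ∈ subs, (r.map g).prod ∈ H)
    (j u : ℕ) (hu : u < M) (h : dp_q_123 j u = true) : Good (fa g) T MG M (cP g H) Lt.q u := by
  unfold dp_q_123 at h
  rcases brec_true h with h | h
  · exact lS_good (T := T) (x := Lt.q) (by decide) hu [Lt.z, Lt.yi, Lt.z, Lt.y, Lt.z, Lt.q, Lt.y, Lt.y, Lt.q, Lt.z, Lt.y, Lt.z, Lt.yi, Lt.z, Lt.q, Lt.yi, Lt.yi] (H9.TCY.hole_at hinv hr 39 3 false (by decide +kernel)) h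
  · exact lF_good (T := T) (x := Lt.q) (by decide) [Lt.y, Lt.y, Lt.z, Lt.q, Lt.z, Lt.yi, Lt.yi, Lt.q, Lt.y, Lt.y, Lt.z, Lt.q, Lt.z, Lt.yi, Lt.yi] (H9.TCY.hole_at hinv hr 33 3 false (by decide +kernel)) h
theorem dp_q_124_s (hinv : ∀ x, g (inv x) = (g x)⁻¹) (hr : ∀ r ∈ rels, (r.map g).prod = 1) (hH : ∀ r ∈ subs, (r.map g).prod ∈ H)
    (j u : ℕ) (hu : u < M) (h : dp_q_124 j u = true) : Good (fa g) T MG M (cP g H) Lt.q u := by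
  unfold dp_q_124 at h
  rcases brec_true h with h | h
  · exact lF_good (T := T) (x := Lt.q) (by decide) [Lt.z, Lt.q, Lt.y, Lt.q, Lt.yi, Lt.z, Lt.y, Lt.q, Lt.z, Lt.q, Lt.yi, Lt.q, Lt.y, Lt.z, Lt.yi] (H9.TCY.hole_at hinv hr 24 3 true (by decide +kernel)) h
  · exact dp_q_123_s hinv hr hH j u hu h
theorem dp_q_125_s (hinv : ∀ x, g (inv x) = (g x)⁻¹) (hr : ∀ r ∈ rels, (r.map g).prod = 1) (hH : ∀ r ∈ subs, (r.map g).prod ∈ H)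
    (j u : ℕ) (hu : u < M) (h : dp_q_125 j u = true) : Good (fa g) T MG M (cP g H) Lt.q u := by
  unfold dp_q_125 at h
  rcases brec_true h with h | h
  · exact dp_q_122_s hinv hr hH j u hu h
  · exact dp_q_124_s hinv hr hH j u hu h
theorem dp_q_126_s (hinv : ∀ x, g (inv x) = (g x)⁻¹) (hr : ∀ r ∈ rels, (r.map g).prod = 1) (hH : ∀ r ∈ subs, (r.map g).prod ∈ H)
    (j u : ℕ) (hu : u < M) (h : dp_q_126 j u = true) : Good (fa g) T MG M (cP g H) Lt.q u := by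
  unfold dp_q_126 at h
  rcases brec_true h with h | h
  · exact dp_q_120_s hinv hr hH j u hu h
  · exact dp_q_125_s hinv hr hH j u hu h
theorem dp_q_127_s (hinv : ∀ x, g (inv x) = (g x)⁻¹) (hr : ∀ r ∈ rels, (r.map g).prod = 1) (hH : ∀ r ∈ subs, (r.map g).prod ∈ H)
    (j u : ℕ) (hu : u < M) (h : dp_q_127 j u = true) : Good (fa g) T MG M (cP g H) Lt.q u := by
  unfold dp_q_127 at h
  rcases brec_true h with h | h
  · exact lF_good (T := T) (x := Lt.q) (by decide) [Lt.z, Lt.q, Lt.z, Lt.yi, Lt.z, Lt.q, Lt.z, Lt.q, Lt.v, Lt.y, Lt.v] (H9.TCY.hole_at hinv hr 13 2 false (by decide +kernel)) h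
  · exact lS_good (T := T) (x := Lt.q) (by decide) hu [Lt.z, Lt.yi, Lt.z, Lt.q, Lt.y, Lt.q, Lt.yi, Lt.z, Lt.q, Lt.y, Lt.q, Lt.z, Lt.yi, Lt.q, Lt.y] (H9.TCY.hole_at hinv hr 23 4 false (by decide +kernel)) h
theorem dp_q_128_s (hinv : ∀ x, g (inv x) = (g x)⁻¹) (hr : ∀ r ∈ rels, (r.map g).prod = 1) (hH : ∀ r ∈ subs, (r.map g).prod ∈ H)
    (j u : ℕ) (hu : u < M) (h : dp_q_128 j u = true) : Good (fa g) T MG M (cP g H) Lt.q u := by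
  unfold dp_q_128 at h
  rcases brec_true h with h | h
  · exact lF_good (T := T) (x := Lt.q) (by decide) [Lt.yi, Lt.yi, Lt.yi, Lt.q, Lt.y, Lt.y, Lt.y, Lt.q, Lt.yi, Lt.yi, Lt.yi, Lt.q, Lt.yi, Lt.yi, Lt.yi] (H9.TCY.hole_at hinv hr 30 8 false (by decide +kernel)) h
  · exact lF_good (T := T) (x := Lt.q) (by decide) [Lt.yi, Lt.z, Lt.y, Lt.z, Lt.q, Lt.yi, Lt.q, Lt.z, Lt.y, Lt.z, Lt.yi, Lt.q, Lt.z, Lt.y, Lt.z] (H9.TCY.hole_at hinv hr 28 11 false (by decide +kernel)) h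
theorem dp_q_129_s (hinv : ∀ x, g (inv x) = (g x)⁻¹) (hr : ∀ r ∈ rels, (r.map g).prod = 1) (hH : ∀ r ∈ subs, (r.map g).prod ∈ H)
    (j u : ℕ) (hu : u < M) (h : dp_q_129 j u = true) : Good (fa g) T MG M (cP g H) Lt.q u := by
  unfold dp_q_129 at h
  rcases brec_true h with h | h
  · exact lS_good (T := T) (x := Lt.q) (by decide) hu [Lt.z, Lt.y, Lt.y, Lt.z, Lt.q, Lt.y, Lt.z, Lt.yi, Lt.q, Lt.z, Lt.yi, Lt.yi, Lt.z, Lt.q, Lt.yi, Lt.z, Lt.y] (H9.TCY.hole_at hinv hr 37 8 false (by decide +kernel)) h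
  · exact dp_q_128_s hinv hr hH j u hu h
theorem dp_q_130_s (hinv : ∀ x, g (inv x) = (g x)⁻¹) (hr : ∀ r ∈ rels, (r.map g).prod = 1) (hH : ∀ r ∈ subs, (r.map g).prod ∈ H)
    (j u : ℕ) (hu : u < M) (h : dp_q_130 j u = true) : Good (fa g) T MG M (cP g H) Lt.q u := by
  unfold dp_q_130 at h
  rcases brec_true h with h | h
  · exact dp_q_127_s hinv hr hH j u hu h
  · exact dp_q_129_s hinv hr hH j u hu h
theorem dp_q_131_s (hinv : ∀ x, g (inv x) = (g x)⁻¹) (hr : ∀ r ∈ rels, (r.map g).prod = 1) (hH : ∀ r ∈ subs, (r.map g).prod ∈ H)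
    (j u : ℕ) (hu : u < M) (h : dp_q_131 j u = true) : Good (fa g) T MG M (cP g H) Lt.q u := by
  unfold dp_q_131 at h
  rcases brec_true h with h | h
  · exact lF_good (T := T) (x := Lt.q) (by decide) [Lt.y, Lt.q, Lt.y, Lt.y, Lt.q, Lt.y, Lt.q, Lt.y, Lt.q, Lt.yi, Lt.yi, Lt.yi, Lt.q, Lt.yi, Lt.yi] (H9.TCY.hole_at hinv hr 31 7 false (by decide +kernel)) h
  · exact lF_good (T := T) (x := Lt.q) (by decide) [Lt.yi, Lt.z, Lt.q, Lt.z, Lt.yi, Lt.q, Lt.yi, Lt.q, Lt.yi, Lt.z, Lt.q, Lt.z, Lt.yi, Lt.q, Lt.yi] (H9.TCY.hole_at hinv hr 35 4 false (by decide +kernel)) h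
theorem dp_q_132_s (hinv : ∀ x, g (inv x) = (g x)⁻¹) (hr : ∀ r ∈ rels, (r.map g).prod = 1) (hH : ∀ r ∈ subs, (r.map g).prod ∈ H)
    (j u : ℕ) (hu : u < M) (h : dp_q_132 j u = true) : Good (fa g) T MG M (cP g H) Lt.q u := by
  unfold dp_q_132 at h
  rcases brec_true h with h | h
  · exact lF_good (T := T) (x := Lt.q) (by decide) [Lt.yi, Lt.z, Lt.q, Lt.y, Lt.q, Lt.z, Lt.yi, Lt.q, Lt.y, Lt.q, Lt.z, Lt.yi, Lt.z, Lt.q, Lt.y] (H9.TCY.hole_at hinv hr 23 10 false (by decide +kernel)) h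
  · exact dp_q_131_s hinv hr hH j u hu h
theorem dp_q_133_s (hinv : ∀ x, g (inv x) = (g x)⁻¹) (hr : ∀ r ∈ rels, (r.map g).prod = 1) (hH : ∀ r ∈ subs, (r.map g).prod ∈ H)
    (j u : ℕ) (hu : u < M) (h : dp_q_133 j u = true) : Good (fa g) T MG M (cP g H) Lt.q u := by
  unfold dp_q_133 at h
  rcases brec_true h with h | h
  · exact lF_good (T := T) (x := Lt.q) (by decide) [Lt.yi, Lt.yi, Lt.z, Lt.q, Lt.z, Lt.y, Lt.y, Lt.q, Lt.yi, Lt.yi, Lt.z, Lt.q, Lt.z, Lt.y, Lt.y] (H9.TCY.hole_at hinv hr 34 0 false (by decide +kernel)) h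
  · exact lF_good (T := T) (x := Lt.q) (by decide) [Lt.yi, Lt.yi, Lt.yi, Lt.q, Lt.y, Lt.q, Lt.y, Lt.q, Lt.y, Lt.y, Lt.q, Lt.y, Lt.q, Lt.yi, Lt.yi] (H9.TCY.hole_at hinv hr 32 0 false (by decide +kernel)) h
theorem dp_q_134_s (hinv : ∀ x, g (inv x) = (g x)⁻¹) (hr : ∀ r ∈ rels, (r.map g).prod = 1) (hH : ∀ r ∈ subs, (r.map g).prod ∈ H)
    (j u : ℕ) (hu : u < M) (h : dp_q_134 j u = true) : Good (fa g) T MG M (cP g H) Lt.q u := by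
  unfold dp_q_134 at h
  rcases brec_true h with h | h
  · exact lF_good (T := T) (x := Lt.q) (by decide) [Lt.yi, Lt.z, Lt.q, Lt.y, Lt.z, Lt.yi, Lt.q, Lt.z, Lt.y, Lt.q, Lt.z, Lt.yi, Lt.z, Lt.y, Lt.z] (H9.TCY.hole_at hinv hr 36 11 false (by decide +kernel)) h
  · exact dp_q_133_s hinv hr hH j u hu h
theorem dp_q_135_s (hinv : ∀ x, g (inv x) = (g x)⁻¹) (hr : ∀ r ∈ rels, (r.map g).prod = 1) (hH : ∀ r ∈ subs, (r.map g).prod ∈ H)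
    (j u : ℕ) (hu : u < M) (h : dp_q_135 j u = true) : Good (fa g) T MG M (cP g H) Lt.q u := by
  unfold dp_q_135 at h
  rcases brec_true h with h | h
  · exact dp_q_132_s hinv hr hH j u hu h
  · exact dp_q_134_s hinv hr hH j u hu h
theorem dp_q_136_s (hinv : ∀ x, g (inv x) = (g x)⁻¹) (hr : ∀ r ∈ rels, (r.map g).prod = 1) (hH : ∀ r ∈ subs, (r.map g).prod ∈ H)
    (j u : ℕ) (hu : u < M) (h : dp_q_136 j u = true) : Good (fa g) T MG M (cP g H) Lt.q u := by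
  unfold dp_q_136 at h
  rcases brec_true h with h | h
  · exact dp_q_130_s hinv hr hH j u hu h
  · exact dp_q_135_s hinv hr hH j u hu h
theorem dp_q_137_s (hinv : ∀ x, g (inv x) = (g x)⁻¹) (hr : ∀ r ∈ rels, (r.map g).prod = 1) (hH : ∀ r ∈ subs, (r.map g).prod ∈ H)
    (j u : ℕ) (hu : u < M) (h : dp_q_137 j u = true) : Good (fa g) T MG M (cP g H) Lt.q u := by
  unfold dp_q_137 at h
  rcases brec_true h with h | h
  · exact dp_q_126_s hinv hr hH j u hu h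
  · exact dp_q_136_s hinv hr hH j u hu h
theorem dp_q_138_s (hinv : ∀ x, g (inv x) = (g x)⁻¹) (hr : ∀ r ∈ rels, (r.map g).prod = 1) (hH : ∀ r ∈ subs, (r.map g).prod ∈ H)
    (j u : ℕ) (hu : u < M) (h : dp_q_138 j u = true) : Good (fa g) T MG M (cP g H) Lt.q u := by
  unfold dp_q_138 at h
  rcases brec_true h with h | h
  · exact dp_q_116_s hinv hr hH j u hu h
  · exact dp_q_137_s hinv hr hH j u hu h
theorem dp_q_139_s (hinv : ∀ x, g (inv x) = (g x)⁻¹) (hr : ∀ r ∈ rels, (r.map g).prod = 1) (hH : ∀ r ∈ subs, (r.map g).prod ∈ H)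
    (j u : ℕ) (hu : u < M) (h : dp_q_139 j u = true) : Good (fa g) T MG M (cP g H) Lt.q u := by
  unfold dp_q_139 at h
  rcases brec_true h with h | h
  · exact dp_q_99_s hinv hr hH j u hu h
  · exact dp_q_138_s hinv hr hH j u hu h
theorem dp_q_140_s (hinv : ∀ x, g (inv x) = (g x)⁻¹) (hr : ∀ r ∈ rels, (r.map g).prod = 1) (hH : ∀ r ∈ subs, (r.map g).prod ∈ H)
    (j u : ℕ) (hu : u < M) (h : dp_q_140 j u = true) : Good (fa g) T MG M (cP g H) Lt.q u := by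
  unfold dp_q_140 at h
  rcases brec_true h with h | h
  · exact lS_good (T := T) (x := Lt.q) (by decide) hu [Lt.y, Lt.y, Lt.z, Lt.yi, Lt.z, Lt.y, Lt.z, Lt.y, Lt.q, Lt.y, Lt.z, Lt.y, Lt.z, Lt.yi, Lt.z, Lt.y, Lt.y] (H9.TCY.hole_at hinv hr 41 16 true (by decide +kernel)) h
  · exact lS_good (T := T) (x := Lt.q) (by decide) hu [Lt.y, Lt.y, Lt.q, Lt.y, Lt.q, Lt.y, Lt.q, Lt.yi, Lt.yi, Lt.yi, Lt.q, Lt.yi, Lt.yi, Lt.q, Lt.y] (H9.TCY.hole_at hinv hr 31 9 false (by decide +kernel)) h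
theorem dp_q_141_s (hinv : ∀ x, g (inv x) = (g x)⁻¹) (hr : ∀ r ∈ rels, (r.map g).prod = 1) (hH : ∀ r ∈ subs, (r.map g).prod ∈ H)
    (j u : ℕ) (hu : u < M) (h : dp_q_141 j u = true) : Good (fa g) T MG M (cP g H) Lt.q u := by
  unfold dp_q_141 at h
  rcases brec_true h with h | h
  · exact lF_good (T := T) (x := Lt.q) (by decide) [Lt.yi, Lt.yi, Lt.q, Lt.yi, Lt.q, Lt.yi, Lt.q, Lt.y, Lt.y, Lt.y, Lt.q, Lt.y, Lt.y, Lt.q, Lt.yi] (H9.TCY.hole_at hinv hr 32 6 true (by decide +kernel)) h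
  · exact dp_q_140_s hinv hr hH j u hu h
theorem dp_q_142_s (hinv : ∀ x, g (inv x) = (g x)⁻¹) (hr : ∀ r ∈ rels, (r.map g).prod = 1) (hH : ∀ r ∈ subs, (r.map g).prod ∈ H)
    (j u : ℕ) (hu : u < M) (h : dp_q_142 j u = true) : Good (fa g) T MG M (cP g H) Lt.q u := by
  unfold dp_q_142 at h
  rcases brec_true h with h | h
  · exact lF_good (T := T) (x := Lt.q) (by decide) [Lt.y, Lt.z, Lt.q, Lt.y, Lt.z, Lt.q, Lt.y, Lt.z, Lt.q, Lt.y, Lt.z, Lt.q, Lt.y, Lt.z, Lt.q, Lt.y, Lt.z, Lt.q, Lt.y, Lt.z, Lt.q, Lt.y, Lt.z] (H9.TCY.hole_at hinv hr 44 2 false (by decide +kernel)) h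
  · exact lF_good (T := T) (x := Lt.q) (by decide) [Lt.y, Lt.y, Lt.y, Lt.q, Lt.yi, Lt.yi, Lt.yi, Lt.q, Lt.y, Lt.y, Lt.y, Lt.q, Lt.y, Lt.y, Lt.y] (H9.TCY.hole_at hinv hr 30 13 true (by decide +kernel)) h
theorem dp_q_143_s (hinv : ∀ x, g (inv x) = (g x)⁻¹) (hr : ∀ r ∈ rels, (r.map g).prod = 1) (hH : ∀ r ∈ subs, (r.map g).prod ∈ H)
    (j u : ℕ) (hu : u < M) (h : dp_q_143 j u = true) : Good (fa g) T MG M (cP g H) Lt.q u := by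
  unfold dp_q_143 at h
  rcases brec_true h with h | h
  · exact lF_good (T := T) (x := Lt.q) (by decide) [Lt.y, Lt.z, Lt.q, Lt.z, Lt.y, Lt.q, Lt.y, Lt.q, Lt.y, Lt.z, Lt.q, Lt.z, Lt.y, Lt.q, Lt.y] (H9.TCY.hole_at hinv hr 35 7 true (by decide +kernel)) h
  · exact dp_q_142_s hinv hr hH j u hu h
theorem dp_q_144_s (hinv : ∀ x, g (inv x) = (g x)⁻¹) (hr : ∀ r ∈ rels, (r.map g).prod = 1) (hH : ∀ r ∈ subs, (r.map g).prod ∈ H)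
    (j u : ℕ) (hu : u < M) (h : dp_q_144 j u = true) : Good (fa g) T MG M (cP g H) Lt.q u := by
  unfold dp_q_144 at h
  rcases brec_true h with h | h
  · exact dp_q_141_s hinv hr hH j u hu h
  · exact dp_q_143_s hinv hr hH j u hu h
theorem dp_q_145_s (hinv : ∀ x, g (inv x) = (g x)⁻¹) (hr : ∀ r ∈ rels, (r.map g).prod = 1) (hH : ∀ r ∈ subs, (r.map g).prod ∈ H)
    (j u : ℕ) (hu : u < M) (h : dp_q_145 j u = true) : Good (fa g) T MG M (cP g H) Lt.q u := by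
  unfold dp_q_145 at h
  rcases brec_true h with h | h
  · exact lS_good (T := T) (x := Lt.q) (by decide) hu [Lt.y, Lt.q, Lt.y, Lt.q, Lt.yi, Lt.yi, Lt.yi, Lt.q, Lt.yi, Lt.yi, Lt.q, Lt.y, Lt.q, Lt.y, Lt.y] (H9.TCY.hole_at hinv hr 31 12 false (by decide +kernel)) h
  · exact lF_good (T := T) (x := Lt.q) (by decide) [Lt.y, Lt.z, Lt.yi, Lt.q, Lt.z, Lt.y, Lt.q, Lt.z, Lt.yi, Lt.z, Lt.y, Lt.z, Lt.q, Lt.yi, Lt.z] (H9.TCY.hole_at hinv hr 36 14 false (by decide +kernel)) h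
theorem dp_q_146_s (hinv : ∀ x, g (inv x) = (g x)⁻¹) (hr : ∀ r ∈ rels, (r.map g).prod = 1) (hH : ∀ r ∈ subs, (r.map g).prod ∈ H)
    (j u : ℕ) (hu : u < M) (h : dp_q_146 j u = true) : Good (fa g) T MG M (cP g H) Lt.q u := by
  unfold dp_q_146 at h
  rcases brec_true h with h | h
  · exact lF_good (T := T) (x := Lt.q) (by decide) [Lt.z, Lt.v, Lt.z, Lt.v, Lt.z, Lt.q, Lt.z, Lt.v, Lt.q, Lt.v, Lt.q, Lt.v, Lt.z] (H9.TCY.hole_at hinv hr 20 6 false (by decide +kernel)) h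
  · exact dp_q_145_s hinv hr hH j u hu h
theorem dp_q_147_s (hinv : ∀ x, g (inv x) = (g x)⁻¹) (hr : ∀ r ∈ rels, (r.map g).prod = 1) (hH : ∀ r ∈ subs, (r.map g).prod ∈ H)
    (j u : ℕ) (hu : u < M) (h : dp_q_147 j u = true) : Good (fa g) T MG M (cP g H) Lt.q u := by
  unfold dp_q_147 at h
  rcases brec_true h with h | h
  · exact lS_good (T := T) (x := Lt.q) (by decide) hu [Lt.y, Lt.z, Lt.q, Lt.yi, Lt.z, Lt.y, Lt.q, Lt.z, Lt.yi, Lt.q, Lt.z, Lt.y, Lt.z, Lt.yi, Lt.z] (H9.TCY.hole_at hinv hr 27 8 false (by decide +kernel)) h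
  · exact lS_good (T := T) (x := Lt.q) (by decide) hu [Lt.yi, Lt.yi, Lt.q, Lt.y, Lt.q, Lt.y, Lt.y, Lt.q, Lt.y, Lt.q, Lt.y, Lt.q, Lt.yi, Lt.yi, Lt.yi] (H9.TCY.hole_at hinv hr 31 4 false (by decide +kernel)) h
theorem dp_q_148_s (hinv : ∀ x, g (inv x) = (g x)⁻¹) (hr : ∀ r ∈ rels, (r.map g).prod = 1) (hH : ∀ r ∈ subs, (r.map g).prod ∈ H)
    (j u : ℕ) (hu : u < M) (h : dp_q_148 j u = true) : Good (fa g) T MG M (cP g H) Lt.q u := by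
  unfold dp_q_148 at h
  rcases brec_true h with h | h
  · exact lF_good (T := T) (x := Lt.q) (by decide) [Lt.z, Lt.q, Lt.z, Lt.y, Lt.z, Lt.q, Lt.z, Lt.q, Lt.v, Lt.yi, Lt.v] (H9.TCY.hole_at hinv hr 13 3 true (by decide +kernel)) h
  · exact lS_good (T := T) (x := Lt.q) (by decide) hu [Lt.yi, Lt.z, Lt.y, Lt.q, Lt.z, Lt.yi, Lt.q, Lt.z, Lt.y, Lt.z, Lt.yi, Lt.z, Lt.q, Lt.y, Lt.z] (H9.TCY.hole_at hinv hr 27 11 false (by decide +kernel)) h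
theorem dp_q_149_s (hinv : ∀ x, g (inv x) = (g x)⁻¹) (hr : ∀ r ∈ rels, (r.map g).prod = 1) (hH : ∀ r ∈ subs, (r.map g).prod ∈ H)
    (j u : ℕ) (hu : u < M) (h : dp_q_149 j u = true) : Good (fa g) T MG M (cP g H) Lt.q u := by
  unfold dp_q_149 at h
  rcases brec_true h with h | h
  · exact dp_q_147_s hinv hr hH j u hu h
  · exact dp_q_148_s hinv hr hH j u hu h
theorem dp_q_150_s (hinv : ∀ x, g (inv x) = (g x)⁻¹) (hr : ∀ r ∈ rels, (r.map g).prod = 1) (hH : ∀ r ∈ subs, (r.map g).prod ∈ H)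
    (j u : ℕ) (hu : u < M) (h : dp_q_150 j u = true) : Good (fa g) T MG M (cP g H) Lt.q u := by
  unfold dp_q_150 at h
  rcases brec_true h with h | h
  · exact dp_q_146_s hinv hr hH j u hu h
  · exact dp_q_149_s hinv hr hH j u hu h
theorem dp_q_151_s (hinv : ∀ x, g (inv x) = (g x)⁻¹) (hr : ∀ r ∈ rels, (r.map g).prod = 1) (hH : ∀ r ∈ subs, (r.map g).prod ∈ H)
    (j u : ℕ) (hu : u < M) (h : dp_q_151 j u = true) : Good (fa g) T MG M (cP g H) Lt.q u := by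
  unfold dp_q_151 at h
  rcases brec_true h with h | h
  · exact dp_q_144_s hinv hr hH j u hu h
  · exact dp_q_150_s hinv hr hH j u hu h
theorem dp_q_152_s (hinv : ∀ x, g (inv x) = (g x)⁻¹) (hr : ∀ r ∈ rels, (r.map g).prod = 1) (hH : ∀ r ∈ subs, (r.map g).prod ∈ H)
    (j u : ℕ) (hu : u < M) (h : dp_q_152 j u = true) : Good (fa g) T MG M (cP g H) Lt.q u := by
  unfold dp_q_152 at h
  rcases brec_true h with h | h
  · exact lS_good (T := T) (x := Lt.q) (by decide) hu [Lt.yi, Lt.q, Lt.y, Lt.z, Lt.q, Lt.yi, Lt.q, Lt.z, Lt.y, Lt.q, Lt.yi, Lt.q, Lt.z, Lt.y, Lt.z] (H9.TCY.hole_at hinv hr 23 13 true (by decide +kernel)) h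
  · exact lS_good (T := T) (x := Lt.q) (by decide) hu [Lt.y, Lt.y, Lt.y, Lt.q, Lt.y, Lt.y, Lt.y, Lt.q, Lt.yi, Lt.yi, Lt.yi, Lt.q, Lt.y, Lt.y, Lt.y] (H9.TCY.hole_at hinv hr 30 9 true (by decide +kernel)) h
theorem dp_q_153_s (hinv : ∀ x, g (inv x) = (g x)⁻¹) (hr : ∀ r ∈ rels, (r.map g).prod = 1) (hH : ∀ r ∈ subs, (r.map g).prod ∈ H)
    (j u : ℕ) (hu : u < M) (h : dp_q_153 j u = true) : Good (fa g) T MG M (cP g H) Lt.q u := by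
  unfold dp_q_153 at h
  rcases brec_true h with h | h
  · exact lF_good (T := T) (x := Lt.q) (by decide) [Lt.z, Lt.yi, Lt.z, Lt.q, Lt.y, Lt.z, Lt.yi, Lt.z, Lt.q, Lt.y, Lt.q, Lt.z, Lt.yi, Lt.z, Lt.y] (H9.TCY.hole_at hinv hr 28 6 true (by decide +kernel)) h
  · exact dp_q_152_s hinv hr hH j u hu h
theorem dp_q_154_s (hinv : ∀ x, g (inv x) = (g x)⁻¹) (hr : ∀ r ∈ rels, (r.map g).prod = 1) (hH : ∀ r ∈ subs, (r.map g).prod ∈ H)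
    (j u : ℕ) (hu : u < M) (h : dp_q_154 j u = true) : Good (fa g) T MG M (cP g H) Lt.q u := by
  unfold dp_q_154 at h
  rcases brec_true h with h | h
  · exact lF_good (T := T) (x := Lt.q) (by decide) [Lt.v, Lt.y, Lt.v, Lt.q, Lt.z, Lt.q, Lt.z, Lt.yi, Lt.z, Lt.q, Lt.z] (H9.TCY.hole_at hinv hr 13 10 false (by decide +kernel)) h
  · exact lS_good (T := T) (x := Lt.q) (by decide) hu [Lt.z, Lt.v, Lt.z, Lt.q, Lt.v, Lt.q, Lt.z, Lt.v, Lt.q, Lt.z] (H9.TCY.hole_at hinv hr 11 8 false (by decide +kernel)) h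
theorem dp_q_155_s (hinv : ∀ x, g (inv x) = (g x)⁻¹) (hr : ∀ r ∈ rels, (r.map g).prod = 1) (hH : ∀ r ∈ subs, (r.map g).prod ∈ H)
    (j u : ℕ) (hu : u < M) (h : dp_q_155 j u = true) : Good (fa g) T MG M (cP g H) Lt.q u := by
  unfold dp_q_155 at h
  rcases brec_true h with h | h
  · exact lF_good (T := T) (x := Lt.q) (by decide) [Lt.y, Lt.q, Lt.z, Lt.q, Lt.yi, Lt.z, Lt.y, Lt.q, Lt.yi, Lt.q, Lt.z, Lt.q, Lt.y, Lt.z, Lt.yi] (H9.TCY.hole_at hinv hr 24 2 false (by decide +kernel)) h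
  · exact lF_good (T := T) (x := Lt.q) (by decide) [Lt.y, Lt.y, Lt.q, Lt.yi, Lt.q, Lt.yi, Lt.yi, Lt.q, Lt.yi, Lt.q, Lt.yi, Lt.q, Lt.y, Lt.y, Lt.y] (H9.TCY.hole_at hinv hr 32 1 true (by decide +kernel)) h
theorem dp_q_156_s (hinv : ∀ x, g (inv x) = (g x)⁻¹) (hr : ∀ r ∈ rels, (r.map g).prod = 1) (hH : ∀ r ∈ subs, (r.map g).prod ∈ H)
    (j u : ℕ) (hu : u < M) (h : dp_q_156 j u = true) : Good (fa g) T MG M (cP g H) Lt.q u := by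
  unfold dp_q_156 at h
  rcases brec_true h with h | h
  · exact dp_q_154_s hinv hr hH j u hu h
  · exact dp_q_155_s hinv hr hH j u hu h
theorem dp_q_157_s (hinv : ∀ x, g (inv x) = (g x)⁻¹) (hr : ∀ r ∈ rels, (r.map g).prod = 1) (hH : ∀ r ∈ subs, (r.map g).prod ∈ H)
    (j u : ℕ) (hu : u < M) (h : dp_q_157 j u = true) : Good (fa g) T MG M (cP g H) Lt.q u := by
  unfold dp_q_157 at h
  rcases brec_true h with h | h
  · exact dp_q_153_s hinv hr hH j u hu h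
  · exact dp_q_156_s hinv hr hH j u hu h
theorem dp_q_158_s (hinv : ∀ x, g (inv x) = (g x)⁻¹) (hr : ∀ r ∈ rels, (r.map g).prod = 1) (hH : ∀ r ∈ subs, (r.map g).prod ∈ H)
    (j u : ℕ) (hu : u < M) (h : dp_q_158 j u = true) : Good (fa g) T MG M (cP g H) Lt.q u := by
  unfold dp_q_158 at h
  rcases brec_true h with h | h
  · exact lF_good (T := T) (x := Lt.q) (by decide) [Lt.v, Lt.yi, Lt.v, Lt.q, Lt.z, Lt.q, Lt.z, Lt.y, Lt.z, Lt.q, Lt.z] (H9.TCY.hole_at hinv hr 13 11 true (by decide +kernel)) h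
  · exact lS_good (T := T) (x := Lt.q) (by decide) hu [Lt.z, Lt.y, Lt.q, Lt.yi, Lt.z, Lt.q, Lt.z, Lt.y, Lt.q, Lt.yi, Lt.z] (H9.TCY.hole_at hinv hr 15 3 false (by decide +kernel)) h
theorem dp_q_159_s (hinv : ∀ x, g (inv x) = (g x)⁻¹) (hr : ∀ r ∈ rels, (r.map g).prod = 1) (hH : ∀ r ∈ subs, (r.map g).prod ∈ H)
    (j u : ℕ) (hu : u < M) (h : dp_q_159 j u = true) : Good (fa g) T MG M (cP g H) Lt.q u := by
  unfold dp_q_159 at h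
  rcases brec_true h with h | h
  · exact lS_good (T := T) (x := Lt.q) (by decide) hu [Lt.z, Lt.y, Lt.z, Lt.q, Lt.yi, Lt.q, Lt.y, Lt.z, Lt.q, Lt.yi, Lt.q, Lt.z, Lt.y, Lt.q, Lt.yi] (H9.TCY.hole_at hinv hr 23 9 true (by decide +kernel)) h
  · exact dp_q_158_s hinv hr hH j u hu h
theorem dp_q_160_s (hinv : ∀ x, g (inv x) = (g x)⁻¹) (hr : ∀ r ∈ rels, (r.map g).prod = 1) (hH : ∀ r ∈ subs, (r.map g).prod ∈ H)
    (j u : ℕ) (hu : u < M) (h : dp_q_160 j u = true) : Good (fa g) T MG M (cP g H) Lt.q u := by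
  unfold dp_q_160 at h
  rcases brec_true h with h | h
  · exact lS_good (T := T) (x := Lt.q) (by decide) hu [Lt.z, Lt.q, Lt.z, Lt.y, Lt.y, Lt.y, Lt.q, Lt.z, Lt.q, Lt.z, Lt.y, Lt.y, Lt.y] (H9.TCY.hole_at hinv hr 21 1 true (by decide +kernel)) h
  · exact lS_good (T := T) (x := Lt.q) (by decide) hu [Lt.y, Lt.q, Lt.z, Lt.yi, Lt.z, Lt.q, Lt.y, Lt.q, Lt.yi, Lt.z, Lt.q, Lt.y, Lt.q, Lt.z, Lt.yi] (H9.TCY.hole_at hinv hr 23 2 false (by decide +kernel)) h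
theorem dp_q_161_s (hinv : ∀ x, g (inv x) = (g x)⁻¹) (hr : ∀ r ∈ rels, (r.map g).prod = 1) (hH : ∀ r ∈ subs, (r.map g).prod ∈ H)
    (j u : ℕ) (hu : u < M) (h : dp_q_161 j u = true) : Good (fa g) T MG M (cP g H) Lt.q u := by
  unfold dp_q_161 at h
  rcases brec_true h with h | h
  · exact lS_good (T := T) (x := Lt.q) (by decide) hu [Lt.z, Lt.y, Lt.z, Lt.q, Lt.yi, Lt.z, Lt.y, Lt.z, Lt.q, Lt.yi, Lt.q, Lt.z, Lt.y, Lt.z, Lt.yi] (H9.TCY.hole_at hinv hr 28 7 false (by decide +kernel)) h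
  · exact lS_good (T := T) (x := Lt.q) (by decide) hu [Lt.y, Lt.y, Lt.z, Lt.q, Lt.yi, Lt.q, Lt.z, Lt.q, Lt.y, Lt.q, Lt.z, Lt.yi, Lt.yi, Lt.q, Lt.z, Lt.yi, Lt.q, Lt.z, Lt.yi, Lt.z, Lt.y, Lt.z, Lt.q, Lt.y, Lt.z] (H9.TCY.hole_at hinv hr 46 18 false (by decide +kernel)) h
theorem dp_q_162_s (hinv : ∀ x, g (inv x) = (g x)⁻¹) (hr : ∀ r ∈ rels, (r.map g).prod = 1) (hH : ∀ r ∈ subs, (r.map g).prod ∈ H)
    (j u : ℕ) (hu : u < M) (h : dp_q_162 j u = true) : Good (fa g) T MG M (cP g H) Lt.q u := by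
  unfold dp_q_162 at h
  rcases brec_true h with h | h
  · exact dp_q_160_s hinv hr hH j u hu h
  · exact dp_q_161_s hinv hr hH j u hu h
theorem dp_q_163_s (hinv : ∀ x, g (inv x) = (g x)⁻¹) (hr : ∀ r ∈ rels, (r.map g).prod = 1) (hH : ∀ r ∈ subs, (r.map g).prod ∈ H)
    (j u : ℕ) (hu : u < M) (h : dp_q_163 j u = true) : Good (fa g) T MG M (cP g H) Lt.q u := by
  unfold dp_q_163 at h
  rcases brec_true h with h | h
  · exact dp_q_159_s hinv hr hH j u hu h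
  · exact dp_q_162_s hinv hr hH j u hu h
theorem dp_q_164_s (hinv : ∀ x, g (inv x) = (g x)⁻¹) (hr : ∀ r ∈ rels, (r.map g).prod = 1) (hH : ∀ r ∈ subs, (r.map g).prod ∈ H)
    (j u : ℕ) (hu : u < M) (h : dp_q_164 j u = true) : Good (fa g) T MG M (cP g H) Lt.q u := by
  unfold dp_q_164 at h
  rcases brec_true h with h | h
  · exact dp_q_157_s hinv hr hH j u hu h
  · exact dp_q_163_s hinv hr hH j u hu h
theorem dp_q_165_s (hinv : ∀ x, g (inv x) = (g x)⁻¹) (hr : ∀ r ∈ rels, (r.map g).prod = 1) (hH : ∀ r ∈ subs, (r.map g).prod ∈ H)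
    (j u : ℕ) (hu : u < M) (h : dp_q_165 j u = true) : Good (fa g) T MG M (cP g H) Lt.q u := by
  unfold dp_q_165 at h
  rcases brec_true h with h | h
  · exact dp_q_151_s hinv hr hH j u hu h
  · exact dp_q_164_s hinv hr hH j u hu h
theorem dp_q_166_s (hinv : ∀ x, g (inv x) = (g x)⁻¹) (hr : ∀ r ∈ rels, (r.map g).prod = 1) (hH : ∀ r ∈ subs, (r.map g).prod ∈ H)
    (j u : ℕ) (hu : u < M) (h : dp_q_166 j u = true) : Good (fa g) T MG M (cP g H) Lt.q u := by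
  unfold dp_q_166 at h
  rcases brec_true h with h | h
  · exact lF_good (T := T) (x := Lt.q) (by decide) [Lt.y, Lt.q, Lt.z, Lt.yi, Lt.z, Lt.y, Lt.q, Lt.z, Lt.yi, Lt.z, Lt.q, Lt.y, Lt.z, Lt.yi, Lt.z] (H9.TCY.hole_at hinv hr 28 15 true (by decide +kernel)) h
  · exact lF_good (T := T) (x := Lt.q) (by decide) [Lt.z, Lt.y, Lt.y, Lt.q, Lt.yi, Lt.yi, Lt.z, Lt.q, Lt.z, Lt.y, Lt.y, Lt.q, Lt.yi, Lt.yi, Lt.z] (H9.TCY.hole_at hinv hr 34 4 false (by decide +kernel)) h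
theorem dp_q_167_s (hinv : ∀ x, g (inv x) = (g x)⁻¹) (hr : ∀ r ∈ rels, (r.map g).prod = 1) (hH : ∀ r ∈ subs, (r.map g).prod ∈ H)
    (j u : ℕ) (hu : u < M) (h : dp_q_167 j u = true) : Good (fa g) T MG M (cP g H) Lt.q u := by
  unfold dp_q_167 at h
  rcases brec_true h with h | h
  · exact lF_good (T := T) (x := Lt.q) (by decide) [Lt.y, Lt.z, Lt.q, Lt.yi, Lt.q, Lt.z, Lt.y, Lt.q, Lt.yi, Lt.q, Lt.z, Lt.y, Lt.z, Lt.q, Lt.yi] (H9.TCY.hole_at hinv hr 23 15 true (by decide +kernel)) h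
  · exact lF_good (T := T) (x := Lt.q) (by decide) [Lt.z, Lt.yi, Lt.z, Lt.y, Lt.q, Lt.z, Lt.yi, Lt.z, Lt.q, Lt.y, Lt.z, Lt.yi, Lt.z, Lt.q, Lt.y] (H9.TCY.hole_at hinv hr 28 1 true (by decide +kernel)) h
theorem dp_q_168_s (hinv : ∀ x, g (inv x) = (g x)⁻¹) (hr : ∀ r ∈ rels, (r.map g).prod = 1) (hH : ∀ r ∈ subs, (r.map g).prod ∈ H)
    (j u : ℕ) (hu : u < M) (h : dp_q_168 j u = true) : Good (fa g) T MG M (cP g H) Lt.q u := by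
  unfold dp_q_168 at h
  rcases brec_true h with h | h
  · exact dp_q_166_s hinv hr hH j u hu h
  · exact dp_q_167_s hinv hr hH j u hu h
theorem dp_q_169_s (hinv : ∀ x, g (inv x) = (g x)⁻¹) (hr : ∀ r ∈ rels, (r.map g).prod = 1) (hH : ∀ r ∈ subs, (r.map g).prod ∈ H)
    (j u : ℕ) (hu : u < M) (h : dp_q_169 j u = true) : Good (fa g) T MG M (cP g H) Lt.q u := by
  unfold dp_q_169 at h
  rcases brec_true h with h | h
  · exact lS_good (T := T) (x := Lt.q) (by decide) hu [Lt.z, Lt.yi, Lt.q, Lt.y, Lt.z, Lt.q, Lt.z, Lt.yi, Lt.q, Lt.y, Lt.z] (H9.TCY.hole_at hinv hr 16 5 false (by decide +kernel)) h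
  · exact lS_good (T := T) (x := Lt.q) (by decide) hu [Lt.y, Lt.z, Lt.yi, Lt.z, Lt.q, Lt.y, Lt.q, Lt.z, Lt.yi, Lt.z, Lt.y, Lt.q, Lt.z, Lt.yi, Lt.z] (H9.TCY.hole_at hinv hr 28 10 true (by decide +kernel)) h
theorem dp_q_170_s (hinv : ∀ x, g (inv x) = (g x)⁻¹) (hr : ∀ r ∈ rels, (r.map g).prod = 1) (hH : ∀ r ∈ subs, (r.map g).prod ∈ H)
    (j u : ℕ) (hu : u < M) (h : dp_q_170 j u = true) : Good (fa g) T MG M (cP g H) Lt.q u := by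
  unfold dp_q_170 at h
  rcases brec_true h with h | h
  · exact lF_good (T := T) (x := Lt.q) (by decide) [Lt.y, Lt.y, Lt.z, Lt.q, Lt.y, Lt.z, Lt.yi, Lt.z, Lt.q, Lt.yi, Lt.yi, Lt.z, Lt.q, Lt.yi, Lt.z, Lt.y, Lt.z] (H9.TCY.hole_at hinv hr 40 16 true (by decide +kernel)) h
  · exact lS_good (T := T) (x := Lt.q) (by decide) hu [Lt.y, Lt.z, Lt.q, Lt.y, Lt.z, Lt.q, Lt.y, Lt.z, Lt.q, Lt.y, Lt.z, Lt.q, Lt.y, Lt.z, Lt.q, Lt.y, Lt.z, Lt.q, Lt.y, Lt.z, Lt.q, Lt.y, Lt.z] (H9.TCY.hole_at hinv hr 44 2 false (by decide +kernel)) h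
theorem dp_q_171_s (hinv : ∀ x, g (inv x) = (g x)⁻¹) (hr : ∀ r ∈ rels, (r.map g).prod = 1) (hH : ∀ r ∈ subs, (r.map g).prod ∈ H)
    (j u : ℕ) (hu : u < M) (h : dp_q_171 j u = true) : Good (fa g) T MG M (cP g H) Lt.q u := by
  unfold dp_q_171 at h
  rcases brec_true h with h | h
  · exact dp_q_169_s hinv hr hH j u hu h
  · exact dp_q_170_s hinv hr hH j u hu h
theorem dp_q_172_s (hinv : ∀ x, g (inv x) = (g x)⁻¹) (hr : ∀ r ∈ rels, (r.map g).prod = 1) (hH : ∀ r ∈ subs, (r.map g).prod ∈ H)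
    (j u : ℕ) (hu : u < M) (h : dp_q_172 j u = true) : Good (fa g) T MG M (cP g H) Lt.q u := by
  unfold dp_q_172 at h
  rcases brec_true h with h | h
  · exact dp_q_168_s hinv hr hH j u hu h
  · exact dp_q_171_s hinv hr hH j u hu h
theorem dp_q_173_s (hinv : ∀ x, g (inv x) = (g x)⁻¹) (hr : ∀ r ∈ rels, (r.map g).prod = 1) (hH : ∀ r ∈ subs, (r.map g).prod ∈ H)
    (j u : ℕ) (hu : u < M) (h : dp_q_173 j u = true) : Good (fa g) T MG M (cP g H) Lt.q u := by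
  unfold dp_q_173 at h
  rcases brec_true h with h | h
  · exact lF_good (T := T) (x := Lt.q) (by decide) [Lt.yi, Lt.q, Lt.z, Lt.q, Lt.y, Lt.z, Lt.yi, Lt.q, Lt.y, Lt.q, Lt.z, Lt.q, Lt.yi, Lt.z, Lt.y] (H9.TCY.hole_at hinv hr 24 10 false (by decide +kernel)) h
  · exact lS_good (T := T) (x := Lt.q) (by decide) hu [Lt.yi, Lt.yi, Lt.q, Lt.yi, Lt.q, Lt.y, Lt.y, Lt.q, Lt.y, Lt.y, Lt.y, Lt.q, Lt.yi, Lt.q, Lt.yi] (H9.TCY.hole_at hinv hr 31 5 true (by decide +kernel)) h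
theorem dp_q_174_s (hinv : ∀ x, g (inv x) = (g x)⁻¹) (hr : ∀ r ∈ rels, (r.map g).prod = 1) (hH : ∀ r ∈ subs, (r.map g).prod ∈ H)
    (j u : ℕ) (hu : u < M) (h : dp_q_174 j u = true) : Good (fa g) T MG M (cP g H) Lt.q u := by
  unfold dp_q_174 at h
  rcases brec_true h with h | h
  · exact lF_good (T := T) (x := Lt.q) (by decide) [Lt.z, Lt.yi, Lt.z, Lt.y, Lt.z, Lt.q, Lt.yi, Lt.z, Lt.q, Lt.y, Lt.z, Lt.yi, Lt.q, Lt.z, Lt.y] (H9.TCY.hole_at hinv hr 36 5 false (by decide +kernel)) h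
  · exact lS_good (T := T) (x := Lt.q) (by decide) hu [Lt.z, Lt.yi, Lt.q, Lt.z, Lt.y, Lt.z, Lt.yi, Lt.z, Lt.q, Lt.y, Lt.z, Lt.q, Lt.yi, Lt.z, Lt.y] (H9.TCY.hole_at hinv hr 27 15 false (by decide +kernel)) h
theorem dp_q_175_s (hinv : ∀ x, g (inv x) = (g x)⁻¹) (hr : ∀ r ∈ rels, (r.map g).prod = 1) (hH : ∀ r ∈ subs, (r.map g).prod ∈ H)
    (j u : ℕ) (hu : u < M) (h : dp_q_175 j u = true) : Good (fa g) T MG M (cP g H) Lt.q u := by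
  unfold dp_q_175 at h
  rcases brec_true h with h | h
  · exact dp_q_173_s hinv hr hH j u hu h
  · exact dp_q_174_s hinv hr hH j u hu h
theorem dp_q_176_s (hinv : ∀ x, g (inv x) = (g x)⁻¹) (hr : ∀ r ∈ rels, (r.map g).prod = 1) (hH : ∀ r ∈ subs, (r.map g).prod ∈ H)
    (j u : ℕ) (hu : u < M) (h : dp_q_176 j u = true) : Good (fa g) T MG M (cP g H) Lt.q u := by
  unfold dp_q_176 at h
  rcases brec_true h with h | h
  · exact lS_good (T := T) (x := Lt.q) (by decide) hu [Lt.v, Lt.z, Lt.q, Lt.z, Lt.v, Lt.z, Lt.v, Lt.z, Lt.q, Lt.z, Lt.v, Lt.q, Lt.v] (H9.TCY.hole_at hinv hr 20 3 false (by decide +kernel)) h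
  · exact lS_good (T := T) (x := Lt.q) (by decide) hu [Lt.y, Lt.q, Lt.y, Lt.z, Lt.q, Lt.z, Lt.y, Lt.q, Lt.y, Lt.q, Lt.y, Lt.z, Lt.q, Lt.z, Lt.y] (H9.TCY.hole_at hinv hr 35 5 true (by decide +kernel)) h
theorem dp_q_177_s (hinv : ∀ x, g (inv x) = (g x)⁻¹) (hr : ∀ r ∈ rels, (r.map g).prod = 1) (hH : ∀ r ∈ subs, (r.map g).prod ∈ H)
    (j u : ℕ) (hu : u < M) (h : dp_q_177 j u = true) : Good (fa g) T MG M (cP g H) Lt.q u := by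
  unfold dp_q_177 at h
  rcases brec_true h with h | h
  · exact lF_good (T := T) (x := Lt.q) (by decide) [Lt.v, Lt.z, Lt.q, Lt.z, Lt.q, Lt.z, Lt.q, Lt.v, Lt.z, Lt.q, Lt.z, Lt.q, Lt.v, Lt.z] (H9.TCY.hole_at hinv hr 22 2 false (by decide +kernel)) h
  · exact lF_good (T := T) (x := Lt.q) (by decide) [Lt.y, Lt.z, Lt.yi, Lt.z, Lt.q, Lt.yi, Lt.yi, Lt.z, Lt.q, Lt.yi, Lt.z, Lt.y, Lt.z, Lt.q, Lt.y, Lt.y, Lt.z] (H9.TCY.hole_at hinv hr 40 2 true (by decide +kernel)) h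
theorem dp_q_178_s (hinv : ∀ x, g (inv x) = (g x)⁻¹) (hr : ∀ r ∈ rels, (r.map g).prod = 1) (hH : ∀ r ∈ subs, (r.map g).prod ∈ H)
    (j u : ℕ) (hu : u < M) (h : dp_q_178 j u = true) : Good (fa g) T MG M (cP g H) Lt.q u := by
  unfold dp_q_178 at h
  rcases brec_true h with h | h
  · exact lS_good (T := T) (x := Lt.q) (by decide) hu [Lt.yi, Lt.q, Lt.z, Lt.y, Lt.z, Lt.yi, Lt.q, Lt.z, Lt.y, Lt.z, Lt.q, Lt.yi, Lt.z, Lt.y, Lt.z] (H9.TCY.hole_at hinv hr 28 0 false (by decide +kernel)) h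
  · exact dp_q_177_s hinv hr hH j u hu h
theorem dp_q_179_s (hinv : ∀ x, g (inv x) = (g x)⁻¹) (hr : ∀ r ∈ rels, (r.map g).prod = 1) (hH : ∀ r ∈ subs, (r.map g).prod ∈ H)
    (j u : ℕ) (hu : u < M) (h : dp_q_179 j u = true) : Good (fa g) T MG M (cP g H) Lt.q u := by
  unfold dp_q_179 at h
  rcases brec_true h with h | h
  · exact dp_q_176_s hinv hr hH j u hu h
  · exact dp_q_178_s hinv hr hH j u hu h
theorem dp_q_180_s (hinv : ∀ x, g (inv x) = (g x)⁻¹) (hr : ∀ r ∈ rels, (r.map g).prod = 1) (hH : ∀ r ∈ subs, (r.map g).prod ∈ H)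
    (j u : ℕ) (hu : u < M) (h : dp_q_180 j u = true) : Good (fa g) T MG M (cP g H) Lt.q u := by
  unfold dp_q_180 at h
  rcases brec_true h with h | h
  · exact dp_q_175_s hinv hr hH j u hu h
  · exact dp_q_179_s hinv hr hH j u hu h
theorem dp_q_181_s (hinv : ∀ x, g (inv x) = (g x)⁻¹) (hr : ∀ r ∈ rels, (r.map g).prod = 1) (hH : ∀ r ∈ subs, (r.map g).prod ∈ H)
    (j u : ℕ) (hu : u < M) (h : dp_q_181 j u = true) : Good (fa g) T MG M (cP g H) Lt.q u := by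
  unfold dp_q_181 at h
  rcases brec_true h with h | h
  · exact dp_q_172_s hinv hr hH j u hu h
  · exact dp_q_180_s hinv hr hH j u hu h
theorem dp_q_182_s (hinv : ∀ x, g (inv x) = (g x)⁻¹) (hr : ∀ r ∈ rels, (r.map g).prod = 1) (hH : ∀ r ∈ subs, (r.map g).prod ∈ H)
    (j u : ℕ) (hu : u < M) (h : dp_q_182 j u = true) : Good (fa g) T MG M (cP g H) Lt.q u := by
  unfold dp_q_182 at h
  rcases brec_true h with h | h
  · exact lS_good (T := T) (x := Lt.q) (by decide) hu [Lt.yi, Lt.q, Lt.y, Lt.y, Lt.q, Lt.y, Lt.y, Lt.y, Lt.q, Lt.yi, Lt.q, Lt.yi, Lt.q, Lt.yi, Lt.yi] (H9.TCY.hole_at hinv hr 31 8 true (by decide +kernel)) h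
  · exact lF_good (T := T) (x := Lt.q) (by decide) [Lt.y, Lt.y, Lt.q, Lt.y, Lt.q, Lt.yi, Lt.yi, Lt.q, Lt.yi, Lt.yi, Lt.yi, Lt.q, Lt.y, Lt.q, Lt.y] (H9.TCY.hole_at hinv hr 32 8 false (by decide +kernel)) h
theorem dp_q_183_s (hinv : ∀ x, g (inv x) = (g x)⁻¹) (hr : ∀ r ∈ rels, (r.map g).prod = 1) (hH : ∀ r ∈ subs, (r.map g).prod ∈ H)
    (j u : ℕ) (hu : u < M) (h : dp_q_183 j u = true) : Good (fa g) T MG M (cP g H) Lt.q u := by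
  unfold dp_q_183 at h
  rcases brec_true h with h | h
  · exact lF_good (T := T) (x := Lt.q) (by decide) [Lt.yi, Lt.q, Lt.yi, Lt.q, Lt.yi, Lt.yi, Lt.q, Lt.yi, Lt.q, Lt.y, Lt.y, Lt.q, Lt.y, Lt.y, Lt.y] (H9.TCY.hole_at hinv hr 31 1 true (by decide +kernel)) h
  · exact lS_good (T := T) (x := Lt.q) (by decide) hu [Lt.v, Lt.q, Lt.v, Lt.z, Lt.q, Lt.z, Lt.v, Lt.z, Lt.v, Lt.z, Lt.q, Lt.z, Lt.v] (H9.TCY.hole_at hinv hr 20 1 false (by decide +kernel)) h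
theorem dp_q_184_s (hinv : ∀ x, g (inv x) = (g x)⁻¹) (hr : ∀ r ∈ rels, (r.map g).prod = 1) (hH : ∀ r ∈ subs, (r.map g).prod ∈ H)
    (j u : ℕ) (hu : u < M) (h : dp_q_184 j u = true) : Good (fa g) T MG M (cP g H) Lt.q u := by
  unfold dp_q_184 at h
  rcases brec_true h with h | h
  · exact dp_q_182_s hinv hr hH j u hu h
  · exact dp_q_183_s hinv hr hH j u hu h
theorem dp_q_185_s (hinv : ∀ x, g (inv x) = (g x)⁻¹) (hr : ∀ r ∈ rels, (r.map g).prod = 1) (hH : ∀ r ∈ subs, (r.map g).prod ∈ H)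
    (j u : ℕ) (hu : u < M) (h : dp_q_185 j u = true) : Good (fa g) T MG M (cP g H) Lt.q u := by
  unfold dp_q_185 at h
  rcases brec_true h with h | h
  · exact lF_good (T := T) (x := Lt.q) (by decide) [Lt.z, Lt.y, Lt.q, Lt.z, Lt.yi, Lt.z, Lt.y, Lt.z, Lt.q, Lt.yi, Lt.z, Lt.q, Lt.y, Lt.z, Lt.yi] (H9.TCY.hole_at hinv hr 36 2 false (by decide +kernel)) h
  · exact lF_good (T := T) (x := Lt.q) (by decide) [Lt.y, Lt.y, Lt.q, Lt.y, Lt.y, Lt.y, Lt.q, Lt.yi, Lt.q, Lt.yi, Lt.q, Lt.yi, Lt.yi, Lt.q, Lt.yi] (H9.TCY.hole_at hinv hr 31 10 true (by decide +kernel)) h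
theorem dp_q_186_s (hinv : ∀ x, g (inv x) = (g x)⁻¹) (hr : ∀ r ∈ rels, (r.map g).prod = 1) (hH : ∀ r ∈ subs, (r.map g).prod ∈ H)
    (j u : ℕ) (hu : u < M) (h : dp_q_186 j u = true) : Good (fa g) T MG M (cP g H) Lt.q u := by
  unfold dp_q_186 at h
  rcases brec_true h with h | h
  · exact lF_good (T := T) (x := Lt.q) (by decide) [Lt.yi, Lt.q, Lt.yi, Lt.q, Lt.y, Lt.y, Lt.y, Lt.q, Lt.y, Lt.y, Lt.q, Lt.yi, Lt.q, Lt.yi, Lt.yi] (H9.TCY.hole_at hinv hr 32 9 true (by decide +kernel)) h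
  · exact lS_good (T := T) (x := Lt.q) (by decide) hu [Lt.y, Lt.y, Lt.y, Lt.q, Lt.yi, Lt.yi, Lt.yi, Lt.q, Lt.yi, Lt.yi, Lt.yi, Lt.q, Lt.yi, Lt.yi, Lt.yi] (H9.TCY.hole_at hinv hr 30 12 false (by decide +kernel)) h
theorem dp_q_187_s (hinv : ∀ x, g (inv x) = (g x)⁻¹) (hr : ∀ r ∈ rels, (r.map g).prod = 1) (hH : ∀ r ∈ subs, (r.map g).prod ∈ H)
    (j u : ℕ) (hu : u < M) (h : dp_q_187 j u = true) : Good (fa g) T MG M (cP g H) Lt.q u := by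
  unfold dp_q_187 at h
  rcases brec_true h with h | h
  · exact lF_good (T := T) (x := Lt.q) (by decide) [Lt.z, Lt.y, Lt.z, Lt.yi, Lt.q, Lt.z, Lt.yi, Lt.yi, Lt.q, Lt.z, Lt.yi, Lt.z, Lt.y, Lt.q, Lt.z, Lt.y, Lt.y] (H9.TCY.hole_at hinv hr 40 12 false (by decide +kernel)) h
  · exact dp_q_186_s hinv hr hH j u hu h
theorem dp_q_188_s (hinv : ∀ x, g (inv x) = (g x)⁻¹) (hr : ∀ r ∈ rels, (r.map g).prod = 1) (hH : ∀ r ∈ subs, (r.map g).prod ∈ H)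
    (j u : ℕ) (hu : u < M) (h : dp_q_188 j u = true) : Good (fa g) T MG M (cP g H) Lt.q u := by
  unfold dp_q_188 at h
  rcases brec_true h with h | h
  · exact dp_q_185_s hinv hr hH j u hu h
  · exact dp_q_187_s hinv hr hH j u hu h
theorem dp_q_189_s (hinv : ∀ x, g (inv x) = (g x)⁻¹) (hr : ∀ r ∈ rels, (r.map g).prod = 1) (hH : ∀ r ∈ subs, (r.map g).prod ∈ H)
    (j u : ℕ) (hu : u < M) (h : dp_q_189 j u = true) : Good (fa g) T MG M (cP g H) Lt.q u := by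
  unfold dp_q_189 at h
  rcases brec_true h with h | h
  · exact dp_q_184_s hinv hr hH j u hu h
  · exact dp_q_188_s hinv hr hH j u hu h
theorem dp_q_190_s (hinv : ∀ x, g (inv x) = (g x)⁻¹) (hr : ∀ r ∈ rels, (r.map g).prod = 1) (hH : ∀ r ∈ subs, (r.map g).prod ∈ H)
    (j u : ℕ) (hu : u < M) (h : dp_q_190 j u = true) : Good (fa g) T MG M (cP g H) Lt.q u := by
  unfold dp_q_190 at h
  rcases brec_true h with h | h
  · exact lS_good (T := T) (x := Lt.q) (by decide) hu [Lt.yi, Lt.z, Lt.y, Lt.z, Lt.q, Lt.yi, Lt.q, Lt.z, Lt.y, Lt.z, Lt.yi, Lt.q, Lt.z, Lt.y, Lt.z] (H9.TCY.hole_at hinv hr 28 11 false (by decide +kernel)) h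
  · exact lS_good (T := T) (x := Lt.q) (by decide) hu [Lt.z, Lt.y, Lt.z, Lt.yi, Lt.z, Lt.q, Lt.y, Lt.z, Lt.q, Lt.yi, Lt.z, Lt.y, Lt.q, Lt.z, Lt.yi] (H9.TCY.hole_at hinv hr 27 2 false (by decide +kernel)) h
theorem dp_q_191_s (hinv : ∀ x, g (inv x) = (g x)⁻¹) (hr : ∀ r ∈ rels, (r.map g).prod = 1) (hH : ∀ r ∈ subs, (r.map g).prod ∈ H)
    (j u : ℕ) (hu : u < M) (h : dp_q_191 j u = true) : Good (fa g) T MG M (cP g H) Lt.q u := by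
  unfold dp_q_191 at h
  rcases brec_true h with h | h
  · exact lS_good (T := T) (x := Lt.q) (by decide) hu [Lt.y, Lt.y, Lt.y, Lt.q, Lt.yi, Lt.q, Lt.yi, Lt.q, Lt.yi, Lt.yi, Lt.q, Lt.yi, Lt.q, Lt.y, Lt.y] (H9.TCY.hole_at hinv hr 31 13 true (by decide +kernel)) h
  · exact lF_good (T := T) (x := Lt.q) (by decide) [Lt.yi, Lt.yi, Lt.z, Lt.q, Lt.yi, Lt.z, Lt.y, Lt.z, Lt.q, Lt.y, Lt.y, Lt.z, Lt.q, Lt.y, Lt.z, Lt.yi, Lt.z] (H9.TCY.hole_at hinv hr 40 7 true (by decide +kernel)) h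
theorem dp_q_192_s (hinv : ∀ x, g (inv x) = (g x)⁻¹) (hr : ∀ r ∈ rels, (r.map g).prod = 1) (hH : ∀ r ∈ subs, (r.map g).prod ∈ H)
    (j u : ℕ) (hu : u < M) (h : dp_q_192 j u = true) : Good (fa g) T MG M (cP g H) Lt.q u := by
  unfold dp_q_192 at h
  rcases brec_true h with h | h
  · exact dp_q_190_s hinv hr hH j u hu h
  · exact dp_q_191_s hinv hr hH j u hu h
theorem dp_q_193_s (hinv : ∀ x, g (inv x) = (g x)⁻¹) (hr : ∀ r ∈ rels, (r.map g).prod = 1) (hH : ∀ r ∈ subs, (r.map g).prod ∈ H)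
    (j u : ℕ) (hu : u < M) (h : dp_q_193 j u = true) : Good (fa g) T MG M (cP g H) Lt.q u := by
  unfold dp_q_193 at h
  rcases brec_true h with h | h
  · exact lS_good (T := T) (x := Lt.q) (by decide) hu [Lt.z, Lt.q, Lt.v, Lt.z, Lt.q, Lt.v, Lt.q, Lt.z, Lt.v, Lt.z] (H9.TCY.hole_at hinv hr 11 4 true (by decide +kernel)) h
  · exact lF_good (T := T) (x := Lt.q) (by decide) [Lt.z, Lt.yi, Lt.yi, Lt.q, Lt.y, Lt.y, Lt.z, Lt.q, Lt.z, Lt.yi, Lt.yi, Lt.q, Lt.y, Lt.y, Lt.z] (H9.TCY.hole_at hinv hr 33 7 false (by decide +kernel)) h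
theorem dp_q_194_s (hinv : ∀ x, g (inv x) = (g x)⁻¹) (hr : ∀ r ∈ rels, (r.map g).prod = 1) (hH : ∀ r ∈ subs, (r.map g).prod ∈ H)
    (j u : ℕ) (hu : u < M) (h : dp_q_194 j u = true) : Good (fa g) T MG M (cP g H) Lt.q u := by
  unfold dp_q_194 at h
  rcases brec_true h with h | h
  · exact lF_good (T := T) (x := Lt.q) (by decide) [Lt.z, Lt.yi, Lt.z, Lt.y, Lt.q, Lt.z, Lt.y, Lt.y, Lt.q, Lt.z, Lt.y, Lt.z, Lt.yi, Lt.q, Lt.z, Lt.yi, Lt.yi] (H9.TCY.hole_at hinv hr 40 3 false (by decide +kernel)) h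
  · exact lS_good (T := T) (x := Lt.q) (by decide) hu [Lt.yi, Lt.q, Lt.yi, Lt.z, Lt.q, Lt.z, Lt.yi, Lt.q, Lt.yi, Lt.q, Lt.yi, Lt.z, Lt.q, Lt.z, Lt.yi] (H9.TCY.hole_at hinv hr 35 2 false (by decide +kernel)) h
theorem dp_q_195_s (hinv : ∀ x, g (inv x) = (g x)⁻¹) (hr : ∀ r ∈ rels, (r.map g).prod = 1) (hH : ∀ r ∈ subs, (r.map g).prod ∈ H)
    (j u : ℕ) (hu : u < M) (h : dp_q_195 j u = true) : Good (fa g) T MG M (cP g H) Lt.q u := by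
  unfold dp_q_195 at h
  rcases brec_true h with h | h
  · exact lF_good (T := T) (x := Lt.q) (by decide) [Lt.yi, Lt.q, Lt.y, Lt.y, Lt.y, Lt.q, Lt.y, Lt.y, Lt.q, Lt.yi, Lt.q, Lt.yi, Lt.yi, Lt.q, Lt.yi] (H9.TCY.hole_at hinv hr 32 11 true (by decide +kernel)) h
  · exact dp_q_194_s hinv hr hH j u hu h
theorem dp_q_196_s (hinv : ∀ x, g (inv x) = (g x)⁻¹) (hr : ∀ r ∈ rels, (r.map g).prod = 1) (hH : ∀ r ∈ subs, (r.map g).prod ∈ H)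
    (j u : ℕ) (hu : u < M) (h : dp_q_196 j u = true) : Good (fa g) T MG M (cP g H) Lt.q u := by
  unfold dp_q_196 at h
  rcases brec_true h with h | h
  · exact dp_q_193_s hinv hr hH j u hu h
  · exact dp_q_195_s hinv hr hH j u hu h
theorem dp_q_197_s (hinv : ∀ x, g (inv x) = (g x)⁻¹) (hr : ∀ r ∈ rels, (r.map g).prod = 1) (hH : ∀ r ∈ subs, (r.map g).prod ∈ H)
    (j u : ℕ) (hu : u < M) (h : dp_q_197 j u = true) : Good (fa g) T MG M (cP g H) Lt.q u := by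
  unfold dp_q_197 at h
  rcases brec_true h with h | h
  · exact dp_q_192_s hinv hr hH j u hu h
  · exact dp_q_196_s hinv hr hH j u hu h
theorem dp_q_198_s (hinv : ∀ x, g (inv x) = (g x)⁻¹) (hr : ∀ r ∈ rels, (r.map g).prod = 1) (hH : ∀ r ∈ subs, (r.map g).prod ∈ H)
    (j u : ℕ) (hu : u < M) (h : dp_q_198 j u = true) : Good (fa g) T MG M (cP g H) Lt.q u := by
  unfold dp_q_198 at h
  rcases brec_true h with h | h
  · exact dp_q_189_s hinv hr hH j u hu h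
  · exact dp_q_197_s hinv hr hH j u hu h
theorem dp_q_199_s (hinv : ∀ x, g (inv x) = (g x)⁻¹) (hr : ∀ r ∈ rels, (r.map g).prod = 1) (hH : ∀ r ∈ subs, (r.map g).prod ∈ H)
    (j u : ℕ) (hu : u < M) (h : dp_q_199 j u = true) : Good (fa g) T MG M (cP g H) Lt.q u := by
  unfold dp_q_199 at h
  rcases brec_true h with h | h
  · exact dp_q_181_s hinv hr hH j u hu h
  · exact dp_q_198_s hinv hr hH j u hu h
theorem dp_q_200_s (hinv : ∀ x, g (inv x) = (g x)⁻¹) (hr : ∀ r ∈ rels, (r.map g).prod = 1) (hH : ∀ r ∈ subs, (r.map g).prod ∈ H)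
    (j u : ℕ) (hu : u < M) (h : dp_q_200 j u = true) : Good (fa g) T MG M (cP g H) Lt.q u := by
  unfold dp_q_200 at h
  rcases brec_true h with h | h
  · exact dp_q_165_s hinv hr hH j u hu h
  · exact dp_q_199_s hinv hr hH j u hu h
theorem dp_q_201_s (hinv : ∀ x, g (inv x) = (g x)⁻¹) (hr : ∀ r ∈ rels, (r.map g).prod = 1) (hH : ∀ r ∈ subs, (r.map g).prod ∈ H)
    (j u : ℕ) (hu : u < M) (h : dp_q_201 j u = true) : Good (fa g) T MG M (cP g H) Lt.q u := by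
  unfold dp_q_201 at h
  rcases brec_true h with h | h
  · exact lF_good (T := T) (x := Lt.q) (by decide) [Lt.yi, Lt.z, Lt.y, Lt.z, Lt.q, Lt.y, Lt.y, Lt.z, Lt.q, Lt.y, Lt.z, Lt.yi, Lt.z, Lt.q, Lt.yi, Lt.yi, Lt.z] (H9.TCY.hole_at hinv hr 40 11 true (by decide +kernel)) h
  · exact lF_good (T := T) (x := Lt.q) (by decide) [Lt.z, Lt.yi, Lt.yi, Lt.q, Lt.z, Lt.yi, Lt.z, Lt.y, Lt.q, Lt.z, Lt.y, Lt.y, Lt.q, Lt.z, Lt.y, Lt.z, Lt.yi] (H9.TCY.hole_at hinv hr 40 17 false (by decide +kernel)) h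
theorem dp_q_202_s (hinv : ∀ x, g (inv x) = (g x)⁻¹) (hr : ∀ r ∈ rels, (r.map g).prod = 1) (hH : ∀ r ∈ subs, (r.map g).prod ∈ H)
    (j u : ℕ) (hu : u < M) (h : dp_q_202 j u = true) : Good (fa g) T MG M (cP g H) Lt.q u := by
  unfold dp_q_202 at h
  rcases brec_true h with h | h
  · exact lF_good (T := T) (x := Lt.q) (by decide) [Lt.y, Lt.q, Lt.y, Lt.y, Lt.q, Lt.y, Lt.q, Lt.yi, Lt.yi, Lt.q, Lt.yi, Lt.yi, Lt.yi, Lt.q, Lt.y] (H9.TCY.hole_at hinv hr 32 6 false (by decide +kernel)) h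
  · exact lS_good (T := T) (x := Lt.q) (by decide) hu [Lt.yi, Lt.yi, Lt.q, Lt.yi, Lt.q, Lt.yi, Lt.q, Lt.y, Lt.y, Lt.y, Lt.q, Lt.y, Lt.y, Lt.q, Lt.yi] (H9.TCY.hole_at hinv hr 32 6 true (by decide +kernel)) h
theorem dp_q_203_s (hinv : ∀ x, g (inv x) = (g x)⁻¹) (hr : ∀ r ∈ rels, (r.map g).prod = 1) (hH : ∀ r ∈ subs, (r.map g).prod ∈ H)
    (j u : ℕ) (hu : u < M) (h : dp_q_203 j u = true) : Good (fa g) T MG M (cP g H) Lt.q u := by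
  unfold dp_q_203 at h
  rcases brec_true h with h | h
  · exact lF_good (T := T) (x := Lt.q) (by decide) [Lt.yi, Lt.q, Lt.z, Lt.y, Lt.z, Lt.q, Lt.yi, Lt.q, Lt.z, Lt.y, Lt.z, Lt.q, Lt.yi, Lt.q, Lt.z, Lt.y, Lt.z] (H9.TCY.hole_at hinv hr 42 0 true (by decide +kernel)) h
  · exact dp_q_202_s hinv hr hH j u hu h
theorem dp_q_204_s (hinv : ∀ x, g (inv x) = (g x)⁻¹) (hr : ∀ r ∈ rels, (r.map g).prod = 1) (hH : ∀ r ∈ subs, (r.map g).prod ∈ H)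
    (j u : ℕ) (hu : u < M) (h : dp_q_204 j u = true) : Good (fa g) T MG M (cP g H) Lt.q u := by
  unfold dp_q_204 at h
  rcases brec_true h with h | h
  · exact dp_q_201_s hinv hr hH j u hu h
  · exact dp_q_203_s hinv hr hH j u hu h
theorem dp_q_205_s (hinv : ∀ x, g (inv x) = (g x)⁻¹) (hr : ∀ r ∈ rels, (r.map g).prod = 1) (hH : ∀ r ∈ subs, (r.map g).prod ∈ H)
    (j u : ℕ) (hu : u < M) (h : dp_q_205 j u = true) : Good (fa g) T MG M (cP g H) Lt.q u := by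
  unfold dp_q_205 at h
  rcases brec_true h with h | h
  · exact lS_good (T := T) (x := Lt.q) (by decide) hu [Lt.yi, Lt.q, Lt.z, Lt.y, Lt.z, Lt.q, Lt.yi, Lt.q, Lt.y, Lt.z, Lt.q, Lt.yi, Lt.q, Lt.z, Lt.y] (H9.TCY.hole_at hinv hr 23 7 true (by decide +kernel)) h
  · exact lS_good (T := T) (x := Lt.q) (by decide) hu [Lt.z, Lt.yi, Lt.q, Lt.z, Lt.yi, Lt.q, Lt.z, Lt.yi, Lt.q, Lt.z, Lt.yi, Lt.q, Lt.z, Lt.yi, Lt.q, Lt.z, Lt.yi, Lt.q, Lt.z, Lt.yi, Lt.q, Lt.z, Lt.yi] (H9.TCY.hole_at hinv hr 44 2 true (by decide +kernel)) h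
theorem dp_q_206_s (hinv : ∀ x, g (inv x) = (g x)⁻¹) (hr : ∀ r ∈ rels, (r.map g).prod = 1) (hH : ∀ r ∈ subs, (r.map g).prod ∈ H)
    (j u : ℕ) (hu : u < M) (h : dp_q_206 j u = true) : Good (fa g) T MG M (cP g H) Lt.q u := by
  unfold dp_q_206 at h
  rcases brec_true h with h | h
  · exact lF_good (T := T) (x := Lt.q) (by decide) [Lt.y, Lt.z, Lt.yi, Lt.q, Lt.y, Lt.q, Lt.z, Lt.q, Lt.yi, Lt.z, Lt.y, Lt.q, Lt.yi, Lt.q, Lt.z] (H9.TCY.hole_at hinv hr 24 14 false (by decide +kernel)) h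
  · exact lF_good (T := T) (x := Lt.q) (by decide) [Lt.y, Lt.y, Lt.y, Lt.q, Lt.z, Lt.y, Lt.y, Lt.z, Lt.q, Lt.y, Lt.y, Lt.y, Lt.q, Lt.z, Lt.y, Lt.y, Lt.z, Lt.q, Lt.y, Lt.y, Lt.y, Lt.q, Lt.z, Lt.y, Lt.y, Lt.z] (H9.TCY.hole_at hinv hr 47 6 false (by decide +kernel)) h
theorem dp_q_207_s (hinv : ∀ x, g (inv x) = (g x)⁻¹) (hr : ∀ r ∈ rels, (r.map g).prod = 1) (hH : ∀ r ∈ subs, (r.map g).prod ∈ H)
    (j u : ℕ) (hu : u < M) (h : dp_q_207 j u = true) : Good (fa g) T MG M (cP g H) Lt.q u := by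
  unfold dp_q_207 at h
  rcases brec_true h with h | h
  · exact lS_good (T := T) (x := Lt.q) (by decide) hu [Lt.y, Lt.y, Lt.y, Lt.q, Lt.z, Lt.y, Lt.y, Lt.z, Lt.q, Lt.y, Lt.y, Lt.y, Lt.q, Lt.z, Lt.y, Lt.y, Lt.z, Lt.q, Lt.y, Lt.y, Lt.y, Lt.q, Lt.z, Lt.y, Lt.y, Lt.z] (H9.TCY.hole_at hinv hr 47 6 false (by decide +kernel)) h
  · exact dp_q_206_s hinv hr hH j u hu h
theorem dp_q_208_s (hinv : ∀ x, g (inv x) = (g x)⁻¹) (hr : ∀ r ∈ rels, (r.map g).prod = 1) (hH : ∀ r ∈ subs, (r.map g).prod ∈ H)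
    (j u : ℕ) (hu : u < M) (h : dp_q_208 j u = true) : Good (fa g) T MG M (cP g H) Lt.q u := by
  unfold dp_q_208 at h
  rcases brec_true h with h | h
  · exact dp_q_205_s hinv hr hH j u hu h
  · exact dp_q_207_s hinv hr hH j u hu h
theorem dp_q_209_s (hinv : ∀ x, g (inv x) = (g x)⁻¹) (hr : ∀ r ∈ rels, (r.map g).prod = 1) (hH : ∀ r ∈ subs, (r.map g).prod ∈ H)
    (j u : ℕ) (hu : u < M) (h : dp_q_209 j u = true) : Good (fa g) T MG M (cP g H) Lt.q u := by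
  unfold dp_q_209 at h
  rcases brec_true h with h | h
  · exact dp_q_204_s hinv hr hH j u hu h
  · exact dp_q_208_s hinv hr hH j u hu h
theorem dp_q_210_s (hinv : ∀ x, g (inv x) = (g x)⁻¹) (hr : ∀ r ∈ rels, (r.map g).prod = 1) (hH : ∀ r ∈ subs, (r.map g).prod ∈ H)
    (j u : ℕ) (hu : u < M) (h : dp_q_210 j u = true) : Good (fa g) T MG M (cP g H) Lt.q u := by
  unfold dp_q_210 at h
  rcases brec_true h with h | h
  · exact lF_good (T := T) (x := Lt.q) (by decide) [Lt.yi, Lt.z, Lt.y, Lt.q, Lt.yi, Lt.q, Lt.z, Lt.q, Lt.y, Lt.z, Lt.yi, Lt.q, Lt.y, Lt.q, Lt.z] (H9.TCY.hole_at hinv hr 24 6 false (by decide +kernel)) h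
  · exact lF_good (T := T) (x := Lt.q) (by decide) [Lt.z, Lt.q, Lt.yi, Lt.yi, Lt.yi, Lt.z, Lt.q, Lt.z, Lt.q, Lt.yi, Lt.yi, Lt.yi, Lt.z] (H9.TCY.hole_at hinv hr 21 5 false (by decide +kernel)) h
theorem dp_q_211_s (hinv : ∀ x, g (inv x) = (g x)⁻¹) (hr : ∀ r ∈ rels, (r.map g).prod = 1) (hH : ∀ r ∈ subs, (r.map g).prod ∈ H)
    (j u : ℕ) (hu : u < M) (h : dp_q_211 j u = true) : Good (fa g) T MG M (cP g H) Lt.q u := by
  unfold dp_q_211 at h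
  rcases brec_true h with h | h
  · exact lS_good (T := T) (x := Lt.q) (by decide) hu [Lt.yi, Lt.z, Lt.q, Lt.y, Lt.q, Lt.z, Lt.yi, Lt.q, Lt.y, Lt.q, Lt.z, Lt.yi, Lt.z, Lt.q, Lt.y] (H9.TCY.hole_at hinv hr 23 10 false (by decide +kernel)) h
  · exact lS_good (T := T) (x := Lt.q) (by decide) hu [Lt.y, Lt.q, Lt.yi, Lt.yi, Lt.q, Lt.yi, Lt.yi, Lt.yi, Lt.q, Lt.y, Lt.q, Lt.y, Lt.q, Lt.y, Lt.y] (H9.TCY.hole_at hinv hr 32 11 false (by decide +kernel)) h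
theorem dp_q_212_s (hinv : ∀ x, g (inv x) = (g x)⁻¹) (hr : ∀ r ∈ rels, (r.map g).prod = 1) (hH : ∀ r ∈ subs, (r.map g).prod ∈ H)
    (j u : ℕ) (hu : u < M) (h : dp_q_212 j u = true) : Good (fa g) T MG M (cP g H) Lt.q u := by
  unfold dp_q_212 at h
  rcases brec_true h with h | h
  · exact lF_good (T := T) (x := Lt.q) (by decide) [Lt.y, Lt.y, Lt.z, Lt.q, Lt.yi, Lt.q, Lt.z, Lt.q, Lt.y, Lt.q, Lt.z, Lt.yi, Lt.yi, Lt.q, Lt.z, Lt.yi, Lt.q, Lt.z, Lt.yi, Lt.z, Lt.y, Lt.z, Lt.q, Lt.y, Lt.z] (H9.TCY.hole_at hinv hr 46 18 false (by decide +kernel)) h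
  · exact dp_q_211_s hinv hr hH j u hu h
theorem dp_q_213_s (hinv : ∀ x, g (inv x) = (g x)⁻¹) (hr : ∀ r ∈ rels, (r.map g).prod = 1) (hH : ∀ r ∈ subs, (r.map g).prod ∈ H)
    (j u : ℕ) (hu : u < M) (h : dp_q_213 j u = true) : Good (fa g) T MG M (cP g H) Lt.q u := by
  unfold dp_q_213 at h
  rcases brec_true h with h | h
  · exact dp_q_210_s hinv hr hH j u hu h
  · exact dp_q_212_s hinv hr hH j u hu h
theorem dp_q_214_s (hinv : ∀ x, g (inv x) = (g x)⁻¹) (hr : ∀ r ∈ rels, (r.map g).prod = 1) (hH : ∀ r ∈ subs, (r.map g).prod ∈ H)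
    (j u : ℕ) (hu : u < M) (h : dp_q_214 j u = true) : Good (fa g) T MG M (cP g H) Lt.q u := by
  unfold dp_q_214 at h
  rcases brec_true h with h | h
  · exact lS_good (T := T) (x := Lt.q) (by decide) hu [Lt.yi, Lt.q, Lt.z, Lt.q, Lt.y, Lt.z, Lt.yi, Lt.q, Lt.y, Lt.q, Lt.z, Lt.q, Lt.yi, Lt.z, Lt.y] (H9.TCY.hole_at hinv hr 24 10 false (by decide +kernel)) h
  · exact lS_good (T := T) (x := Lt.q) (by decide) hu [Lt.yi, Lt.q, Lt.yi, Lt.yi, Lt.q, Lt.yi, Lt.q, Lt.yi, Lt.q, Lt.y, Lt.y, Lt.y, Lt.q, Lt.y, Lt.y] (H9.TCY.hole_at hinv hr 32 4 true (by decide +kernel)) h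
theorem dp_q_215_s (hinv : ∀ x, g (inv x) = (g x)⁻¹) (hr : ∀ r ∈ rels, (r.map g).prod = 1) (hH : ∀ r ∈ subs, (r.map g).prod ∈ H)
    (j u : ℕ) (hu : u < M) (h : dp_q_215 j u = true) : Good (fa g) T MG M (cP g H) Lt.q u := by
  unfold dp_q_215 at h
  rcases brec_true h with h | h
  · exact lS_good (T := T) (x := Lt.q) (by decide) hu [Lt.y, Lt.q, Lt.y, Lt.y, Lt.q, Lt.y, Lt.q, Lt.y, Lt.q, Lt.yi, Lt.yi, Lt.yi, Lt.q, Lt.yi, Lt.yi] (H9.TCY.hole_at hinv hr 31 7 false (by decide +kernel)) h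
  · exact dp_q_214_s hinv hr hH j u hu h
theorem dp_q_216_s (hinv : ∀ x, g (inv x) = (g x)⁻¹) (hr : ∀ r ∈ rels, (r.map g).prod = 1) (hH : ∀ r ∈ subs, (r.map g).prod ∈ H)
    (j u : ℕ) (hu : u < M) (h : dp_q_216 j u = true) : Good (fa g) T MG M (cP g H) Lt.q u := by
  unfold dp_q_216 at h
  rcases brec_true h with h | h
  · exact lS_good (T := T) (x := Lt.q) (by decide) hu [Lt.y, Lt.y, Lt.z, Lt.q, Lt.z, Lt.yi, Lt.yi, Lt.q, Lt.y, Lt.y, Lt.z, Lt.q, Lt.z, Lt.yi, Lt.yi] (H9.TCY.hole_at hinv hr 33 3 false (by decide +kernel)) h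
  · exact lF_good (T := T) (x := Lt.q) (by decide) [Lt.z, Lt.q, Lt.yi, Lt.z, Lt.y, Lt.q, Lt.yi, Lt.q, Lt.z, Lt.q, Lt.y, Lt.z, Lt.yi, Lt.q, Lt.y] (H9.TCY.hole_at hinv hr 24 4 false (by decide +kernel)) h
theorem dp_q_217_s (hinv : ∀ x, g (inv x) = (g x)⁻¹) (hr : ∀ r ∈ rels, (r.map g).prod = 1) (hH : ∀ r ∈ subs, (r.map g).prod ∈ H)
    (j u : ℕ) (hu : u < M) (h : dp_q_217 j u = true) : Good (fa g) T MG M (cP g H) Lt.q u := by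
  unfold dp_q_217 at h
  rcases brec_true h with h | h
  · exact lF_good (T := T) (x := Lt.q) (by decide) [Lt.z, Lt.y, Lt.y, Lt.q, Lt.z, Lt.y, Lt.z, Lt.yi, Lt.q, Lt.z, Lt.yi, Lt.yi, Lt.q, Lt.z, Lt.yi, Lt.z, Lt.y] (H9.TCY.hole_at hinv hr 40 8 false (by decide +kernel)) h
  · exact dp_q_216_s hinv hr hH j u hu h
theorem dp_q_218_s (hinv : ∀ x, g (inv x) = (g x)⁻¹) (hr : ∀ r ∈ rels, (r.map g).prod = 1) (hH : ∀ r ∈ subs, (r.map g).prod ∈ H)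
    (j u : ℕ) (hu : u < M) (h : dp_q_218 j u = true) : Good (fa g) T MG M (cP g H) Lt.q u := by
  unfold dp_q_218 at h
  rcases brec_true h with h | h
  · exact dp_q_215_s hinv hr hH j u hu h
  · exact dp_q_217_s hinv hr hH j u hu h
theorem dp_q_219_s (hinv : ∀ x, g (inv x) = (g x)⁻¹) (hr : ∀ r ∈ rels, (r.map g).prod = 1) (hH : ∀ r ∈ subs, (r.map g).prod ∈ H)
    (j u : ℕ) (hu : u < M) (h : dp_q_219 j u = true) : Good (fa g) T MG M (cP g H) Lt.q u := by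
  unfold dp_q_219 at h
  rcases brec_true h with h | h
  · exact dp_q_213_s hinv hr hH j u hu h
  · exact dp_q_218_s hinv hr hH j u hu h
theorem dp_q_220_s (hinv : ∀ x, g (inv x) = (g x)⁻¹) (hr : ∀ r ∈ rels, (r.map g).prod = 1) (hH : ∀ r ∈ subs, (r.map g).prod ∈ H)
    (j u : ℕ) (hu : u < M) (h : dp_q_220 j u = true) : Good (fa g) T MG M (cP g H) Lt.q u := by
  unfold dp_q_220 at h
  rcases brec_true h with h | h
  · exact dp_q_209_s hinv hr hH j u hu h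
  · exact dp_q_219_s hinv hr hH j u hu h
theorem dp_q_221_s (hinv : ∀ x, g (inv x) = (g x)⁻¹) (hr : ∀ r ∈ rels, (r.map g).prod = 1) (hH : ∀ r ∈ subs, (r.map g).prod ∈ H)
    (j u : ℕ) (hu : u < M) (h : dp_q_221 j u = true) : Good (fa g) T MG M (cP g H) Lt.q u := by
  unfold dp_q_221 at h
  rcases brec_true h with h | h
  · exact lF_good (T := T) (x := Lt.q) (by decide) [Lt.z, Lt.yi, Lt.q, Lt.z, Lt.yi, Lt.q, Lt.z, Lt.yi, Lt.q, Lt.z, Lt.yi, Lt.q, Lt.z, Lt.yi, Lt.q, Lt.z, Lt.yi, Lt.q, Lt.z, Lt.yi, Lt.q, Lt.z, Lt.yi] (H9.TCY.hole_at hinv hr 44 2 true (by decide +kernel)) h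
  · exact lF_good (T := T) (x := Lt.q) (by decide) [Lt.y, Lt.z, Lt.yi, Lt.q, Lt.z, Lt.q, Lt.y, Lt.q, Lt.yi, Lt.z, Lt.y, Lt.q, Lt.z, Lt.q, Lt.yi] (H9.TCY.hole_at hinv hr 24 15 true (by decide +kernel)) h
theorem dp_q_222_s (hinv : ∀ x, g (inv x) = (g x)⁻¹) (hr : ∀ r ∈ rels, (r.map g).prod = 1) (hH : ∀ r ∈ subs, (r.map g).prod ∈ H)
    (j u : ℕ) (hu : u < M) (h : dp_q_222 j u = true) : Good (fa g) T MG M (cP g H) Lt.q u := by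
  unfold dp_q_222 at h
  rcases brec_true h with h | h
  · exact lS_good (T := T) (x := Lt.q) (by decide) hu [Lt.yi, Lt.yi, Lt.z, Lt.q, Lt.z, Lt.y, Lt.y, Lt.q, Lt.yi, Lt.yi, Lt.z, Lt.q, Lt.z, Lt.y, Lt.y] (H9.TCY.hole_at hinv hr 34 0 false (by decide +kernel)) h
  · exact dp_q_221_s hinv hr hH j u hu h
theorem dp_q_223_s (hinv : ∀ x, g (inv x) = (g x)⁻¹) (hr : ∀ r ∈ rels, (r.map g).prod = 1) (hH : ∀ r ∈ subs, (r.map g).prod ∈ H)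
    (j u : ℕ) (hu : u < M) (h : dp_q_223 j u = true) : Good (fa g) T MG M (cP g H) Lt.q u := by
  unfold dp_q_223 at h
  rcases brec_true h with h | h
  · exact lF_good (T := T) (x := Lt.q) (by decide) [Lt.z, Lt.y, Lt.z, Lt.yi, Lt.q, Lt.z, Lt.y, Lt.z, Lt.q, Lt.yi, Lt.z, Lt.y, Lt.z, Lt.q, Lt.yi] (H9.TCY.hole_at hinv hr 28 2 false (by decide +kernel)) h
  · exact lS_good (T := T) (x := Lt.q) (by decide) hu [Lt.y, Lt.y, Lt.z, Lt.q, Lt.y, Lt.z, Lt.yi, Lt.z, Lt.q, Lt.yi, Lt.yi, Lt.z, Lt.q, Lt.yi, Lt.z, Lt.y, Lt.z] (H9.TCY.hole_at hinv hr 40 16 true (by decide +kernel)) h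
theorem dp_q_224_s (hinv : ∀ x, g (inv x) = (g x)⁻¹) (hr : ∀ r ∈ rels, (r.map g).prod = 1) (hH : ∀ r ∈ subs, (r.map g).prod ∈ H)
    (j u : ℕ) (hu : u < M) (h : dp_q_224 j u = true) : Good (fa g) T MG M (cP g H) Lt.q u := by
  unfold dp_q_224 at h
  rcases brec_true h with h | h
  · exact lS_good (T := T) (x := Lt.q) (by decide) hu [Lt.z, Lt.q, Lt.yi, Lt.q, Lt.y, Lt.z, Lt.yi, Lt.q, Lt.z, Lt.q, Lt.y, Lt.q, Lt.yi, Lt.z, Lt.y] (H9.TCY.hole_at hinv hr 24 11 true (by decide +kernel)) h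
  · exact dp_q_223_s hinv hr hH j u hu h
theorem dp_q_225_s (hinv : ∀ x, g (inv x) = (g x)⁻¹) (hr : ∀ r ∈ rels, (r.map g).prod = 1) (hH : ∀ r ∈ subs, (r.map g).prod ∈ H)
    (j u : ℕ) (hu : u < M) (h : dp_q_225 j u = true) : Good (fa g) T MG M (cP g H) Lt.q u := by
  unfold dp_q_225 at h
  rcases brec_true h with h | h
  · exact dp_q_222_s hinv hr hH j u hu h
  · exact dp_q_224_s hinv hr hH j u hu h
theorem dp_q_226_s (hinv : ∀ x, g (inv x) = (g x)⁻¹) (hr : ∀ r ∈ rels, (r.map g).prod = 1) (hH : ∀ r ∈ subs, (r.map g).prod ∈ H)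
    (j u : ℕ) (hu : u < M) (h : dp_q_226 j u = true) : Good (fa g) T MG M (cP g H) Lt.q u := by
  unfold dp_q_226 at h
  rcases brec_true h with h | h
  · exact lS_good (T := T) (x := Lt.q) (by decide) hu [Lt.yi, Lt.q, Lt.yi, Lt.yi, Lt.q, Lt.yi, Lt.q, Lt.y, Lt.y, Lt.q, Lt.y, Lt.y, Lt.y, Lt.q, Lt.yi] (H9.TCY.hole_at hinv hr 31 3 true (by decide +kernel)) h
  · exact lF_good (T := T) (x := Lt.q) (by decide) [Lt.yi, Lt.yi, Lt.q, Lt.yi, Lt.yi, Lt.yi, Lt.q, Lt.y, Lt.q, Lt.y, Lt.q, Lt.y, Lt.y, Lt.q, Lt.y] (H9.TCY.hole_at hinv hr 32 13 false (by decide +kernel)) h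
theorem dp_q_227_s (hinv : ∀ x, g (inv x) = (g x)⁻¹) (hr : ∀ r ∈ rels, (r.map g).prod = 1) (hH : ∀ r ∈ subs, (r.map g).prod ∈ H)
    (j u : ℕ) (hu : u < M) (h : dp_q_227 j u = true) : Good (fa g) T MG M (cP g H) Lt.q u := by
  unfold dp_q_227 at h
  rcases brec_true h with h | h
  · exact lS_good (T := T) (x := Lt.q) (by decide) hu [Lt.yi, Lt.yi, Lt.yi, Lt.q, Lt.z, Lt.yi, Lt.yi, Lt.z, Lt.q, Lt.yi, Lt.yi, Lt.yi, Lt.q, Lt.z, Lt.yi, Lt.yi, Lt.z, Lt.q, Lt.yi, Lt.yi, Lt.yi, Lt.q, Lt.z, Lt.yi, Lt.yi, Lt.z] (H9.TCY.hole_at hinv hr 47 0 true (by decide +kernel)) h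
  · exact dp_q_226_s hinv hr hH j u hu h
theorem dp_q_228_s (hinv : ∀ x, g (inv x) = (g x)⁻¹) (hr : ∀ r ∈ rels, (r.map g).prod = 1) (hH : ∀ r ∈ subs, (r.map g).prod ∈ H)
    (j u : ℕ) (hu : u < M) (h : dp_q_228 j u = true) : Good (fa g) T MG M (cP g H) Lt.q u := by
  unfold dp_q_228 at h
  rcases brec_true h with h | h
  · exact lF_good (T := T) (x := Lt.q) (by decide) [Lt.z, Lt.q, Lt.v, Lt.y, Lt.v, Lt.q, Lt.z, Lt.q, Lt.z, Lt.yi, Lt.z] (H9.TCY.hole_at hinv hr 13 8 false (by decide +kernel)) h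
  · exact lF_good (T := T) (x := Lt.q) (by decide) [Lt.y, Lt.q, Lt.z, Lt.yi, Lt.z, Lt.q, Lt.y, Lt.q, Lt.z, Lt.yi, Lt.z, Lt.q, Lt.y, Lt.q, Lt.z, Lt.yi, Lt.z] (H9.TCY.hole_at hinv hr 42 5 false (by decide +kernel)) h
theorem dp_q_229_s (hinv : ∀ x, g (inv x) = (g x)⁻¹) (hr : ∀ r ∈ rels, (r.map g).prod = 1) (hH : ∀ r ∈ subs, (r.map g).prod ∈ H)
    (j u : ℕ) (hu : u < M) (h : dp_q_229 j u = true) : Good (fa g) T MG M (cP g H) Lt.q u := by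
  unfold dp_q_229 at h
  rcases brec_true h with h | h
  · exact lS_good (T := T) (x := Lt.q) (by decide) hu [Lt.y, Lt.z, Lt.q, Lt.z, Lt.y, Lt.q, Lt.y, Lt.q, Lt.y, Lt.z, Lt.q, Lt.z, Lt.y, Lt.q, Lt.y] (H9.TCY.hole_at hinv hr 35 7 true (by decide +kernel)) h
  · exact dp_q_228_s hinv hr hH j u hu h
theorem dp_q_230_s (hinv : ∀ x, g (inv x) = (g x)⁻¹) (hr : ∀ r ∈ rels, (r.map g).prod = 1) (hH : ∀ r ∈ subs, (r.map g).prod ∈ H)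
    (j u : ℕ) (hu : u < M) (h : dp_q_230 j u = true) : Good (fa g) T MG M (cP g H) Lt.q u := by
  unfold dp_q_230 at h
  rcases brec_true h with h | h
  · exact dp_q_227_s hinv hr hH j u hu h
  · exact dp_q_229_s hinv hr hH j u hu h
theorem dp_q_231_s (hinv : ∀ x, g (inv x) = (g x)⁻¹) (hr : ∀ r ∈ rels, (r.map g).prod = 1) (hH : ∀ r ∈ subs, (r.map g).prod ∈ H)
    (j u : ℕ) (hu : u < M) (h : dp_q_231 j u = true) : Good (fa g) T MG M (cP g H) Lt.q u := by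
  unfold dp_q_231 at h
  rcases brec_true h with h | h
  · exact dp_q_225_s hinv hr hH j u hu h
  · exact dp_q_230_s hinv hr hH j u hu h
theorem dp_q_232_s (hinv : ∀ x, g (inv x) = (g x)⁻¹) (hr : ∀ r ∈ rels, (r.map g).prod = 1) (hH : ∀ r ∈ subs, (r.map g).prod ∈ H)
    (j u : ℕ) (hu : u < M) (h : dp_q_232 j u = true) : Good (fa g) T MG M (cP g H) Lt.q u := by
  unfold dp_q_232 at h
  rcases brec_true h with h | h
  · exact lS_good (T := T) (x := Lt.q) (by decide) hu [Lt.z, Lt.q, Lt.y, Lt.q, Lt.yi, Lt.z, Lt.y, Lt.q, Lt.z, Lt.q, Lt.yi, Lt.q, Lt.y, Lt.z, Lt.yi] (H9.TCY.hole_at hinv hr 24 3 true (by decide +kernel)) h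
  · exact lF_good (T := T) (x := Lt.q) (by decide) [Lt.yi, Lt.z, Lt.y, Lt.q, Lt.z, Lt.q, Lt.yi, Lt.q, Lt.y, Lt.z, Lt.yi, Lt.q, Lt.z, Lt.q, Lt.y] (H9.TCY.hole_at hinv hr 24 7 true (by decide +kernel)) h
theorem dp_q_233_s (hinv : ∀ x, g (inv x) = (g x)⁻¹) (hr : ∀ r ∈ rels, (r.map g).prod = 1) (hH : ∀ r ∈ subs, (r.map g).prod ∈ H)
    (j u : ℕ) (hu : u < M) (h : dp_q_233 j u = true) : Good (fa g) T MG M (cP g H) Lt.q u := by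
  unfold dp_q_233 at h
  rcases brec_true h with h | h
  · exact lF_good (T := T) (x := Lt.q) (by decide) [Lt.y, Lt.q, Lt.y, Lt.q, Lt.y, Lt.y, Lt.q, Lt.y, Lt.q, Lt.yi, Lt.yi, Lt.q, Lt.yi, Lt.yi, Lt.yi] (H9.TCY.hole_at hinv hr 32 4 false (by decide +kernel)) h
  · exact dp_q_232_s hinv hr hH j u hu h
theorem dp_q_234_s (hinv : ∀ x, g (inv x) = (g x)⁻¹) (hr : ∀ r ∈ rels, (r.map g).prod = 1) (hH : ∀ r ∈ subs, (r.map g).prod ∈ H)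
    (j u : ℕ) (hu : u < M) (h : dp_q_234 j u = true) : Good (fa g) T MG M (cP g H) Lt.q u := by
  unfold dp_q_234 at h
  rcases brec_true h with h | h
  · exact lS_good (T := T) (x := Lt.q) (by decide) hu [Lt.y, Lt.q, Lt.yi, Lt.yi, Lt.yi, Lt.q, Lt.yi, Lt.yi, Lt.q, Lt.y, Lt.q, Lt.y, Lt.y, Lt.q, Lt.y] (H9.TCY.hole_at hinv hr 31 14 false (by decide +kernel)) h
  · exact lF_good (T := T) (x := Lt.q) (by decide) [Lt.yi, Lt.yi, Lt.yi, Lt.q, Lt.yi, Lt.yi, Lt.q, Lt.y, Lt.q, Lt.y, Lt.y, Lt.q, Lt.y, Lt.q, Lt.y] (H9.TCY.hole_at hinv hr 31 0 false (by decide +kernel)) h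
theorem dp_q_235_s (hinv : ∀ x, g (inv x) = (g x)⁻¹) (hr : ∀ r ∈ rels, (r.map g).prod = 1) (hH : ∀ r ∈ subs, (r.map g).prod ∈ H)
    (j u : ℕ) (hu : u < M) (h : dp_q_235 j u = true) : Good (fa g) T MG M (cP g H) Lt.q u := by
  unfold dp_q_235 at h
  rcases brec_true h with h | h
  · exact lS_good (T := T) (x := Lt.q) (by decide) hu [Lt.yi, Lt.yi, Lt.z, Lt.q, Lt.yi, Lt.z, Lt.y, Lt.z, Lt.q, Lt.y, Lt.y, Lt.z, Lt.q, Lt.y, Lt.z, Lt.yi, Lt.z] (H9.TCY.hole_at hinv hr 40 7 true (by decide +kernel)) h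
  · exact lS_good (T := T) (x := Lt.q) (by decide) hu [Lt.y, Lt.z, Lt.yi, Lt.z, Lt.q, Lt.yi, Lt.yi, Lt.z, Lt.q, Lt.yi, Lt.z, Lt.y, Lt.z, Lt.q, Lt.y, Lt.y, Lt.z] (H9.TCY.hole_at hinv hr 40 2 true (by decide +kernel)) h
theorem dp_q_236_s (hinv : ∀ x, g (inv x) = (g x)⁻¹) (hr : ∀ r ∈ rels, (r.map g).prod = 1) (hH : ∀ r ∈ subs, (r.map g).prod ∈ H)
    (j u : ℕ) (hu : u < M) (h : dp_q_236 j u = true) : Good (fa g) T MG M (cP g H) Lt.q u := by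
  unfold dp_q_236 at h
  rcases brec_true h with h | h
  · exact dp_q_234_s hinv hr hH j u hu h
  · exact dp_q_235_s hinv hr hH j u hu h
theorem dp_q_237_s (hinv : ∀ x, g (inv x) = (g x)⁻¹) (hr : ∀ r ∈ rels, (r.map g).prod = 1) (hH : ∀ r ∈ subs, (r.map g).prod ∈ H)
    (j u : ℕ) (hu : u < M) (h : dp_q_237 j u = true) : Good (fa g) T MG M (cP g H) Lt.q u := by
  unfold dp_q_237 at h
  rcases brec_true h with h | h
  · exact dp_q_233_s hinv hr hH j u hu h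
  · exact dp_q_236_s hinv hr hH j u hu h
theorem dp_q_238_s (hinv : ∀ x, g (inv x) = (g x)⁻¹) (hr : ∀ r ∈ rels, (r.map g).prod = 1) (hH : ∀ r ∈ subs, (r.map g).prod ∈ H)
    (j u : ℕ) (hu : u < M) (h : dp_q_238 j u = true) : Good (fa g) T MG M (cP g H) Lt.q u := by
  unfold dp_q_238 at h
  rcases brec_true h with h | h
  · exact lS_good (T := T) (x := Lt.q) (by decide) hu [Lt.z, Lt.yi, Lt.z, Lt.y, Lt.q, Lt.z, Lt.y, Lt.y, Lt.q, Lt.z, Lt.y, Lt.z, Lt.yi, Lt.q, Lt.z, Lt.yi, Lt.yi] (H9.TCY.hole_at hinv hr 40 3 false (by decide +kernel)) h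
  · exact lF_good (T := T) (x := Lt.q) (by decide) [Lt.z, Lt.q, Lt.v, Lt.yi, Lt.v, Lt.q, Lt.z, Lt.q, Lt.z, Lt.y, Lt.z] (H9.TCY.hole_at hinv hr 13 9 true (by decide +kernel)) h
theorem dp_q_239_s (hinv : ∀ x, g (inv x) = (g x)⁻¹) (hr : ∀ r ∈ rels, (r.map g).prod = 1) (hH : ∀ r ∈ subs, (r.map g).prod ∈ H)
    (j u : ℕ) (hu : u < M) (h : dp_q_239 j u = true) : Good (fa g) T MG M (cP g H) Lt.q u := by
  unfold dp_q_239 at h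
  rcases brec_true h with h | h
  · exact lS_good (T := T) (x := Lt.q) (by decide) hu [Lt.z, Lt.y, Lt.y, Lt.z, Lt.q, Lt.y, Lt.y, Lt.y, Lt.q, Lt.z, Lt.y, Lt.y, Lt.z, Lt.q, Lt.y, Lt.y, Lt.y, Lt.q, Lt.z, Lt.y, Lt.y, Lt.z, Lt.q, Lt.y, Lt.y, Lt.y] (H9.TCY.hole_at hinv hr 47 1 false (by decide +kernel)) h
  · exact dp_q_238_s hinv hr hH j u hu h
theorem dp_q_240_s (hinv : ∀ x, g (inv x) = (g x)⁻¹) (hr : ∀ r ∈ rels, (r.map g).prod = 1) (hH : ∀ r ∈ subs, (r.map g).prod ∈ H)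
    (j u : ℕ) (hu : u < M) (h : dp_q_240 j u = true) : Good (fa g) T MG M (cP g H) Lt.q u := by
  unfold dp_q_240 at h
  rcases brec_true h with h | h
  · exact lF_good (T := T) (x := Lt.q) (by decide) [Lt.z, Lt.q, Lt.y, Lt.z, Lt.yi, Lt.q, Lt.y, Lt.q, Lt.z, Lt.q, Lt.yi, Lt.z, Lt.y, Lt.q, Lt.yi] (H9.TCY.hole_at hinv hr 24 12 false (by decide +kernel)) h
  · exact lS_good (T := T) (x := Lt.q) (by decide) hu [Lt.y, Lt.q, Lt.z, Lt.q, Lt.yi, Lt.z, Lt.y, Lt.q, Lt.yi, Lt.q, Lt.z, Lt.q, Lt.y, Lt.z, Lt.yi] (H9.TCY.hole_at hinv hr 24 2 false (by decide +kernel)) h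
theorem dp_q_241_s (hinv : ∀ x, g (inv x) = (g x)⁻¹) (hr : ∀ r ∈ rels, (r.map g).prod = 1) (hH : ∀ r ∈ subs, (r.map g).prod ∈ H)
    (j u : ℕ) (hu : u < M) (h : dp_q_241 j u = true) : Good (fa g) T MG M (cP g H) Lt.q u := by
  unfold dp_q_241 at h
  rcases brec_true h with h | h
  · exact lF_good (T := T) (x := Lt.q) (by decide) [Lt.z, Lt.y, Lt.z, Lt.q, Lt.yi, Lt.q, Lt.z, Lt.y, Lt.z, Lt.q, Lt.yi, Lt.q, Lt.z, Lt.y, Lt.z, Lt.q, Lt.yi] (H9.TCY.hole_at hinv hr 42 2 true (by decide +kernel)) h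
  · exact lS_good (T := T) (x := Lt.q) (by decide) hu [Lt.z, Lt.yi, Lt.yi, Lt.q, Lt.z, Lt.yi, Lt.z, Lt.y, Lt.q, Lt.z, Lt.y, Lt.y, Lt.q, Lt.z, Lt.y, Lt.z, Lt.yi] (H9.TCY.hole_at hinv hr 40 17 false (by decide +kernel)) h
theorem dp_q_242_s (hinv : ∀ x, g (inv x) = (g x)⁻¹) (hr : ∀ r ∈ rels, (r.map g).prod = 1) (hH : ∀ r ∈ subs, (r.map g).prod ∈ H)
    (j u : ℕ) (hu : u < M) (h : dp_q_242 j u = true) : Good (fa g) T MG M (cP g H) Lt.q u := by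
  unfold dp_q_242 at h
  rcases brec_true h with h | h
  · exact dp_q_240_s hinv hr hH j u hu h
  · exact dp_q_241_s hinv hr hH j u hu h
theorem dp_q_243_s (hinv : ∀ x, g (inv x) = (g x)⁻¹) (hr : ∀ r ∈ rels, (r.map g).prod = 1) (hH : ∀ r ∈ subs, (r.map g).prod ∈ H)
    (j u : ℕ) (hu : u < M) (h : dp_q_243 j u = true) : Good (fa g) T MG M (cP g H) Lt.q u := by
  unfold dp_q_243 at h
  rcases brec_true h with h | h
  · exact dp_q_239_s hinv hr hH j u hu h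
  · exact dp_q_242_s hinv hr hH j u hu h
theorem dp_q_244_s (hinv : ∀ x, g (inv x) = (g x)⁻¹) (hr : ∀ r ∈ rels, (r.map g).prod = 1) (hH : ∀ r ∈ subs, (r.map g).prod ∈ H)
    (j u : ℕ) (hu : u < M) (h : dp_q_244 j u = true) : Good (fa g) T MG M (cP g H) Lt.q u := by
  unfold dp_q_244 at h
  rcases brec_true h with h | h
  · exact dp_q_237_s hinv hr hH j u hu h
  · exact dp_q_243_s hinv hr hH j u hu h
theorem dp_q_245_s (hinv : ∀ x, g (inv x) = (g x)⁻¹) (hr : ∀ r ∈ rels, (r.map g).prod = 1) (hH : ∀ r ∈ subs, (r.map g).prod ∈ H)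
    (j u : ℕ) (hu : u < M) (h : dp_q_245 j u = true) : Good (fa g) T MG M (cP g H) Lt.q u := by
  unfold dp_q_245 at h
  rcases brec_true h with h | h
  · exact dp_q_231_s hinv hr hH j u hu h
  · exact dp_q_244_s hinv hr hH j u hu h
theorem dp_q_246_s (hinv : ∀ x, g (inv x) = (g x)⁻¹) (hr : ∀ r ∈ rels, (r.map g).prod = 1) (hH : ∀ r ∈ subs, (r.map g).prod ∈ H)
    (j u : ℕ) (hu : u < M) (h : dp_q_246 j u = true) : Good (fa g) T MG M (cP g H) Lt.q u := by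
  unfold dp_q_246 at h
  rcases brec_true h with h | h
  · exact dp_q_220_s hinv hr hH j u hu h
  · exact dp_q_245_s hinv hr hH j u hu h
theorem dp_q_247_s (hinv : ∀ x, g (inv x) = (g x)⁻¹) (hr : ∀ r ∈ rels, (r.map g).prod = 1) (hH : ∀ r ∈ subs, (r.map g).prod ∈ H)
    (j u : ℕ) (hu : u < M) (h : dp_q_247 j u = true) : Good (fa g) T MG M (cP g H) Lt.q u := by
  unfold dp_q_247 at h
  rcases brec_true h with h | h
  · exact lS_good (T := T) (x := Lt.q) (by decide) hu [Lt.yi, Lt.z, Lt.y, Lt.z, Lt.q, Lt.y, Lt.y, Lt.z, Lt.q, Lt.y, Lt.z, Lt.yi, Lt.z, Lt.q, Lt.yi, Lt.yi, Lt.z] (H9.TCY.hole_at hinv hr 40 11 true (by decide +kernel)) h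
  · exact lS_good (T := T) (x := Lt.q) (by decide) hu [Lt.y, Lt.z, Lt.yi, Lt.q, Lt.z, Lt.y, Lt.q, Lt.z, Lt.yi, Lt.z, Lt.y, Lt.z, Lt.q, Lt.yi, Lt.z] (H9.TCY.hole_at hinv hr 36 14 false (by decide +kernel)) h
theorem dp_q_248_s (hinv : ∀ x, g (inv x) = (g x)⁻¹) (hr : ∀ r ∈ rels, (r.map g).prod = 1) (hH : ∀ r ∈ subs, (r.map g).prod ∈ H)
    (j u : ℕ) (hu : u < M) (h : dp_q_248 j u = true) : Good (fa g) T MG M (cP g H) Lt.q u := by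
  unfold dp_q_248 at h
  rcases brec_true h with h | h
  · exact lF_good (T := T) (x := Lt.q) (by decide) [Lt.z, Lt.v, Lt.q, Lt.v, Lt.q, Lt.v, Lt.z, Lt.q, Lt.z, Lt.v, Lt.z, Lt.v, Lt.z] (H9.TCY.hole_at hinv hr 20 12 false (by decide +kernel)) h
  · exact lS_good (T := T) (x := Lt.q) (by decide) hu [Lt.yi, Lt.yi, Lt.yi, Lt.z, Lt.q, Lt.z, Lt.q, Lt.yi, Lt.yi, Lt.yi, Lt.z, Lt.q, Lt.z] (H9.TCY.hole_at hinv hr 21 0 false (by decide +kernel)) h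
theorem dp_q_249_s (hinv : ∀ x, g (inv x) = (g x)⁻¹) (hr : ∀ r ∈ rels, (r.map g).prod = 1) (hH : ∀ r ∈ subs, (r.map g).prod ∈ H)
    (j u : ℕ) (hu : u < M) (h : dp_q_249 j u = true) : Good (fa g) T MG M (cP g H) Lt.q u := by
  unfold dp_q_249 at h
  rcases brec_true h with h | h
  · exact dp_q_247_s hinv hr hH j u hu h
  · exact dp_q_248_s hinv hr hH j u hu h
theorem dp_q_250_s (hinv : ∀ x, g (inv x) = (g x)⁻¹) (hr : ∀ r ∈ rels, (r.map g).prod = 1) (hH : ∀ r ∈ subs, (r.map g).prod ∈ H)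
    (j u : ℕ) (hu : u < M) (h : dp_q_250 j u = true) : Good (fa g) T MG M (cP g H) Lt.q u := by
  unfold dp_q_250 at h
  rcases brec_true h with h | h
  · exact lS_good (T := T) (x := Lt.q) (by decide) hu [Lt.yi, Lt.z, Lt.q, Lt.y, Lt.z, Lt.yi, Lt.q, Lt.z, Lt.y, Lt.q, Lt.z, Lt.yi, Lt.z, Lt.y, Lt.z] (H9.TCY.hole_at hinv hr 36 11 false (by decide +kernel)) h
  · exact lS_good (T := T) (x := Lt.q) (by decide) hu [Lt.z, Lt.yi, Lt.q, Lt.z, Lt.yi, Lt.z, Lt.y, Lt.z, Lt.q, Lt.y, Lt.z, Lt.q, Lt.y, Lt.y, Lt.z, Lt.q, Lt.yi, Lt.q, Lt.z, Lt.q, Lt.y, Lt.q, Lt.z, Lt.yi, Lt.yi] (H9.TCY.hole_at hinv hr 46 6 false (by decide +kernel)) h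
theorem dp_q_251_s (hinv : ∀ x, g (inv x) = (g x)⁻¹) (hr : ∀ r ∈ rels, (r.map g).prod = 1) (hH : ∀ r ∈ subs, (r.map g).prod ∈ H)
    (j u : ℕ) (hu : u < M) (h : dp_q_251 j u = true) : Good (fa g) T MG M (cP g H) Lt.q u := by
  unfold dp_q_251 at h
  rcases brec_true h with h | h
  · exact lF_good (T := T) (x := Lt.q) (by decide) [Lt.z, Lt.yi, Lt.q, Lt.z, Lt.yi, Lt.z, Lt.y, Lt.z, Lt.q, Lt.y, Lt.z, Lt.q, Lt.y, Lt.y, Lt.z, Lt.q, Lt.yi, Lt.q, Lt.z, Lt.q, Lt.y, Lt.q, Lt.z, Lt.yi, Lt.yi] (H9.TCY.hole_at hinv hr 46 6 false (by decide +kernel)) h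
  · exact lS_good (T := T) (x := Lt.q) (by decide) hu [Lt.y, Lt.q, Lt.z, Lt.yi, Lt.z, Lt.y, Lt.q, Lt.z, Lt.yi, Lt.z, Lt.q, Lt.y, Lt.z, Lt.yi, Lt.z] (H9.TCY.hole_at hinv hr 28 15 true (by decide +kernel)) h
theorem dp_q_252_s (hinv : ∀ x, g (inv x) = (g x)⁻¹) (hr : ∀ r ∈ rels, (r.map g).prod = 1) (hH : ∀ r ∈ subs, (r.map g).prod ∈ H)
    (j u : ℕ) (hu : u < M) (h : dp_q_252 j u = true) : Good (fa g) T MG M (cP g H) Lt.q u := by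
  unfold dp_q_252 at h
  rcases brec_true h with h | h
  · exact dp_q_250_s hinv hr hH j u hu h
  · exact dp_q_251_s hinv hr hH j u hu h
theorem dp_q_253_s (hinv : ∀ x, g (inv x) = (g x)⁻¹) (hr : ∀ r ∈ rels, (r.map g).prod = 1) (hH : ∀ r ∈ subs, (r.map g).prod ∈ H)
    (j u : ℕ) (hu : u < M) (h : dp_q_253 j u = true) : Good (fa g) T MG M (cP g H) Lt.q u := by
  unfold dp_q_253 at h
  rcases brec_true h with h | h
  · exact dp_q_249_s hinv hr hH j u hu h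
  · exact dp_q_252_s hinv hr hH j u hu h
theorem dp_q_254_s (hinv : ∀ x, g (inv x) = (g x)⁻¹) (hr : ∀ r ∈ rels, (r.map g).prod = 1) (hH : ∀ r ∈ subs, (r.map g).prod ∈ H)
    (j u : ℕ) (hu : u < M) (h : dp_q_254 j u = true) : Good (fa g) T MG M (cP g H) Lt.q u := by
  unfold dp_q_254 at h
  rcases brec_true h with h | h
  · exact lS_good (T := T) (x := Lt.q) (by decide) hu [Lt.z, Lt.yi, Lt.yi, Lt.q, Lt.y, Lt.y, Lt.z, Lt.q, Lt.z, Lt.yi, Lt.yi, Lt.q, Lt.y, Lt.y, Lt.z] (H9.TCY.hole_at hinv hr 33 7 false (by decide +kernel)) h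
  · exact lS_good (T := T) (x := Lt.q) (by decide) hu [Lt.z, Lt.yi, Lt.z, Lt.y, Lt.q, Lt.z, Lt.yi, Lt.z, Lt.q, Lt.y, Lt.z, Lt.yi, Lt.z, Lt.q, Lt.y] (H9.TCY.hole_at hinv hr 28 1 true (by decide +kernel)) h
theorem dp_q_255_s (hinv : ∀ x, g (inv x) = (g x)⁻¹) (hr : ∀ r ∈ rels, (r.map g).prod = 1) (hH : ∀ r ∈ subs, (r.map g).prod ∈ H)
    (j u : ℕ) (hu : u < M) (h : dp_q_255 j u = true) : Good (fa g) T MG M (cP g H) Lt.q u := by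
  unfold dp_q_255 at h
  rcases brec_true h with h | h
  · exact lS_good (T := T) (x := Lt.q) (by decide) hu [Lt.yi, Lt.yi, Lt.yi, Lt.q, Lt.y, Lt.y, Lt.y, Lt.q, Lt.yi, Lt.yi, Lt.yi, Lt.q, Lt.yi, Lt.yi, Lt.yi] (H9.TCY.hole_at hinv hr 30 8 false (by decide +kernel)) h
  · exact lS_good (T := T) (x := Lt.q) (by decide) hu [Lt.z, Lt.y, Lt.y, Lt.q, Lt.z, Lt.y, Lt.z, Lt.yi, Lt.q, Lt.z, Lt.yi, Lt.yi, Lt.q, Lt.z, Lt.yi, Lt.z, Lt.y] (H9.TCY.hole_at hinv hr 40 8 false (by decide +kernel)) h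
theorem dp_q_256_s (hinv : ∀ x, g (inv x) = (g x)⁻¹) (hr : ∀ r ∈ rels, (r.map g).prod = 1) (hH : ∀ r ∈ subs, (r.map g).prod ∈ H)
    (j u : ℕ) (hu : u < M) (h : dp_q_256 j u = true) : Good (fa g) T MG M (cP g H) Lt.q u := by
  unfold dp_q_256 at h
  rcases brec_true h with h | h
  · exact dp_q_254_s hinv hr hH j u hu h
  · exact dp_q_255_s hinv hr hH j u hu h
theorem dp_q_257_s (hinv : ∀ x, g (inv x) = (g x)⁻¹) (hr : ∀ r ∈ rels, (r.map g).prod = 1) (hH : ∀ r ∈ subs, (r.map g).prod ∈ H)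
    (j u : ℕ) (hu : u < M) (h : dp_q_257 j u = true) : Good (fa g) T MG M (cP g H) Lt.q u := by
  unfold dp_q_257 at h
  rcases brec_true h with h | h
  · exact lS_good (T := T) (x := Lt.q) (by decide) hu [Lt.z, Lt.y, Lt.z, Lt.yi, Lt.q, Lt.z, Lt.y, Lt.z, Lt.q, Lt.yi, Lt.z, Lt.y, Lt.z, Lt.q, Lt.yi] (H9.TCY.hole_at hinv hr 28 2 false (by decide +kernel)) h
  · exact lS_good (T := T) (x := Lt.q) (by decide) hu [Lt.yi, Lt.yi, Lt.yi, Lt.q, Lt.y, Lt.q, Lt.y, Lt.q, Lt.y, Lt.y, Lt.q, Lt.y, Lt.q, Lt.yi, Lt.yi] (H9.TCY.hole_at hinv hr 32 0 false (by decide +kernel)) h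
theorem dp_q_258_s (hinv : ∀ x, g (inv x) = (g x)⁻¹) (hr : ∀ r ∈ rels, (r.map g).prod = 1) (hH : ∀ r ∈ subs, (r.map g).prod ∈ H)
    (j u : ℕ) (hu : u < M) (h : dp_q_258 j u = true) : Good (fa g) T MG M (cP g H) Lt.q u := by
  unfold dp_q_258 at h
  rcases brec_true h with h | h
  · exact lF_good (T := T) (x := Lt.q) (by decide) [Lt.z, Lt.y, Lt.y, Lt.z, Lt.q, Lt.y, Lt.y, Lt.y, Lt.q, Lt.z, Lt.y, Lt.y, Lt.z, Lt.q, Lt.y, Lt.y, Lt.y, Lt.q, Lt.z, Lt.y, Lt.y, Lt.z, Lt.q, Lt.y, Lt.y, Lt.y] (H9.TCY.hole_at hinv hr 47 1 false (by decide +kernel)) h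
  · exact lF_good (T := T) (x := Lt.q) (by decide) [Lt.y, Lt.q, Lt.yi, Lt.z, Lt.y, Lt.q, Lt.z, Lt.q, Lt.yi, Lt.q, Lt.y, Lt.z, Lt.yi, Lt.q, Lt.z] (H9.TCY.hole_at hinv hr 24 5 true (by decide +kernel)) h
theorem dp_q_259_s (hinv : ∀ x, g (inv x) = (g x)⁻¹) (hr : ∀ r ∈ rels, (r.map g).prod = 1) (hH : ∀ r ∈ subs, (r.map g).prod ∈ H)
    (j u : ℕ) (hu : u < M) (h : dp_q_259 j u = true) : Good (fa g) T MG M (cP g H) Lt.q u := by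
  unfold dp_q_259 at h
  rcases brec_true h with h | h
  · exact dp_q_257_s hinv hr hH j u hu h
  · exact dp_q_258_s hinv hr hH j u hu h
theorem dp_q_260_s (hinv : ∀ x, g (inv x) = (g x)⁻¹) (hr : ∀ r ∈ rels, (r.map g).prod = 1) (hH : ∀ r ∈ subs, (r.map g).prod ∈ H)
    (j u : ℕ) (hu : u < M) (h : dp_q_260 j u = true) : Good (fa g) T MG M (cP g H) Lt.q u := by
  unfold dp_q_260 at h
  rcases brec_true h with h | h
  · exact dp_q_256_s hinv hr hH j u hu h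
  · exact dp_q_259_s hinv hr hH j u hu h
theorem dp_q_261_s (hinv : ∀ x, g (inv x) = (g x)⁻¹) (hr : ∀ r ∈ rels, (r.map g).prod = 1) (hH : ∀ r ∈ subs, (r.map g).prod ∈ H)
    (j u : ℕ) (hu : u < M) (h : dp_q_261 j u = true) : Good (fa g) T MG M (cP g H) Lt.q u := by
  unfold dp_q_261 at h
  rcases brec_true h with h | h
  · exact dp_q_253_s hinv hr hH j u hu h
  · exact dp_q_260_s hinv hr hH j u hu h
theorem dp_q_262_s (hinv : ∀ x, g (inv x) = (g x)⁻¹) (hr : ∀ r ∈ rels, (r.map g).prod = 1) (hH : ∀ r ∈ subs, (r.map g).prod ∈ H)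
    (j u : ℕ) (hu : u < M) (h : dp_q_262 j u = true) : Good (fa g) T MG M (cP g H) Lt.q u := by
  unfold dp_q_262 at h
  rcases brec_true h with h | h
  · exact lF_good (T := T) (x := Lt.q) (by decide) [Lt.y, Lt.y, Lt.y, Lt.q, Lt.y, Lt.y, Lt.y, Lt.q, Lt.y, Lt.y, Lt.y, Lt.q, Lt.yi, Lt.yi, Lt.yi] (H9.TCY.hole_at hinv hr 30 5 true (by decide +kernel)) h
  · exact lS_good (T := T) (x := Lt.q) (by decide) hu [Lt.yi, Lt.z, Lt.q, Lt.z, Lt.yi, Lt.q, Lt.yi, Lt.q, Lt.yi, Lt.z, Lt.q, Lt.z, Lt.yi, Lt.q, Lt.yi] (H9.TCY.hole_at hinv hr 35 4 false (by decide +kernel)) h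
theorem dp_q_263_s (hinv : ∀ x, g (inv x) = (g x)⁻¹) (hr : ∀ r ∈ rels, (r.map g).prod = 1) (hH : ∀ r ∈ subs, (r.map g).prod ∈ H)
    (j u : ℕ) (hu : u < M) (h : dp_q_263 j u = true) : Good (fa g) T MG M (cP g H) Lt.q u := by
  unfold dp_q_263 at h
  rcases brec_true h with h | h
  · exact lS_good (T := T) (x := Lt.q) (by decide) hu [Lt.y, Lt.z, Lt.q, Lt.yi, Lt.q, Lt.z, Lt.y, Lt.q, Lt.yi, Lt.q, Lt.z, Lt.y, Lt.z, Lt.q, Lt.yi] (H9.TCY.hole_at hinv hr 23 15 true (by decide +kernel)) h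
  · exact lS_good (T := T) (x := Lt.q) (by decide) hu [Lt.z, Lt.yi, Lt.z, Lt.q, Lt.y, Lt.z, Lt.yi, Lt.z, Lt.q, Lt.y, Lt.q, Lt.z, Lt.yi, Lt.z, Lt.y] (H9.TCY.hole_at hinv hr 28 6 true (by decide +kernel)) h
theorem dp_q_264_s (hinv : ∀ x, g (inv x) = (g x)⁻¹) (hr : ∀ r ∈ rels, (r.map g).prod = 1) (hH : ∀ r ∈ subs, (r.map g).prod ∈ H)
    (j u : ℕ) (hu : u < M) (h : dp_q_264 j u = true) : Good (fa g) T MG M (cP g H) Lt.q u := by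
  unfold dp_q_264 at h
  rcases brec_true h with h | h
  · exact dp_q_262_s hinv hr hH j u hu h
  · exact dp_q_263_s hinv hr hH j u hu h
theorem dp_q_265_s (hinv : ∀ x, g (inv x) = (g x)⁻¹) (hr : ∀ r ∈ rels, (r.map g).prod = 1) (hH : ∀ r ∈ subs, (r.map g).prod ∈ H)
    (j u : ℕ) (hu : u < M) (h : dp_q_265 j u = true) : Good (fa g) T MG M (cP g H) Lt.q u := by
  unfold dp_q_265 at h
  rcases brec_true h with h | h
  · exact lS_good (T := T) (x := Lt.q) (by decide) hu [Lt.yi, Lt.q, Lt.yi, Lt.q, Lt.y, Lt.y, Lt.y, Lt.q, Lt.y, Lt.y, Lt.q, Lt.yi, Lt.q, Lt.yi, Lt.yi] (H9.TCY.hole_at hinv hr 32 9 true (by decide +kernel)) h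
  · exact lS_good (T := T) (x := Lt.q) (by decide) hu [Lt.z, Lt.y, Lt.z, Lt.yi, Lt.q, Lt.z, Lt.yi, Lt.yi, Lt.q, Lt.z, Lt.yi, Lt.z, Lt.y, Lt.q, Lt.z, Lt.y, Lt.y] (H9.TCY.hole_at hinv hr 40 12 false (by decide +kernel)) h
theorem dp_q_266_s (hinv : ∀ x, g (inv x) = (g x)⁻¹) (hr : ∀ r ∈ rels, (r.map g).prod = 1) (hH : ∀ r ∈ subs, (r.map g).prod ∈ H)
    (j u : ℕ) (hu : u < M) (h : dp_q_266 j u = true) : Good (fa g) T MG M (cP g H) Lt.q u := by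
  unfold dp_q_266 at h
  rcases brec_true h with h | h
  · exact lF_good (T := T) (x := Lt.q) (by decide) [Lt.y, Lt.y, Lt.y, Lt.q, Lt.y, Lt.y, Lt.q, Lt.yi, Lt.q, Lt.yi, Lt.yi, Lt.q, Lt.yi, Lt.q, Lt.yi] (H9.TCY.hole_at hinv hr 32 13 true (by decide +kernel)) h
  · exact lF_good (T := T) (x := Lt.q) (by decide) [Lt.yi, Lt.q, Lt.y, Lt.z, Lt.yi, Lt.q, Lt.z, Lt.q, Lt.y, Lt.q, Lt.yi, Lt.z, Lt.y, Lt.q, Lt.z] (H9.TCY.hole_at hinv hr 24 13 true (by decide +kernel)) h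
theorem dp_q_267_s (hinv : ∀ x, g (inv x) = (g x)⁻¹) (hr : ∀ r ∈ rels, (r.map g).prod = 1) (hH : ∀ r ∈ subs, (r.map g).prod ∈ H)
    (j u : ℕ) (hu : u < M) (h : dp_q_267 j u = true) : Good (fa g) T MG M (cP g H) Lt.q u := by
  unfold dp_q_267 at h
  rcases brec_true h with h | h
  · exact dp_q_265_s hinv hr hH j u hu h
  · exact dp_q_266_s hinv hr hH j u hu h
theorem dp_q_268_s (hinv : ∀ x, g (inv x) = (g x)⁻¹) (hr : ∀ r ∈ rels, (r.map g).prod = 1) (hH : ∀ r ∈ subs, (r.map g).prod ∈ H)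
    (j u : ℕ) (hu : u < M) (h : dp_q_268 j u = true) : Good (fa g) T MG M (cP g H) Lt.q u := by
  unfold dp_q_268 at h
  rcases brec_true h with h | h
  · exact dp_q_264_s hinv hr hH j u hu h
  · exact dp_q_267_s hinv hr hH j u hu h
theorem dp_q_269_s (hinv : ∀ x, g (inv x) = (g x)⁻¹) (hr : ∀ r ∈ rels, (r.map g).prod = 1) (hH : ∀ r ∈ subs, (r.map g).prod ∈ H)
    (j u : ℕ) (hu : u < M) (h : dp_q_269 j u = true) : Good (fa g) T MG M (cP g H) Lt.q u := by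
  unfold dp_q_269 at h
  rcases brec_true h with h | h
  · exact lS_good (T := T) (x := Lt.q) (by decide) hu [Lt.y, Lt.y, Lt.q, Lt.y, Lt.q, Lt.yi, Lt.yi, Lt.q, Lt.yi, Lt.yi, Lt.yi, Lt.q, Lt.y, Lt.q, Lt.y] (H9.TCY.hole_at hinv hr 32 8 false (by decide +kernel)) h
  · exact lS_good (T := T) (x := Lt.q) (by decide) hu [Lt.z, Lt.yi, Lt.z, Lt.y, Lt.z, Lt.q, Lt.yi, Lt.z, Lt.q, Lt.y, Lt.z, Lt.yi, Lt.q, Lt.z, Lt.y] (H9.TCY.hole_at hinv hr 36 5 false (by decide +kernel)) h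
theorem dp_q_270_s (hinv : ∀ x, g (inv x) = (g x)⁻¹) (hr : ∀ r ∈ rels, (r.map g).prod = 1) (hH : ∀ r ∈ subs, (r.map g).prod ∈ H)
    (j u : ℕ) (hu : u < M) (h : dp_q_270 j u = true) : Good (fa g) T MG M (cP g H) Lt.q u := by
  unfold dp_q_270 at h
  rcases brec_true h with h | h
  · exact lS_good (T := T) (x := Lt.q) (by decide) hu [Lt.yi, Lt.q, Lt.yi, Lt.q, Lt.yi, Lt.yi, Lt.q, Lt.yi, Lt.q, Lt.y, Lt.y, Lt.q, Lt.y, Lt.y, Lt.y] (H9.TCY.hole_at hinv hr 31 1 true (by decide +kernel)) h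
  · exact lS_good (T := T) (x := Lt.q) (by decide) hu [Lt.z, Lt.yi, Lt.yi, Lt.z, Lt.q, Lt.yi, Lt.yi, Lt.yi, Lt.q, Lt.z, Lt.yi, Lt.yi, Lt.z, Lt.q, Lt.yi, Lt.yi, Lt.yi, Lt.q, Lt.z, Lt.yi, Lt.yi, Lt.z, Lt.q, Lt.yi, Lt.yi, Lt.yi] (H9.TCY.hole_at hinv hr 47 4 true (by decide +kernel)) h
theorem dp_q_271_s (hinv : ∀ x, g (inv x) = (g x)⁻¹) (hr : ∀ r ∈ rels, (r.map g).prod = 1) (hH : ∀ r ∈ subs, (r.map g).prod ∈ H)
    (j u : ℕ) (hu : u < M) (h : dp_q_271 j u = true) : Good (fa g) T MG M (cP g H) Lt.q u := by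
  unfold dp_q_271 at h
  rcases brec_true h with h | h
  · exact lF_good (T := T) (x := Lt.q) (by decide) [Lt.yi, Lt.yi, Lt.yi, Lt.q, Lt.z, Lt.yi, Lt.yi, Lt.z, Lt.q, Lt.yi, Lt.yi, Lt.yi, Lt.q, Lt.z, Lt.yi, Lt.yi, Lt.z, Lt.q, Lt.yi, Lt.yi, Lt.yi, Lt.q, Lt.z, Lt.yi, Lt.yi, Lt.z] (H9.TCY.hole_at hinv hr 47 0 true (by decide +kernel)) h
  · exact dp_q_270_s hinv hr hH j u hu h
theorem dp_q_272_s (hinv : ∀ x, g (inv x) = (g x)⁻¹) (hr : ∀ r ∈ rels, (r.map g).prod = 1) (hH : ∀ r ∈ subs, (r.map g).prod ∈ H)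
    (j u : ℕ) (hu : u < M) (h : dp_q_272 j u = true) : Good (fa g) T MG M (cP g H) Lt.q u := by
  unfold dp_q_272 at h
  rcases brec_true h with h | h
  · exact dp_q_269_s hinv hr hH j u hu h
  · exact dp_q_271_s hinv hr hH j u hu h
theorem dp_q_273_s (hinv : ∀ x, g (inv x) = (g x)⁻¹) (hr : ∀ r ∈ rels, (r.map g).prod = 1) (hH : ∀ r ∈ subs, (r.map g).prod ∈ H)
    (j u : ℕ) (hu : u < M) (h : dp_q_273 j u = true) : Good (fa g) T MG M (cP g H) Lt.q u := by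
  unfold dp_q_273 at h
  rcases brec_true h with h | h
  · exact lS_good (T := T) (x := Lt.q) (by decide) hu [Lt.y, Lt.y, Lt.q, Lt.yi, Lt.q, Lt.yi, Lt.yi, Lt.q, Lt.yi, Lt.q, Lt.yi, Lt.q, Lt.y, Lt.y, Lt.y] (H9.TCY.hole_at hinv hr 32 1 true (by decide +kernel)) h
  · exact lF_good (T := T) (x := Lt.q) (by decide) [Lt.z, Lt.yi, Lt.z, Lt.q, Lt.y, Lt.q, Lt.z, Lt.yi, Lt.z, Lt.q, Lt.y, Lt.q, Lt.z, Lt.yi, Lt.z, Lt.q, Lt.y] (H9.TCY.hole_at hinv hr 42 1 false (by decide +kernel)) h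
theorem dp_q_274_s (hinv : ∀ x, g (inv x) = (g x)⁻¹) (hr : ∀ r ∈ rels, (r.map g).prod = 1) (hH : ∀ r ∈ subs, (r.map g).prod ∈ H)
    (j u : ℕ) (hu : u < M) (h : dp_q_274 j u = true) : Good (fa g) T MG M (cP g H) Lt.q u := by
  unfold dp_q_274 at h
  rcases brec_true h with h | h
  · exact lS_good (T := T) (x := Lt.q) (by decide) hu [Lt.y, Lt.y, Lt.q, Lt.y, Lt.y, Lt.y, Lt.q, Lt.yi, Lt.q, Lt.yi, Lt.q, Lt.yi, Lt.yi, Lt.q, Lt.yi] (H9.TCY.hole_at hinv hr 31 10 true (by decide +kernel)) h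
  · exact lS_good (T := T) (x := Lt.q) (by decide) hu [Lt.z, Lt.q, Lt.yi, Lt.z, Lt.y, Lt.q, Lt.yi, Lt.q, Lt.z, Lt.q, Lt.y, Lt.z, Lt.yi, Lt.q, Lt.y] (H9.TCY.hole_at hinv hr 24 4 false (by decide +kernel)) h
theorem dp_q_275_s (hinv : ∀ x, g (inv x) = (g x)⁻¹) (hr : ∀ r ∈ rels, (r.map g).prod = 1) (hH : ∀ r ∈ subs, (r.map g).prod ∈ H)
    (j u : ℕ) (hu : u < M) (h : dp_q_275 j u = true) : Good (fa g) T MG M (cP g H) Lt.q u := by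
  unfold dp_q_275 at h
  rcases brec_true h with h | h
  · exact lS_good (T := T) (x := Lt.q) (by decide) hu [Lt.v, Lt.y, Lt.v, Lt.q, Lt.z, Lt.q, Lt.z, Lt.yi, Lt.z, Lt.q, Lt.z] (H9.TCY.hole_at hinv hr 13 10 false (by decide +kernel)) h
  · exact dp_q_274_s hinv hr hH j u hu h
theorem dp_q_276_s (hinv : ∀ x, g (inv x) = (g x)⁻¹) (hr : ∀ r ∈ rels, (r.map g).prod = 1) (hH : ∀ r ∈ subs, (r.map g).prod ∈ H)
    (j u : ℕ) (hu : u < M) (h : dp_q_276 j u = true) : Good (fa g) T MG M (cP g H) Lt.q u := by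
  unfold dp_q_276 at h
  rcases brec_true h with h | h
  · exact dp_q_273_s hinv hr hH j u hu h
  · exact dp_q_275_s hinv hr hH j u hu h
theorem dp_q_277_s (hinv : ∀ x, g (inv x) = (g x)⁻¹) (hr : ∀ r ∈ rels, (r.map g).prod = 1) (hH : ∀ r ∈ subs, (r.map g).prod ∈ H)
    (j u : ℕ) (hu : u < M) (h : dp_q_277 j u = true) : Good (fa g) T MG M (cP g H) Lt.q u := by
  unfold dp_q_277 at h
  rcases brec_true h with h | h
  · exact dp_q_272_s hinv hr hH j u hu h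
  · exact dp_q_276_s hinv hr hH j u hu h
theorem dp_q_278_s (hinv : ∀ x, g (inv x) = (g x)⁻¹) (hr : ∀ r ∈ rels, (r.map g).prod = 1) (hH : ∀ r ∈ subs, (r.map g).prod ∈ H)
    (j u : ℕ) (hu : u < M) (h : dp_q_278 j u = true) : Good (fa g) T MG M (cP g H) Lt.q u := by
  unfold dp_q_278 at h
  rcases brec_true h with h | h
  · exact dp_q_268_s hinv hr hH j u hu h
  · exact dp_q_277_s hinv hr hH j u hu h
theorem dp_q_279_s (hinv : ∀ x, g (inv x) = (g x)⁻¹) (hr : ∀ r ∈ rels, (r.map g).prod = 1) (hH : ∀ r ∈ subs, (r.map g).prod ∈ H)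
    (j u : ℕ) (hu : u < M) (h : dp_q_279 j u = true) : Good (fa g) T MG M (cP g H) Lt.q u := by
  unfold dp_q_279 at h
  rcases brec_true h with h | h
  · exact dp_q_261_s hinv hr hH j u hu h
  · exact dp_q_278_s hinv hr hH j u hu h
theorem dp_q_280_s (hinv : ∀ x, g (inv x) = (g x)⁻¹) (hr : ∀ r ∈ rels, (r.map g).prod = 1) (hH : ∀ r ∈ subs, (r.map g).prod ∈ H)
    (j u : ℕ) (hu : u < M) (h : dp_q_280 j u = true) : Good (fa g) T MG M (cP g H) Lt.q u := by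
  unfold dp_q_280 at h
  rcases brec_true h with h | h
  · exact lF_good (T := T) (x := Lt.q) (by decide) [Lt.z, Lt.yi, Lt.q, Lt.yi, Lt.q, Lt.yi, Lt.z, Lt.q, Lt.z, Lt.yi, Lt.q, Lt.yi, Lt.q, Lt.yi, Lt.z] (H9.TCY.hole_at hinv hr 35 7 false (by decide +kernel)) h
  · exact lS_good (T := T) (x := Lt.q) (by decide) hu [Lt.z, Lt.y, Lt.q, Lt.z, Lt.yi, Lt.z, Lt.y, Lt.z, Lt.q, Lt.yi, Lt.z, Lt.q, Lt.y, Lt.z, Lt.yi] (H9.TCY.hole_at hinv hr 36 2 false (by decide +kernel)) h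
theorem dp_q_281_s (hinv : ∀ x, g (inv x) = (g x)⁻¹) (hr : ∀ r ∈ rels, (r.map g).prod = 1) (hH : ∀ r ∈ subs, (r.map g).prod ∈ H)
    (j u : ℕ) (hu : u < M) (h : dp_q_281 j u = true) : Good (fa g) T MG M (cP g H) Lt.q u := by
  unfold dp_q_281 at h
  rcases brec_true h with h | h
  · exact lF_good (T := T) (x := Lt.q) (by decide) [Lt.y, Lt.z, Lt.q, Lt.y, Lt.y, Lt.z, Lt.q, Lt.yi, Lt.q, Lt.z, Lt.q, Lt.y, Lt.q, Lt.z, Lt.yi, Lt.yi, Lt.q, Lt.z, Lt.yi, Lt.q, Lt.z, Lt.yi, Lt.z, Lt.y, Lt.z] (H9.TCY.hole_at hinv hr 46 15 false (by decide +kernel)) h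
  · exact lS_good (T := T) (x := Lt.q) (by decide) hu [Lt.yi, Lt.q, Lt.z, Lt.y, Lt.z, Lt.q, Lt.yi, Lt.q, Lt.z, Lt.y, Lt.z, Lt.q, Lt.yi, Lt.q, Lt.z, Lt.y, Lt.z] (H9.TCY.hole_at hinv hr 42 0 true (by decide +kernel)) h
theorem dp_q_282_s (hinv : ∀ x, g (inv x) = (g x)⁻¹) (hr : ∀ r ∈ rels, (r.map g).prod = 1) (hH : ∀ r ∈ subs, (r.map g).prod ∈ H)
    (j u : ℕ) (hu : u < M) (h : dp_q_282 j u = true) : Good (fa g) T MG M (cP g H) Lt.q u := by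
  unfold dp_q_282 at h
  rcases brec_true h with h | h
  · exact lS_good (T := T) (x := Lt.q) (by decide) hu [Lt.y, Lt.q, Lt.y, Lt.y, Lt.q, Lt.y, Lt.q, Lt.yi, Lt.yi, Lt.q, Lt.yi, Lt.yi, Lt.yi, Lt.q, Lt.y] (H9.TCY.hole_at hinv hr 32 6 false (by decide +kernel)) h
  · exact dp_q_281_s hinv hr hH j u hu h
theorem dp_q_283_s (hinv : ∀ x, g (inv x) = (g x)⁻¹) (hr : ∀ r ∈ rels, (r.map g).prod = 1) (hH : ∀ r ∈ subs, (r.map g).prod ∈ H)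
    (j u : ℕ) (hu : u < M) (h : dp_q_283 j u = true) : Good (fa g) T MG M (cP g H) Lt.q u := by
  unfold dp_q_283 at h
  rcases brec_true h with h | h
  · exact dp_q_280_s hinv hr hH j u hu h
  · exact dp_q_282_s hinv hr hH j u hu h
theorem dp_q_284_s (hinv : ∀ x, g (inv x) = (g x)⁻¹) (hr : ∀ r ∈ rels, (r.map g).prod = 1) (hH : ∀ r ∈ subs, (r.map g).prod ∈ H)
    (j u : ℕ) (hu : u < M) (h : dp_q_284 j u = true) : Good (fa g) T MG M (cP g H) Lt.q u := by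
  unfold dp_q_284 at h
  rcases brec_true h with h | h
  · exact lS_good (T := T) (x := Lt.q) (by decide) hu [Lt.y, Lt.y, Lt.y, Lt.q, Lt.yi, Lt.yi, Lt.yi, Lt.q, Lt.y, Lt.y, Lt.y, Lt.q, Lt.y, Lt.y, Lt.y] (H9.TCY.hole_at hinv hr 30 13 true (by decide +kernel)) h
  · exact lS_good (T := T) (x := Lt.q) (by decide) hu [Lt.y, Lt.z, Lt.q, Lt.y, Lt.y, Lt.y, Lt.z, Lt.q, Lt.y, Lt.z, Lt.q, Lt.y, Lt.y, Lt.y, Lt.z, Lt.q, Lt.y, Lt.z, Lt.q, Lt.y, Lt.y, Lt.y, Lt.z, Lt.q, Lt.y, Lt.z, Lt.q, Lt.y, Lt.y, Lt.y, Lt.z] (H9.TCY.hole_at hinv hr 48 2 false (by decide +kernel)) h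
theorem dp_q_285_s (hinv : ∀ x, g (inv x) = (g x)⁻¹) (hr : ∀ r ∈ rels, (r.map g).prod = 1) (hH : ∀ r ∈ subs, (r.map g).prod ∈ H)
    (j u : ℕ) (hu : u < M) (h : dp_q_285 j u = true) : Good (fa g) T MG M (cP g H) Lt.q u := by
  unfold dp_q_285 at h
  rcases brec_true h with h | h
  · exact lS_good (T := T) (x := Lt.q) (by decide) hu [Lt.z, Lt.v, Lt.z, Lt.v, Lt.z, Lt.q, Lt.z, Lt.v, Lt.q, Lt.v, Lt.q, Lt.v, Lt.z] (H9.TCY.hole_at hinv hr 20 6 false (by decide +kernel)) h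
  · exact dp_q_284_s hinv hr hH j u hu h
theorem dp_q_286_s (hinv : ∀ x, g (inv x) = (g x)⁻¹) (hr : ∀ r ∈ rels, (r.map g).prod = 1) (hH : ∀ r ∈ subs, (r.map g).prod ∈ H)
    (j u : ℕ) (hu : u < M) (h : dp_q_286 j u = true) : Good (fa g) T MG M (cP g H) Lt.q u := by
  unfold dp_q_286 at h
  rcases brec_true h with h | h
  · exact lS_good (T := T) (x := Lt.q) (by decide) hu [Lt.y, Lt.z, Lt.yi, Lt.q, Lt.z, Lt.q, Lt.y, Lt.q, Lt.yi, Lt.z, Lt.y, Lt.q, Lt.z, Lt.q, Lt.yi] (H9.TCY.hole_at hinv hr 24 15 true (by decide +kernel)) h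
  · exact lS_good (T := T) (x := Lt.q) (by decide) hu [Lt.yi, Lt.q, Lt.y, Lt.y, Lt.y, Lt.q, Lt.y, Lt.y, Lt.q, Lt.yi, Lt.q, Lt.yi, Lt.yi, Lt.q, Lt.yi] (H9.TCY.hole_at hinv hr 32 11 true (by decide +kernel)) h
theorem dp_q_287_s (hinv : ∀ x, g (inv x) = (g x)⁻¹) (hr : ∀ r ∈ rels, (r.map g).prod = 1) (hH : ∀ r ∈ subs, (r.map g).prod ∈ H)
    (j u : ℕ) (hu : u < M) (h : dp_q_287 j u = true) : Good (fa g) T MG M (cP g H) Lt.q u := by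
  unfold dp_q_287 at h
  rcases brec_true h with h | h
  · exact lS_good (T := T) (x := Lt.q) (by decide) hu [Lt.z, Lt.q, Lt.y, Lt.z, Lt.yi, Lt.q, Lt.y, Lt.q, Lt.z, Lt.q, Lt.yi, Lt.z, Lt.y, Lt.q, Lt.yi] (H9.TCY.hole_at hinv hr 24 12 false (by decide +kernel)) h
  · exact dp_q_286_s hinv hr hH j u hu h
theorem dp_q_288_s (hinv : ∀ x, g (inv x) = (g x)⁻¹) (hr : ∀ r ∈ rels, (r.map g).prod = 1) (hH : ∀ r ∈ subs, (r.map g).prod ∈ H)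
    (j u : ℕ) (hu : u < M) (h : dp_q_288 j u = true) : Good (fa g) T MG M (cP g H) Lt.q u := by
  unfold dp_q_288 at h
  rcases brec_true h with h | h
  · exact dp_q_285_s hinv hr hH j u hu h
  · exact dp_q_287_s hinv hr hH j u hu h
theorem dp_q_289_s (hinv : ∀ x, g (inv x) = (g x)⁻¹) (hr : ∀ r ∈ rels, (r.map g).prod = 1) (hH : ∀ r ∈ subs, (r.map g).prod ∈ H)
    (j u : ℕ) (hu : u < M) (h : dp_q_289 j u = true) : Good (fa g) T MG M (cP g H) Lt.q u := by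
  unfold dp_q_289 at h
  rcases brec_true h with h | h
  · exact dp_q_283_s hinv hr hH j u hu h
  · exact dp_q_288_s hinv hr hH j u hu h
theorem dp_q_290_s (hinv : ∀ x, g (inv x) = (g x)⁻¹) (hr : ∀ r ∈ rels, (r.map g).prod = 1) (hH : ∀ r ∈ subs, (r.map g).prod ∈ H)
    (j u : ℕ) (hu : u < M) (h : dp_q_290 j u = true) : Good (fa g) T MG M (cP g H) Lt.q u := by
  unfold dp_q_290 at h
  rcases brec_true h with h | h
  · exact lS_good (T := T) (x := Lt.q) (by decide) hu [Lt.z, Lt.y, Lt.y, Lt.q, Lt.yi, Lt.yi, Lt.z, Lt.q, Lt.z, Lt.y, Lt.y, Lt.q, Lt.yi, Lt.yi, Lt.z] (H9.TCY.hole_at hinv hr 34 4 false (by decide +kernel)) h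
  · exact lF_good (T := T) (x := Lt.q) (by decide) [Lt.z, Lt.y, Lt.q, Lt.y, Lt.q, Lt.y, Lt.z, Lt.q, Lt.z, Lt.y, Lt.q, Lt.y, Lt.q, Lt.y, Lt.z] (H9.TCY.hole_at hinv hr 35 2 true (by decide +kernel)) h
theorem dp_q_291_s (hinv : ∀ x, g (inv x) = (g x)⁻¹) (hr : ∀ r ∈ rels, (r.map g).prod = 1) (hH : ∀ r ∈ subs, (r.map g).prod ∈ H)
    (j u : ℕ) (hu : u < M) (h : dp_q_291 j u = true) : Good (fa g) T MG M (cP g H) Lt.q u := by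
  unfold dp_q_291 at h
  rcases brec_true h with h | h
  · exact lS_good (T := T) (x := Lt.q) (by decide) hu [Lt.z, Lt.q, Lt.z, Lt.yi, Lt.z, Lt.q, Lt.z, Lt.q, Lt.v, Lt.y, Lt.v] (H9.TCY.hole_at hinv hr 13 2 false (by decide +kernel)) h
  · exact dp_q_290_s hinv hr hH j u hu h
theorem dp_q_292_s (hinv : ∀ x, g (inv x) = (g x)⁻¹) (hr : ∀ r ∈ rels, (r.map g).prod = 1) (hH : ∀ r ∈ subs, (r.map g).prod ∈ H)
    (j u : ℕ) (hu : u < M) (h : dp_q_292 j u = true) : Good (fa g) T MG M (cP g H) Lt.q u := by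
  unfold dp_q_292 at h
  rcases brec_true h with h | h
  · exact lS_good (T := T) (x := Lt.q) (by decide) hu [Lt.z, Lt.y, Lt.z, Lt.q, Lt.yi, Lt.q, Lt.z, Lt.y, Lt.z, Lt.q, Lt.yi, Lt.q, Lt.z, Lt.y, Lt.z, Lt.q, Lt.yi] (H9.TCY.hole_at hinv hr 42 2 true (by decide +kernel)) h
  · exact lF_good (T := T) (x := Lt.q) (by decide) [Lt.yi, Lt.yi, Lt.yi, Lt.q, Lt.y, Lt.y, Lt.y, Lt.q, Lt.y, Lt.y, Lt.y, Lt.q, Lt.y, Lt.y, Lt.y] (H9.TCY.hole_at hinv hr 30 1 true (by decide +kernel)) h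
theorem dp_q_293_s (hinv : ∀ x, g (inv x) = (g x)⁻¹) (hr : ∀ r ∈ rels, (r.map g).prod = 1) (hH : ∀ r ∈ subs, (r.map g).prod ∈ H)
    (j u : ℕ) (hu : u < M) (h : dp_q_293 j u = true) : Good (fa g) T MG M (cP g H) Lt.q u := by
  unfold dp_q_293 at h
  rcases brec_true h with h | h
  · exact lS_good (T := T) (x := Lt.q) (by decide) hu [Lt.v, Lt.yi, Lt.v, Lt.q, Lt.z, Lt.q, Lt.z, Lt.y, Lt.z, Lt.q, Lt.z] (H9.TCY.hole_at hinv hr 13 11 true (by decide +kernel)) h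
  · exact dp_q_292_s hinv hr hH j u hu h
theorem dp_q_294_s (hinv : ∀ x, g (inv x) = (g x)⁻¹) (hr : ∀ r ∈ rels, (r.map g).prod = 1) (hH : ∀ r ∈ subs, (r.map g).prod ∈ H)
    (j u : ℕ) (hu : u < M) (h : dp_q_294 j u = true) : Good (fa g) T MG M (cP g H) Lt.q u := by
  unfold dp_q_294 at h
  rcases brec_true h with h | h
  · exact dp_q_291_s hinv hr hH j u hu h
  · exact dp_q_293_s hinv hr hH j u hu h
theorem dp_q_295_s (hinv : ∀ x, g (inv x) = (g x)⁻¹) (hr : ∀ r ∈ rels, (r.map g).prod = 1) (hH : ∀ r ∈ subs, (r.map g).prod ∈ H)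
    (j u : ℕ) (hu : u < M) (h : dp_q_295 j u = true) : Good (fa g) T MG M (cP g H) Lt.q u := by
  unfold dp_q_295 at h
  rcases brec_true h with h | h
  · exact lF_good (T := T) (x := Lt.q) (by decide) [Lt.y, Lt.z, Lt.q, Lt.y, Lt.y, Lt.y, Lt.z, Lt.q, Lt.y, Lt.z, Lt.q, Lt.y, Lt.y, Lt.y, Lt.z, Lt.q, Lt.y, Lt.z, Lt.q, Lt.y, Lt.y, Lt.y, Lt.z, Lt.q, Lt.y, Lt.z, Lt.q, Lt.y, Lt.y, Lt.y, Lt.z] (H9.TCY.hole_at hinv hr 48 2 false (by decide +kernel)) h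
  · exact lS_good (T := T) (x := Lt.q) (by decide) hu [Lt.y, Lt.z, Lt.yi, Lt.q, Lt.y, Lt.q, Lt.z, Lt.q, Lt.yi, Lt.z, Lt.y, Lt.q, Lt.yi, Lt.q, Lt.z] (H9.TCY.hole_at hinv hr 24 14 false (by decide +kernel)) h
theorem dp_q_296_s (hinv : ∀ x, g (inv x) = (g x)⁻¹) (hr : ∀ r ∈ rels, (r.map g).prod = 1) (hH : ∀ r ∈ subs, (r.map g).prod ∈ H)
    (j u : ℕ) (hu : u < M) (h : dp_q_296 j u = true) : Good (fa g) T MG M (cP g H) Lt.q u := by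
  unfold dp_q_296 at h
  rcases brec_true h with h | h
  · exact lS_good (T := T) (x := Lt.q) (by decide) hu [Lt.yi, Lt.z, Lt.y, Lt.q, Lt.yi, Lt.q, Lt.z, Lt.q, Lt.y, Lt.z, Lt.yi, Lt.q, Lt.y, Lt.q, Lt.z] (H9.TCY.hole_at hinv hr 24 6 false (by decide +kernel)) h
  · exact dp_q_295_s hinv hr hH j u hu h
theorem dp_q_297_s (hinv : ∀ x, g (inv x) = (g x)⁻¹) (hr : ∀ r ∈ rels, (r.map g).prod = 1) (hH : ∀ r ∈ subs, (r.map g).prod ∈ H)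
    (j u : ℕ) (hu : u < M) (h : dp_q_297 j u = true) : Good (fa g) T MG M (cP g H) Lt.q u := by
  unfold dp_q_297 at h
  rcases brec_true h with h | h
  · exact lS_good (T := T) (x := Lt.q) (by decide) hu [Lt.y, Lt.q, Lt.z, Lt.yi, Lt.z, Lt.q, Lt.y, Lt.q, Lt.z, Lt.yi, Lt.z, Lt.q, Lt.y, Lt.q, Lt.z, Lt.yi, Lt.z] (H9.TCY.hole_at hinv hr 42 5 false (by decide +kernel)) h
  · exact lS_good (T := T) (x := Lt.q) (by decide) hu [Lt.yi, Lt.yi, Lt.yi, Lt.q, Lt.yi, Lt.yi, Lt.q, Lt.y, Lt.q, Lt.y, Lt.y, Lt.q, Lt.y, Lt.q, Lt.y] (H9.TCY.hole_at hinv hr 31 0 false (by decide +kernel)) h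
theorem dp_q_298_s (hinv : ∀ x, g (inv x) = (g x)⁻¹) (hr : ∀ r ∈ rels, (r.map g).prod = 1) (hH : ∀ r ∈ subs, (r.map g).prod ∈ H)
    (j u : ℕ) (hu : u < M) (h : dp_q_298 j u = true) : Good (fa g) T MG M (cP g H) Lt.q u := by
  unfold dp_q_298 at h
  rcases brec_true h with h | h
  · exact lS_good (T := T) (x := Lt.q) (by decide) hu [Lt.yi, Lt.yi, Lt.q, Lt.yi, Lt.yi, Lt.yi, Lt.q, Lt.y, Lt.q, Lt.y, Lt.q, Lt.y, Lt.y, Lt.q, Lt.y] (H9.TCY.hole_at hinv hr 32 13 false (by decide +kernel)) h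
  · exact lS_good (T := T) (x := Lt.q) (by decide) hu [Lt.z, Lt.yi, Lt.z, Lt.y, Lt.z, Lt.q, Lt.y, Lt.z, Lt.q, Lt.y, Lt.y, Lt.z, Lt.q, Lt.yi, Lt.q, Lt.z, Lt.q, Lt.y, Lt.q, Lt.z, Lt.yi, Lt.yi, Lt.q, Lt.z, Lt.yi] (H9.TCY.hole_at hinv hr 46 9 false (by decide +kernel)) h
theorem dp_q_299_s (hinv : ∀ x, g (inv x) = (g x)⁻¹) (hr : ∀ r ∈ rels, (r.map g).prod = 1) (hH : ∀ r ∈ subs, (r.map g).prod ∈ H)
    (j u : ℕ) (hu : u < M) (h : dp_q_299 j u = true) : Good (fa g) T MG M (cP g H) Lt.q u := by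
  unfold dp_q_299 at h
  rcases brec_true h with h | h
  · exact dp_q_297_s hinv hr hH j u hu h
  · exact dp_q_298_s hinv hr hH j u hu h
theorem dp_q_300_s (hinv : ∀ x, g (inv x) = (g x)⁻¹) (hr : ∀ r ∈ rels, (r.map g).prod = 1) (hH : ∀ r ∈ subs, (r.map g).prod ∈ H)
    (j u : ℕ) (hu : u < M) (h : dp_q_300 j u = true) : Good (fa g) T MG M (cP g H) Lt.q u := by
  unfold dp_q_300 at h
  rcases brec_true h with h | h
  · exact dp_q_296_s hinv hr hH j u hu h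
  · exact dp_q_299_s hinv hr hH j u hu h
theorem dp_q_301_s (hinv : ∀ x, g (inv x) = (g x)⁻¹) (hr : ∀ r ∈ rels, (r.map g).prod = 1) (hH : ∀ r ∈ subs, (r.map g).prod ∈ H)
    (j u : ℕ) (hu : u < M) (h : dp_q_301 j u = true) : Good (fa g) T MG M (cP g H) Lt.q u := by
  unfold dp_q_301 at h
  rcases brec_true h with h | h
  · exact dp_q_294_s hinv hr hH j u hu h
  · exact dp_q_300_s hinv hr hH j u hu h
theorem dp_q_302_s (hinv : ∀ x, g (inv x) = (g x)⁻¹) (hr : ∀ r ∈ rels, (r.map g).prod = 1) (hH : ∀ r ∈ subs, (r.map g).prod ∈ H)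
    (j u : ℕ) (hu : u < M) (h : dp_q_302 j u = true) : Good (fa g) T MG M (cP g H) Lt.q u := by
  unfold dp_q_302 at h
  rcases brec_true h with h | h
  · exact dp_q_289_s hinv hr hH j u hu h
  · exact dp_q_301_s hinv hr hH j u hu h
theorem dp_q_303_s (hinv : ∀ x, g (inv x) = (g x)⁻¹) (hr : ∀ r ∈ rels, (r.map g).prod = 1) (hH : ∀ r ∈ subs, (r.map g).prod ∈ H)
    (j u : ℕ) (hu : u < M) (h : dp_q_303 j u = true) : Good (fa g) T MG M (cP g H) Lt.q u := by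
  unfold dp_q_303 at h
  rcases brec_true h with h | h
  · exact lF_good (T := T) (x := Lt.q) (by decide) [Lt.z, Lt.yi, Lt.yi, Lt.z, Lt.q, Lt.yi, Lt.yi, Lt.yi, Lt.q, Lt.z, Lt.yi, Lt.yi, Lt.z, Lt.q, Lt.yi, Lt.yi, Lt.yi, Lt.q, Lt.z, Lt.yi, Lt.yi, Lt.z, Lt.q, Lt.yi, Lt.yi, Lt.yi] (H9.TCY.hole_at hinv hr 47 4 true (by decide +kernel)) h
  · exact lS_good (T := T) (x := Lt.q) (by decide) hu [Lt.y, Lt.y, Lt.y, Lt.z, Lt.q, Lt.y, Lt.z, Lt.q, Lt.y, Lt.y, Lt.y, Lt.z, Lt.q, Lt.y, Lt.z, Lt.q, Lt.y, Lt.y, Lt.y, Lt.z, Lt.q, Lt.y, Lt.z, Lt.q, Lt.y, Lt.y, Lt.y, Lt.z, Lt.q, Lt.y, Lt.z] (H9.TCY.hole_at hinv hr 48 5 false (by decide +kernel)) h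
theorem dp_q_304_s (hinv : ∀ x, g (inv x) = (g x)⁻¹) (hr : ∀ r ∈ rels, (r.map g).prod = 1) (hH : ∀ r ∈ subs, (r.map g).prod ∈ H)
    (j u : ℕ) (hu : u < M) (h : dp_q_304 j u = true) : Good (fa g) T MG M (cP g H) Lt.q u := by
  unfold dp_q_304 at h
  rcases brec_true h with h | h
  · exact lF_good (T := T) (x := Lt.q) (by decide) [Lt.y, Lt.y, Lt.y, Lt.z, Lt.q, Lt.y, Lt.z, Lt.q, Lt.y, Lt.y, Lt.y, Lt.z, Lt.q, Lt.y, Lt.z, Lt.q, Lt.y, Lt.y, Lt.y, Lt.z, Lt.q, Lt.y, Lt.z, Lt.q, Lt.y, Lt.y, Lt.y, Lt.z, Lt.q, Lt.y, Lt.z] (H9.TCY.hole_at hinv hr 48 5 false (by decide +kernel)) h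
  · exact lF_good (T := T) (x := Lt.q) (by decide) [Lt.z, Lt.yi, Lt.z, Lt.q, Lt.z, Lt.q, Lt.v, Lt.y, Lt.v, Lt.q, Lt.z] (H9.TCY.hole_at hinv hr 13 4 false (by decide +kernel)) h
theorem dp_q_305_s (hinv : ∀ x, g (inv x) = (g x)⁻¹) (hr : ∀ r ∈ rels, (r.map g).prod = 1) (hH : ∀ r ∈ subs, (r.map g).prod ∈ H)
    (j u : ℕ) (hu : u < M) (h : dp_q_305 j u = true) : Good (fa g) T MG M (cP g H) Lt.q u := by
  unfold dp_q_305 at h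
  rcases brec_true h with h | h
  · exact dp_q_303_s hinv hr hH j u hu h
  · exact dp_q_304_s hinv hr hH j u hu h
theorem dp_q_306_s (hinv : ∀ x, g (inv x) = (g x)⁻¹) (hr : ∀ r ∈ rels, (r.map g).prod = 1) (hH : ∀ r ∈ subs, (r.map g).prod ∈ H)
    (j u : ℕ) (hu : u < M) (h : dp_q_306 j u = true) : Good (fa g) T MG M (cP g H) Lt.q u := by
  unfold dp_q_306 at h
  rcases brec_true h with h | h
  · exact lS_good (T := T) (x := Lt.q) (by decide) hu [Lt.y, Lt.q, Lt.y, Lt.q, Lt.y, Lt.y, Lt.q, Lt.y, Lt.q, Lt.yi, Lt.yi, Lt.q, Lt.yi, Lt.yi, Lt.yi] (H9.TCY.hole_at hinv hr 32 4 false (by decide +kernel)) h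
  · exact lS_good (T := T) (x := Lt.q) (by decide) hu [Lt.y, Lt.y, Lt.y, Lt.q, Lt.y, Lt.y, Lt.q, Lt.yi, Lt.q, Lt.yi, Lt.yi, Lt.q, Lt.yi, Lt.q, Lt.yi] (H9.TCY.hole_at hinv hr 32 13 true (by decide +kernel)) h
theorem dp_q_307_s (hinv : ∀ x, g (inv x) = (g x)⁻¹) (hr : ∀ r ∈ rels, (r.map g).prod = 1) (hH : ∀ r ∈ subs, (r.map g).prod ∈ H)
    (j u : ℕ) (hu : u < M) (h : dp_q_307 j u = true) : Good (fa g) T MG M (cP g H) Lt.q u := by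
  unfold dp_q_307 at h
  rcases brec_true h with h | h
  · exact lS_good (T := T) (x := Lt.q) (by decide) hu [Lt.z, Lt.yi, Lt.yi, Lt.yi, Lt.q, Lt.z, Lt.yi, Lt.q, Lt.z, Lt.yi, Lt.yi, Lt.yi, Lt.q, Lt.z, Lt.yi, Lt.q, Lt.z, Lt.yi, Lt.yi, Lt.yi, Lt.q, Lt.z, Lt.yi, Lt.q, Lt.z, Lt.yi, Lt.yi, Lt.yi, Lt.q, Lt.z, Lt.yi] (H9.TCY.hole_at hinv hr 48 7 true (by decide +kernel)) h
  · exact lS_good (T := T) (x := Lt.q) (by decide) hu [Lt.z, Lt.yi, Lt.z, Lt.q, Lt.y, Lt.q, Lt.z, Lt.yi, Lt.z, Lt.q, Lt.y, Lt.q, Lt.z, Lt.yi, Lt.z, Lt.q, Lt.y] (H9.TCY.hole_at hinv hr 42 1 false (by decide +kernel)) h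
theorem dp_q_308_s (hinv : ∀ x, g (inv x) = (g x)⁻¹) (hr : ∀ r ∈ rels, (r.map g).prod = 1) (hH : ∀ r ∈ subs, (r.map g).prod ∈ H)
    (j u : ℕ) (hu : u < M) (h : dp_q_308 j u = true) : Good (fa g) T MG M (cP g H) Lt.q u := by
  unfold dp_q_308 at h
  rcases brec_true h with h | h
  · exact dp_q_306_s hinv hr hH j u hu h
  · exact dp_q_307_s hinv hr hH j u hu h
theorem dp_q_309_s (hinv : ∀ x, g (inv x) = (g x)⁻¹) (hr : ∀ r ∈ rels, (r.map g).prod = 1) (hH : ∀ r ∈ subs, (r.map g).prod ∈ H)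
    (j u : ℕ) (hu : u < M) (h : dp_q_309 j u = true) : Good (fa g) T MG M (cP g H) Lt.q u := by
  unfold dp_q_309 at h
  rcases brec_true h with h | h
  · exact dp_q_305_s hinv hr hH j u hu h
  · exact dp_q_308_s hinv hr hH j u hu h
theorem dp_q_310_s (hinv : ∀ x, g (inv x) = (g x)⁻¹) (hr : ∀ r ∈ rels, (r.map g).prod = 1) (hH : ∀ r ∈ subs, (r.map g).prod ∈ H)
    (j u : ℕ) (hu : u < M) (h : dp_q_310 j u = true) : Good (fa g) T MG M (cP g H) Lt.q u := by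
  unfold dp_q_310 at h
  rcases brec_true h with h | h
  · exact lS_good (T := T) (x := Lt.q) (by decide) hu [Lt.z, Lt.q, Lt.z, Lt.y, Lt.z, Lt.q, Lt.z, Lt.q, Lt.v, Lt.yi, Lt.v] (H9.TCY.hole_at hinv hr 13 3 true (by decide +kernel)) h
  · exact lS_good (T := T) (x := Lt.q) (by decide) hu [Lt.y, Lt.z, Lt.q, Lt.y, Lt.y, Lt.z, Lt.q, Lt.yi, Lt.q, Lt.z, Lt.q, Lt.y, Lt.q, Lt.z, Lt.yi, Lt.yi, Lt.q, Lt.z, Lt.yi, Lt.q, Lt.z, Lt.yi, Lt.z, Lt.y, Lt.z] (H9.TCY.hole_at hinv hr 46 15 false (by decide +kernel)) h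
theorem dp_q_311_s (hinv : ∀ x, g (inv x) = (g x)⁻¹) (hr : ∀ r ∈ rels, (r.map g).prod = 1) (hH : ∀ r ∈ subs, (r.map g).prod ∈ H)
    (j u : ℕ) (hu : u < M) (h : dp_q_311 j u = true) : Good (fa g) T MG M (cP g H) Lt.q u := by
  unfold dp_q_311 at h
  rcases brec_true h with h | h
  · exact lF_good (T := T) (x := Lt.q) (by decide) [Lt.z, Lt.yi, Lt.yi, Lt.q, Lt.z, Lt.yi, Lt.q, Lt.z, Lt.yi, Lt.z, Lt.y, Lt.z, Lt.q, Lt.y, Lt.z, Lt.q, Lt.y, Lt.y, Lt.z, Lt.q, Lt.yi, Lt.q, Lt.z, Lt.q, Lt.y] (H9.TCY.hole_at hinv hr 46 2 false (by decide +kernel)) h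
  · exact lS_good (T := T) (x := Lt.q) (by decide) hu [Lt.z, Lt.q, Lt.v, Lt.y, Lt.v, Lt.q, Lt.z, Lt.q, Lt.z, Lt.yi, Lt.z] (H9.TCY.hole_at hinv hr 13 8 false (by decide +kernel)) h
theorem dp_q_312_s (hinv : ∀ x, g (inv x) = (g x)⁻¹) (hr : ∀ r ∈ rels, (r.map g).prod = 1) (hH : ∀ r ∈ subs, (r.map g).prod ∈ H)
    (j u : ℕ) (hu : u < M) (h : dp_q_312 j u = true) : Good (fa g) T MG M (cP g H) Lt.q u := by
  unfold dp_q_312 at h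
  rcases brec_true h with h | h
  · exact dp_q_310_s hinv hr hH j u hu h
  · exact dp_q_311_s hinv hr hH j u hu h
theorem dp_q_313_s (hinv : ∀ x, g (inv x) = (g x)⁻¹) (hr : ∀ r ∈ rels, (r.map g).prod = 1) (hH : ∀ r ∈ subs, (r.map g).prod ∈ H)
    (j u : ℕ) (hu : u < M) (h : dp_q_313 j u = true) : Good (fa g) T MG M (cP g H) Lt.q u := by
  unfold dp_q_313 at h
  rcases brec_true h with h | h
  · exact lF_good (T := T) (x := Lt.q) (by decide) [Lt.z, Lt.yi, Lt.z, Lt.y, Lt.z, Lt.q, Lt.y, Lt.z, Lt.q, Lt.y, Lt.y, Lt.z, Lt.q, Lt.yi, Lt.q, Lt.z, Lt.q, Lt.y, Lt.q, Lt.z, Lt.yi, Lt.yi, Lt.q, Lt.z, Lt.yi] (H9.TCY.hole_at hinv hr 46 9 false (by decide +kernel)) h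
  · exact lS_good (T := T) (x := Lt.q) (by decide) hu [Lt.y, Lt.y, Lt.y, Lt.q, Lt.y, Lt.y, Lt.y, Lt.q, Lt.y, Lt.y, Lt.y, Lt.q, Lt.yi, Lt.yi, Lt.yi] (H9.TCY.hole_at hinv hr 30 5 true (by decide +kernel)) h
theorem dp_q_314_s (hinv : ∀ x, g (inv x) = (g x)⁻¹) (hr : ∀ r ∈ rels, (r.map g).prod = 1) (hH : ∀ r ∈ subs, (r.map g).prod ∈ H)
    (j u : ℕ) (hu : u < M) (h : dp_q_314 j u = true) : Good (fa g) T MG M (cP g H) Lt.q u := by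
  unfold dp_q_314 at h
  rcases brec_true h with h | h
  · exact lS_good (T := T) (x := Lt.q) (by decide) hu [Lt.z, Lt.q, Lt.yi, Lt.yi, Lt.yi, Lt.z, Lt.q, Lt.z, Lt.q, Lt.yi, Lt.yi, Lt.yi, Lt.z] (H9.TCY.hole_at hinv hr 21 5 false (by decide +kernel)) h
  · exact lF_good (T := T) (x := Lt.q) (by decide) [Lt.yi, Lt.q, Lt.z, Lt.q, Lt.y, Lt.q, Lt.z, Lt.yi, Lt.yi, Lt.q, Lt.z, Lt.yi, Lt.q, Lt.z, Lt.yi, Lt.z, Lt.y, Lt.z, Lt.q, Lt.y, Lt.z, Lt.q, Lt.y, Lt.y, Lt.z] (H9.TCY.hole_at hinv hr 46 22 false (by decide +kernel)) h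
theorem dp_q_315_s (hinv : ∀ x, g (inv x) = (g x)⁻¹) (hr : ∀ r ∈ rels, (r.map g).prod = 1) (hH : ∀ r ∈ subs, (r.map g).prod ∈ H)
    (j u : ℕ) (hu : u < M) (h : dp_q_315 j u = true) : Good (fa g) T MG M (cP g H) Lt.q u := by
  unfold dp_q_315 at h
  rcases brec_true h with h | h
  · exact lS_good (T := T) (x := Lt.q) (by decide) hu [Lt.z, Lt.yi, Lt.q, Lt.z, Lt.yi, Lt.yi, Lt.yi, Lt.q, Lt.z, Lt.yi, Lt.q, Lt.z, Lt.yi, Lt.yi, Lt.yi, Lt.q, Lt.z, Lt.yi, Lt.q, Lt.z, Lt.yi, Lt.yi, Lt.yi, Lt.q, Lt.z, Lt.yi, Lt.q, Lt.z, Lt.yi, Lt.yi, Lt.yi] (H9.TCY.hole_at hinv hr 48 4 true (by decide +kernel)) h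
  · exact dp_q_314_s hinv hr hH j u hu h
theorem dp_q_316_s (hinv : ∀ x, g (inv x) = (g x)⁻¹) (hr : ∀ r ∈ rels, (r.map g).prod = 1) (hH : ∀ r ∈ subs, (r.map g).prod ∈ H)
    (j u : ℕ) (hu : u < M) (h : dp_q_316 j u = true) : Good (fa g) T MG M (cP g H) Lt.q u := by
  unfold dp_q_316 at h
  rcases brec_true h with h | h
  · exact dp_q_313_s hinv hr hH j u hu h
  · exact dp_q_315_s hinv hr hH j u hu h
theorem dp_q_317_s (hinv : ∀ x, g (inv x) = (g x)⁻¹) (hr : ∀ r ∈ rels, (r.map g).prod = 1) (hH : ∀ r ∈ subs, (r.map g).prod ∈ H)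
    (j u : ℕ) (hu : u < M) (h : dp_q_317 j u = true) : Good (fa g) T MG M (cP g H) Lt.q u := by
  unfold dp_q_317 at h
  rcases brec_true h with h | h
  · exact dp_q_312_s hinv hr hH j u hu h
  · exact dp_q_316_s hinv hr hH j u hu h
theorem dp_q_318_s (hinv : ∀ x, g (inv x) = (g x)⁻¹) (hr : ∀ r ∈ rels, (r.map g).prod = 1) (hH : ∀ r ∈ subs, (r.map g).prod ∈ H)
    (j u : ℕ) (hu : u < M) (h : dp_q_318 j u = true) : Good (fa g) T MG M (cP g H) Lt.q u := by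
  unfold dp_q_318 at h
  rcases brec_true h with h | h
  · exact dp_q_309_s hinv hr hH j u hu h
  · exact dp_q_317_s hinv hr hH j u hu h
theorem dp_q_319_s (hinv : ∀ x, g (inv x) = (g x)⁻¹) (hr : ∀ r ∈ rels, (r.map g).prod = 1) (hH : ∀ r ∈ subs, (r.map g).prod ∈ H)
    (j u : ℕ) (hu : u < M) (h : dp_q_319 j u = true) : Good (fa g) T MG M (cP g H) Lt.q u := by
  unfold dp_q_319 at h
  rcases brec_true h with h | h
  · exact lS_good (T := T) (x := Lt.q) (by decide) hu [Lt.yi, Lt.q, Lt.y, Lt.z, Lt.yi, Lt.q, Lt.z, Lt.q, Lt.y, Lt.q, Lt.yi, Lt.z, Lt.y, Lt.q, Lt.z] (H9.TCY.hole_at hinv hr 24 13 true (by decide +kernel)) h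
  · exact lF_good (T := T) (x := Lt.q) (by decide) [Lt.z, Lt.y, Lt.z, Lt.q, Lt.z, Lt.yi, Lt.z, Lt.q, Lt.z, Lt.y, Lt.z, Lt.q, Lt.z, Lt.yi, Lt.z] (H9.TCY.hole_at hinv hr 25 3 false (by decide +kernel)) h
theorem dp_q_320_s (hinv : ∀ x, g (inv x) = (g x)⁻¹) (hr : ∀ r ∈ rels, (r.map g).prod = 1) (hH : ∀ r ∈ subs, (r.map g).prod ∈ H)
    (j u : ℕ) (hu : u < M) (h : dp_q_320 j u = true) : Good (fa g) T MG M (cP g H) Lt.q u := by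
  unfold dp_q_320 at h
  rcases brec_true h with h | h
  · exact lF_good (T := T) (x := Lt.q) (by decide) [Lt.z, Lt.q, Lt.z, Lt.q, Lt.z, Lt.v, Lt.q, Lt.z, Lt.v, Lt.q, Lt.z, Lt.q, Lt.z, Lt.v] (H9.TCY.hole_at hinv hr 22 7 true (by decide +kernel)) h
  · exact dp_q_319_s hinv hr hH j u hu h
theorem dp_q_321_s (hinv : ∀ x, g (inv x) = (g x)⁻¹) (hr : ∀ r ∈ rels, (r.map g).prod = 1) (hH : ∀ r ∈ subs, (r.map g).prod ∈ H)
    (j u : ℕ) (hu : u < M) (h : dp_q_321 j u = true) : Good (fa g) T MG M (cP g H) Lt.q u := by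
  unfold dp_q_321 at h
  rcases brec_true h with h | h
  · exact lS_good (T := T) (x := Lt.q) (by decide) hu [Lt.yi, Lt.yi, Lt.yi, Lt.q, Lt.y, Lt.y, Lt.y, Lt.q, Lt.y, Lt.y, Lt.y, Lt.q, Lt.y, Lt.y, Lt.y] (H9.TCY.hole_at hinv hr 30 1 true (by decide +kernel)) h
  · exact lF_good (T := T) (x := Lt.q) (by decide) [Lt.z, Lt.y, Lt.z, Lt.q, Lt.z, Lt.q, Lt.v, Lt.yi, Lt.v, Lt.q, Lt.z] (H9.TCY.hole_at hinv hr 13 5 true (by decide +kernel)) h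
theorem dp_q_322_s (hinv : ∀ x, g (inv x) = (g x)⁻¹) (hr : ∀ r ∈ rels, (r.map g).prod = 1) (hH : ∀ r ∈ subs, (r.map g).prod ∈ H)
    (j u : ℕ) (hu : u < M) (h : dp_q_322 j u = true) : Good (fa g) T MG M (cP g H) Lt.q u := by
  unfold dp_q_322 at h
  rcases brec_true h with h | h
  · exact lF_good (T := T) (x := Lt.q) (by decide) [Lt.z, Lt.yi, Lt.yi, Lt.yi, Lt.q, Lt.z, Lt.yi, Lt.q, Lt.z, Lt.yi, Lt.yi, Lt.yi, Lt.q, Lt.z, Lt.yi, Lt.q, Lt.z, Lt.yi, Lt.yi, Lt.yi, Lt.q, Lt.z, Lt.yi, Lt.q, Lt.z, Lt.yi, Lt.yi, Lt.yi, Lt.q, Lt.z, Lt.yi] (H9.TCY.hole_at hinv hr 48 7 true (by decide +kernel)) h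
  · exact dp_q_321_s hinv hr hH j u hu h
theorem dp_q_323_s (hinv : ∀ x, g (inv x) = (g x)⁻¹) (hr : ∀ r ∈ rels, (r.map g).prod = 1) (hH : ∀ r ∈ subs, (r.map g).prod ∈ H)
    (j u : ℕ) (hu : u < M) (h : dp_q_323 j u = true) : Good (fa g) T MG M (cP g H) Lt.q u := by
  unfold dp_q_323 at h
  rcases brec_true h with h | h
  · exact dp_q_320_s hinv hr hH j u hu h
  · exact dp_q_322_s hinv hr hH j u hu h
theorem dp_q_324_s (hinv : ∀ x, g (inv x) = (g x)⁻¹) (hr : ∀ r ∈ rels, (r.map g).prod = 1) (hH : ∀ r ∈ subs, (r.map g).prod ∈ H)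
    (j u : ℕ) (hu : u < M) (h : dp_q_324 j u = true) : Good (fa g) T MG M (cP g H) Lt.q u := by
  unfold dp_q_324 at h
  rcases brec_true h with h | h
  · exact lF_good (T := T) (x := Lt.q) (by decide) [Lt.z, Lt.v, Lt.q, Lt.z, Lt.q, Lt.z, Lt.v, Lt.q, Lt.z, Lt.q, Lt.z, Lt.q, Lt.z, Lt.v] (H9.TCY.hole_at hinv hr 22 14 true (by decide +kernel)) h
  · exact lS_good (T := T) (x := Lt.q) (by decide) hu [Lt.z, Lt.v, Lt.q, Lt.v, Lt.q, Lt.v, Lt.z, Lt.q, Lt.z, Lt.v, Lt.z, Lt.v, Lt.z] (H9.TCY.hole_at hinv hr 20 12 false (by decide +kernel)) h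
theorem dp_q_325_s (hinv : ∀ x, g (inv x) = (g x)⁻¹) (hr : ∀ r ∈ rels, (r.map g).prod = 1) (hH : ∀ r ∈ subs, (r.map g).prod ∈ H)
    (j u : ℕ) (hu : u < M) (h : dp_q_325 j u = true) : Good (fa g) T MG M (cP g H) Lt.q u := by
  unfold dp_q_325 at h
  rcases brec_true h with h | h
  · exact lS_good (T := T) (x := Lt.q) (by decide) hu [Lt.yi, Lt.q, Lt.z, Lt.q, Lt.y, Lt.q, Lt.z, Lt.yi, Lt.yi, Lt.q, Lt.z, Lt.yi, Lt.q, Lt.z, Lt.yi, Lt.z, Lt.y, Lt.z, Lt.q, Lt.y, Lt.z, Lt.q, Lt.y, Lt.y, Lt.z] (H9.TCY.hole_at hinv hr 46 22 false (by decide +kernel)) h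
  · exact dp_q_324_s hinv hr hH j u hu h
theorem dp_q_326_s (hinv : ∀ x, g (inv x) = (g x)⁻¹) (hr : ∀ r ∈ rels, (r.map g).prod = 1) (hH : ∀ r ∈ subs, (r.map g).prod ∈ H)
    (j u : ℕ) (hu : u < M) (h : dp_q_326 j u = true) : Good (fa g) T MG M (cP g H) Lt.q u := by
  unfold dp_q_326 at h
  rcases brec_true h with h | h
  · exact lS_good (T := T) (x := Lt.q) (by decide) hu [Lt.yi, Lt.z, Lt.y, Lt.q, Lt.z, Lt.q, Lt.yi, Lt.q, Lt.y, Lt.z, Lt.yi, Lt.q, Lt.z, Lt.q, Lt.y] (H9.TCY.hole_at hinv hr 24 7 true (by decide +kernel)) h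
  · exact lS_good (T := T) (x := Lt.q) (by decide) hu [Lt.z, Lt.yi, Lt.q, Lt.yi, Lt.q, Lt.yi, Lt.z, Lt.q, Lt.z, Lt.yi, Lt.q, Lt.yi, Lt.q, Lt.yi, Lt.z] (H9.TCY.hole_at hinv hr 35 7 false (by decide +kernel)) h
theorem dp_q_327_s (hinv : ∀ x, g (inv x) = (g x)⁻¹) (hr : ∀ r ∈ rels, (r.map g).prod = 1) (hH : ∀ r ∈ subs, (r.map g).prod ∈ H)
    (j u : ℕ) (hu : u < M) (h : dp_q_327 j u = true) : Good (fa g) T MG M (cP g H) Lt.q u := by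
  unfold dp_q_327 at h
  rcases brec_true h with h | h
  · exact lF_good (T := T) (x := Lt.q) (by decide) [Lt.z, Lt.y, Lt.y, Lt.y, Lt.q, Lt.z, Lt.q, Lt.z, Lt.y, Lt.y, Lt.y, Lt.q, Lt.z] (H9.TCY.hole_at hinv hr 21 3 true (by decide +kernel)) h
  · exact dp_q_326_s hinv hr hH j u hu h
theorem dp_q_328_s (hinv : ∀ x, g (inv x) = (g x)⁻¹) (hr : ∀ r ∈ rels, (r.map g).prod = 1) (hH : ∀ r ∈ subs, (r.map g).prod ∈ H)
    (j u : ℕ) (hu : u < M) (h : dp_q_328 j u = true) : Good (fa g) T MG M (cP g H) Lt.q u := by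
  unfold dp_q_328 at h
  rcases brec_true h with h | h
  · exact dp_q_325_s hinv hr hH j u hu h
  · exact dp_q_327_s hinv hr hH j u hu h
theorem dp_q_329_s (hinv : ∀ x, g (inv x) = (g x)⁻¹) (hr : ∀ r ∈ rels, (r.map g).prod = 1) (hH : ∀ r ∈ subs, (r.map g).prod ∈ H)
    (j u : ℕ) (hu : u < M) (h : dp_q_329 j u = true) : Good (fa g) T MG M (cP g H) Lt.q u := by
  unfold dp_q_329 at h
  rcases brec_true h with h | h
  · exact dp_q_323_s hinv hr hH j u hu h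
  · exact dp_q_328_s hinv hr hH j u hu h
theorem dp_q_330_s (hinv : ∀ x, g (inv x) = (g x)⁻¹) (hr : ∀ r ∈ rels, (r.map g).prod = 1) (hH : ∀ r ∈ subs, (r.map g).prod ∈ H)
    (j u : ℕ) (hu : u < M) (h : dp_q_330 j u = true) : Good (fa g) T MG M (cP g H) Lt.q u := by
  unfold dp_q_330 at h
  rcases brec_true h with h | h
  · exact lS_good (T := T) (x := Lt.q) (by decide) hu [Lt.z, Lt.q, Lt.v, Lt.yi, Lt.v, Lt.q, Lt.z, Lt.q, Lt.z, Lt.y, Lt.z] (H9.TCY.hole_at hinv hr 13 9 true (by decide +kernel)) h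
  · exact lS_good (T := T) (x := Lt.q) (by decide) hu [Lt.y, Lt.q, Lt.yi, Lt.z, Lt.y, Lt.q, Lt.z, Lt.q, Lt.yi, Lt.q, Lt.y, Lt.z, Lt.yi, Lt.q, Lt.z] (H9.TCY.hole_at hinv hr 24 5 true (by decide +kernel)) h
theorem dp_q_331_s (hinv : ∀ x, g (inv x) = (g x)⁻¹) (hr : ∀ r ∈ rels, (r.map g).prod = 1) (hH : ∀ r ∈ subs, (r.map g).prod ∈ H)
    (j u : ℕ) (hu : u < M) (h : dp_q_331 j u = true) : Good (fa g) T MG M (cP g H) Lt.q u := by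
  unfold dp_q_331 at h
  rcases brec_true h with h | h
  · exact lF_good (T := T) (x := Lt.q) (by decide) [Lt.z, Lt.yi, Lt.z, Lt.q, Lt.z, Lt.y, Lt.z, Lt.q, Lt.z, Lt.yi, Lt.z, Lt.q, Lt.z, Lt.y, Lt.z] (H9.TCY.hole_at hinv hr 25 7 false (by decide +kernel)) h
  · exact lS_good (T := T) (x := Lt.q) (by decide) hu [Lt.z, Lt.yi, Lt.yi, Lt.q, Lt.z, Lt.yi, Lt.q, Lt.z, Lt.yi, Lt.z, Lt.y, Lt.z, Lt.q, Lt.y, Lt.z, Lt.q, Lt.y, Lt.y, Lt.z, Lt.q, Lt.yi, Lt.q, Lt.z, Lt.q, Lt.y] (H9.TCY.hole_at hinv hr 46 2 false (by decide +kernel)) h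
theorem dp_q_332_s (hinv : ∀ x, g (inv x) = (g x)⁻¹) (hr : ∀ r ∈ rels, (r.map g).prod = 1) (hH : ∀ r ∈ subs, (r.map g).prod ∈ H)
    (j u : ℕ) (hu : u < M) (h : dp_q_332 j u = true) : Good (fa g) T MG M (cP g H) Lt.q u := by
  unfold dp_q_332 at h
  rcases brec_true h with h | h
  · exact dp_q_330_s hinv hr hH j u hu h
  · exact dp_q_331_s hinv hr hH j u hu h
theorem dp_q_333_s (hinv : ∀ x, g (inv x) = (g x)⁻¹) (hr : ∀ r ∈ rels, (r.map g).prod = 1) (hH : ∀ r ∈ subs, (r.map g).prod ∈ H)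
    (j u : ℕ) (hu : u < M) (h : dp_q_333 j u = true) : Good (fa g) T MG M (cP g H) Lt.q u := by
  unfold dp_q_333 at h
  rcases brec_true h with h | h
  · exact lS_good (T := T) (x := Lt.q) (by decide) hu [Lt.z, Lt.y, Lt.q, Lt.y, Lt.q, Lt.y, Lt.z, Lt.q, Lt.z, Lt.y, Lt.q, Lt.y, Lt.q, Lt.y, Lt.z] (H9.TCY.hole_at hinv hr 35 2 true (by decide +kernel)) h
  · exact lS_good (T := T) (x := Lt.q) (by decide) hu [Lt.z, Lt.v, Lt.q, Lt.z, Lt.q, Lt.z, Lt.v, Lt.q, Lt.z, Lt.q, Lt.z, Lt.q, Lt.z, Lt.v] (H9.TCY.hole_at hinv hr 22 14 true (by decide +kernel)) h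
theorem dp_q_334_s (hinv : ∀ x, g (inv x) = (g x)⁻¹) (hr : ∀ r ∈ rels, (r.map g).prod = 1) (hH : ∀ r ∈ subs, (r.map g).prod ∈ H)
    (j u : ℕ) (hu : u < M) (h : dp_q_334 j u = true) : Good (fa g) T MG M (cP g H) Lt.q u := by
  unfold dp_q_334 at h
  rcases brec_true h with h | h
  · exact lS_good (T := T) (x := Lt.q) (by decide) hu [Lt.v, Lt.z, Lt.q, Lt.z, Lt.q, Lt.z, Lt.q, Lt.v, Lt.z, Lt.q, Lt.z, Lt.q, Lt.v, Lt.z] (H9.TCY.hole_at hinv hr 22 2 false (by decide +kernel)) h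
  · exact lF_good (T := T) (x := Lt.q) (by decide) [Lt.z, Lt.q, Lt.z, Lt.v, Lt.q, Lt.z, Lt.q, Lt.z, Lt.q, Lt.z, Lt.v, Lt.q, Lt.z, Lt.v] (H9.TCY.hole_at hinv hr 22 2 true (by decide +kernel)) h
theorem dp_q_335_s (hinv : ∀ x, g (inv x) = (g x)⁻¹) (hr : ∀ r ∈ rels, (r.map g).prod = 1) (hH : ∀ r ∈ subs, (r.map g).prod ∈ H)
    (j u : ℕ) (hu : u < M) (h : dp_q_335 j u = true) : Good (fa g) T MG M (cP g H) Lt.q u := by
  unfold dp_q_335 at h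
  rcases brec_true h with h | h
  · exact dp_q_333_s hinv hr hH j u hu h
  · exact dp_q_334_s hinv hr hH j u hu h
theorem dp_q_336_s (hinv : ∀ x, g (inv x) = (g x)⁻¹) (hr : ∀ r ∈ rels, (r.map g).prod = 1) (hH : ∀ r ∈ subs, (r.map g).prod ∈ H)
    (j u : ℕ) (hu : u < M) (h : dp_q_336 j u = true) : Good (fa g) T MG M (cP g H) Lt.q u := by
  unfold dp_q_336 at h
  rcases brec_true h with h | h
  · exact dp_q_332_s hinv hr hH j u hu h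
  · exact dp_q_335_s hinv hr hH j u hu h
theorem dp_q_337_s (hinv : ∀ x, g (inv x) = (g x)⁻¹) (hr : ∀ r ∈ rels, (r.map g).prod = 1) (hH : ∀ r ∈ subs, (r.map g).prod ∈ H)
    (j u : ℕ) (hu : u < M) (h : dp_q_337 j u = true) : Good (fa g) T MG M (cP g H) Lt.q u := by
  unfold dp_q_337 at h
  rcases brec_true h with h | h
  · exact lF_good (T := T) (x := Lt.q) (by decide) [Lt.v, Lt.z, Lt.q, Lt.z, Lt.q, Lt.v, Lt.z, Lt.q, Lt.v, Lt.z, Lt.q, Lt.z, Lt.q, Lt.z] (H9.TCY.hole_at hinv hr 22 9 false (by decide +kernel)) h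
  · exact lF_good (T := T) (x := Lt.q) (by decide) [Lt.z, Lt.q, Lt.y, Lt.q, Lt.z, Lt.yi, Lt.yi, Lt.q, Lt.z, Lt.yi, Lt.q, Lt.z, Lt.yi, Lt.z, Lt.y, Lt.z, Lt.q, Lt.y, Lt.z, Lt.q, Lt.y, Lt.y, Lt.z, Lt.q, Lt.yi] (H9.TCY.hole_at hinv hr 46 24 false (by decide +kernel)) h
theorem dp_q_338_s (hinv : ∀ x, g (inv x) = (g x)⁻¹) (hr : ∀ r ∈ rels, (r.map g).prod = 1) (hH : ∀ r ∈ subs, (r.map g).prod ∈ H)
    (j u : ℕ) (hu : u < M) (h : dp_q_338 j u = true) : Good (fa g) T MG M (cP g H) Lt.q u := by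
  unfold dp_q_338 at h
  rcases brec_true h with h | h
  · exact lF_good (T := T) (x := Lt.q) (by decide) [Lt.y, Lt.q, Lt.z, Lt.yi, Lt.yi, Lt.q, Lt.z, Lt.yi, Lt.q, Lt.z, Lt.yi, Lt.z, Lt.y, Lt.z, Lt.q, Lt.y, Lt.z, Lt.q, Lt.y, Lt.y, Lt.z, Lt.q, Lt.yi, Lt.q, Lt.z] (H9.TCY.hole_at hinv hr 46 0 false (by decide +kernel)) h
  · exact lS_good (T := T) (x := Lt.q) (by decide) hu [Lt.z, Lt.yi, Lt.z, Lt.q, Lt.z, Lt.y, Lt.z, Lt.q, Lt.z, Lt.yi, Lt.z, Lt.q, Lt.z, Lt.y, Lt.z] (H9.TCY.hole_at hinv hr 25 7 false (by decide +kernel)) h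
theorem dp_q_339_s (hinv : ∀ x, g (inv x) = (g x)⁻¹) (hr : ∀ r ∈ rels, (r.map g).prod = 1) (hH : ∀ r ∈ subs, (r.map g).prod ∈ H)
    (j u : ℕ) (hu : u < M) (h : dp_q_339 j u = true) : Good (fa g) T MG M (cP g H) Lt.q u := by
  unfold dp_q_339 at h
  rcases brec_true h with h | h
  · exact dp_q_337_s hinv hr hH j u hu h
  · exact dp_q_338_s hinv hr hH j u hu h
theorem dp_q_340_s (hinv : ∀ x, g (inv x) = (g x)⁻¹) (hr : ∀ r ∈ rels, (r.map g).prod = 1) (hH : ∀ r ∈ subs, (r.map g).prod ∈ H)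
    (j u : ℕ) (hu : u < M) (h : dp_q_340 j u = true) : Good (fa g) T MG M (cP g H) Lt.q u := by
  unfold dp_q_340 at h
  rcases brec_true h with h | h
  · exact lF_good (T := T) (x := Lt.q) (by decide) [Lt.z, Lt.yi, Lt.q, Lt.z, Lt.yi, Lt.yi, Lt.yi, Lt.q, Lt.z, Lt.yi, Lt.q, Lt.z, Lt.yi, Lt.yi, Lt.yi, Lt.q, Lt.z, Lt.yi, Lt.q, Lt.z, Lt.yi, Lt.yi, Lt.yi, Lt.q, Lt.z, Lt.yi, Lt.q, Lt.z, Lt.yi, Lt.yi, Lt.yi] (H9.TCY.hole_at hinv hr 48 4 true (by decide +kernel)) h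
  · exact lS_good (T := T) (x := Lt.q) (by decide) hu [Lt.z, Lt.y, Lt.z, Lt.q, Lt.z, Lt.q, Lt.v, Lt.yi, Lt.v, Lt.q, Lt.z] (H9.TCY.hole_at hinv hr 13 5 true (by decide +kernel)) h
theorem dp_q_341_s (hinv : ∀ x, g (inv x) = (g x)⁻¹) (hr : ∀ r ∈ rels, (r.map g).prod = 1) (hH : ∀ r ∈ subs, (r.map g).prod ∈ H)
    (j u : ℕ) (hu : u < M) (h : dp_q_341 j u = true) : Good (fa g) T MG M (cP g H) Lt.q u := by
  unfold dp_q_341 at h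
  rcases brec_true h with h | h
  · exact lS_good (T := T) (x := Lt.q) (by decide) hu [Lt.v, Lt.z, Lt.q, Lt.z, Lt.q, Lt.v, Lt.z, Lt.q, Lt.v, Lt.z, Lt.q, Lt.z, Lt.q, Lt.z] (H9.TCY.hole_at hinv hr 22 9 false (by decide +kernel)) h
  · exact lS_good (T := T) (x := Lt.q) (by decide) hu [Lt.y, Lt.q, Lt.z, Lt.yi, Lt.yi, Lt.q, Lt.z, Lt.yi, Lt.q, Lt.z, Lt.yi, Lt.z, Lt.y, Lt.z, Lt.q, Lt.y, Lt.z, Lt.q, Lt.y, Lt.y, Lt.z, Lt.q, Lt.yi, Lt.q, Lt.z] (H9.TCY.hole_at hinv hr 46 0 false (by decide +kernel)) h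
theorem dp_q_342_s (hinv : ∀ x, g (inv x) = (g x)⁻¹) (hr : ∀ r ∈ rels, (r.map g).prod = 1) (hH : ∀ r ∈ subs, (r.map g).prod ∈ H)
    (j u : ℕ) (hu : u < M) (h : dp_q_342 j u = true) : Good (fa g) T MG M (cP g H) Lt.q u := by
  unfold dp_q_342 at h
  rcases brec_true h with h | h
  · exact lS_good (T := T) (x := Lt.q) (by decide) hu [Lt.z, Lt.q, Lt.z, Lt.q, Lt.z, Lt.v, Lt.q, Lt.z, Lt.v, Lt.q, Lt.z, Lt.q, Lt.z, Lt.v] (H9.TCY.hole_at hinv hr 22 7 true (by decide +kernel)) h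
  · exact dp_q_341_s hinv hr hH j u hu h
theorem dp_q_343_s (hinv : ∀ x, g (inv x) = (g x)⁻¹) (hr : ∀ r ∈ rels, (r.map g).prod = 1) (hH : ∀ r ∈ subs, (r.map g).prod ∈ H)
    (j u : ℕ) (hu : u < M) (h : dp_q_343 j u = true) : Good (fa g) T MG M (cP g H) Lt.q u := by
  unfold dp_q_343 at h
  rcases brec_true h with h | h
  · exact dp_q_340_s hinv hr hH j u hu h
  · exact dp_q_342_s hinv hr hH j u hu h
theorem dp_q_344_s (hinv : ∀ x, g (inv x) = (g x)⁻¹) (hr : ∀ r ∈ rels, (r.map g).prod = 1) (hH : ∀ r ∈ subs, (r.map g).prod ∈ H)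
    (j u : ℕ) (hu : u < M) (h : dp_q_344 j u = true) : Good (fa g) T MG M (cP g H) Lt.q u := by
  unfold dp_q_344 at h
  rcases brec_true h with h | h
  · exact dp_q_339_s hinv hr hH j u hu h
  · exact dp_q_343_s hinv hr hH j u hu h
theorem dp_q_345_s (hinv : ∀ x, g (inv x) = (g x)⁻¹) (hr : ∀ r ∈ rels, (r.map g).prod = 1) (hH : ∀ r ∈ subs, (r.map g).prod ∈ H)
    (j u : ℕ) (hu : u < M) (h : dp_q_345 j u = true) : Good (fa g) T MG M (cP g H) Lt.q u := by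
  unfold dp_q_345 at h
  rcases brec_true h with h | h
  · exact lS_good (T := T) (x := Lt.q) (by decide) hu [Lt.z, Lt.y, Lt.y, Lt.y, Lt.q, Lt.z, Lt.q, Lt.z, Lt.y, Lt.y, Lt.y, Lt.q, Lt.z] (H9.TCY.hole_at hinv hr 21 3 true (by decide +kernel)) h
  · exact lS_good (T := T) (x := Lt.q) (by decide) hu [Lt.z, Lt.y, Lt.z, Lt.q, Lt.z, Lt.yi, Lt.z, Lt.q, Lt.z, Lt.y, Lt.z, Lt.q, Lt.z, Lt.yi, Lt.z] (H9.TCY.hole_at hinv hr 25 3 false (by decide +kernel)) h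
theorem dp_q_346_s (hinv : ∀ x, g (inv x) = (g x)⁻¹) (hr : ∀ r ∈ rels, (r.map g).prod = 1) (hH : ∀ r ∈ subs, (r.map g).prod ∈ H)
    (j u : ℕ) (hu : u < M) (h : dp_q_346 j u = true) : Good (fa g) T MG M (cP g H) Lt.q u := by
  unfold dp_q_346 at h
  rcases brec_true h with h | h
  · exact lF_good (T := T) (x := Lt.q) (by decide) [Lt.z, Lt.q, Lt.z, Lt.q, Lt.v, Lt.z, Lt.q, Lt.z, Lt.q, Lt.v, Lt.z, Lt.q, Lt.v, Lt.z] (H9.TCY.hole_at hinv hr 22 5 false (by decide +kernel)) h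
  · exact dp_q_345_s hinv hr hH j u hu h
theorem dp_q_347_s (hinv : ∀ x, g (inv x) = (g x)⁻¹) (hr : ∀ r ∈ rels, (r.map g).prod = 1) (hH : ∀ r ∈ subs, (r.map g).prod ∈ H)
    (j u : ℕ) (hu : u < M) (h : dp_q_347 j u = true) : Good (fa g) T MG M (cP g H) Lt.q u := by
  unfold dp_q_347 at h
  rcases brec_true h with h | h
  · exact lF_good (T := T) (x := Lt.q) (by decide) [Lt.y, Lt.z, Lt.q, Lt.yi, Lt.q, Lt.z, Lt.yi, Lt.q, Lt.z, Lt.yi, Lt.yi, Lt.yi, Lt.z, Lt.y, Lt.y, Lt.y, Lt.z, Lt.q, Lt.y, Lt.z, Lt.q, Lt.y, Lt.z, Lt.q, Lt.yi, Lt.q, Lt.z, Lt.yi, Lt.q, Lt.z, Lt.yi, Lt.yi, Lt.yi, Lt.z, Lt.y, Lt.y, Lt.y, Lt.z, Lt.q, Lt.y, Lt.z, Lt.q, Lt.y, Lt.z, Lt.q, Lt.z, Lt.yi, Lt.q, Lt.z, Lt.yi, Lt.q, Lt.z, Lt.yi, Lt.yi, Lt.yi, Lt.z, Lt.y, Lt.y, Lt.y, Lt.z, Lt.q, Lt.y, Lt.z] (H9.TCY.hole_at hinv hr 49 19 false (by decide +kernel)) h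
  · exact lF_good (T := T) (x := Lt.q) (by decide) [Lt.z, Lt.v, Lt.q, Lt.z, Lt.q, Lt.z, Lt.q, Lt.z, Lt.q, Lt.z, Lt.v, Lt.q, Lt.z, Lt.q, Lt.z, Lt.q, Lt.z] (H9.TCY.hole_at hinv hr 43 8 true (by decide +kernel)) h
theorem dp_q_348_s (hinv : ∀ x, g (inv x) = (g x)⁻¹) (hr : ∀ r ∈ rels, (r.map g).prod = 1) (hH : ∀ r ∈ subs, (r.map g).prod ∈ H)
    (j u : ℕ) (hu : u < M) (h : dp_q_348 j u = true) : Good (fa g) T MG M (cP g H) Lt.q u := by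
  unfold dp_q_348 at h
  rcases brec_true h with h | h
  · exact lS_good (T := T) (x := Lt.q) (by decide) hu [Lt.z, Lt.yi, Lt.z, Lt.q, Lt.z, Lt.q, Lt.v, Lt.y, Lt.v, Lt.q, Lt.z] (H9.TCY.hole_at hinv hr 13 4 false (by decide +kernel)) h
  · exact dp_q_347_s hinv hr hH j u hu h
theorem dp_q_349_s (hinv : ∀ x, g (inv x) = (g x)⁻¹) (hr : ∀ r ∈ rels, (r.map g).prod = 1) (hH : ∀ r ∈ subs, (r.map g).prod ∈ H)
    (j u : ℕ) (hu : u < M) (h : dp_q_349 j u = true) : Good (fa g) T MG M (cP g H) Lt.q u := by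
  unfold dp_q_349 at h
  rcases brec_true h with h | h
  · exact lH_good (T := T) (x := Lt.q) (by decide) [] [] (by rw [show cP g H 0 = _ from cc_zero]; exact sub_rel hinv (hH _ (by decide))) h
  · exact lS_good (T := T) (x := Lt.q) (by decide) hu [Lt.z, Lt.q, Lt.v, Lt.z, Lt.q, Lt.z, Lt.q, Lt.v, Lt.z, Lt.q, Lt.v, Lt.z, Lt.q, Lt.z] (H9.TCY.hole_at hinv hr 22 7 false (by decide +kernel)) h
theorem dp_q_350_s (hinv : ∀ x, g (inv x) = (g x)⁻¹) (hr : ∀ r ∈ rels, (r.map g).prod = 1) (hH : ∀ r ∈ subs, (r.map g).prod ∈ H)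
    (j u : ℕ) (hu : u < M) (h : dp_q_350 j u = true) : Good (fa g) T MG M (cP g H) Lt.q u := by
  unfold dp_q_350 at h
  rcases brec_true h with h | h
  · exact lS_good (T := T) (x := Lt.q) (by decide) hu [Lt.yi, Lt.q, Lt.z, Lt.yi, Lt.q, Lt.z, Lt.yi, Lt.yi, Lt.yi, Lt.z, Lt.y, Lt.y, Lt.y, Lt.z, Lt.q, Lt.y, Lt.z, Lt.q, Lt.y, Lt.z, Lt.q, Lt.yi, Lt.q, Lt.z, Lt.yi, Lt.q, Lt.z, Lt.yi, Lt.yi, Lt.yi, Lt.z, Lt.y, Lt.y, Lt.y, Lt.z, Lt.q, Lt.y, Lt.z, Lt.q, Lt.y, Lt.z, Lt.q, Lt.z, Lt.yi, Lt.q, Lt.z, Lt.yi, Lt.q, Lt.z, Lt.yi, Lt.yi, Lt.yi, Lt.z, Lt.y, Lt.y, Lt.y, Lt.z, Lt.q, Lt.y, Lt.z, Lt.q, Lt.y, Lt.z] (H9.TCY.hole_at hinv hr 49 22 false (by decide +kernel)) h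
  · exact dp_q_349_s hinv hr hH j u hu h
theorem dp_q_351_s (hinv : ∀ x, g (inv x) = (g x)⁻¹) (hr : ∀ r ∈ rels, (r.map g).prod = 1) (hH : ∀ r ∈ subs, (r.map g).prod ∈ H)
    (j u : ℕ) (hu : u < M) (h : dp_q_351 j u = true) : Good (fa g) T MG M (cP g H) Lt.q u := by
  unfold dp_q_351 at h
  rcases brec_true h with h | h
  · exact lS_good (T := T) (x := Lt.q) (by decide) hu [Lt.z, Lt.yi, Lt.q, Lt.z, Lt.yi, Lt.q, Lt.z, Lt.yi, Lt.yi, Lt.yi, Lt.z, Lt.y, Lt.y, Lt.y, Lt.z, Lt.q, Lt.y, Lt.z, Lt.q, Lt.y, Lt.q, Lt.z, Lt.yi, Lt.q, Lt.z, Lt.yi, Lt.q, Lt.z, Lt.yi, Lt.yi, Lt.yi, Lt.z, Lt.y, Lt.y, Lt.y, Lt.z, Lt.q, Lt.y, Lt.z, Lt.q, Lt.y, Lt.z, Lt.q, Lt.z, Lt.yi, Lt.q, Lt.z, Lt.yi, Lt.q, Lt.z, Lt.yi, Lt.yi, Lt.yi, Lt.z, Lt.y, Lt.y, Lt.y, Lt.z, Lt.q, Lt.y, Lt.z, Lt.q, Lt.y] (H9.TCY.hole_at hinv hr 49 22 true (by decide +kernel)) h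
  · exact dp_q_350_s hinv hr hH j u hu h
theorem dp_q_352_s (hinv : ∀ x, g (inv x) = (g x)⁻¹) (hr : ∀ r ∈ rels, (r.map g).prod = 1) (hH : ∀ r ∈ subs, (r.map g).prod ∈ H)
    (j u : ℕ) (hu : u < M) (h : dp_q_352 j u = true) : Good (fa g) T MG M (cP g H) Lt.q u := by
  unfold dp_q_352 at h
  rcases brec_true h with h | h
  · exact dp_q_348_s hinv hr hH j u hu h
  · exact dp_q_351_s hinv hr hH j u hu h
theorem dp_q_353_s (hinv : ∀ x, g (inv x) = (g x)⁻¹) (hr : ∀ r ∈ rels, (r.map g).prod = 1) (hH : ∀ r ∈ subs, (r.map g).prod ∈ H)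
    (j u : ℕ) (hu : u < M) (h : dp_q_353 j u = true) : Good (fa g) T MG M (cP g H) Lt.q u := by
  unfold dp_q_353 at h
  rcases brec_true h with h | h
  · exact dp_q_346_s hinv hr hH j u hu h
  · exact dp_q_352_s hinv hr hH j u hu h
theorem dp_q_354_s (hinv : ∀ x, g (inv x) = (g x)⁻¹) (hr : ∀ r ∈ rels, (r.map g).prod = 1) (hH : ∀ r ∈ subs, (r.map g).prod ∈ H)
    (j u : ℕ) (hu : u < M) (h : dp_q_354 j u = true) : Good (fa g) T MG M (cP g H) Lt.q u := by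
  unfold dp_q_354 at h
  rcases brec_true h with h | h
  · exact lS_good (T := T) (x := Lt.q) (by decide) hu [Lt.z, Lt.q, Lt.z, Lt.q, Lt.v, Lt.z, Lt.q, Lt.z, Lt.q, Lt.v, Lt.z, Lt.q, Lt.v, Lt.z] (H9.TCY.hole_at hinv hr 22 5 false (by decide +kernel)) h
  · exact lS_good (T := T) (x := Lt.q) (by decide) hu [Lt.yi, Lt.q, Lt.z, Lt.yi, Lt.q, Lt.z, Lt.yi, Lt.yi, Lt.yi, Lt.z, Lt.y, Lt.y, Lt.y, Lt.z, Lt.q, Lt.y, Lt.z, Lt.q, Lt.y, Lt.z, Lt.q, Lt.z, Lt.yi, Lt.q, Lt.z, Lt.yi, Lt.q, Lt.z, Lt.yi, Lt.yi, Lt.yi, Lt.z, Lt.y, Lt.y, Lt.y, Lt.z, Lt.q, Lt.y, Lt.z, Lt.q, Lt.y, Lt.z, Lt.q, Lt.yi, Lt.q, Lt.z, Lt.yi, Lt.q, Lt.z, Lt.yi, Lt.yi, Lt.yi, Lt.z, Lt.y, Lt.y, Lt.y, Lt.z, Lt.q, Lt.y, Lt.z, Lt.q, Lt.y, Lt.z] (H9.TCY.hole_at hinv hr 49 43 false (by decide +kernel)) h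
theorem dp_q_355_s (hinv : ∀ x, g (inv x) = (g x)⁻¹) (hr : ∀ r ∈ rels, (r.map g).prod = 1) (hH : ∀ r ∈ subs, (r.map g).prod ∈ H)
    (j u : ℕ) (hu : u < M) (h : dp_q_355 j u = true) : Good (fa g) T MG M (cP g H) Lt.q u := by
  unfold dp_q_355 at h
  rcases brec_true h with h | h
  · exact lF_good (T := T) (x := Lt.q) (by decide) [Lt.z, Lt.v, Lt.q, Lt.z, Lt.v, Lt.q, Lt.z, Lt.q, Lt.z, Lt.v, Lt.q, Lt.z, Lt.q, Lt.z] (H9.TCY.hole_at hinv hr 22 11 true (by decide +kernel)) h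
  · exact dp_q_354_s hinv hr hH j u hu h
theorem dp_q_356_s (hinv : ∀ x, g (inv x) = (g x)⁻¹) (hr : ∀ r ∈ rels, (r.map g).prod = 1) (hH : ∀ r ∈ subs, (r.map g).prod ∈ H)
    (j u : ℕ) (hu : u < M) (h : dp_q_356 j u = true) : Good (fa g) T MG M (cP g H) Lt.q u := by
  unfold dp_q_356 at h
  rcases brec_true h with h | h
  · exact lS_good (T := T) (x := Lt.q) (by decide) hu [Lt.y, Lt.z, Lt.q, Lt.y, Lt.z, Lt.q, Lt.yi, Lt.q, Lt.z, Lt.yi, Lt.q, Lt.z, Lt.yi, Lt.yi, Lt.yi, Lt.z, Lt.y, Lt.y, Lt.y, Lt.z, Lt.q, Lt.y, Lt.z, Lt.q, Lt.y, Lt.z, Lt.q, Lt.yi, Lt.q, Lt.z, Lt.yi, Lt.q, Lt.z, Lt.yi, Lt.yi, Lt.yi, Lt.z, Lt.y, Lt.y, Lt.y, Lt.z, Lt.q, Lt.y, Lt.z, Lt.q, Lt.y, Lt.z, Lt.q, Lt.z, Lt.yi, Lt.q, Lt.z, Lt.yi, Lt.q, Lt.z, Lt.yi, Lt.yi, Lt.yi, Lt.z, Lt.y, Lt.y, Lt.y, Lt.z] (H9.TCY.hole_at hinv hr 49 16 false (by decide +kernel)) h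
  · exact lF_good (T := T) (x := Lt.q) (by decide) [Lt.z, Lt.q, Lt.z, Lt.q, Lt.z, Lt.q, Lt.v, Lt.z, Lt.q, Lt.z, Lt.q, Lt.z, Lt.q, Lt.z, Lt.q, Lt.v, Lt.z] (H9.TCY.hole_at hinv hr 43 2 false (by decide +kernel)) h
theorem dp_q_357_s (hinv : ∀ x, g (inv x) = (g x)⁻¹) (hr : ∀ r ∈ rels, (r.map g).prod = 1) (hH : ∀ r ∈ subs, (r.map g).prod ∈ H)
    (j u : ℕ) (hu : u < M) (h : dp_q_357 j u = true) : Good (fa g) T MG M (cP g H) Lt.q u := by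
  unfold dp_q_357 at h
  rcases brec_true h with h | h
  · exact lS_good (T := T) (x := Lt.q) (by decide) hu [Lt.y, Lt.q, Lt.z, Lt.yi, Lt.q, Lt.z, Lt.yi, Lt.q, Lt.z, Lt.yi, Lt.yi, Lt.yi, Lt.z, Lt.y, Lt.y, Lt.y, Lt.z, Lt.q, Lt.y, Lt.z, Lt.q, Lt.y, Lt.q, Lt.z, Lt.yi, Lt.q, Lt.z, Lt.yi, Lt.q, Lt.z, Lt.yi, Lt.yi, Lt.yi, Lt.z, Lt.y, Lt.y, Lt.y, Lt.z, Lt.q, Lt.y, Lt.z, Lt.q, Lt.y, Lt.z, Lt.q, Lt.z, Lt.yi, Lt.q, Lt.z, Lt.yi, Lt.q, Lt.z, Lt.yi, Lt.yi, Lt.yi, Lt.z, Lt.y, Lt.y, Lt.y, Lt.z, Lt.q, Lt.y, Lt.z] (H9.TCY.hole_at hinv hr 49 20 true (by decide +kernel)) h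
  · exact dp_q_356_s hinv hr hH j u hu h
theorem dp_q_358_s (hinv : ∀ x, g (inv x) = (g x)⁻¹) (hr : ∀ r ∈ rels, (r.map g).prod = 1) (hH : ∀ r ∈ subs, (r.map g).prod ∈ H)
    (j u : ℕ) (hu : u < M) (h : dp_q_358 j u = true) : Good (fa g) T MG M (cP g H) Lt.q u := by
  unfold dp_q_358 at h
  rcases brec_true h with h | h
  · exact dp_q_355_s hinv hr hH j u hu h
  · exact dp_q_357_s hinv hr hH j u hu h
theorem dp_q_359_s (hinv : ∀ x, g (inv x) = (g x)⁻¹) (hr : ∀ r ∈ rels, (r.map g).prod = 1) (hH : ∀ r ∈ subs, (r.map g).prod ∈ H)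
    (j u : ℕ) (hu : u < M) (h : dp_q_359 j u = true) : Good (fa g) T MG M (cP g H) Lt.q u := by
  unfold dp_q_359 at h
  rcases brec_true h with h | h
  · exact lF_good (T := T) (x := Lt.q) (by decide) [Lt.z, Lt.yi, Lt.q, Lt.z, Lt.yi, Lt.yi, Lt.yi, Lt.z, Lt.y, Lt.y, Lt.y, Lt.z, Lt.q, Lt.y, Lt.z, Lt.q, Lt.y, Lt.z, Lt.q, Lt.yi, Lt.q, Lt.z, Lt.yi, Lt.q, Lt.z, Lt.yi, Lt.yi, Lt.yi, Lt.z, Lt.y, Lt.y, Lt.y, Lt.z, Lt.q, Lt.y, Lt.z, Lt.q, Lt.y, Lt.z, Lt.q, Lt.z, Lt.yi, Lt.q, Lt.z, Lt.yi, Lt.q, Lt.z, Lt.yi, Lt.yi, Lt.yi, Lt.z, Lt.y, Lt.y, Lt.y, Lt.z, Lt.q, Lt.y, Lt.z, Lt.q, Lt.y, Lt.z, Lt.q, Lt.yi] (H9.TCY.hole_at hinv hr 49 24 false (by decide +kernel)) h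
  · exact lF_good (T := T) (x := Lt.q) (by decide) [Lt.z, Lt.q, Lt.z, Lt.v, Lt.q, Lt.z, Lt.v, Lt.q, Lt.z, Lt.q, Lt.z, Lt.v, Lt.q, Lt.z] (H9.TCY.hole_at hinv hr 22 9 true (by decide +kernel)) h
theorem dp_q_360_s (hinv : ∀ x, g (inv x) = (g x)⁻¹) (hr : ∀ r ∈ rels, (r.map g).prod = 1) (hH : ∀ r ∈ subs, (r.map g).prod ∈ H)
    (j u : ℕ) (hu : u < M) (h : dp_q_360 j u = true) : Good (fa g) T MG M (cP g H) Lt.q u := by
  unfold dp_q_360 at h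
  rcases brec_true h with h | h
  · exact lS_good (T := T) (x := Lt.q) (by decide) hu [Lt.z, Lt.q, Lt.z, Lt.v, Lt.q, Lt.z, Lt.q, Lt.z, Lt.q, Lt.z, Lt.v, Lt.q, Lt.z, Lt.v] (H9.TCY.hole_at hinv hr 22 2 true (by decide +kernel)) h
  · exact dp_q_359_s hinv hr hH j u hu h
theorem dp_q_361_s (hinv : ∀ x, g (inv x) = (g x)⁻¹) (hr : ∀ r ∈ rels, (r.map g).prod = 1) (hH : ∀ r ∈ subs, (r.map g).prod ∈ H)
    (j u : ℕ) (hu : u < M) (h : dp_q_361 j u = true) : Good (fa g) T MG M (cP g H) Lt.q u := by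
  unfold dp_q_361 at h
  rcases brec_true h with h | h
  · exact lS_good (T := T) (x := Lt.q) (by decide) hu [Lt.y, Lt.q, Lt.z, Lt.yi, Lt.q, Lt.z, Lt.yi, Lt.q, Lt.z, Lt.yi, Lt.yi, Lt.yi, Lt.z, Lt.y, Lt.y, Lt.y, Lt.z, Lt.q, Lt.y, Lt.z, Lt.q, Lt.y, Lt.z, Lt.q, Lt.z, Lt.yi, Lt.q, Lt.z, Lt.yi, Lt.q, Lt.z, Lt.yi, Lt.yi, Lt.yi, Lt.z, Lt.y, Lt.y, Lt.y, Lt.z, Lt.q, Lt.y, Lt.z, Lt.q, Lt.y, Lt.q, Lt.z, Lt.yi, Lt.q, Lt.z, Lt.yi, Lt.q, Lt.z, Lt.yi, Lt.yi, Lt.yi, Lt.z, Lt.y, Lt.y, Lt.y, Lt.z, Lt.q, Lt.y, Lt.z] (H9.TCY.hole_at hinv hr 49 41 true (by decide +kernel)) h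
  · exact lF_good (T := T) (x := Lt.q) (by decide) [Lt.v, Lt.z, Lt.q, Lt.z, Lt.q, Lt.z, Lt.q, Lt.z, Lt.q, Lt.v, Lt.z, Lt.q, Lt.z, Lt.q, Lt.z, Lt.q, Lt.z] (H9.TCY.hole_at hinv hr 43 8 false (by decide +kernel)) h
theorem dp_q_362_s (hinv : ∀ x, g (inv x) = (g x)⁻¹) (hr : ∀ r ∈ rels, (r.map g).prod = 1) (hH : ∀ r ∈ subs, (r.map g).prod ∈ H)
    (j u : ℕ) (hu : u < M) (h : dp_q_362 j u = true) : Good (fa g) T MG M (cP g H) Lt.q u := by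
  unfold dp_q_362 at h
  rcases brec_true h with h | h
  · exact lS_good (T := T) (x := Lt.q) (by decide) hu [Lt.v, Lt.z, Lt.q, Lt.v, Lt.z, Lt.q, Lt.z, Lt.q, Lt.z, Lt.q, Lt.v, Lt.z, Lt.q, Lt.z] (H9.TCY.hole_at hinv hr 22 14 false (by decide +kernel)) h
  · exact dp_q_361_s hinv hr hH j u hu h
theorem dp_q_363_s (hinv : ∀ x, g (inv x) = (g x)⁻¹) (hr : ∀ r ∈ rels, (r.map g).prod = 1) (hH : ∀ r ∈ subs, (r.map g).prod ∈ H)
    (j u : ℕ) (hu : u < M) (h : dp_q_363 j u = true) : Good (fa g) T MG M (cP g H) Lt.q u := by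
  unfold dp_q_363 at h
  rcases brec_true h with h | h
  · exact dp_q_360_s hinv hr hH j u hu h
  · exact dp_q_362_s hinv hr hH j u hu h
theorem dp_q_364_s (hinv : ∀ x, g (inv x) = (g x)⁻¹) (hr : ∀ r ∈ rels, (r.map g).prod = 1) (hH : ∀ r ∈ subs, (r.map g).prod ∈ H)
    (j u : ℕ) (hu : u < M) (h : dp_q_364 j u = true) : Good (fa g) T MG M (cP g H) Lt.q u := by
  unfold dp_q_364 at h
  rcases brec_true h with h | h
  · exact dp_q_358_s hinv hr hH j u hu h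
  · exact dp_q_363_s hinv hr hH j u hu h
theorem dp_q_365_s (hinv : ∀ x, g (inv x) = (g x)⁻¹) (hr : ∀ r ∈ rels, (r.map g).prod = 1) (hH : ∀ r ∈ subs, (r.map g).prod ∈ H)
    (j u : ℕ) (hu : u < M) (h : dp_q_365 j u = true) : Good (fa g) T MG M (cP g H) Lt.q u := by
  unfold dp_q_365 at h
  rcases brec_true h with h | h
  · exact lF_good (T := T) (x := Lt.q) (by decide) [Lt.z, Lt.yi, Lt.q, Lt.z, Lt.yi, Lt.yi, Lt.yi, Lt.z, Lt.y, Lt.y, Lt.y, Lt.z, Lt.q, Lt.y, Lt.z, Lt.q, Lt.y, Lt.z, Lt.q, Lt.yi, Lt.q, Lt.z, Lt.yi, Lt.q, Lt.z, Lt.yi, Lt.yi, Lt.yi, Lt.z, Lt.y, Lt.y, Lt.y, Lt.z, Lt.q, Lt.y, Lt.z, Lt.q, Lt.y, Lt.z, Lt.q, Lt.yi, Lt.q, Lt.z, Lt.yi, Lt.q, Lt.z, Lt.yi, Lt.yi, Lt.yi, Lt.z, Lt.y, Lt.y, Lt.y, Lt.z, Lt.q, Lt.y, Lt.z, Lt.q, Lt.y, Lt.z, Lt.q, Lt.z, Lt.yi] (H9.TCY.hole_at hinv hr 49 3 false (by decide +kernel)) h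
  · exact lS_good (T := T) (x := Lt.q) (by decide) hu [Lt.y, Lt.z, Lt.q, Lt.yi, Lt.q, Lt.z, Lt.yi, Lt.q, Lt.z, Lt.yi, Lt.yi, Lt.yi, Lt.z, Lt.y, Lt.y, Lt.y, Lt.z, Lt.q, Lt.y, Lt.z, Lt.q, Lt.y, Lt.z, Lt.q, Lt.z, Lt.yi, Lt.q, Lt.z, Lt.yi, Lt.q, Lt.z, Lt.yi, Lt.yi, Lt.yi, Lt.z, Lt.y, Lt.y, Lt.y, Lt.z, Lt.q, Lt.y, Lt.z, Lt.q, Lt.y, Lt.z, Lt.q, Lt.yi, Lt.q, Lt.z, Lt.yi, Lt.q, Lt.z, Lt.yi, Lt.yi, Lt.yi, Lt.z, Lt.y, Lt.y, Lt.y, Lt.z, Lt.q, Lt.y, Lt.z] (H9.TCY.hole_at hinv hr 49 40 false (by decide +kernel)) h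
theorem dp_q_366_s (hinv : ∀ x, g (inv x) = (g x)⁻¹) (hr : ∀ r ∈ rels, (r.map g).prod = 1) (hH : ∀ r ∈ subs, (r.map g).prod ∈ H)
    (j u : ℕ) (hu : u < M) (h : dp_q_366 j u = true) : Good (fa g) T MG M (cP g H) Lt.q u := by
  unfold dp_q_366 at h
  rcases brec_true h with h | h
  · exact lS_good (T := T) (x := Lt.q) (by decide) hu [Lt.z, Lt.yi, Lt.yi, Lt.yi, Lt.z, Lt.y, Lt.y, Lt.y, Lt.z, Lt.q, Lt.y, Lt.z, Lt.q, Lt.y, Lt.z, Lt.q, Lt.z, Lt.yi, Lt.q, Lt.z, Lt.yi, Lt.q, Lt.z, Lt.yi, Lt.yi, Lt.yi, Lt.z, Lt.y, Lt.y, Lt.y, Lt.z, Lt.q, Lt.y, Lt.z, Lt.q, Lt.y, Lt.q, Lt.z, Lt.yi, Lt.q, Lt.z, Lt.yi, Lt.q, Lt.z, Lt.yi, Lt.yi, Lt.yi, Lt.z, Lt.y, Lt.y, Lt.y, Lt.z, Lt.q, Lt.y, Lt.z, Lt.q, Lt.y, Lt.q, Lt.z, Lt.yi, Lt.q, Lt.z, Lt.yi] (H9.TCY.hole_at hinv hr 49 49 true (by decide +kernel)) h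
  · exact dp_q_365_s hinv hr hH j u hu h
theorem dp_q_367_s (hinv : ∀ x, g (inv x) = (g x)⁻¹) (hr : ∀ r ∈ rels, (r.map g).prod = 1) (hH : ∀ r ∈ subs, (r.map g).prod ∈ H)
    (j u : ℕ) (hu : u < M) (h : dp_q_367 j u = true) : Good (fa g) T MG M (cP g H) Lt.q u := by
  unfold dp_q_367 at h
  rcases brec_true h with h | h
  · exact lS_good (T := T) (x := Lt.q) (by decide) hu [Lt.z, Lt.yi, Lt.q, Lt.z, Lt.yi, Lt.q, Lt.z, Lt.yi, Lt.yi, Lt.yi, Lt.z, Lt.y, Lt.y, Lt.y, Lt.z, Lt.q, Lt.y, Lt.z, Lt.q, Lt.y, Lt.z, Lt.q, Lt.yi, Lt.q, Lt.z, Lt.yi, Lt.q, Lt.z, Lt.yi, Lt.yi, Lt.yi, Lt.z, Lt.y, Lt.y, Lt.y, Lt.z, Lt.q, Lt.y, Lt.z, Lt.q, Lt.y, Lt.z, Lt.q, Lt.yi, Lt.q, Lt.z, Lt.yi, Lt.q, Lt.z, Lt.yi, Lt.yi, Lt.yi, Lt.z, Lt.y, Lt.y, Lt.y, Lt.z, Lt.q, Lt.y, Lt.z, Lt.q, Lt.y, Lt.z] (H9.TCY.hole_at hinv hr 49 0 false (by decide +kernel)) h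
  · exact lS_good (T := T) (x := Lt.q) (by decide) hu [Lt.z, Lt.q, Lt.y, Lt.q, Lt.z, Lt.yi, Lt.yi, Lt.q, Lt.z, Lt.yi, Lt.q, Lt.z, Lt.yi, Lt.z, Lt.y, Lt.z, Lt.q, Lt.y, Lt.z, Lt.q, Lt.y, Lt.y, Lt.z, Lt.q, Lt.yi] (H9.TCY.hole_at hinv hr 46 24 false (by decide +kernel)) h
theorem dp_q_368_s (hinv : ∀ x, g (inv x) = (g x)⁻¹) (hr : ∀ r ∈ rels, (r.map g).prod = 1) (hH : ∀ r ∈ subs, (r.map g).prod ∈ H)
    (j u : ℕ) (hu : u < M) (h : dp_q_368 j u = true) : Good (fa g) T MG M (cP g H) Lt.q u := by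
  unfold dp_q_368 at h
  rcases brec_true h with h | h
  · exact lS_good (T := T) (x := Lt.q) (by decide) hu [Lt.z, Lt.yi, Lt.q, Lt.z, Lt.yi, Lt.yi, Lt.yi, Lt.z, Lt.y, Lt.y, Lt.y, Lt.z, Lt.q, Lt.y, Lt.z, Lt.q, Lt.y, Lt.z, Lt.q, Lt.z, Lt.yi, Lt.q, Lt.z, Lt.yi, Lt.q, Lt.z, Lt.yi, Lt.yi, Lt.yi, Lt.z, Lt.y, Lt.y, Lt.y, Lt.z, Lt.q, Lt.y, Lt.z, Lt.q, Lt.y, Lt.q, Lt.z, Lt.yi, Lt.q, Lt.z, Lt.yi, Lt.q, Lt.z, Lt.yi, Lt.yi, Lt.yi, Lt.z, Lt.y, Lt.y, Lt.y, Lt.z, Lt.q, Lt.y, Lt.z, Lt.q, Lt.y, Lt.q, Lt.z, Lt.yi] (H9.TCY.hole_at hinv hr 49 46 true (by decide +kernel)) h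
  · exact dp_q_367_s hinv hr hH j u hu h
theorem dp_q_369_s (hinv : ∀ x, g (inv x) = (g x)⁻¹) (hr : ∀ r ∈ rels, (r.map g).prod = 1) (hH : ∀ r ∈ subs, (r.map g).prod ∈ H)
    (j u : ℕ) (hu : u < M) (h : dp_q_369 j u = true) : Good (fa g) T MG M (cP g H) Lt.q u := by
  unfold dp_q_369 at h
  rcases brec_true h with h | h
  · exact dp_q_366_s hinv hr hH j u hu h
  · exact dp_q_368_s hinv hr hH j u hu h
theorem dp_q_370_s (hinv : ∀ x, g (inv x) = (g x)⁻¹) (hr : ∀ r ∈ rels, (r.map g).prod = 1) (hH : ∀ r ∈ subs, (r.map g).prod ∈ H)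
    (j u : ℕ) (hu : u < M) (h : dp_q_370 j u = true) : Good (fa g) T MG M (cP g H) Lt.q u := by
  unfold dp_q_370 at h
  rcases brec_true h with h | h
  · exact lS_good (T := T) (x := Lt.q) (by decide) hu [Lt.z, Lt.q, Lt.z, Lt.v, Lt.q, Lt.z, Lt.q, Lt.z, Lt.v, Lt.q, Lt.z, Lt.q, Lt.z, Lt.v, Lt.q, Lt.z, Lt.q, Lt.z, Lt.v, Lt.q, Lt.z, Lt.q, Lt.z, Lt.v] (H9.TCY.hole_at hinv hr 45 2 true (by decide +kernel)) h
  · exact lF_good (T := T) (x := Lt.q) (by decide) [Lt.z, Lt.q, Lt.v, Lt.z, Lt.q, Lt.v, Lt.z, Lt.q, Lt.z, Lt.q, Lt.z, Lt.q, Lt.v, Lt.z] (H9.TCY.hole_at hinv hr 22 12 false (by decide +kernel)) h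
theorem dp_q_371_s (hinv : ∀ x, g (inv x) = (g x)⁻¹) (hr : ∀ r ∈ rels, (r.map g).prod = 1) (hH : ∀ r ∈ subs, (r.map g).prod ∈ H)
    (j u : ℕ) (hu : u < M) (h : dp_q_371 j u = true) : Good (fa g) T MG M (cP g H) Lt.q u := by
  unfold dp_q_371 at h
  rcases brec_true h with h | h
  · exact lS_good (T := T) (x := Lt.q) (by decide) hu [Lt.y, Lt.z, Lt.q, Lt.z, Lt.yi, Lt.q, Lt.z, Lt.yi, Lt.q, Lt.z, Lt.yi, Lt.yi, Lt.yi, Lt.z, Lt.y, Lt.y, Lt.y, Lt.z, Lt.q, Lt.y, Lt.z, Lt.q, Lt.y, Lt.q, Lt.z, Lt.yi, Lt.q, Lt.z, Lt.yi, Lt.q, Lt.z, Lt.yi, Lt.yi, Lt.yi, Lt.z, Lt.y, Lt.y, Lt.y, Lt.z, Lt.q, Lt.y, Lt.z, Lt.q, Lt.y, Lt.q, Lt.z, Lt.yi, Lt.q, Lt.z, Lt.yi, Lt.q, Lt.z, Lt.yi, Lt.yi, Lt.yi, Lt.z, Lt.y, Lt.y, Lt.y, Lt.z, Lt.q, Lt.y, Lt.z] (H9.TCY.hole_at hinv hr 49 62 true (by decide +kernel)) h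
  · exact dp_q_370_s hinv hr hH j u hu h
theorem dp_q_372_s (hinv : ∀ x, g (inv x) = (g x)⁻¹) (hr : ∀ r ∈ rels, (r.map g).prod = 1) (hH : ∀ r ∈ subs, (r.map g).prod ∈ H)
    (j u : ℕ) (hu : u < M) (h : dp_q_372 j u = true) : Good (fa g) T MG M (cP g H) Lt.q u := by
  unfold dp_q_372 at h
  rcases brec_true h with h | h
  · exact lS_good (T := T) (x := Lt.q) (by decide) hu [Lt.y, Lt.z, Lt.q, Lt.yi, Lt.q, Lt.z, Lt.yi, Lt.q, Lt.z, Lt.yi, Lt.yi, Lt.yi, Lt.z, Lt.y, Lt.y, Lt.y, Lt.z, Lt.q, Lt.y, Lt.z, Lt.q, Lt.y, Lt.z, Lt.q, Lt.yi, Lt.q, Lt.z, Lt.yi, Lt.q, Lt.z, Lt.yi, Lt.yi, Lt.yi, Lt.z, Lt.y, Lt.y, Lt.y, Lt.z, Lt.q, Lt.y, Lt.z, Lt.q, Lt.y, Lt.z, Lt.q, Lt.z, Lt.yi, Lt.q, Lt.z, Lt.yi, Lt.q, Lt.z, Lt.yi, Lt.yi, Lt.yi, Lt.z, Lt.y, Lt.y, Lt.y, Lt.z, Lt.q, Lt.y, Lt.z] (H9.TCY.hole_at hinv hr 49 19 false (by decide +kernel)) h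
  · exact lF_good (T := T) (x := Lt.q) (by decide) [Lt.y, Lt.q, Lt.z, Lt.yi, Lt.q, Lt.z, Lt.yi, Lt.q, Lt.z, Lt.yi, Lt.yi, Lt.yi, Lt.z, Lt.y, Lt.y, Lt.y, Lt.z, Lt.q, Lt.y, Lt.z, Lt.q, Lt.y, Lt.z, Lt.q, Lt.z, Lt.yi, Lt.q, Lt.z, Lt.yi, Lt.q, Lt.z, Lt.yi, Lt.yi, Lt.yi, Lt.z, Lt.y, Lt.y, Lt.y, Lt.z, Lt.q, Lt.y, Lt.z, Lt.q, Lt.y, Lt.q, Lt.z, Lt.yi, Lt.q, Lt.z, Lt.yi, Lt.q, Lt.z, Lt.yi, Lt.yi, Lt.yi, Lt.z, Lt.y, Lt.y, Lt.y, Lt.z, Lt.q, Lt.y, Lt.z] (H9.TCY.hole_at hinv hr 49 41 true (by decide +kernel)) h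
theorem dp_q_373_s (hinv : ∀ x, g (inv x) = (g x)⁻¹) (hr : ∀ r ∈ rels, (r.map g).prod = 1) (hH : ∀ r ∈ subs, (r.map g).prod ∈ H)
    (j u : ℕ) (hu : u < M) (h : dp_q_373 j u = true) : Good (fa g) T MG M (cP g H) Lt.q u := by
  unfold dp_q_373 at h
  rcases brec_true h with h | h
  · exact lF_good (T := T) (x := Lt.q) (by decide) [Lt.z, Lt.yi, Lt.yi, Lt.yi, Lt.z, Lt.y, Lt.y, Lt.y, Lt.z, Lt.q, Lt.y, Lt.z, Lt.q, Lt.y, Lt.q, Lt.z, Lt.yi, Lt.q, Lt.z, Lt.yi, Lt.q, Lt.z, Lt.yi, Lt.yi, Lt.yi, Lt.z, Lt.y, Lt.y, Lt.y, Lt.z, Lt.q, Lt.y, Lt.z, Lt.q, Lt.y, Lt.q, Lt.z, Lt.yi, Lt.q, Lt.z, Lt.yi, Lt.q, Lt.z, Lt.yi, Lt.yi, Lt.yi, Lt.z, Lt.y, Lt.y, Lt.y, Lt.z, Lt.q, Lt.y, Lt.z, Lt.q, Lt.y, Lt.z, Lt.q, Lt.z, Lt.yi, Lt.q, Lt.z, Lt.yi] (H9.TCY.hole_at hinv hr 49 7 true (by decide +kernel)) h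
  · exact dp_q_372_s hinv hr hH j u hu h
theorem dp_q_374_s (hinv : ∀ x, g (inv x) = (g x)⁻¹) (hr : ∀ r ∈ rels, (r.map g).prod = 1) (hH : ∀ r ∈ subs, (r.map g).prod ∈ H)
    (j u : ℕ) (hu : u < M) (h : dp_q_374 j u = true) : Good (fa g) T MG M (cP g H) Lt.q u := by
  unfold dp_q_374 at h
  rcases brec_true h with h | h
  · exact dp_q_371_s hinv hr hH j u hu h
  · exact dp_q_373_s hinv hr hH j u hu h
theorem dp_q_375_s (hinv : ∀ x, g (inv x) = (g x)⁻¹) (hr : ∀ r ∈ rels, (r.map g).prod = 1) (hH : ∀ r ∈ subs, (r.map g).prod ∈ H)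
    (j u : ℕ) (hu : u < M) (h : dp_q_375 j u = true) : Good (fa g) T MG M (cP g H) Lt.q u := by
  unfold dp_q_375 at h
  rcases brec_true h with h | h
  · exact dp_q_369_s hinv hr hH j u hu h
  · exact dp_q_374_s hinv hr hH j u hu h
theorem dp_q_376_s (hinv : ∀ x, g (inv x) = (g x)⁻¹) (hr : ∀ r ∈ rels, (r.map g).prod = 1) (hH : ∀ r ∈ subs, (r.map g).prod ∈ H)
    (j u : ℕ) (hu : u < M) (h : dp_q_376 j u = true) : Good (fa g) T MG M (cP g H) Lt.q u := by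
  unfold dp_q_376 at h
  rcases brec_true h with h | h
  · exact dp_q_364_s hinv hr hH j u hu h
  · exact dp_q_375_s hinv hr hH j u hu h
theorem dp_q_377_s (hinv : ∀ x, g (inv x) = (g x)⁻¹) (hr : ∀ r ∈ rels, (r.map g).prod = 1) (hH : ∀ r ∈ subs, (r.map g).prod ∈ H)
    (j u : ℕ) (hu : u < M) (h : dp_q_377 j u = true) : Good (fa g) T MG M (cP g H) Lt.q u := by
  unfold dp_q_377 at h
  rcases brec_true h with h | h
  · exact dp_q_353_s hinv hr hH j u hu h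
  · exact dp_q_376_s hinv hr hH j u hu h
theorem dp_q_378_s (hinv : ∀ x, g (inv x) = (g x)⁻¹) (hr : ∀ r ∈ rels, (r.map g).prod = 1) (hH : ∀ r ∈ subs, (r.map g).prod ∈ H)
    (j u : ℕ) (hu : u < M) (h : dp_q_378 j u = true) : Good (fa g) T MG M (cP g H) Lt.q u := by
  unfold dp_q_378 at h
  rcases brec_true h with h | h
  · exact dp_q_344_s hinv hr hH j u hu h
  · exact dp_q_377_s hinv hr hH j u hu h
theorem dp_q_379_s (hinv : ∀ x, g (inv x) = (g x)⁻¹) (hr : ∀ r ∈ rels, (r.map g).prod = 1) (hH : ∀ r ∈ subs, (r.map g).prod ∈ H)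
    (j u : ℕ) (hu : u < M) (h : dp_q_379 j u = true) : Good (fa g) T MG M (cP g H) Lt.q u := by
  unfold dp_q_379 at h
  rcases brec_true h with h | h
  · exact dp_q_336_s hinv hr hH j u hu h
  · exact dp_q_378_s hinv hr hH j u hu h
theorem dp_q_380_s (hinv : ∀ x, g (inv x) = (g x)⁻¹) (hr : ∀ r ∈ rels, (r.map g).prod = 1) (hH : ∀ r ∈ subs, (r.map g).prod ∈ H)
    (j u : ℕ) (hu : u < M) (h : dp_q_380 j u = true) : Good (fa g) T MG M (cP g H) Lt.q u := by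
  unfold dp_q_380 at h
  rcases brec_true h with h | h
  · exact dp_q_329_s hinv hr hH j u hu h
  · exact dp_q_379_s hinv hr hH j u hu h
theorem dp_q_381_s (hinv : ∀ x, g (inv x) = (g x)⁻¹) (hr : ∀ r ∈ rels, (r.map g).prod = 1) (hH : ∀ r ∈ subs, (r.map g).prod ∈ H)
    (j u : ℕ) (hu : u < M) (h : dp_q_381 j u = true) : Good (fa g) T MG M (cP g H) Lt.q u := by
  unfold dp_q_381 at h
  rcases brec_true h with h | h
  · exact dp_q_318_s hinv hr hH j u hu h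
  · exact dp_q_380_s hinv hr hH j u hu h
theorem dp_q_382_s (hinv : ∀ x, g (inv x) = (g x)⁻¹) (hr : ∀ r ∈ rels, (r.map g).prod = 1) (hH : ∀ r ∈ subs, (r.map g).prod ∈ H)
    (j u : ℕ) (hu : u < M) (h : dp_q_382 j u = true) : Good (fa g) T MG M (cP g H) Lt.q u := by
  unfold dp_q_382 at h
  rcases brec_true h with h | h
  · exact dp_q_302_s hinv hr hH j u hu h
  · exact dp_q_381_s hinv hr hH j u hu h
theorem dp_q_383_s (hinv : ∀ x, g (inv x) = (g x)⁻¹) (hr : ∀ r ∈ rels, (r.map g).prod = 1) (hH : ∀ r ∈ subs, (r.map g).prod ∈ H)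
    (j u : ℕ) (hu : u < M) (h : dp_q_383 j u = true) : Good (fa g) T MG M (cP g H) Lt.q u := by
  unfold dp_q_383 at h
  rcases brec_true h with h | h
  · exact dp_q_279_s hinv hr hH j u hu h
  · exact dp_q_382_s hinv hr hH j u hu h
theorem dp_q_384_s (hinv : ∀ x, g (inv x) = (g x)⁻¹) (hr : ∀ r ∈ rels, (r.map g).prod = 1) (hH : ∀ r ∈ subs, (r.map g).prod ∈ H)
    (j u : ℕ) (hu : u < M) (h : dp_q_384 j u = true) : Good (fa g) T MG M (cP g H) Lt.q u := by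
  unfold dp_q_384 at h
  rcases brec_true h with h | h
  · exact dp_q_246_s hinv hr hH j u hu h
  · exact dp_q_383_s hinv hr hH j u hu h
theorem dp_q_385_s (hinv : ∀ x, g (inv x) = (g x)⁻¹) (hr : ∀ r ∈ rels, (r.map g).prod = 1) (hH : ∀ r ∈ subs, (r.map g).prod ∈ H)
    (j u : ℕ) (hu : u < M) (h : dp_q_385 j u = true) : Good (fa g) T MG M (cP g H) Lt.q u := by
  unfold dp_q_385 at h
  rcases brec_true h with h | h
  · exact dp_q_200_s hinv hr hH j u hu h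
  · exact dp_q_384_s hinv hr hH j u hu h
theorem dp_q_386_s (hinv : ∀ x, g (inv x) = (g x)⁻¹) (hr : ∀ r ∈ rels, (r.map g).prod = 1) (hH : ∀ r ∈ subs, (r.map g).prod ∈ H)
    (j u : ℕ) (hu : u < M) (h : dp_q_386 j u = true) : Good (fa g) T MG M (cP g H) Lt.q u := by
  unfold dp_q_386 at h
  rcases brec_true h with h | h
  · exact dp_q_139_s hinv hr hH j u hu h
  · exact dp_q_385_s hinv hr hH j u hu h
theorem dp_q_387_s (hinv : ∀ x, g (inv x) = (g x)⁻¹) (hr : ∀ r ∈ rels, (r.map g).prod = 1) (hH : ∀ r ∈ subs, (r.map g).prod ∈ H)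
    (j u : ℕ) (hu : u < M) (h : dp_q_387 j u = true) : Good (fa g) T MG M (cP g H) Lt.q u := by
  unfold dp_q_387 at h
  rcases brec_true h with h | h
  · exact dp_q_73_s hinv hr hH j u hu h
  · exact dp_q_386_s hinv hr hH j u hu h
theorem dp_q_388_s (hinv : ∀ x, g (inv x) = (g x)⁻¹) (hr : ∀ r ∈ rels, (r.map g).prod = 1) (hH : ∀ r ∈ subs, (r.map g).prod ∈ H)
    (j u : ℕ) (hu : u < M) (h : dp_q_388 j u = true) : Good (fa g) T MG M (cP g H) Lt.q u := by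
  unfold dp_q_388 at h
  rcases brec_true h with h | h
  · exact dp_q_31_s hinv hr hH j u hu h
  · exact dp_q_387_s hinv hr hH j u hu h
theorem dp_q_389_s (hinv : ∀ x, g (inv x) = (g x)⁻¹) (hr : ∀ r ∈ rels, (r.map g).prod = 1) (hH : ∀ r ∈ subs, (r.map g).prod ∈ H)
    (j u : ℕ) (hu : u < M) (h : dp_q_389 j u = true) : Good (fa g) T MG M (cP g H) Lt.q u := by
  unfold dp_q_389 at h
  rcases brec_true h with h | h
  · exact dp_q_12_s hinv hr hH j u hu h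
  · exact dp_q_388_s hinv hr hH j u hu h
theorem dp_q_390_s (hinv : ∀ x, g (inv x) = (g x)⁻¹) (hr : ∀ r ∈ rels, (r.map g).prod = 1) (hH : ∀ r ∈ subs, (r.map g).prod ∈ H)
    (j u : ℕ) (hu : u < M) (h : dp_q_390 j u = true) : Good (fa g) T MG M (cP g H) Lt.q u := by
  unfold dp_q_390 at h
  rcases brec_true h with h | h
  · rcases brec_true h with h | h
    · exact dp_q_0_s hinv hr hH j u hu h
    · exact dp_q_1_s hinv hr hH j u hu h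
  · exact dp_q_389_s hinv hr hH j u hu h
theorem snd_q (hinv : ∀ x, g (inv x) = (g x)⁻¹) (hr : ∀ r ∈ rels, (r.map g).prod = 1) (hH : ∀ r ∈ subs, (r.map g).prod ∈ H)
    (j u : ℕ) (hu : u < M) (h : disp_q j u = true) : Good (fa g) T MG M (cP g H) Lt.q u := by
  unfold disp_q at h
  rcases brec_true h with h | h
  · rcases brec_true h with h | h
    · exact lF1_good (T := T) (x := Lt.q) (by decide) .q (H9.TCY.hole_at hinv hr 4 0 false (by decide +kernel)) h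
    · exact lDef_good (T := T) (x := Lt.q) (by decide) rfl h
  · rcases brec_true h with h | h
    · rcases brec_true h with h | h
      · exact lPar_good (T := T) (x := Lt.q) (x' := Lt.q) (by decide) rfl (inv_rel hinv _ _ rfl) h
      · exact lF_good (T := T) (x := Lt.q) (by decide) [Lt.v, Lt.z, Lt.v, Lt.q, Lt.v, Lt.z, Lt.v] (H9.TCY.hole_at hinv hr 9 1 false (by decide +kernel)) h
    · exact dp_q_390_s hinv hr hH j u hu h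
theorem snc_q (hinv : ∀ x, g (inv x) = (g x)⁻¹) (hr : ∀ r ∈ rels, (r.map g).prod = 1) (hH : ∀ r ∈ subs, (r.map g).prod ∈ H)
    (j u : ℕ) (hu : u < M) (h : chk_q j u = true) : (T Lt.q u < A ∧ Good (fa g) T MG M (cP g H) Lt.q u) ∨ (A ≤ T Lt.q u ∧ MG u < A) := by
  unfold chk_q at h
  cases hb : Nat.ble A (T_q u) with
  | true => rw [hb] at h; exact Or.inr ⟨le_of_ble hb, le_of_ble h⟩
  | false => rw [hb] at h; exact Or.inl ⟨lt_of_ble_false hb, snd_q hinv hr hH j u hu h⟩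
end
end H9.HN.TCHN
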