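import Cfsg.Agent.Lib.H9.HN.TCHN.Snd0
import Cfsg.Agent.Lib.H9.HN.TCY
set_option autoImplicit false
set_option maxRecDepth 100000
set_option linter.all false
namespace H9.HN.TCHN
open H35.TC
section
variable {G : Type} [Group G] {g : Lt → G} {H : Subgroup G}
theorem dp_v_0_s (hinv : ∀ x, g (inv x) = (g x)⁻¹) (hr : ∀ r ∈ rels, (r.map g).prod = 1) (hH : ∀ r ∈ subs, (r.map g).prod ∈ H)
    (j u : ℕ) (hu : u < M) (h : dp_v_0 j u = true) : Good (fa g) T MG M (cP g H) Lt.v u := by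
  unfold dp_v_0 at h
  rcases brec_true h with h | h
  · exact lF_good (T := T) (x := Lt.v) (by decide) [Lt.q, Lt.v, Lt.z, Lt.v, Lt.q, Lt.v, Lt.z] (H9.TCY.hole_at hinv hr 9 0 false (by decide +kernel)) h
  · exact lF_good (T := T) (x := Lt.v) (by decide) [Lt.z, Lt.v, Lt.q, Lt.v, Lt.z, Lt.v, Lt.q] (H9.TCY.hole_at hinv hr 9 2 false (by decide +kernel)) h
theorem dp_v_1_s (hinv : ∀ x, g (inv x) = (g x)⁻¹) (hr : ∀ r ∈ rels, (r.map g).prod = 1) (hH : ∀ r ∈ subs, (r.map g).prod ∈ H)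
    (j u : ℕ) (hu : u < M) (h : dp_v_1 j u = true) : Good (fa g) T MG M (cP g H) Lt.v u := by
  unfold dp_v_1 at h
  rcases brec_true h with h | h
  · exact lS_good (T := T) (x := Lt.v) (by decide) hu [Lt.v] (H9.TCY.hole_at hinv hr 5 0 false (by decide +kernel)) h
  · exact lF_good (T := T) (x := Lt.v) (by decide) [Lt.z, Lt.v, Lt.z, Lt.v, Lt.z, Lt.v, Lt.z, Lt.v, Lt.z] (H9.TCY.hole_at hinv hr 1 1 false (by decide +kernel)) h
theorem dp_v_2_s (hinv : ∀ x, g (inv x) = (g x)⁻¹) (hr : ∀ r ∈ rels, (r.map g).prod = 1) (hH : ∀ r ∈ subs, (r.map g).prod ∈ H)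
    (j u : ℕ) (hu : u < M) (h : dp_v_2 j u = true) : Good (fa g) T MG M (cP g H) Lt.v u := by
  unfold dp_v_2 at h
  rcases brec_true h with h | h
  · exact lF_good (T := T) (x := Lt.v) (by decide) [Lt.q, Lt.z, Lt.v, Lt.q, Lt.z, Lt.q, Lt.z, Lt.v, Lt.z, Lt.q] (H9.TCY.hole_at hinv hr 11 2 false (by decide +kernel)) h
  · exact lS_good (T := T) (x := Lt.v) (by decide) hu [Lt.q, Lt.v, Lt.z, Lt.v, Lt.q, Lt.v, Lt.z] (H9.TCY.hole_at hinv hr 9 0 false (by decide +kernel)) h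
theorem dp_v_3_s (hinv : ∀ x, g (inv x) = (g x)⁻¹) (hr : ∀ r ∈ rels, (r.map g).prod = 1) (hH : ∀ r ∈ subs, (r.map g).prod ∈ H)
    (j u : ℕ) (hu : u < M) (h : dp_v_3 j u = true) : Good (fa g) T MG M (cP g H) Lt.v u := by
  unfold dp_v_3 at h
  rcases brec_true h with h | h
  · exact dp_v_1_s hinv hr hH j u hu h
  · exact dp_v_2_s hinv hr hH j u hu h
theorem dp_v_4_s (hinv : ∀ x, g (inv x) = (g x)⁻¹) (hr : ∀ r ∈ rels, (r.map g).prod = 1) (hH : ∀ r ∈ subs, (r.map g).prod ∈ H)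
    (j u : ℕ) (hu : u < M) (h : dp_v_4 j u = true) : Good (fa g) T MG M (cP g H) Lt.v u := by
  unfold dp_v_4 at h
  rcases brec_true h with h | h
  · exact lS_good (T := T) (x := Lt.v) (by decide) hu [Lt.z, Lt.v, Lt.q, Lt.v, Lt.z, Lt.v, Lt.q] (H9.TCY.hole_at hinv hr 9 2 false (by decide +kernel)) h
  · exact lS_good (T := T) (x := Lt.v) (by decide) hu [Lt.yi, Lt.v, Lt.y] (H9.TCY.hole_at hinv hr 6 0 false (by decide +kernel)) h
theorem dp_v_5_s (hinv : ∀ x, g (inv x) = (g x)⁻¹) (hr : ∀ r ∈ rels, (r.map g).prod = 1) (hH : ∀ r ∈ subs, (r.map g).prod ∈ H)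
    (j u : ℕ) (hu : u < M) (h : dp_v_5 j u = true) : Good (fa g) T MG M (cP g H) Lt.v u := by
  unfold dp_v_5 at h
  rcases brec_true h with h | h
  · exact lS_good (T := T) (x := Lt.v) (by decide) hu [Lt.y, Lt.v, Lt.yi] (H9.TCY.hole_at hinv hr 6 2 false (by decide +kernel)) h
  · exact lF_good (T := T) (x := Lt.v) (by decide) [Lt.q, Lt.z, Lt.q, Lt.z, Lt.v, Lt.z, Lt.q, Lt.v, Lt.q, Lt.z] (H9.TCY.hole_at hinv hr 11 5 false (by decide +kernel)) h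
theorem dp_v_6_s (hinv : ∀ x, g (inv x) = (g x)⁻¹) (hr : ∀ r ∈ rels, (r.map g).prod = 1) (hH : ∀ r ∈ subs, (r.map g).prod ∈ H)
    (j u : ℕ) (hu : u < M) (h : dp_v_6 j u = true) : Good (fa g) T MG M (cP g H) Lt.v u := by
  unfold dp_v_6 at h
  rcases brec_true h with h | h
  · exact dp_v_4_s hinv hr hH j u hu h
  · exact dp_v_5_s hinv hr hH j u hu h
theorem dp_v_7_s (hinv : ∀ x, g (inv x) = (g x)⁻¹) (hr : ∀ r ∈ rels, (r.map g).prod = 1) (hH : ∀ r ∈ subs, (r.map g).prod ∈ H)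
    (j u : ℕ) (hu : u < M) (h : dp_v_7 j u = true) : Good (fa g) T MG M (cP g H) Lt.v u := by
  unfold dp_v_7 at h
  rcases brec_true h with h | h
  · exact lF_good (T := T) (x := Lt.v) (by decide) [Lt.z, Lt.q, Lt.v, Lt.q, Lt.z, Lt.v, Lt.q, Lt.z, Lt.q, Lt.z] (H9.TCY.hole_at hinv hr 11 10 false (by decide +kernel)) h
  · exact lF_good (T := T) (x := Lt.v) (by decide) [Lt.q, Lt.z, Lt.q, Lt.v, Lt.q, Lt.z, Lt.q, Lt.v, Lt.q, Lt.z, Lt.q] (H9.TCY.hole_at hinv hr 14 2 false (by decide +kernel)) h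
theorem dp_v_8_s (hinv : ∀ x, g (inv x) = (g x)⁻¹) (hr : ∀ r ∈ rels, (r.map g).prod = 1) (hH : ∀ r ∈ subs, (r.map g).prod ∈ H)
    (j u : ℕ) (hu : u < M) (h : dp_v_8 j u = true) : Good (fa g) T MG M (cP g H) Lt.v u := by
  unfold dp_v_8 at h
  rcases brec_true h with h | h
  · exact lS_good (T := T) (x := Lt.v) (by decide) hu [Lt.q, Lt.z, Lt.v, Lt.q, Lt.z, Lt.q, Lt.z, Lt.v, Lt.z, Lt.q] (H9.TCY.hole_at hinv hr 11 2 false (by decide +kernel)) h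
  · exact lF_good (T := T) (x := Lt.v) (by decide) [Lt.z, Lt.q, Lt.z, Lt.q, Lt.v, Lt.z, Lt.q, Lt.v, Lt.q, Lt.z] (H9.TCY.hole_at hinv hr 11 2 true (by decide +kernel)) h
theorem dp_v_9_s (hinv : ∀ x, g (inv x) = (g x)⁻¹) (hr : ∀ r ∈ rels, (r.map g).prod = 1) (hH : ∀ r ∈ subs, (r.map g).prod ∈ H)
    (j u : ℕ) (hu : u < M) (h : dp_v_9 j u = true) : Good (fa g) T MG M (cP g H) Lt.v u := by
  unfold dp_v_9 at h
  rcases brec_true h with h | h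
  · exact lS_good (T := T) (x := Lt.v) (by decide) hu [Lt.z, Lt.v, Lt.z, Lt.v, Lt.z, Lt.v, Lt.z, Lt.v, Lt.z] (H9.TCY.hole_at hinv hr 1 1 false (by decide +kernel)) h
  · exact dp_v_8_s hinv hr hH j u hu h
theorem dp_v_10_s (hinv : ∀ x, g (inv x) = (g x)⁻¹) (hr : ∀ r ∈ rels, (r.map g).prod = 1) (hH : ∀ r ∈ subs, (r.map g).prod ∈ H)
    (j u : ℕ) (hu : u < M) (h : dp_v_10 j u = true) : Good (fa g) T MG M (cP g H) Lt.v u := by
  unfold dp_v_10 at h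
  rcases brec_true h with h | h
  · exact dp_v_7_s hinv hr hH j u hu h
  · exact dp_v_9_s hinv hr hH j u hu h
theorem dp_v_11_s (hinv : ∀ x, g (inv x) = (g x)⁻¹) (hr : ∀ r ∈ rels, (r.map g).prod = 1) (hH : ∀ r ∈ subs, (r.map g).prod ∈ H)
    (j u : ℕ) (hu : u < M) (h : dp_v_11 j u = true) : Good (fa g) T MG M (cP g H) Lt.v u := by
  unfold dp_v_11 at h
  rcases brec_true h with h | h
  · exact lF_good (T := T) (x := Lt.v) (by decide) [Lt.z, Lt.q, Lt.v, Lt.q, Lt.z, Lt.v, Lt.z, Lt.q, Lt.z, Lt.q] (H9.TCY.hole_at hinv hr 11 7 true (by decide +kernel)) h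
  · exact lF_good (T := T) (x := Lt.v) (by decide) [Lt.q, Lt.z, Lt.v, Lt.z, Lt.q, Lt.z, Lt.q, Lt.v, Lt.z, Lt.q] (H9.TCY.hole_at hinv hr 11 10 true (by decide +kernel)) h
theorem dp_v_12_s (hinv : ∀ x, g (inv x) = (g x)⁻¹) (hr : ∀ r ∈ rels, (r.map g).prod = 1) (hH : ∀ r ∈ subs, (r.map g).prod ∈ H)
    (j u : ℕ) (hu : u < M) (h : dp_v_12 j u = true) : Good (fa g) T MG M (cP g H) Lt.v u := by
  unfold dp_v_12 at h
  rcases brec_true h with h | h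
  · exact lS_good (T := T) (x := Lt.v) (by decide) hu [Lt.q, Lt.z, Lt.q, Lt.z, Lt.v, Lt.z, Lt.q, Lt.v, Lt.q, Lt.z] (H9.TCY.hole_at hinv hr 11 5 false (by decide +kernel)) h
  · exact lS_good (T := T) (x := Lt.v) (by decide) hu [Lt.q, Lt.z, Lt.q, Lt.v, Lt.q, Lt.z, Lt.q, Lt.v, Lt.q, Lt.z, Lt.q] (H9.TCY.hole_at hinv hr 14 2 false (by decide +kernel)) h
theorem dp_v_13_s (hinv : ∀ x, g (inv x) = (g x)⁻¹) (hr : ∀ r ∈ rels, (r.map g).prod = 1) (hH : ∀ r ∈ subs, (r.map g).prod ∈ H)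
    (j u : ℕ) (hu : u < M) (h : dp_v_13 j u = true) : Good (fa g) T MG M (cP g H) Lt.v u := by
  unfold dp_v_13 at h
  rcases brec_true h with h | h
  · exact lF_good (T := T) (x := Lt.v) (by decide) [Lt.q, Lt.v, Lt.q, Lt.v, Lt.q, Lt.v, Lt.q, Lt.v, Lt.q, Lt.v, Lt.q] (H9.TCY.hole_at hinv hr 2 0 false (by decide +kernel)) h
  · exact dp_v_12_s hinv hr hH j u hu h
theorem dp_v_14_s (hinv : ∀ x, g (inv x) = (g x)⁻¹) (hr : ∀ r ∈ rels, (r.map g).prod = 1) (hH : ∀ r ∈ subs, (r.map g).prod ∈ H)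
    (j u : ℕ) (hu : u < M) (h : dp_v_14 j u = true) : Good (fa g) T MG M (cP g H) Lt.v u := by
  unfold dp_v_14 at h
  rcases brec_true h with h | h
  · exact dp_v_11_s hinv hr hH j u hu h
  · exact dp_v_13_s hinv hr hH j u hu h
theorem dp_v_15_s (hinv : ∀ x, g (inv x) = (g x)⁻¹) (hr : ∀ r ∈ rels, (r.map g).prod = 1) (hH : ∀ r ∈ subs, (r.map g).prod ∈ H)
    (j u : ℕ) (hu : u < M) (h : dp_v_15 j u = true) : Good (fa g) T MG M (cP g H) Lt.v u := by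
  unfold dp_v_15 at h
  rcases brec_true h with h | h
  · exact lS_good (T := T) (x := Lt.v) (by decide) hu [Lt.z, Lt.q, Lt.v, Lt.q, Lt.z, Lt.v, Lt.q, Lt.z, Lt.q, Lt.z] (H9.TCY.hole_at hinv hr 11 10 false (by decide +kernel)) h
  · exact lF_good (T := T) (x := Lt.v) (by decide) [Lt.z, Lt.q, Lt.z, Lt.v, Lt.q, Lt.v, Lt.q, Lt.v, Lt.z, Lt.q, Lt.z, Lt.v, Lt.z] (H9.TCY.hole_at hinv hr 20 10 false (by decide +kernel)) h
theorem dp_v_16_s (hinv : ∀ x, g (inv x) = (g x)⁻¹) (hr : ∀ r ∈ rels, (r.map g).prod = 1) (hH : ∀ r ∈ subs, (r.map g).prod ∈ H)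
    (j u : ℕ) (hu : u < M) (h : dp_v_16 j u = true) : Good (fa g) T MG M (cP g H) Lt.v u := by
  unfold dp_v_16 at h
  rcases brec_true h with h | h
  · exact lF_good (T := T) (x := Lt.v) (by decide) [Lt.q, Lt.v, Lt.z, Lt.q, Lt.z, Lt.v, Lt.z, Lt.v, Lt.z, Lt.q, Lt.z, Lt.v, Lt.q] (H9.TCY.hole_at hinv hr 20 2 false (by decide +kernel)) h
  · exact lF_good (T := T) (x := Lt.v) (by decide) [Lt.z, Lt.v, Lt.z, Lt.q, Lt.z, Lt.v, Lt.q, Lt.v, Lt.q, Lt.v, Lt.z, Lt.q, Lt.z] (H9.TCY.hole_at hinv hr 20 8 false (by decide +kernel)) h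
theorem dp_v_17_s (hinv : ∀ x, g (inv x) = (g x)⁻¹) (hr : ∀ r ∈ rels, (r.map g).prod = 1) (hH : ∀ r ∈ subs, (r.map g).prod ∈ H)
    (j u : ℕ) (hu : u < M) (h : dp_v_17 j u = true) : Good (fa g) T MG M (cP g H) Lt.v u := by
  unfold dp_v_17 at h
  rcases brec_true h with h | h
  · exact lS_good (T := T) (x := Lt.v) (by decide) hu [Lt.z, Lt.q, Lt.v, Lt.q, Lt.z, Lt.v, Lt.z, Lt.q, Lt.z, Lt.q] (H9.TCY.hole_at hinv hr 11 7 true (by decide +kernel)) h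
  · exact lS_good (T := T) (x := Lt.v) (by decide) hu [Lt.q, Lt.v, Lt.q, Lt.v, Lt.q, Lt.v, Lt.q, Lt.v, Lt.q, Lt.v, Lt.q] (H9.TCY.hole_at hinv hr 2 0 false (by decide +kernel)) h
theorem dp_v_18_s (hinv : ∀ x, g (inv x) = (g x)⁻¹) (hr : ∀ r ∈ rels, (r.map g).prod = 1) (hH : ∀ r ∈ subs, (r.map g).prod ∈ H)
    (j u : ℕ) (hu : u < M) (h : dp_v_18 j u = true) : Good (fa g) T MG M (cP g H) Lt.v u := by
  unfold dp_v_18 at h
  rcases brec_true h with h | h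
  · exact dp_v_16_s hinv hr hH j u hu h
  · exact dp_v_17_s hinv hr hH j u hu h
theorem dp_v_19_s (hinv : ∀ x, g (inv x) = (g x)⁻¹) (hr : ∀ r ∈ rels, (r.map g).prod = 1) (hH : ∀ r ∈ subs, (r.map g).prod ∈ H)
    (j u : ℕ) (hu : u < M) (h : dp_v_19 j u = true) : Good (fa g) T MG M (cP g H) Lt.v u := by
  unfold dp_v_19 at h
  rcases brec_true h with h | h
  · exact dp_v_15_s hinv hr hH j u hu h
  · exact dp_v_18_s hinv hr hH j u hu h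
theorem dp_v_20_s (hinv : ∀ x, g (inv x) = (g x)⁻¹) (hr : ∀ r ∈ rels, (r.map g).prod = 1) (hH : ∀ r ∈ subs, (r.map g).prod ∈ H)
    (j u : ℕ) (hu : u < M) (h : dp_v_20 j u = true) : Good (fa g) T MG M (cP g H) Lt.v u := by
  unfold dp_v_20 at h
  rcases brec_true h with h | h
  · exact lF_good (T := T) (x := Lt.v) (by decide) [Lt.z, Lt.q, Lt.z, Lt.v, Lt.z, Lt.v, Lt.z, Lt.q, Lt.z, Lt.v, Lt.q, Lt.v, Lt.q] (H9.TCY.hole_at hinv hr 20 4 false (by decide +kernel)) h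
  · exact lS_good (T := T) (x := Lt.v) (by decide) hu [Lt.q, Lt.z, Lt.v, Lt.z, Lt.q, Lt.z, Lt.q, Lt.v, Lt.z, Lt.q] (H9.TCY.hole_at hinv hr 11 10 true (by decide +kernel)) h
theorem dp_v_21_s (hinv : ∀ x, g (inv x) = (g x)⁻¹) (hr : ∀ r ∈ rels, (r.map g).prod = 1) (hH : ∀ r ∈ subs, (r.map g).prod ∈ H)
    (j u : ℕ) (hu : u < M) (h : dp_v_21 j u = true) : Good (fa g) T MG M (cP g H) Lt.v u := by
  unfold dp_v_21 at h
  rcases brec_true h with h | h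
  · exact lF_good (T := T) (x := Lt.v) (by decide) [Lt.q, Lt.v, Lt.q, Lt.v, Lt.z, Lt.q, Lt.z, Lt.v, Lt.z, Lt.v, Lt.z, Lt.q, Lt.z] (H9.TCY.hole_at hinv hr 20 0 false (by decide +kernel)) h
  · exact dp_v_20_s hinv hr hH j u hu h
theorem dp_v_22_s (hinv : ∀ x, g (inv x) = (g x)⁻¹) (hr : ∀ r ∈ rels, (r.map g).prod = 1) (hH : ∀ r ∈ subs, (r.map g).prod ∈ H)
    (j u : ℕ) (hu : u < M) (h : dp_v_22 j u = true) : Good (fa g) T MG M (cP g H) Lt.v u := by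
  unfold dp_v_22 at h
  rcases brec_true h with h | h
  · exact lF_good (T := T) (x := Lt.v) (by decide) [Lt.z, Lt.q, Lt.z, Lt.q, Lt.z, Lt.q, Lt.v, Lt.z, Lt.q, Lt.z, Lt.q, Lt.v, Lt.z, Lt.q] (H9.TCY.hole_at hinv hr 22 3 false (by decide +kernel)) h
  · exact lF_good (T := T) (x := Lt.v) (by decide) [Lt.y, Lt.v, Lt.q, Lt.z, Lt.q, Lt.z, Lt.yi, Lt.z, Lt.q, Lt.z, Lt.q] (H9.TCY.hole_at hinv hr 13 11 false (by decide +kernel)) h
theorem dp_v_23_s (hinv : ∀ x, g (inv x) = (g x)⁻¹) (hr : ∀ r ∈ rels, (r.map g).prod = 1) (hH : ∀ r ∈ subs, (r.map g).prod ∈ H)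
    (j u : ℕ) (hu : u < M) (h : dp_v_23 j u = true) : Good (fa g) T MG M (cP g H) Lt.v u := by
  unfold dp_v_23 at h
  rcases brec_true h with h | h
  · exact lS_good (T := T) (x := Lt.v) (by decide) hu [Lt.z, Lt.q, Lt.z, Lt.q, Lt.v, Lt.z, Lt.q, Lt.v, Lt.q, Lt.z] (H9.TCY.hole_at hinv hr 11 2 true (by decide +kernel)) h
  · exact dp_v_22_s hinv hr hH j u hu h
theorem dp_v_24_s (hinv : ∀ x, g (inv x) = (g x)⁻¹) (hr : ∀ r ∈ rels, (r.map g).prod = 1) (hH : ∀ r ∈ subs, (r.map g).prod ∈ H)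
    (j u : ℕ) (hu : u < M) (h : dp_v_24 j u = true) : Good (fa g) T MG M (cP g H) Lt.v u := by
  unfold dp_v_24 at h
  rcases brec_true h with h | h
  · exact dp_v_21_s hinv hr hH j u hu h
  · exact dp_v_23_s hinv hr hH j u hu h
theorem dp_v_25_s (hinv : ∀ x, g (inv x) = (g x)⁻¹) (hr : ∀ r ∈ rels, (r.map g).prod = 1) (hH : ∀ r ∈ subs, (r.map g).prod ∈ H)
    (j u : ℕ) (hu : u < M) (h : dp_v_25 j u = true) : Good (fa g) T MG M (cP g H) Lt.v u := by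
  unfold dp_v_25 at h
  rcases brec_true h with h | h
  · exact lS_good (T := T) (x := Lt.v) (by decide) hu [Lt.z, Lt.v, Lt.z, Lt.q, Lt.z, Lt.v, Lt.q, Lt.v, Lt.q, Lt.v, Lt.z, Lt.q, Lt.z] (H9.TCY.hole_at hinv hr 20 8 false (by decide +kernel)) h
  · exact lF_good (T := T) (x := Lt.v) (by decide) [Lt.q, Lt.z, Lt.v, Lt.q, Lt.z, Lt.q, Lt.z, Lt.v, Lt.q, Lt.z, Lt.q, Lt.z, Lt.q, Lt.z] (H9.TCY.hole_at hinv hr 22 13 true (by decide +kernel)) h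
theorem dp_v_26_s (hinv : ∀ x, g (inv x) = (g x)⁻¹) (hr : ∀ r ∈ rels, (r.map g).prod = 1) (hH : ∀ r ∈ subs, (r.map g).prod ∈ H)
    (j u : ℕ) (hu : u < M) (h : dp_v_26 j u = true) : Good (fa g) T MG M (cP g H) Lt.v u := by
  unfold dp_v_26 at h
  rcases brec_true h with h | h
  · exact lF_good (T := T) (x := Lt.v) (by decide) [Lt.yi, Lt.v, Lt.q, Lt.z, Lt.q, Lt.z, Lt.y, Lt.z, Lt.q, Lt.z, Lt.q] (H9.TCY.hole_at hinv hr 13 0 true (by decide +kernel)) h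
  · exact dp_v_25_s hinv hr hH j u hu h
theorem dp_v_27_s (hinv : ∀ x, g (inv x) = (g x)⁻¹) (hr : ∀ r ∈ rels, (r.map g).prod = 1) (hH : ∀ r ∈ subs, (r.map g).prod ∈ H)
    (j u : ℕ) (hu : u < M) (h : dp_v_27 j u = true) : Good (fa g) T MG M (cP g H) Lt.v u := by
  unfold dp_v_27 at h
  rcases brec_true h with h | h
  · exact lS_good (T := T) (x := Lt.v) (by decide) hu [Lt.q, Lt.v, Lt.q, Lt.v, Lt.z, Lt.q, Lt.z, Lt.v, Lt.z, Lt.v, Lt.z, Lt.q, Lt.z] (H9.TCY.hole_at hinv hr 20 0 false (by decide +kernel)) h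
  · exact lF_good (T := T) (x := Lt.v) (by decide) [Lt.q, Lt.z, Lt.q, Lt.z, Lt.y, Lt.z, Lt.q, Lt.z, Lt.q, Lt.v, Lt.yi] (H9.TCY.hole_at hinv hr 13 2 true (by decide +kernel)) h
theorem dp_v_28_s (hinv : ∀ x, g (inv x) = (g x)⁻¹) (hr : ∀ r ∈ rels, (r.map g).prod = 1) (hH : ∀ r ∈ subs, (r.map g).prod ∈ H)
    (j u : ℕ) (hu : u < M) (h : dp_v_28 j u = true) : Good (fa g) T MG M (cP g H) Lt.v u := by
  unfold dp_v_28 at h
  rcases brec_true h with h | h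
  · exact lS_good (T := T) (x := Lt.v) (by decide) hu [Lt.z, Lt.q, Lt.z, Lt.v, Lt.q, Lt.v, Lt.q, Lt.v, Lt.z, Lt.q, Lt.z, Lt.v, Lt.z] (H9.TCY.hole_at hinv hr 20 10 false (by decide +kernel)) h
  · exact dp_v_27_s hinv hr hH j u hu h
theorem dp_v_29_s (hinv : ∀ x, g (inv x) = (g x)⁻¹) (hr : ∀ r ∈ rels, (r.map g).prod = 1) (hH : ∀ r ∈ subs, (r.map g).prod ∈ H)
    (j u : ℕ) (hu : u < M) (h : dp_v_29 j u = true) : Good (fa g) T MG M (cP g H) Lt.v u := by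
  unfold dp_v_29 at h
  rcases brec_true h with h | h
  · exact dp_v_26_s hinv hr hH j u hu h
  · exact dp_v_28_s hinv hr hH j u hu h
theorem dp_v_30_s (hinv : ∀ x, g (inv x) = (g x)⁻¹) (hr : ∀ r ∈ rels, (r.map g).prod = 1) (hH : ∀ r ∈ subs, (r.map g).prod ∈ H)
    (j u : ℕ) (hu : u < M) (h : dp_v_30 j u = true) : Good (fa g) T MG M (cP g H) Lt.v u := by
  unfold dp_v_30 at h
  rcases brec_true h with h | h
  · exact lS_good (T := T) (x := Lt.v) (by decide) hu [Lt.q, Lt.v, Lt.z, Lt.q, Lt.z, Lt.v, Lt.z, Lt.v, Lt.z, Lt.q, Lt.z, Lt.v, Lt.q] (H9.TCY.hole_at hinv hr 20 2 false (by decide +kernel)) h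
  · exact lF_good (T := T) (x := Lt.v) (by decide) [Lt.q, Lt.z, Lt.q, Lt.z, Lt.yi, Lt.z, Lt.q, Lt.z, Lt.q, Lt.v, Lt.y] (H9.TCY.hole_at hinv hr 13 1 false (by decide +kernel)) h
theorem dp_v_31_s (hinv : ∀ x, g (inv x) = (g x)⁻¹) (hr : ∀ r ∈ rels, (r.map g).prod = 1) (hH : ∀ r ∈ subs, (r.map g).prod ∈ H)
    (j u : ℕ) (hu : u < M) (h : dp_v_31 j u = true) : Good (fa g) T MG M (cP g H) Lt.v u := by
  unfold dp_v_31 at h
  rcases brec_true h with h | h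
  · exact lS_good (T := T) (x := Lt.v) (by decide) hu [Lt.z, Lt.q, Lt.z, Lt.v, Lt.z, Lt.v, Lt.z, Lt.q, Lt.z, Lt.v, Lt.q, Lt.v, Lt.q] (H9.TCY.hole_at hinv hr 20 4 false (by decide +kernel)) h
  · exact lS_good (T := T) (x := Lt.v) (by decide) hu [Lt.z, Lt.q, Lt.z, Lt.q, Lt.z, Lt.q, Lt.v, Lt.z, Lt.q, Lt.z, Lt.q, Lt.v, Lt.z, Lt.q] (H9.TCY.hole_at hinv hr 22 3 false (by decide +kernel)) h
theorem dp_v_32_s (hinv : ∀ x, g (inv x) = (g x)⁻¹) (hr : ∀ r ∈ rels, (r.map g).prod = 1) (hH : ∀ r ∈ subs, (r.map g).prod ∈ H)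
    (j u : ℕ) (hu : u < M) (h : dp_v_32 j u = true) : Good (fa g) T MG M (cP g H) Lt.v u := by
  unfold dp_v_32 at h
  rcases brec_true h with h | h
  · exact dp_v_30_s hinv hr hH j u hu h
  · exact dp_v_31_s hinv hr hH j u hu h
theorem dp_v_33_s (hinv : ∀ x, g (inv x) = (g x)⁻¹) (hr : ∀ r ∈ rels, (r.map g).prod = 1) (hH : ∀ r ∈ subs, (r.map g).prod ∈ H)
    (j u : ℕ) (hu : u < M) (h : dp_v_33 j u = true) : Good (fa g) T MG M (cP g H) Lt.v u := by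
  unfold dp_v_33 at h
  rcases brec_true h with h | h
  · exact lS_good (T := T) (x := Lt.v) (by decide) hu [Lt.y, Lt.v, Lt.q, Lt.z, Lt.q, Lt.z, Lt.yi, Lt.z, Lt.q, Lt.z, Lt.q] (H9.TCY.hole_at hinv hr 13 11 false (by decide +kernel)) h
  · exact lF_good (T := T) (x := Lt.v) (by decide) [Lt.q, Lt.z, Lt.q, Lt.z, Lt.q, Lt.z, Lt.v, Lt.q, Lt.z, Lt.v, Lt.q, Lt.z, Lt.q, Lt.z] (H9.TCY.hole_at hinv hr 22 6 true (by decide +kernel)) h
theorem dp_v_34_s (hinv : ∀ x, g (inv x) = (g x)⁻¹) (hr : ∀ r ∈ rels, (r.map g).prod = 1) (hH : ∀ r ∈ subs, (r.map g).prod ∈ H)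
    (j u : ℕ) (hu : u < M) (h : dp_v_34 j u = true) : Good (fa g) T MG M (cP g H) Lt.v u := by
  unfold dp_v_34 at h
  rcases brec_true h with h | h
  · exact lF_good (T := T) (x := Lt.v) (by decide) [Lt.q, Lt.z, Lt.q, Lt.z, Lt.v, Lt.q, Lt.z, Lt.q, Lt.z, Lt.q, Lt.z, Lt.v, Lt.q, Lt.z] (H9.TCY.hole_at hinv hr 22 1 true (by decide +kernel)) h
  · exact lS_good (T := T) (x := Lt.v) (by decide) hu [Lt.yi, Lt.v, Lt.q, Lt.z, Lt.q, Lt.z, Lt.y, Lt.z, Lt.q, Lt.z, Lt.q] (H9.TCY.hole_at hinv hr 13 0 true (by decide +kernel)) h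
theorem dp_v_35_s (hinv : ∀ x, g (inv x) = (g x)⁻¹) (hr : ∀ r ∈ rels, (r.map g).prod = 1) (hH : ∀ r ∈ subs, (r.map g).prod ∈ H)
    (j u : ℕ) (hu : u < M) (h : dp_v_35 j u = true) : Good (fa g) T MG M (cP g H) Lt.v u := by
  unfold dp_v_35 at h
  rcases brec_true h with h | h
  · exact dp_v_33_s hinv hr hH j u hu h
  · exact dp_v_34_s hinv hr hH j u hu h
theorem dp_v_36_s (hinv : ∀ x, g (inv x) = (g x)⁻¹) (hr : ∀ r ∈ rels, (r.map g).prod = 1) (hH : ∀ r ∈ subs, (r.map g).prod ∈ H)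
    (j u : ℕ) (hu : u < M) (h : dp_v_36 j u = true) : Good (fa g) T MG M (cP g H) Lt.v u := by
  unfold dp_v_36 at h
  rcases brec_true h with h | h
  · exact lF_good (T := T) (x := Lt.v) (by decide) [Lt.z, Lt.q, Lt.v, Lt.z, Lt.q, Lt.z, Lt.q, Lt.z, Lt.q, Lt.v, Lt.z, Lt.q, Lt.z, Lt.q] (H9.TCY.hole_at hinv hr 22 0 false (by decide +kernel)) h
  · exact lS_good (T := T) (x := Lt.v) (by decide) hu [Lt.q, Lt.z, Lt.v, Lt.q, Lt.z, Lt.q, Lt.z, Lt.v, Lt.q, Lt.z, Lt.q, Lt.z, Lt.q, Lt.z] (H9.TCY.hole_at hinv hr 22 13 true (by decide +kernel)) h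
theorem dp_v_37_s (hinv : ∀ x, g (inv x) = (g x)⁻¹) (hr : ∀ r ∈ rels, (r.map g).prod = 1) (hH : ∀ r ∈ subs, (r.map g).prod ∈ H)
    (j u : ℕ) (hu : u < M) (h : dp_v_37 j u = true) : Good (fa g) T MG M (cP g H) Lt.v u := by
  unfold dp_v_37 at h
  rcases brec_true h with h | h
  · exact lF_good (T := T) (x := Lt.v) (by decide) [Lt.z, Lt.q, Lt.z, Lt.q, Lt.v, Lt.z, Lt.q, Lt.v, Lt.z, Lt.q, Lt.z, Lt.q, Lt.z, Lt.q] (H9.TCY.hole_at hinv hr 22 10 false (by decide +kernel)) h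
  · exact lS_good (T := T) (x := Lt.v) (by decide) hu [Lt.q, Lt.z, Lt.q, Lt.z, Lt.yi, Lt.z, Lt.q, Lt.z, Lt.q, Lt.v, Lt.y] (H9.TCY.hole_at hinv hr 13 1 false (by decide +kernel)) h
theorem dp_v_38_s (hinv : ∀ x, g (inv x) = (g x)⁻¹) (hr : ∀ r ∈ rels, (r.map g).prod = 1) (hH : ∀ r ∈ subs, (r.map g).prod ∈ H)
    (j u : ℕ) (hu : u < M) (h : dp_v_38 j u = true) : Good (fa g) T MG M (cP g H) Lt.v u := by
  unfold dp_v_38 at h
  rcases brec_true h with h | h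
  · exact lS_good (T := T) (x := Lt.v) (by decide) hu [Lt.q, Lt.z, Lt.q, Lt.z, Lt.y, Lt.z, Lt.q, Lt.z, Lt.q, Lt.v, Lt.yi] (H9.TCY.hole_at hinv hr 13 2 true (by decide +kernel)) h
  · exact lS_good (T := T) (x := Lt.v) (by decide) hu [Lt.q, Lt.z, Lt.q, Lt.z, Lt.q, Lt.z, Lt.v, Lt.q, Lt.z, Lt.v, Lt.q, Lt.z, Lt.q, Lt.z] (H9.TCY.hole_at hinv hr 22 6 true (by decide +kernel)) h
theorem dp_v_39_s (hinv : ∀ x, g (inv x) = (g x)⁻¹) (hr : ∀ r ∈ rels, (r.map g).prod = 1) (hH : ∀ r ∈ subs, (r.map g).prod ∈ H)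
    (j u : ℕ) (hu : u < M) (h : dp_v_39 j u = true) : Good (fa g) T MG M (cP g H) Lt.v u := by
  unfold dp_v_39 at h
  rcases brec_true h with h | h
  · exact lS_good (T := T) (x := Lt.v) (by decide) hu [Lt.z, Lt.q, Lt.v, Lt.z, Lt.q, Lt.z, Lt.q, Lt.z, Lt.q, Lt.v, Lt.z, Lt.q, Lt.z, Lt.q] (H9.TCY.hole_at hinv hr 22 0 false (by decide +kernel)) h
  · exact lS_good (T := T) (x := Lt.v) (by decide) hu [Lt.z, Lt.q, Lt.z, Lt.q, Lt.v, Lt.z, Lt.q, Lt.v, Lt.z, Lt.q, Lt.z, Lt.q, Lt.z, Lt.q] (H9.TCY.hole_at hinv hr 22 10 false (by decide +kernel)) h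
theorem dp_v_40_s (hinv : ∀ x, g (inv x) = (g x)⁻¹) (hr : ∀ r ∈ rels, (r.map g).prod = 1) (hH : ∀ r ∈ subs, (r.map g).prod ∈ H)
    (j u : ℕ) (hu : u < M) (h : dp_v_40 j u = true) : Good (fa g) T MG M (cP g H) Lt.v u := by
  unfold dp_v_40 at h
  rcases brec_true h with h | h
  · exact lS_good (T := T) (x := Lt.v) (by decide) hu [Lt.q, Lt.z, Lt.q, Lt.z, Lt.v, Lt.q, Lt.z, Lt.q, Lt.z, Lt.q, Lt.z, Lt.v, Lt.q, Lt.z] (H9.TCY.hole_at hinv hr 22 1 true (by decide +kernel)) h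
  · exact dp_v_39_s hinv hr hH j u hu h
theorem dp_v_41_s (hinv : ∀ x, g (inv x) = (g x)⁻¹) (hr : ∀ r ∈ rels, (r.map g).prod = 1) (hH : ∀ r ∈ subs, (r.map g).prod ∈ H)
    (j u : ℕ) (hu : u < M) (h : dp_v_41 j u = true) : Good (fa g) T MG M (cP g H) Lt.v u := by
  unfold dp_v_41 at h
  rcases brec_true h with h | h
  · exact dp_v_38_s hinv hr hH j u hu h
  · exact dp_v_40_s hinv hr hH j u hu h
theorem dp_v_42_s (hinv : ∀ x, g (inv x) = (g x)⁻¹) (hr : ∀ r ∈ rels, (r.map g).prod = 1) (hH : ∀ r ∈ subs, (r.map g).prod ∈ H)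
    (j u : ℕ) (hu : u < M) (h : dp_v_42 j u = true) : Good (fa g) T MG M (cP g H) Lt.v u := by
  unfold dp_v_42 at h
  rcases brec_true h with h | h
  · exact dp_v_37_s hinv hr hH j u hu h
  · exact dp_v_41_s hinv hr hH j u hu h
theorem dp_v_43_s (hinv : ∀ x, g (inv x) = (g x)⁻¹) (hr : ∀ r ∈ rels, (r.map g).prod = 1) (hH : ∀ r ∈ subs, (r.map g).prod ∈ H)
    (j u : ℕ) (hu : u < M) (h : dp_v_43 j u = true) : Good (fa g) T MG M (cP g H) Lt.v u := by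
  unfold dp_v_43 at h
  rcases brec_true h with h | h
  · exact dp_v_36_s hinv hr hH j u hu h
  · exact dp_v_42_s hinv hr hH j u hu h
theorem dp_v_44_s (hinv : ∀ x, g (inv x) = (g x)⁻¹) (hr : ∀ r ∈ rels, (r.map g).prod = 1) (hH : ∀ r ∈ subs, (r.map g).prod ∈ H)
    (j u : ℕ) (hu : u < M) (h : dp_v_44 j u = true) : Good (fa g) T MG M (cP g H) Lt.v u := by
  unfold dp_v_44 at h
  rcases brec_true h with h | h
  · exact dp_v_35_s hinv hr hH j u hu h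
  · exact dp_v_43_s hinv hr hH j u hu h
theorem dp_v_45_s (hinv : ∀ x, g (inv x) = (g x)⁻¹) (hr : ∀ r ∈ rels, (r.map g).prod = 1) (hH : ∀ r ∈ subs, (r.map g).prod ∈ H)
    (j u : ℕ) (hu : u < M) (h : dp_v_45 j u = true) : Good (fa g) T MG M (cP g H) Lt.v u := by
  unfold dp_v_45 at h
  rcases brec_true h with h | h
  · exact dp_v_32_s hinv hr hH j u hu h
  · exact dp_v_44_s hinv hr hH j u hu h
theorem dp_v_46_s (hinv : ∀ x, g (inv x) = (g x)⁻¹) (hr : ∀ r ∈ rels, (r.map g).prod = 1) (hH : ∀ r ∈ subs, (r.map g).prod ∈ H)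
    (j u : ℕ) (hu : u < M) (h : dp_v_46 j u = true) : Good (fa g) T MG M (cP g H) Lt.v u := by
  unfold dp_v_46 at h
  rcases brec_true h with h | h
  · exact dp_v_29_s hinv hr hH j u hu h
  · exact dp_v_45_s hinv hr hH j u hu h
theorem dp_v_47_s (hinv : ∀ x, g (inv x) = (g x)⁻¹) (hr : ∀ r ∈ rels, (r.map g).prod = 1) (hH : ∀ r ∈ subs, (r.map g).prod ∈ H)
    (j u : ℕ) (hu : u < M) (h : dp_v_47 j u = true) : Good (fa g) T MG M (cP g H) Lt.v u := by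
  unfold dp_v_47 at h
  rcases brec_true h with h | h
  · exact dp_v_24_s hinv hr hH j u hu h
  · exact dp_v_46_s hinv hr hH j u hu h
theorem dp_v_48_s (hinv : ∀ x, g (inv x) = (g x)⁻¹) (hr : ∀ r ∈ rels, (r.map g).prod = 1) (hH : ∀ r ∈ subs, (r.map g).prod ∈ H)
    (j u : ℕ) (hu : u < M) (h : dp_v_48 j u = true) : Good (fa g) T MG M (cP g H) Lt.v u := by
  unfold dp_v_48 at h
  rcases brec_true h with h | h
  · exact dp_v_19_s hinv hr hH j u hu h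
  · exact dp_v_47_s hinv hr hH j u hu h
theorem dp_v_49_s (hinv : ∀ x, g (inv x) = (g x)⁻¹) (hr : ∀ r ∈ rels, (r.map g).prod = 1) (hH : ∀ r ∈ subs, (r.map g).prod ∈ H)
    (j u : ℕ) (hu : u < M) (h : dp_v_49 j u = true) : Good (fa g) T MG M (cP g H) Lt.v u := by
  unfold dp_v_49 at h
  rcases brec_true h with h | h
  · exact dp_v_14_s hinv hr hH j u hu h
  · exact dp_v_48_s hinv hr hH j u hu h
theorem dp_v_50_s (hinv : ∀ x, g (inv x) = (g x)⁻¹) (hr : ∀ r ∈ rels, (r.map g).prod = 1) (hH : ∀ r ∈ subs, (r.map g).prod ∈ H)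
    (j u : ℕ) (hu : u < M) (h : dp_v_50 j u = true) : Good (fa g) T MG M (cP g H) Lt.v u := by
  unfold dp_v_50 at h
  rcases brec_true h with h | h
  · exact dp_v_10_s hinv hr hH j u hu h
  · exact dp_v_49_s hinv hr hH j u hu h
theorem dp_v_51_s (hinv : ∀ x, g (inv x) = (g x)⁻¹) (hr : ∀ r ∈ rels, (r.map g).prod = 1) (hH : ∀ r ∈ subs, (r.map g).prod ∈ H)
    (j u : ℕ) (hu : u < M) (h : dp_v_51 j u = true) : Good (fa g) T MG M (cP g H) Lt.v u := by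
  unfold dp_v_51 at h
  rcases brec_true h with h | h
  · exact dp_v_6_s hinv hr hH j u hu h
  · exact dp_v_50_s hinv hr hH j u hu h
theorem dp_v_52_s (hinv : ∀ x, g (inv x) = (g x)⁻¹) (hr : ∀ r ∈ rels, (r.map g).prod = 1) (hH : ∀ r ∈ subs, (r.map g).prod ∈ H)
    (j u : ℕ) (hu : u < M) (h : dp_v_52 j u = true) : Good (fa g) T MG M (cP g H) Lt.v u := by
  unfold dp_v_52 at h
  rcases brec_true h with h | h
  · exact dp_v_3_s hinv hr hH j u hu h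
  · exact dp_v_51_s hinv hr hH j u hu h
theorem dp_v_53_s (hinv : ∀ x, g (inv x) = (g x)⁻¹) (hr : ∀ r ∈ rels, (r.map g).prod = 1) (hH : ∀ r ∈ subs, (r.map g).prod ∈ H)
    (j u : ℕ) (hu : u < M) (h : dp_v_53 j u = true) : Good (fa g) T MG M (cP g H) Lt.v u := by
  unfold dp_v_53 at h
  rcases brec_true h with h | h
  · exact dp_v_0_s hinv hr hH j u hu h
  · exact dp_v_52_s hinv hr hH j u hu h
theorem dp_v_54_s (hinv : ∀ x, g (inv x) = (g x)⁻¹) (hr : ∀ r ∈ rels, (r.map g).prod = 1) (hH : ∀ r ∈ subs, (r.map g).prod ∈ H)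
    (j u : ℕ) (hu : u < M) (h : dp_v_54 j u = true) : Good (fa g) T MG M (cP g H) Lt.v u := by
  unfold dp_v_54 at h
  rcases brec_true h with h | h
  · rcases brec_true h with h | h
    · exact lF3_good (T := T) (x := Lt.v) (by decide) .y .v .yi (H9.TCY.hole_at hinv hr 6 2 false (by decide +kernel)) h
    · exact lF3_good (T := T) (x := Lt.v) (by decide) .yi .v .y (H9.TCY.hole_at hinv hr 6 0 false (by decide +kernel)) h
  · exact dp_v_53_s hinv hr hH j u hu h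
theorem dp_v_55_s (hinv : ∀ x, g (inv x) = (g x)⁻¹) (hr : ∀ r ∈ rels, (r.map g).prod = 1) (hH : ∀ r ∈ subs, (r.map g).prod ∈ H)
    (j u : ℕ) (hu : u < M) (h : dp_v_55 j u = true) : Good (fa g) T MG M (cP g H) Lt.v u := by
  unfold dp_v_55 at h
  rcases brec_true h with h | h
  · exact lF1_good (T := T) (x := Lt.v) (by decide) .v (H9.TCY.hole_at hinv hr 5 0 false (by decide +kernel)) h
  · exact dp_v_54_s hinv hr hH j u hu h
theorem snd_v (hinv : ∀ x, g (inv x) = (g x)⁻¹) (hr : ∀ r ∈ rels, (r.map g).prod = 1) (hH : ∀ r ∈ subs, (r.map g).prod ∈ H)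
    (j u : ℕ) (hu : u < M) (h : disp_v j u = true) : Good (fa g) T MG M (cP g H) Lt.v u := by
  unfold disp_v at h
  rcases brec_true h with h | h
  · rcases brec_true h with h | h
    · exact lDef_good (T := T) (x := Lt.v) (by decide) rfl h
    · exact lPar_good (T := T) (x := Lt.v) (x' := Lt.v) (by decide) rfl (inv_rel hinv _ _ rfl) h
  · exact dp_v_55_s hinv hr hH j u hu h
theorem snc_v (hinv : ∀ x, g (inv x) = (g x)⁻¹) (hr : ∀ r ∈ rels, (r.map g).prod = 1) (hH : ∀ r ∈ subs, (r.map g).prod ∈ H)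
    (j u : ℕ) (hu : u < M) (h : chk_v j u = true) : (T Lt.v u < A ∧ Good (fa g) T MG M (cP g H) Lt.v u) ∨ (A ≤ T Lt.v u ∧ MG u < A) := by
  unfold chk_v at h
  cases hb : Nat.ble A (T_v u) with
  | true => rw [hb] at h; exact Or.inr ⟨le_of_ble hb, le_of_ble h⟩
  | false => rw [hb] at h; exact Or.inl ⟨lt_of_ble_false hb, snd_v hinv hr hH j u hu h⟩
end
end H9.HN.TCHN
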