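import Cfsg.Agent.Lib.H9.HN.TCHN.Snd0
import Cfsg.Agent.Lib.H9.HN.TCY
set_option autoImplicit false
set_option maxRecDepth 100000
set_option linter.all false
namespace H9.HN.TCHN
open H35.TC
section
variable {G : Type} [Group G] {g : Lt → G} {H : Subgroup G}
theorem dp_yi_0_s (hinv : ∀ x, g (inv x) = (g x)⁻¹) (hr : ∀ r ∈ rels, (r.map g).prod = 1) (hH : ∀ r ∈ subs, (r.map g).prod ∈ H)
    (j u : ℕ) (hu : u < M) (h : dp_yi_0 j u = true) : Good (fa g) T MG M (cP g H) Lt.yi u := by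
  unfold dp_yi_0 at h
  rcases brec_true h with h | h
  · exact lF_good (T := T) (x := Lt.yi) (by decide) [Lt.yi, Lt.yi, Lt.yi, Lt.yi, Lt.yi] (H9.TCY.hole_at hinv hr 7 0 true (by decide +kernel)) h
  · exact lF_good (T := T) (x := Lt.yi) (by decide) [Lt.q, Lt.z, Lt.q, Lt.z, Lt.y, Lt.q, Lt.z, Lt.q, Lt.z] (H9.TCY.hole_at hinv hr 10 1 false (by decide +kernel)) h
theorem dp_yi_1_s (hinv : ∀ x, g (inv x) = (g x)⁻¹) (hr : ∀ r ∈ rels, (r.map g).prod = 1) (hH : ∀ r ∈ subs, (r.map g).prod ∈ H)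
    (j u : ℕ) (hu : u < M) (h : dp_yi_1 j u = true) : Good (fa g) T MG M (cP g H) Lt.yi u := by
  unfold dp_yi_1 at h
  rcases brec_true h with h | h
  · exact lF_good (T := T) (x := Lt.yi) (by decide) [Lt.q, Lt.y, Lt.q, Lt.yi, Lt.q, Lt.y, Lt.q] (H9.TCY.hole_at hinv hr 8 1 false (by decide +kernel)) h
  · exact dp_yi_0_s hinv hr hH j u hu h
theorem dp_yi_2_s (hinv : ∀ x, g (inv x) = (g x)⁻¹) (hr : ∀ r ∈ rels, (r.map g).prod = 1) (hH : ∀ r ∈ subs, (r.map g).prod ∈ H)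
    (j u : ℕ) (hu : u < M) (h : dp_yi_2 j u = true) : Good (fa g) T MG M (cP g H) Lt.yi u := by
  unfold dp_yi_2 at h
  rcases brec_true h with h | h
  · exact lF_good (T := T) (x := Lt.yi) (by decide) [Lt.z, Lt.y, Lt.z, Lt.yi, Lt.z, Lt.y, Lt.z, Lt.yi, Lt.z, Lt.y, Lt.z] (H9.TCY.hole_at hinv hr 12 1 false (by decide +kernel)) h
  · exact lF_good (T := T) (x := Lt.yi) (by decide) [Lt.z, Lt.q, Lt.z, Lt.q, Lt.y, Lt.z, Lt.q, Lt.z, Lt.q] (H9.TCY.hole_at hinv hr 10 5 true (by decide +kernel)) h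
theorem dp_yi_3_s (hinv : ∀ x, g (inv x) = (g x)⁻¹) (hr : ∀ r ∈ rels, (r.map g).prod = 1) (hH : ∀ r ∈ subs, (r.map g).prod ∈ H)
    (j u : ℕ) (hu : u < M) (h : dp_yi_3 j u = true) : Good (fa g) T MG M (cP g H) Lt.yi u := by
  unfold dp_yi_3 at h
  rcases brec_true h with h | h
  · exact lS_good (T := T) (x := Lt.yi) (by decide) hu [Lt.y] (H9.TCY.hole_at hinv hr 50 0 false (by decide +kernel)) h
  · exact dp_yi_2_s hinv hr hH j u hu h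
theorem dp_yi_4_s (hinv : ∀ x, g (inv x) = (g x)⁻¹) (hr : ∀ r ∈ rels, (r.map g).prod = 1) (hH : ∀ r ∈ subs, (r.map g).prod ∈ H)
    (j u : ℕ) (hu : u < M) (h : dp_yi_4 j u = true) : Good (fa g) T MG M (cP g H) Lt.yi u := by
  unfold dp_yi_4 at h
  rcases brec_true h with h | h
  · exact lS_good (T := T) (x := Lt.yi) (by decide) hu [Lt.q, Lt.y, Lt.q, Lt.yi, Lt.q, Lt.y, Lt.q] (H9.TCY.hole_at hinv hr 8 1 false (by decide +kernel)) h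
  · exact lS_good (T := T) (x := Lt.yi) (by decide) hu [Lt.v, Lt.y, Lt.v] (H9.TCY.hole_at hinv hr 6 1 false (by decide +kernel)) h
theorem dp_yi_5_s (hinv : ∀ x, g (inv x) = (g x)⁻¹) (hr : ∀ r ∈ rels, (r.map g).prod = 1) (hH : ∀ r ∈ subs, (r.map g).prod ∈ H)
    (j u : ℕ) (hu : u < M) (h : dp_yi_5 j u = true) : Good (fa g) T MG M (cP g H) Lt.yi u := by
  unfold dp_yi_5 at h
  rcases brec_true h with h | h
  · exact lF_good (T := T) (x := Lt.yi) (by decide) [Lt.z, Lt.y, Lt.q, Lt.yi, Lt.z, Lt.y, Lt.z, Lt.yi, Lt.q, Lt.y, Lt.z] (H9.TCY.hole_at hinv hr 17 5 false (by decide +kernel)) h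
  · exact lF_good (T := T) (x := Lt.yi) (by decide) [Lt.q, Lt.y, Lt.y, Lt.q, Lt.yi, Lt.yi, Lt.q, Lt.y, Lt.y, Lt.q, Lt.yi] (H9.TCY.hole_at hinv hr 19 2 false (by decide +kernel)) h
theorem dp_yi_6_s (hinv : ∀ x, g (inv x) = (g x)⁻¹) (hr : ∀ r ∈ rels, (r.map g).prod = 1) (hH : ∀ r ∈ subs, (r.map g).prod ∈ H)
    (j u : ℕ) (hu : u < M) (h : dp_yi_6 j u = true) : Good (fa g) T MG M (cP g H) Lt.yi u := by
  unfold dp_yi_6 at h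
  rcases brec_true h with h | h
  · exact lF_good (T := T) (x := Lt.yi) (by decide) [Lt.q, Lt.yi, Lt.q, Lt.yi, Lt.q, Lt.yi, Lt.q, Lt.yi, Lt.q, Lt.yi, Lt.q] (H9.TCY.hole_at hinv hr 18 1 false (by decide +kernel)) h
  · exact lS_good (T := T) (x := Lt.yi) (by decide) hu [Lt.yi, Lt.yi, Lt.yi, Lt.yi, Lt.yi] (H9.TCY.hole_at hinv hr 7 0 true (by decide +kernel)) h
theorem dp_yi_7_s (hinv : ∀ x, g (inv x) = (g x)⁻¹) (hr : ∀ r ∈ rels, (r.map g).prod = 1) (hH : ∀ r ∈ subs, (r.map g).prod ∈ H)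
    (j u : ℕ) (hu : u < M) (h : dp_yi_7 j u = true) : Good (fa g) T MG M (cP g H) Lt.yi u := by
  unfold dp_yi_7 at h
  rcases brec_true h with h | h
  · exact dp_yi_5_s hinv hr hH j u hu h
  · exact dp_yi_6_s hinv hr hH j u hu h
theorem dp_yi_8_s (hinv : ∀ x, g (inv x) = (g x)⁻¹) (hr : ∀ r ∈ rels, (r.map g).prod = 1) (hH : ∀ r ∈ subs, (r.map g).prod ∈ H)
    (j u : ℕ) (hu : u < M) (h : dp_yi_8 j u = true) : Good (fa g) T MG M (cP g H) Lt.yi u := by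
  unfold dp_yi_8 at h
  rcases brec_true h with h | h
  · exact dp_yi_4_s hinv hr hH j u hu h
  · exact dp_yi_7_s hinv hr hH j u hu h
theorem dp_yi_9_s (hinv : ∀ x, g (inv x) = (g x)⁻¹) (hr : ∀ r ∈ rels, (r.map g).prod = 1) (hH : ∀ r ∈ subs, (r.map g).prod ∈ H)
    (j u : ℕ) (hu : u < M) (h : dp_yi_9 j u = true) : Good (fa g) T MG M (cP g H) Lt.yi u := by
  unfold dp_yi_9 at h
  rcases brec_true h with h | h
  · exact dp_yi_3_s hinv hr hH j u hu h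
  · exact dp_yi_8_s hinv hr hH j u hu h
theorem dp_yi_10_s (hinv : ∀ x, g (inv x) = (g x)⁻¹) (hr : ∀ r ∈ rels, (r.map g).prod = 1) (hH : ∀ r ∈ subs, (r.map g).prod ∈ H)
    (j u : ℕ) (hu : u < M) (h : dp_yi_10 j u = true) : Good (fa g) T MG M (cP g H) Lt.yi u := by
  unfold dp_yi_10 at h
  rcases brec_true h with h | h
  · exact lF_good (T := T) (x := Lt.yi) (by decide) [Lt.q, Lt.y, Lt.z, Lt.yi, Lt.z, Lt.y, Lt.q, Lt.yi, Lt.z, Lt.y, Lt.z] (H9.TCY.hole_at hinv hr 17 1 false (by decide +kernel)) h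
  · exact lF_good (T := T) (x := Lt.yi) (by decide) [Lt.z, Lt.y, Lt.z, Lt.yi, Lt.q, Lt.y, Lt.z, Lt.yi, Lt.z, Lt.y, Lt.q] (H9.TCY.hole_at hinv hr 17 9 false (by decide +kernel)) h
theorem dp_yi_11_s (hinv : ∀ x, g (inv x) = (g x)⁻¹) (hr : ∀ r ∈ rels, (r.map g).prod = 1) (hH : ∀ r ∈ subs, (r.map g).prod ∈ H)
    (j u : ℕ) (hu : u < M) (h : dp_yi_11 j u = true) : Good (fa g) T MG M (cP g H) Lt.yi u := by
  unfold dp_yi_11 at h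
  rcases brec_true h with h | h
  · exact lF_good (T := T) (x := Lt.yi) (by decide) [Lt.yi, Lt.q, Lt.y, Lt.y, Lt.q, Lt.yi, Lt.yi, Lt.q, Lt.y, Lt.y, Lt.q] (H9.TCY.hole_at hinv hr 19 1 false (by decide +kernel)) h
  · exact dp_yi_10_s hinv hr hH j u hu h
theorem dp_yi_12_s (hinv : ∀ x, g (inv x) = (g x)⁻¹) (hr : ∀ r ∈ rels, (r.map g).prod = 1) (hH : ∀ r ∈ subs, (r.map g).prod ∈ H)
    (j u : ℕ) (hu : u < M) (h : dp_yi_12 j u = true) : Good (fa g) T MG M (cP g H) Lt.yi u := by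
  unfold dp_yi_12 at h
  rcases brec_true h with h | h
  · exact lS_good (T := T) (x := Lt.yi) (by decide) hu [Lt.q, Lt.z, Lt.q, Lt.z, Lt.y, Lt.q, Lt.z, Lt.q, Lt.z] (H9.TCY.hole_at hinv hr 10 1 false (by decide +kernel)) h
  · exact lF_good (T := T) (x := Lt.yi) (by decide) [Lt.z, Lt.q, Lt.z, Lt.y, Lt.q, Lt.yi, Lt.z, Lt.q, Lt.z, Lt.y, Lt.q] (H9.TCY.hole_at hinv hr 15 1 false (by decide +kernel)) h
theorem dp_yi_13_s (hinv : ∀ x, g (inv x) = (g x)⁻¹) (hr : ∀ r ∈ rels, (r.map g).prod = 1) (hH : ∀ r ∈ subs, (r.map g).prod ∈ H)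
    (j u : ℕ) (hu : u < M) (h : dp_yi_13 j u = true) : Good (fa g) T MG M (cP g H) Lt.yi u := by
  unfold dp_yi_13 at h
  rcases brec_true h with h | h
  · exact lS_good (T := T) (x := Lt.yi) (by decide) hu [Lt.z, Lt.y, Lt.z, Lt.yi, Lt.z, Lt.y, Lt.z, Lt.yi, Lt.z, Lt.y, Lt.z] (H9.TCY.hole_at hinv hr 12 1 false (by decide +kernel)) h
  · exact dp_yi_12_s hinv hr hH j u hu h
theorem dp_yi_14_s (hinv : ∀ x, g (inv x) = (g x)⁻¹) (hr : ∀ r ∈ rels, (r.map g).prod = 1) (hH : ∀ r ∈ subs, (r.map g).prod ∈ H)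
    (j u : ℕ) (hu : u < M) (h : dp_yi_14 j u = true) : Good (fa g) T MG M (cP g H) Lt.yi u := by
  unfold dp_yi_14 at h
  rcases brec_true h with h | h
  · exact dp_yi_11_s hinv hr hH j u hu h
  · exact dp_yi_13_s hinv hr hH j u hu h
theorem dp_yi_15_s (hinv : ∀ x, g (inv x) = (g x)⁻¹) (hr : ∀ r ∈ rels, (r.map g).prod = 1) (hH : ∀ r ∈ subs, (r.map g).prod ∈ H)
    (j u : ℕ) (hu : u < M) (h : dp_yi_15 j u = true) : Good (fa g) T MG M (cP g H) Lt.yi u := by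
  unfold dp_yi_15 at h
  rcases brec_true h with h | h
  · exact lF_good (T := T) (x := Lt.yi) (by decide) [Lt.q, Lt.y, Lt.z, Lt.q, Lt.z, Lt.yi, Lt.q, Lt.y, Lt.z, Lt.q, Lt.z] (H9.TCY.hole_at hinv hr 16 1 false (by decide +kernel)) h
  · exact lS_good (T := T) (x := Lt.yi) (by decide) hu [Lt.q, Lt.yi, Lt.q, Lt.yi, Lt.q, Lt.yi, Lt.q, Lt.yi, Lt.q, Lt.yi, Lt.q] (H9.TCY.hole_at hinv hr 18 1 false (by decide +kernel)) h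
theorem dp_yi_16_s (hinv : ∀ x, g (inv x) = (g x)⁻¹) (hr : ∀ r ∈ rels, (r.map g).prod = 1) (hH : ∀ r ∈ subs, (r.map g).prod ∈ H)
    (j u : ℕ) (hu : u < M) (h : dp_yi_16 j u = true) : Good (fa g) T MG M (cP g H) Lt.yi u := by
  unfold dp_yi_16 at h
  rcases brec_true h with h | h
  · exact lS_good (T := T) (x := Lt.yi) (by decide) hu [Lt.z, Lt.q, Lt.z, Lt.q, Lt.y, Lt.z, Lt.q, Lt.z, Lt.q] (H9.TCY.hole_at hinv hr 10 5 true (by decide +kernel)) h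
  · exact dp_yi_15_s hinv hr hH j u hu h
theorem dp_yi_17_s (hinv : ∀ x, g (inv x) = (g x)⁻¹) (hr : ∀ r ∈ rels, (r.map g).prod = 1) (hH : ∀ r ∈ subs, (r.map g).prod ∈ H)
    (j u : ℕ) (hu : u < M) (h : dp_yi_17 j u = true) : Good (fa g) T MG M (cP g H) Lt.yi u := by
  unfold dp_yi_17 at h
  rcases brec_true h with h | h
  · exact lS_good (T := T) (x := Lt.yi) (by decide) hu [Lt.q, Lt.y, Lt.y, Lt.q, Lt.yi, Lt.yi, Lt.q, Lt.y, Lt.y, Lt.q, Lt.yi] (H9.TCY.hole_at hinv hr 19 2 false (by decide +kernel)) h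
  · exact lF_good (T := T) (x := Lt.yi) (by decide) [Lt.z, Lt.q, Lt.z, Lt.q, Lt.v, Lt.y, Lt.v, Lt.q, Lt.z, Lt.q, Lt.z] (H9.TCY.hole_at hinv hr 13 6 false (by decide +kernel)) h
theorem dp_yi_18_s (hinv : ∀ x, g (inv x) = (g x)⁻¹) (hr : ∀ r ∈ rels, (r.map g).prod = 1) (hH : ∀ r ∈ subs, (r.map g).prod ∈ H)
    (j u : ℕ) (hu : u < M) (h : dp_yi_18 j u = true) : Good (fa g) T MG M (cP g H) Lt.yi u := by
  unfold dp_yi_18 at h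
  rcases brec_true h with h | h
  · exact lS_good (T := T) (x := Lt.yi) (by decide) hu [Lt.z, Lt.y, Lt.q, Lt.yi, Lt.z, Lt.y, Lt.z, Lt.yi, Lt.q, Lt.y, Lt.z] (H9.TCY.hole_at hinv hr 17 5 false (by decide +kernel)) h
  · exact dp_yi_17_s hinv hr hH j u hu h
theorem dp_yi_19_s (hinv : ∀ x, g (inv x) = (g x)⁻¹) (hr : ∀ r ∈ rels, (r.map g).prod = 1) (hH : ∀ r ∈ subs, (r.map g).prod ∈ H)
    (j u : ℕ) (hu : u < M) (h : dp_yi_19 j u = true) : Good (fa g) T MG M (cP g H) Lt.yi u := by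
  unfold dp_yi_19 at h
  rcases brec_true h with h | h
  · exact dp_yi_16_s hinv hr hH j u hu h
  · exact dp_yi_18_s hinv hr hH j u hu h
theorem dp_yi_20_s (hinv : ∀ x, g (inv x) = (g x)⁻¹) (hr : ∀ r ∈ rels, (r.map g).prod = 1) (hH : ∀ r ∈ subs, (r.map g).prod ∈ H)
    (j u : ℕ) (hu : u < M) (h : dp_yi_20 j u = true) : Good (fa g) T MG M (cP g H) Lt.yi u := by
  unfold dp_yi_20 at h
  rcases brec_true h with h | h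
  · exact lS_good (T := T) (x := Lt.yi) (by decide) hu [Lt.yi, Lt.q, Lt.y, Lt.y, Lt.q, Lt.yi, Lt.yi, Lt.q, Lt.y, Lt.y, Lt.q] (H9.TCY.hole_at hinv hr 19 1 false (by decide +kernel)) h
  · exact lF_good (T := T) (x := Lt.yi) (by decide) [Lt.z, Lt.y, Lt.z, Lt.y, Lt.q, Lt.yi, Lt.z, Lt.yi, Lt.z, Lt.y, Lt.z, Lt.y, Lt.q, Lt.yi, Lt.z] (H9.TCY.hole_at hinv hr 26 3 false (by decide +kernel)) h
theorem dp_yi_21_s (hinv : ∀ x, g (inv x) = (g x)⁻¹) (hr : ∀ r ∈ rels, (r.map g).prod = 1) (hH : ∀ r ∈ subs, (r.map g).prod ∈ H)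
    (j u : ℕ) (hu : u < M) (h : dp_yi_21 j u = true) : Good (fa g) T MG M (cP g H) Lt.yi u := by
  unfold dp_yi_21 at h
  rcases brec_true h with h | h
  · exact lS_good (T := T) (x := Lt.yi) (by decide) hu [Lt.q, Lt.y, Lt.z, Lt.yi, Lt.z, Lt.y, Lt.q, Lt.yi, Lt.z, Lt.y, Lt.z] (H9.TCY.hole_at hinv hr 17 1 false (by decide +kernel)) h
  · exact lF_good (T := T) (x := Lt.yi) (by decide) [Lt.z, Lt.yi, Lt.q, Lt.y, Lt.z, Lt.y, Lt.z, Lt.yi, Lt.z, Lt.yi, Lt.q, Lt.y, Lt.z, Lt.y, Lt.z] (H9.TCY.hole_at hinv hr 29 7 false (by decide +kernel)) h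
theorem dp_yi_22_s (hinv : ∀ x, g (inv x) = (g x)⁻¹) (hr : ∀ r ∈ rels, (r.map g).prod = 1) (hH : ∀ r ∈ subs, (r.map g).prod ∈ H)
    (j u : ℕ) (hu : u < M) (h : dp_yi_22 j u = true) : Good (fa g) T MG M (cP g H) Lt.yi u := by
  unfold dp_yi_22 at h
  rcases brec_true h with h | h
  · exact dp_yi_20_s hinv hr hH j u hu h
  · exact dp_yi_21_s hinv hr hH j u hu h
theorem dp_yi_23_s (hinv : ∀ x, g (inv x) = (g x)⁻¹) (hr : ∀ r ∈ rels, (r.map g).prod = 1) (hH : ∀ r ∈ subs, (r.map g).prod ∈ H)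
    (j u : ℕ) (hu : u < M) (h : dp_yi_23 j u = true) : Good (fa g) T MG M (cP g H) Lt.yi u := by
  unfold dp_yi_23 at h
  rcases brec_true h with h | h
  · exact lF_good (T := T) (x := Lt.yi) (by decide) [Lt.yi, Lt.z, Lt.y, Lt.y, Lt.z, Lt.yi, Lt.yi, Lt.z, Lt.y, Lt.y, Lt.z, Lt.yi, Lt.yi, Lt.z, Lt.y, Lt.y, Lt.z] (H9.TCY.hole_at hinv hr 38 1 false (by decide +kernel)) h
  · exact lF_good (T := T) (x := Lt.yi) (by decide) [Lt.yi, Lt.z, Lt.q, Lt.z, Lt.q, Lt.yi, Lt.yi, Lt.yi, Lt.z, Lt.q, Lt.z, Lt.q, Lt.yi] (H9.TCY.hole_at hinv hr 21 2 false (by decide +kernel)) h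
theorem dp_yi_24_s (hinv : ∀ x, g (inv x) = (g x)⁻¹) (hr : ∀ r ∈ rels, (r.map g).prod = 1) (hH : ∀ r ∈ subs, (r.map g).prod ∈ H)
    (j u : ℕ) (hu : u < M) (h : dp_yi_24 j u = true) : Good (fa g) T MG M (cP g H) Lt.yi u := by
  unfold dp_yi_24 at h
  rcases brec_true h with h | h
  · exact lS_good (T := T) (x := Lt.yi) (by decide) hu [Lt.z, Lt.y, Lt.z, Lt.yi, Lt.q, Lt.y, Lt.z, Lt.yi, Lt.z, Lt.y, Lt.q] (H9.TCY.hole_at hinv hr 17 9 false (by decide +kernel)) h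
  · exact dp_yi_23_s hinv hr hH j u hu h
theorem dp_yi_25_s (hinv : ∀ x, g (inv x) = (g x)⁻¹) (hr : ∀ r ∈ rels, (r.map g).prod = 1) (hH : ∀ r ∈ subs, (r.map g).prod ∈ H)
    (j u : ℕ) (hu : u < M) (h : dp_yi_25 j u = true) : Good (fa g) T MG M (cP g H) Lt.yi u := by
  unfold dp_yi_25 at h
  rcases brec_true h with h | h
  · exact lF_good (T := T) (x := Lt.yi) (by decide) [Lt.z, Lt.y, Lt.y, Lt.z, Lt.yi, Lt.yi, Lt.z, Lt.y, Lt.y, Lt.z, Lt.yi, Lt.yi, Lt.z, Lt.y, Lt.y, Lt.z, Lt.yi] (H9.TCY.hole_at hinv hr 38 2 false (by decide +kernel)) h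
  · exact lF_good (T := T) (x := Lt.yi) (by decide) [Lt.q, Lt.y, Lt.z, Lt.y, Lt.z, Lt.yi, Lt.z, Lt.yi, Lt.q, Lt.y, Lt.z, Lt.y, Lt.z, Lt.yi, Lt.z] (H9.TCY.hole_at hinv hr 29 1 false (by decide +kernel)) h
theorem dp_yi_26_s (hinv : ∀ x, g (inv x) = (g x)⁻¹) (hr : ∀ r ∈ rels, (r.map g).prod = 1) (hH : ∀ r ∈ subs, (r.map g).prod ∈ H)
    (j u : ℕ) (hu : u < M) (h : dp_yi_26 j u = true) : Good (fa g) T MG M (cP g H) Lt.yi u := by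
  unfold dp_yi_26 at h
  rcases brec_true h with h | h
  · exact lF_good (T := T) (x := Lt.yi) (by decide) [Lt.z, Lt.q, Lt.z, Lt.q, Lt.yi, Lt.yi, Lt.yi, Lt.z, Lt.q, Lt.z, Lt.q, Lt.yi, Lt.yi] (H9.TCY.hole_at hinv hr 21 3 false (by decide +kernel)) h
  · exact dp_yi_25_s hinv hr hH j u hu h
theorem dp_yi_27_s (hinv : ∀ x, g (inv x) = (g x)⁻¹) (hr : ∀ r ∈ rels, (r.map g).prod = 1) (hH : ∀ r ∈ subs, (r.map g).prod ∈ H)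
    (j u : ℕ) (hu : u < M) (h : dp_yi_27 j u = true) : Good (fa g) T MG M (cP g H) Lt.yi u := by
  unfold dp_yi_27 at h
  rcases brec_true h with h | h
  · exact dp_yi_24_s hinv hr hH j u hu h
  · exact dp_yi_26_s hinv hr hH j u hu h
theorem dp_yi_28_s (hinv : ∀ x, g (inv x) = (g x)⁻¹) (hr : ∀ r ∈ rels, (r.map g).prod = 1) (hH : ∀ r ∈ subs, (r.map g).prod ∈ H)
    (j u : ℕ) (hu : u < M) (h : dp_yi_28 j u = true) : Good (fa g) T MG M (cP g H) Lt.yi u := by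
  unfold dp_yi_28 at h
  rcases brec_true h with h | h
  · exact dp_yi_22_s hinv hr hH j u hu h
  · exact dp_yi_27_s hinv hr hH j u hu h
theorem dp_yi_29_s (hinv : ∀ x, g (inv x) = (g x)⁻¹) (hr : ∀ r ∈ rels, (r.map g).prod = 1) (hH : ∀ r ∈ subs, (r.map g).prod ∈ H)
    (j u : ℕ) (hu : u < M) (h : dp_yi_29 j u = true) : Good (fa g) T MG M (cP g H) Lt.yi u := by
  unfold dp_yi_29 at h
  rcases brec_true h with h | h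
  · exact dp_yi_19_s hinv hr hH j u hu h
  · exact dp_yi_28_s hinv hr hH j u hu h
theorem dp_yi_30_s (hinv : ∀ x, g (inv x) = (g x)⁻¹) (hr : ∀ r ∈ rels, (r.map g).prod = 1) (hH : ∀ r ∈ subs, (r.map g).prod ∈ H)
    (j u : ℕ) (hu : u < M) (h : dp_yi_30 j u = true) : Good (fa g) T MG M (cP g H) Lt.yi u := by
  unfold dp_yi_30 at h
  rcases brec_true h with h | h
  · exact dp_yi_14_s hinv hr hH j u hu h
  · exact dp_yi_29_s hinv hr hH j u hu h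
theorem dp_yi_31_s (hinv : ∀ x, g (inv x) = (g x)⁻¹) (hr : ∀ r ∈ rels, (r.map g).prod = 1) (hH : ∀ r ∈ subs, (r.map g).prod ∈ H)
    (j u : ℕ) (hu : u < M) (h : dp_yi_31 j u = true) : Good (fa g) T MG M (cP g H) Lt.yi u := by
  unfold dp_yi_31 at h
  rcases brec_true h with h | h
  · exact lS_good (T := T) (x := Lt.yi) (by decide) hu [Lt.z, Lt.yi, Lt.q, Lt.y, Lt.z, Lt.y, Lt.z, Lt.yi, Lt.z, Lt.yi, Lt.q, Lt.y, Lt.z, Lt.y, Lt.z] (H9.TCY.hole_at hinv hr 29 7 false (by decide +kernel)) h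
  · exact lS_good (T := T) (x := Lt.yi) (by decide) hu [Lt.z, Lt.y, Lt.z, Lt.y, Lt.q, Lt.yi, Lt.z, Lt.yi, Lt.z, Lt.y, Lt.z, Lt.y, Lt.q, Lt.yi, Lt.z] (H9.TCY.hole_at hinv hr 26 3 false (by decide +kernel)) h
theorem dp_yi_32_s (hinv : ∀ x, g (inv x) = (g x)⁻¹) (hr : ∀ r ∈ rels, (r.map g).prod = 1) (hH : ∀ r ∈ subs, (r.map g).prod ∈ H)
    (j u : ℕ) (hu : u < M) (h : dp_yi_32 j u = true) : Good (fa g) T MG M (cP g H) Lt.yi u := by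
  unfold dp_yi_32 at h
  rcases brec_true h with h | h
  · exact lF_good (T := T) (x := Lt.yi) (by decide) [Lt.z, Lt.q, Lt.yi, Lt.z, Lt.y, Lt.q, Lt.z, Lt.y, Lt.y, Lt.z, Lt.q, Lt.y, Lt.z, Lt.yi, Lt.q, Lt.z, Lt.yi] (H9.TCY.hole_at hinv hr 37 2 false (by decide +kernel)) h
  · exact lF_good (T := T) (x := Lt.yi) (by decide) [Lt.z, Lt.yi, Lt.z, Lt.y, Lt.z, Lt.y, Lt.q, Lt.yi, Lt.z, Lt.yi, Lt.z, Lt.y, Lt.z, Lt.y, Lt.q] (H9.TCY.hole_at hinv hr 26 1 false (by decide +kernel)) h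
theorem dp_yi_33_s (hinv : ∀ x, g (inv x) = (g x)⁻¹) (hr : ∀ r ∈ rels, (r.map g).prod = 1) (hH : ∀ r ∈ subs, (r.map g).prod ∈ H)
    (j u : ℕ) (hu : u < M) (h : dp_yi_33 j u = true) : Good (fa g) T MG M (cP g H) Lt.yi u := by
  unfold dp_yi_33 at h
  rcases brec_true h with h | h
  · exact dp_yi_31_s hinv hr hH j u hu h
  · exact dp_yi_32_s hinv hr hH j u hu h
theorem dp_yi_34_s (hinv : ∀ x, g (inv x) = (g x)⁻¹) (hr : ∀ r ∈ rels, (r.map g).prod = 1) (hH : ∀ r ∈ subs, (r.map g).prod ∈ H)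
    (j u : ℕ) (hu : u < M) (h : dp_yi_34 j u = true) : Good (fa g) T MG M (cP g H) Lt.yi u := by
  unfold dp_yi_34 at h
  rcases brec_true h with h | h
  · exact lF_good (T := T) (x := Lt.yi) (by decide) [Lt.q, Lt.z, Lt.y, Lt.q, Lt.yi, Lt.q, Lt.z, Lt.y, Lt.z, Lt.q, Lt.yi, Lt.q, Lt.y, Lt.z, Lt.q] (H9.TCY.hole_at hinv hr 23 3 true (by decide +kernel)) h
  · exact lF_good (T := T) (x := Lt.yi) (by decide) [Lt.yi, Lt.z, Lt.q, Lt.yi, Lt.z, Lt.y, Lt.q, Lt.z, Lt.y, Lt.y, Lt.z, Lt.q, Lt.y, Lt.z, Lt.yi, Lt.q, Lt.z] (H9.TCY.hole_at hinv hr 37 1 false (by decide +kernel)) h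
theorem dp_yi_35_s (hinv : ∀ x, g (inv x) = (g x)⁻¹) (hr : ∀ r ∈ rels, (r.map g).prod = 1) (hH : ∀ r ∈ subs, (r.map g).prod ∈ H)
    (j u : ℕ) (hu : u < M) (h : dp_yi_35 j u = true) : Good (fa g) T MG M (cP g H) Lt.yi u := by
  unfold dp_yi_35 at h
  rcases brec_true h with h | h
  · exact lF_good (T := T) (x := Lt.yi) (by decide) [Lt.yi, Lt.yi, Lt.z, Lt.q, Lt.z, Lt.q, Lt.yi, Lt.yi, Lt.yi, Lt.z, Lt.q, Lt.z, Lt.q] (H9.TCY.hole_at hinv hr 21 1 false (by decide +kernel)) h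
  · exact lS_good (T := T) (x := Lt.yi) (by decide) hu [Lt.yi, Lt.z, Lt.y, Lt.y, Lt.z, Lt.yi, Lt.yi, Lt.z, Lt.y, Lt.y, Lt.z, Lt.yi, Lt.yi, Lt.z, Lt.y, Lt.y, Lt.z] (H9.TCY.hole_at hinv hr 38 1 false (by decide +kernel)) h
theorem dp_yi_36_s (hinv : ∀ x, g (inv x) = (g x)⁻¹) (hr : ∀ r ∈ rels, (r.map g).prod = 1) (hH : ∀ r ∈ subs, (r.map g).prod ∈ H)
    (j u : ℕ) (hu : u < M) (h : dp_yi_36 j u = true) : Good (fa g) T MG M (cP g H) Lt.yi u := by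
  unfold dp_yi_36 at h
  rcases brec_true h with h | h
  · exact lS_good (T := T) (x := Lt.yi) (by decide) hu [Lt.z, Lt.y, Lt.y, Lt.z, Lt.yi, Lt.yi, Lt.z, Lt.y, Lt.y, Lt.z, Lt.yi, Lt.yi, Lt.z, Lt.y, Lt.y, Lt.z, Lt.yi] (H9.TCY.hole_at hinv hr 38 2 false (by decide +kernel)) h
  · exact dp_yi_35_s hinv hr hH j u hu h
theorem dp_yi_37_s (hinv : ∀ x, g (inv x) = (g x)⁻¹) (hr : ∀ r ∈ rels, (r.map g).prod = 1) (hH : ∀ r ∈ subs, (r.map g).prod ∈ H)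
    (j u : ℕ) (hu : u < M) (h : dp_yi_37 j u = true) : Good (fa g) T MG M (cP g H) Lt.yi u := by
  unfold dp_yi_37 at h
  rcases brec_true h with h | h
  · exact dp_yi_34_s hinv hr hH j u hu h
  · exact dp_yi_36_s hinv hr hH j u hu h
theorem dp_yi_38_s (hinv : ∀ x, g (inv x) = (g x)⁻¹) (hr : ∀ r ∈ rels, (r.map g).prod = 1) (hH : ∀ r ∈ subs, (r.map g).prod ∈ H)
    (j u : ℕ) (hu : u < M) (h : dp_yi_38 j u = true) : Good (fa g) T MG M (cP g H) Lt.yi u := by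
  unfold dp_yi_38 at h
  rcases brec_true h with h | h
  · exact dp_yi_33_s hinv hr hH j u hu h
  · exact dp_yi_37_s hinv hr hH j u hu h
theorem dp_yi_39_s (hinv : ∀ x, g (inv x) = (g x)⁻¹) (hr : ∀ r ∈ rels, (r.map g).prod = 1) (hH : ∀ r ∈ subs, (r.map g).prod ∈ H)
    (j u : ℕ) (hu : u < M) (h : dp_yi_39 j u = true) : Good (fa g) T MG M (cP g H) Lt.yi u := by
  unfold dp_yi_39 at h
  rcases brec_true h with h | h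
  · exact lF_good (T := T) (x := Lt.yi) (by decide) [Lt.z, Lt.q, Lt.y, Lt.z, Lt.q, Lt.yi, Lt.z, Lt.y, Lt.q, Lt.z, Lt.yi, Lt.q, Lt.z, Lt.y, Lt.z] (H9.TCY.hole_at hinv hr 27 6 false (by decide +kernel)) h
  · exact lS_good (T := T) (x := Lt.yi) (by decide) hu [Lt.z, Lt.q, Lt.z, Lt.y, Lt.q, Lt.yi, Lt.z, Lt.q, Lt.z, Lt.y, Lt.q] (H9.TCY.hole_at hinv hr 15 1 false (by decide +kernel)) h
theorem dp_yi_40_s (hinv : ∀ x, g (inv x) = (g x)⁻¹) (hr : ∀ r ∈ rels, (r.map g).prod = 1) (hH : ∀ r ∈ subs, (r.map g).prod ∈ H)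
    (j u : ℕ) (hu : u < M) (h : dp_yi_40 j u = true) : Good (fa g) T MG M (cP g H) Lt.yi u := by
  unfold dp_yi_40 at h
  rcases brec_true h with h | h
  · exact lF_good (T := T) (x := Lt.yi) (by decide) [Lt.q, Lt.yi, Lt.yi, Lt.yi, Lt.q, Lt.yi, Lt.yi, Lt.yi, Lt.q, Lt.y, Lt.y, Lt.y, Lt.q, Lt.yi, Lt.yi] (H9.TCY.hole_at hinv hr 30 3 false (by decide +kernel)) h
  · exact lF_good (T := T) (x := Lt.yi) (by decide) [Lt.yi, Lt.yi, Lt.q, Lt.yi, Lt.yi, Lt.yi, Lt.q, Lt.y, Lt.y, Lt.y, Lt.q, Lt.yi, Lt.yi, Lt.yi, Lt.q] (H9.TCY.hole_at hinv hr 30 5 false (by decide +kernel)) h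
theorem dp_yi_41_s (hinv : ∀ x, g (inv x) = (g x)⁻¹) (hr : ∀ r ∈ rels, (r.map g).prod = 1) (hH : ∀ r ∈ subs, (r.map g).prod ∈ H)
    (j u : ℕ) (hu : u < M) (h : dp_yi_41 j u = true) : Good (fa g) T MG M (cP g H) Lt.yi u := by
  unfold dp_yi_41 at h
  rcases brec_true h with h | h
  · exact lF_good (T := T) (x := Lt.yi) (by decide) [Lt.q, Lt.z, Lt.yi, Lt.yi, Lt.z, Lt.q, Lt.yi, Lt.z, Lt.y, Lt.q, Lt.z, Lt.y, Lt.y, Lt.z, Lt.q, Lt.y, Lt.z] (H9.TCY.hole_at hinv hr 37 16 false (by decide +kernel)) h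
  · exact dp_yi_40_s hinv hr hH j u hu h
theorem dp_yi_42_s (hinv : ∀ x, g (inv x) = (g x)⁻¹) (hr : ∀ r ∈ rels, (r.map g).prod = 1) (hH : ∀ r ∈ subs, (r.map g).prod ∈ H)
    (j u : ℕ) (hu : u < M) (h : dp_yi_42 j u = true) : Good (fa g) T MG M (cP g H) Lt.yi u := by
  unfold dp_yi_42 at h
  rcases brec_true h with h | h
  · exact dp_yi_39_s hinv hr hH j u hu h
  · exact dp_yi_41_s hinv hr hH j u hu h
theorem dp_yi_43_s (hinv : ∀ x, g (inv x) = (g x)⁻¹) (hr : ∀ r ∈ rels, (r.map g).prod = 1) (hH : ∀ r ∈ subs, (r.map g).prod ∈ H)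
    (j u : ℕ) (hu : u < M) (h : dp_yi_43 j u = true) : Good (fa g) T MG M (cP g H) Lt.yi u := by
  unfold dp_yi_43 at h
  rcases brec_true h with h | h
  · exact lF_good (T := T) (x := Lt.yi) (by decide) [Lt.yi, Lt.q, Lt.y, Lt.y, Lt.z, Lt.q, Lt.z, Lt.yi, Lt.yi, Lt.q, Lt.y, Lt.y, Lt.z, Lt.q, Lt.z] (H9.TCY.hole_at hinv hr 33 1 false (by decide +kernel)) h
  · exact lS_good (T := T) (x := Lt.yi) (by decide) hu [Lt.q, Lt.y, Lt.z, Lt.y, Lt.z, Lt.yi, Lt.z, Lt.yi, Lt.q, Lt.y, Lt.z, Lt.y, Lt.z, Lt.yi, Lt.z] (H9.TCY.hole_at hinv hr 29 1 false (by decide +kernel)) h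
theorem dp_yi_44_s (hinv : ∀ x, g (inv x) = (g x)⁻¹) (hr : ∀ r ∈ rels, (r.map g).prod = 1) (hH : ∀ r ∈ subs, (r.map g).prod ∈ H)
    (j u : ℕ) (hu : u < M) (h : dp_yi_44 j u = true) : Good (fa g) T MG M (cP g H) Lt.yi u := by
  unfold dp_yi_44 at h
  rcases brec_true h with h | h
  · exact lF_good (T := T) (x := Lt.yi) (by decide) [Lt.z, Lt.q, Lt.y, Lt.q, Lt.yi, Lt.z, Lt.q, Lt.y, Lt.q, Lt.z, Lt.yi, Lt.q, Lt.y, Lt.q, Lt.z] (H9.TCY.hole_at hinv hr 23 6 false (by decide +kernel)) h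
  · exact dp_yi_43_s hinv hr hH j u hu h
theorem dp_yi_45_s (hinv : ∀ x, g (inv x) = (g x)⁻¹) (hr : ∀ r ∈ rels, (r.map g).prod = 1) (hH : ∀ r ∈ subs, (r.map g).prod ∈ H)
    (j u : ℕ) (hu : u < M) (h : dp_yi_45 j u = true) : Good (fa g) T MG M (cP g H) Lt.yi u := by
  unfold dp_yi_45 at h
  rcases brec_true h with h | h
  · exact lF_good (T := T) (x := Lt.yi) (by decide) [Lt.q, Lt.yi, Lt.z, Lt.yi, Lt.z, Lt.y, Lt.z, Lt.yi, Lt.yi, Lt.q, Lt.yi, Lt.yi, Lt.z, Lt.y, Lt.z, Lt.yi, Lt.z] (H9.TCY.hole_at hinv hr 41 11 false (by decide +kernel)) h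
  · exact lS_good (T := T) (x := Lt.yi) (by decide) hu [Lt.z, Lt.q, Lt.yi, Lt.z, Lt.y, Lt.q, Lt.z, Lt.y, Lt.y, Lt.z, Lt.q, Lt.y, Lt.z, Lt.yi, Lt.q, Lt.z, Lt.yi] (H9.TCY.hole_at hinv hr 37 2 false (by decide +kernel)) h
theorem dp_yi_46_s (hinv : ∀ x, g (inv x) = (g x)⁻¹) (hr : ∀ r ∈ rels, (r.map g).prod = 1) (hH : ∀ r ∈ subs, (r.map g).prod ∈ H)
    (j u : ℕ) (hu : u < M) (h : dp_yi_46 j u = true) : Good (fa g) T MG M (cP g H) Lt.yi u := by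
  unfold dp_yi_46 at h
  rcases brec_true h with h | h
  · exact lS_good (T := T) (x := Lt.yi) (by decide) hu [Lt.q, Lt.y, Lt.z, Lt.q, Lt.z, Lt.yi, Lt.q, Lt.y, Lt.z, Lt.q, Lt.z] (H9.TCY.hole_at hinv hr 16 1 false (by decide +kernel)) h
  · exact dp_yi_45_s hinv hr hH j u hu h
theorem dp_yi_47_s (hinv : ∀ x, g (inv x) = (g x)⁻¹) (hr : ∀ r ∈ rels, (r.map g).prod = 1) (hH : ∀ r ∈ subs, (r.map g).prod ∈ H)
    (j u : ℕ) (hu : u < M) (h : dp_yi_47 j u = true) : Good (fa g) T MG M (cP g H) Lt.yi u := by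
  unfold dp_yi_47 at h
  rcases brec_true h with h | h
  · exact dp_yi_44_s hinv hr hH j u hu h
  · exact dp_yi_46_s hinv hr hH j u hu h
theorem dp_yi_48_s (hinv : ∀ x, g (inv x) = (g x)⁻¹) (hr : ∀ r ∈ rels, (r.map g).prod = 1) (hH : ∀ r ∈ subs, (r.map g).prod ∈ H)
    (j u : ℕ) (hu : u < M) (h : dp_yi_48 j u = true) : Good (fa g) T MG M (cP g H) Lt.yi u := by
  unfold dp_yi_48 at h
  rcases brec_true h with h | h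
  · exact dp_yi_42_s hinv hr hH j u hu h
  · exact dp_yi_47_s hinv hr hH j u hu h
theorem dp_yi_49_s (hinv : ∀ x, g (inv x) = (g x)⁻¹) (hr : ∀ r ∈ rels, (r.map g).prod = 1) (hH : ∀ r ∈ subs, (r.map g).prod ∈ H)
    (j u : ℕ) (hu : u < M) (h : dp_yi_49 j u = true) : Good (fa g) T MG M (cP g H) Lt.yi u := by
  unfold dp_yi_49 at h
  rcases brec_true h with h | h
  · exact dp_yi_38_s hinv hr hH j u hu h
  · exact dp_yi_48_s hinv hr hH j u hu h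
theorem dp_yi_50_s (hinv : ∀ x, g (inv x) = (g x)⁻¹) (hr : ∀ r ∈ rels, (r.map g).prod = 1) (hH : ∀ r ∈ subs, (r.map g).prod ∈ H)
    (j u : ℕ) (hu : u < M) (h : dp_yi_50 j u = true) : Good (fa g) T MG M (cP g H) Lt.yi u := by
  unfold dp_yi_50 at h
  rcases brec_true h with h | h
  · exact lF_good (T := T) (x := Lt.yi) (by decide) [Lt.q, Lt.z, Lt.q, Lt.y, Lt.q, Lt.yi, Lt.z, Lt.y, Lt.q, Lt.z, Lt.q, Lt.yi, Lt.q, Lt.y, Lt.z] (H9.TCY.hole_at hinv hr 24 2 true (by decide +kernel)) h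
  · exact lF_good (T := T) (x := Lt.yi) (by decide) [Lt.z, Lt.q, Lt.z, Lt.y, Lt.y, Lt.q, Lt.yi, Lt.yi, Lt.z, Lt.q, Lt.z, Lt.y, Lt.y, Lt.q, Lt.yi] (H9.TCY.hole_at hinv hr 34 2 false (by decide +kernel)) h
theorem dp_yi_51_s (hinv : ∀ x, g (inv x) = (g x)⁻¹) (hr : ∀ r ∈ rels, (r.map g).prod = 1) (hH : ∀ r ∈ subs, (r.map g).prod ∈ H)
    (j u : ℕ) (hu : u < M) (h : dp_yi_51 j u = true) : Good (fa g) T MG M (cP g H) Lt.yi u := by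
  unfold dp_yi_51 at h
  rcases brec_true h with h | h
  · exact lF_good (T := T) (x := Lt.yi) (by decide) [Lt.q, Lt.y, Lt.q, Lt.z, Lt.q, Lt.yi, Lt.z, Lt.y, Lt.q, Lt.yi, Lt.q, Lt.z, Lt.q, Lt.y, Lt.z] (H9.TCY.hole_at hinv hr 24 1 false (by decide +kernel)) h
  · exact dp_yi_50_s hinv hr hH j u hu h
theorem dp_yi_52_s (hinv : ∀ x, g (inv x) = (g x)⁻¹) (hr : ∀ r ∈ rels, (r.map g).prod = 1) (hH : ∀ r ∈ subs, (r.map g).prod ∈ H)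
    (j u : ℕ) (hu : u < M) (h : dp_yi_52 j u = true) : Good (fa g) T MG M (cP g H) Lt.yi u := by
  unfold dp_yi_52 at h
  rcases brec_true h with h | h
  · exact lS_good (T := T) (x := Lt.yi) (by decide) hu [Lt.z, Lt.yi, Lt.z, Lt.y, Lt.z, Lt.y, Lt.q, Lt.yi, Lt.z, Lt.yi, Lt.z, Lt.y, Lt.z, Lt.y, Lt.q] (H9.TCY.hole_at hinv hr 26 1 false (by decide +kernel)) h
  · exact lF_good (T := T) (x := Lt.yi) (by decide) [Lt.z, Lt.yi, Lt.z, Lt.y, Lt.z, Lt.yi, Lt.yi, Lt.q, Lt.yi, Lt.yi, Lt.z, Lt.y, Lt.z, Lt.yi, Lt.z, Lt.yi, Lt.q] (H9.TCY.hole_at hinv hr 41 13 false (by decide +kernel)) h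
theorem dp_yi_53_s (hinv : ∀ x, g (inv x) = (g x)⁻¹) (hr : ∀ r ∈ rels, (r.map g).prod = 1) (hH : ∀ r ∈ subs, (r.map g).prod ∈ H)
    (j u : ℕ) (hu : u < M) (h : dp_yi_53 j u = true) : Good (fa g) T MG M (cP g H) Lt.yi u := by
  unfold dp_yi_53 at h
  rcases brec_true h with h | h
  · exact lS_good (T := T) (x := Lt.yi) (by decide) hu [Lt.z, Lt.q, Lt.z, Lt.q, Lt.v, Lt.y, Lt.v, Lt.q, Lt.z, Lt.q, Lt.z] (H9.TCY.hole_at hinv hr 13 6 false (by decide +kernel)) h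
  · exact dp_yi_52_s hinv hr hH j u hu h
theorem dp_yi_54_s (hinv : ∀ x, g (inv x) = (g x)⁻¹) (hr : ∀ r ∈ rels, (r.map g).prod = 1) (hH : ∀ r ∈ subs, (r.map g).prod ∈ H)
    (j u : ℕ) (hu : u < M) (h : dp_yi_54 j u = true) : Good (fa g) T MG M (cP g H) Lt.yi u := by
  unfold dp_yi_54 at h
  rcases brec_true h with h | h
  · exact dp_yi_51_s hinv hr hH j u hu h
  · exact dp_yi_53_s hinv hr hH j u hu h
theorem dp_yi_55_s (hinv : ∀ x, g (inv x) = (g x)⁻¹) (hr : ∀ r ∈ rels, (r.map g).prod = 1) (hH : ∀ r ∈ subs, (r.map g).prod ∈ H)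
    (j u : ℕ) (hu : u < M) (h : dp_yi_55 j u = true) : Good (fa g) T MG M (cP g H) Lt.yi u := by
  unfold dp_yi_55 at h
  rcases brec_true h with h | h
  · exact lF_good (T := T) (x := Lt.yi) (by decide) [Lt.z, Lt.y, Lt.q, Lt.z, Lt.y, Lt.y, Lt.z, Lt.q, Lt.y, Lt.z, Lt.yi, Lt.q, Lt.z, Lt.yi, Lt.yi, Lt.z, Lt.q] (H9.TCY.hole_at hinv hr 37 5 false (by decide +kernel)) h
  · exact lF_good (T := T) (x := Lt.yi) (by decide) [Lt.yi, Lt.q, Lt.yi, Lt.yi, Lt.z, Lt.y, Lt.z, Lt.yi, Lt.z, Lt.yi, Lt.q, Lt.yi, Lt.z, Lt.yi, Lt.z, Lt.y, Lt.z] (H9.TCY.hole_at hinv hr 41 1 false (by decide +kernel)) h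
theorem dp_yi_56_s (hinv : ∀ x, g (inv x) = (g x)⁻¹) (hr : ∀ r ∈ rels, (r.map g).prod = 1) (hH : ∀ r ∈ subs, (r.map g).prod ∈ H)
    (j u : ℕ) (hu : u < M) (h : dp_yi_56 j u = true) : Good (fa g) T MG M (cP g H) Lt.yi u := by
  unfold dp_yi_56 at h
  rcases brec_true h with h | h
  · exact lF_good (T := T) (x := Lt.yi) (by decide) [Lt.z, Lt.q, Lt.y, Lt.q, Lt.z, Lt.yi, Lt.q, Lt.y, Lt.q, Lt.z, Lt.yi, Lt.z, Lt.q, Lt.y, Lt.q] (H9.TCY.hole_at hinv hr 23 11 false (by decide +kernel)) h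
  · exact dp_yi_55_s hinv hr hH j u hu h
theorem dp_yi_57_s (hinv : ∀ x, g (inv x) = (g x)⁻¹) (hr : ∀ r ∈ rels, (r.map g).prod = 1) (hH : ∀ r ∈ subs, (r.map g).prod ∈ H)
    (j u : ℕ) (hu : u < M) (h : dp_yi_57 j u = true) : Good (fa g) T MG M (cP g H) Lt.yi u := by
  unfold dp_yi_57 at h
  rcases brec_true h with h | h
  · exact lF_good (T := T) (x := Lt.yi) (by decide) [Lt.z, Lt.y, Lt.z, Lt.yi, Lt.yi, Lt.q, Lt.yi, Lt.yi, Lt.z, Lt.y, Lt.z, Lt.yi, Lt.z, Lt.yi, Lt.q, Lt.yi, Lt.z] (H9.TCY.hole_at hinv hr 41 15 false (by decide +kernel)) h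
  · exact lS_good (T := T) (x := Lt.yi) (by decide) hu [Lt.yi, Lt.z, Lt.q, Lt.yi, Lt.z, Lt.y, Lt.q, Lt.z, Lt.y, Lt.y, Lt.z, Lt.q, Lt.y, Lt.z, Lt.yi, Lt.q, Lt.z] (H9.TCY.hole_at hinv hr 37 1 false (by decide +kernel)) h
theorem dp_yi_58_s (hinv : ∀ x, g (inv x) = (g x)⁻¹) (hr : ∀ r ∈ rels, (r.map g).prod = 1) (hH : ∀ r ∈ subs, (r.map g).prod ∈ H)
    (j u : ℕ) (hu : u < M) (h : dp_yi_58 j u = true) : Good (fa g) T MG M (cP g H) Lt.yi u := by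
  unfold dp_yi_58 at h
  rcases brec_true h with h | h
  · exact lS_good (T := T) (x := Lt.yi) (by decide) hu [Lt.yi, Lt.q, Lt.yi, Lt.yi, Lt.z, Lt.y, Lt.z, Lt.yi, Lt.z, Lt.yi, Lt.q, Lt.yi, Lt.z, Lt.yi, Lt.z, Lt.y, Lt.z] (H9.TCY.hole_at hinv hr 41 1 false (by decide +kernel)) h
  · exact lF_good (T := T) (x := Lt.yi) (by decide) [Lt.yi, Lt.q, Lt.yi, Lt.yi, Lt.yi, Lt.q, Lt.yi, Lt.yi, Lt.yi, Lt.q, Lt.y, Lt.y, Lt.y, Lt.q, Lt.yi] (H9.TCY.hole_at hinv hr 30 2 false (by decide +kernel)) h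
theorem dp_yi_59_s (hinv : ∀ x, g (inv x) = (g x)⁻¹) (hr : ∀ r ∈ rels, (r.map g).prod = 1) (hH : ∀ r ∈ subs, (r.map g).prod ∈ H)
    (j u : ℕ) (hu : u < M) (h : dp_yi_59 j u = true) : Good (fa g) T MG M (cP g H) Lt.yi u := by
  unfold dp_yi_59 at h
  rcases brec_true h with h | h
  · exact dp_yi_57_s hinv hr hH j u hu h
  · exact dp_yi_58_s hinv hr hH j u hu h
theorem dp_yi_60_s (hinv : ∀ x, g (inv x) = (g x)⁻¹) (hr : ∀ r ∈ rels, (r.map g).prod = 1) (hH : ∀ r ∈ subs, (r.map g).prod ∈ H)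
    (j u : ℕ) (hu : u < M) (h : dp_yi_60 j u = true) : Good (fa g) T MG M (cP g H) Lt.yi u := by
  unfold dp_yi_60 at h
  rcases brec_true h with h | h
  · exact dp_yi_56_s hinv hr hH j u hu h
  · exact dp_yi_59_s hinv hr hH j u hu h
theorem dp_yi_61_s (hinv : ∀ x, g (inv x) = (g x)⁻¹) (hr : ∀ r ∈ rels, (r.map g).prod = 1) (hH : ∀ r ∈ subs, (r.map g).prod ∈ H)
    (j u : ℕ) (hu : u < M) (h : dp_yi_61 j u = true) : Good (fa g) T MG M (cP g H) Lt.yi u := by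
  unfold dp_yi_61 at h
  rcases brec_true h with h | h
  · exact dp_yi_54_s hinv hr hH j u hu h
  · exact dp_yi_60_s hinv hr hH j u hu h
theorem dp_yi_62_s (hinv : ∀ x, g (inv x) = (g x)⁻¹) (hr : ∀ r ∈ rels, (r.map g).prod = 1) (hH : ∀ r ∈ subs, (r.map g).prod ∈ H)
    (j u : ℕ) (hu : u < M) (h : dp_yi_62 j u = true) : Good (fa g) T MG M (cP g H) Lt.yi u := by
  unfold dp_yi_62 at h
  rcases brec_true h with h | h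
  · exact lF_good (T := T) (x := Lt.yi) (by decide) [Lt.q, Lt.y, Lt.q, Lt.z, Lt.yi, Lt.z, Lt.q, Lt.y, Lt.q, Lt.yi, Lt.z, Lt.q, Lt.y, Lt.q, Lt.z] (H9.TCY.hole_at hinv hr 23 1 false (by decide +kernel)) h
  · exact lF_good (T := T) (x := Lt.yi) (by decide) [Lt.q, Lt.z, Lt.y, Lt.z, Lt.q, Lt.yi, Lt.z, Lt.y, Lt.z, Lt.q, Lt.yi, Lt.q, Lt.z, Lt.y, Lt.z] (H9.TCY.hole_at hinv hr 28 6 false (by decide +kernel)) h
theorem dp_yi_63_s (hinv : ∀ x, g (inv x) = (g x)⁻¹) (hr : ∀ r ∈ rels, (r.map g).prod = 1) (hH : ∀ r ∈ subs, (r.map g).prod ∈ H)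
    (j u : ℕ) (hu : u < M) (h : dp_yi_63 j u = true) : Good (fa g) T MG M (cP g H) Lt.yi u := by
  unfold dp_yi_63 at h
  rcases brec_true h with h | h
  · exact lF_good (T := T) (x := Lt.yi) (by decide) [Lt.yi, Lt.q, Lt.yi, Lt.q, Lt.y, Lt.y, Lt.q, Lt.y, Lt.y, Lt.y, Lt.q, Lt.yi, Lt.q, Lt.yi, Lt.q] (H9.TCY.hole_at hinv hr 31 6 true (by decide +kernel)) h
  · exact lF_good (T := T) (x := Lt.yi) (by decide) [Lt.z, Lt.yi, Lt.q, Lt.yi, Lt.z, Lt.yi, Lt.z, Lt.y, Lt.z, Lt.yi, Lt.yi, Lt.q, Lt.yi, Lt.yi, Lt.z, Lt.y, Lt.z] (H9.TCY.hole_at hinv hr 41 9 false (by decide +kernel)) h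
theorem dp_yi_64_s (hinv : ∀ x, g (inv x) = (g x)⁻¹) (hr : ∀ r ∈ rels, (r.map g).prod = 1) (hH : ∀ r ∈ subs, (r.map g).prod ∈ H)
    (j u : ℕ) (hu : u < M) (h : dp_yi_64 j u = true) : Good (fa g) T MG M (cP g H) Lt.yi u := by
  unfold dp_yi_64 at h
  rcases brec_true h with h | h
  · exact dp_yi_62_s hinv hr hH j u hu h
  · exact dp_yi_63_s hinv hr hH j u hu h
theorem dp_yi_65_s (hinv : ∀ x, g (inv x) = (g x)⁻¹) (hr : ∀ r ∈ rels, (r.map g).prod = 1) (hH : ∀ r ∈ subs, (r.map g).prod ∈ H)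
    (j u : ℕ) (hu : u < M) (h : dp_yi_65 j u = true) : Good (fa g) T MG M (cP g H) Lt.yi u := by
  unfold dp_yi_65 at h
  rcases brec_true h with h | h
  · exact lS_good (T := T) (x := Lt.yi) (by decide) hu [Lt.q, Lt.yi, Lt.z, Lt.yi, Lt.z, Lt.y, Lt.z, Lt.yi, Lt.yi, Lt.q, Lt.yi, Lt.yi, Lt.z, Lt.y, Lt.z, Lt.yi, Lt.z] (H9.TCY.hole_at hinv hr 41 11 false (by decide +kernel)) h
  · exact lS_good (T := T) (x := Lt.yi) (by decide) hu [Lt.q, Lt.z, Lt.y, Lt.q, Lt.yi, Lt.q, Lt.z, Lt.y, Lt.z, Lt.q, Lt.yi, Lt.q, Lt.y, Lt.z, Lt.q] (H9.TCY.hole_at hinv hr 23 3 true (by decide +kernel)) h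
theorem dp_yi_66_s (hinv : ∀ x, g (inv x) = (g x)⁻¹) (hr : ∀ r ∈ rels, (r.map g).prod = 1) (hH : ∀ r ∈ subs, (r.map g).prod ∈ H)
    (j u : ℕ) (hu : u < M) (h : dp_yi_66 j u = true) : Good (fa g) T MG M (cP g H) Lt.yi u := by
  unfold dp_yi_66 at h
  rcases brec_true h with h | h
  · exact lF_good (T := T) (x := Lt.yi) (by decide) [Lt.z, Lt.y, Lt.q, Lt.yi, Lt.q, Lt.z, Lt.q, Lt.y, Lt.z, Lt.yi, Lt.q, Lt.y, Lt.q, Lt.z, Lt.q] (H9.TCY.hole_at hinv hr 24 7 false (by decide +kernel)) h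
  · exact lF_good (T := T) (x := Lt.yi) (by decide) [Lt.yi, Lt.q, Lt.z, Lt.yi, Lt.z, Lt.y, Lt.z, Lt.q, Lt.y, Lt.y, Lt.q, Lt.z, Lt.y, Lt.z, Lt.yi, Lt.z, Lt.q] (H9.TCY.hole_at hinv hr 39 1 false (by decide +kernel)) h
theorem dp_yi_67_s (hinv : ∀ x, g (inv x) = (g x)⁻¹) (hr : ∀ r ∈ rels, (r.map g).prod = 1) (hH : ∀ r ∈ subs, (r.map g).prod ∈ H)
    (j u : ℕ) (hu : u < M) (h : dp_yi_67 j u = true) : Good (fa g) T MG M (cP g H) Lt.yi u := by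
  unfold dp_yi_67 at h
  rcases brec_true h with h | h
  · exact dp_yi_65_s hinv hr hH j u hu h
  · exact dp_yi_66_s hinv hr hH j u hu h
theorem dp_yi_68_s (hinv : ∀ x, g (inv x) = (g x)⁻¹) (hr : ∀ r ∈ rels, (r.map g).prod = 1) (hH : ∀ r ∈ subs, (r.map g).prod ∈ H)
    (j u : ℕ) (hu : u < M) (h : dp_yi_68 j u = true) : Good (fa g) T MG M (cP g H) Lt.yi u := by
  unfold dp_yi_68 at h
  rcases brec_true h with h | h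
  · exact dp_yi_64_s hinv hr hH j u hu h
  · exact dp_yi_67_s hinv hr hH j u hu h
theorem dp_yi_69_s (hinv : ∀ x, g (inv x) = (g x)⁻¹) (hr : ∀ r ∈ rels, (r.map g).prod = 1) (hH : ∀ r ∈ subs, (r.map g).prod ∈ H)
    (j u : ℕ) (hu : u < M) (h : dp_yi_69 j u = true) : Good (fa g) T MG M (cP g H) Lt.yi u := by
  unfold dp_yi_69 at h
  rcases brec_true h with h | h
  · exact lF_good (T := T) (x := Lt.yi) (by decide) [Lt.z, Lt.y, Lt.q, Lt.z, Lt.yi, Lt.q, Lt.z, Lt.y, Lt.z, Lt.yi, Lt.z, Lt.q, Lt.y, Lt.z, Lt.q] (H9.TCY.hole_at hinv hr 27 12 false (by decide +kernel)) h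
  · exact lF_good (T := T) (x := Lt.yi) (by decide) [Lt.q, Lt.yi, Lt.q, Lt.y, Lt.y, Lt.q, Lt.y, Lt.y, Lt.y, Lt.q, Lt.yi, Lt.q, Lt.yi, Lt.q, Lt.yi] (H9.TCY.hole_at hinv hr 31 7 true (by decide +kernel)) h
theorem dp_yi_70_s (hinv : ∀ x, g (inv x) = (g x)⁻¹) (hr : ∀ r ∈ rels, (r.map g).prod = 1) (hH : ∀ r ∈ subs, (r.map g).prod ∈ H)
    (j u : ℕ) (hu : u < M) (h : dp_yi_70 j u = true) : Good (fa g) T MG M (cP g H) Lt.yi u := by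
  unfold dp_yi_70 at h
  rcases brec_true h with h | h
  · exact lF_good (T := T) (x := Lt.yi) (by decide) [Lt.q, Lt.y, Lt.y, Lt.z, Lt.q, Lt.z, Lt.yi, Lt.yi, Lt.q, Lt.y, Lt.y, Lt.z, Lt.q, Lt.z, Lt.yi] (H9.TCY.hole_at hinv hr 33 2 false (by decide +kernel)) h
  · exact lF_good (T := T) (x := Lt.yi) (by decide) [Lt.z, Lt.q, Lt.yi, Lt.yi, Lt.q, Lt.z, Lt.yi, Lt.z, Lt.y, Lt.z, Lt.q, Lt.y, Lt.y, Lt.q, Lt.z, Lt.y, Lt.z] (H9.TCY.hole_at hinv hr 39 16 false (by decide +kernel)) h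
theorem dp_yi_71_s (hinv : ∀ x, g (inv x) = (g x)⁻¹) (hr : ∀ r ∈ rels, (r.map g).prod = 1) (hH : ∀ r ∈ subs, (r.map g).prod ∈ H)
    (j u : ℕ) (hu : u < M) (h : dp_yi_71 j u = true) : Good (fa g) T MG M (cP g H) Lt.yi u := by
  unfold dp_yi_71 at h
  rcases brec_true h with h | h
  · exact lF_good (T := T) (x := Lt.yi) (by decide) [Lt.z, Lt.y, Lt.z, Lt.yi, Lt.z, Lt.yi, Lt.q, Lt.yi, Lt.z, Lt.yi, Lt.z, Lt.y, Lt.z, Lt.yi, Lt.yi, Lt.q, Lt.yi] (H9.TCY.hole_at hinv hr 41 5 false (by decide +kernel)) h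
  · exact dp_yi_70_s hinv hr hH j u hu h
theorem dp_yi_72_s (hinv : ∀ x, g (inv x) = (g x)⁻¹) (hr : ∀ r ∈ rels, (r.map g).prod = 1) (hH : ∀ r ∈ subs, (r.map g).prod ∈ H)
    (j u : ℕ) (hu : u < M) (h : dp_yi_72 j u = true) : Good (fa g) T MG M (cP g H) Lt.yi u := by
  unfold dp_yi_72 at h
  rcases brec_true h with h | h
  · exact dp_yi_69_s hinv hr hH j u hu h
  · exact dp_yi_71_s hinv hr hH j u hu h
theorem dp_yi_73_s (hinv : ∀ x, g (inv x) = (g x)⁻¹) (hr : ∀ r ∈ rels, (r.map g).prod = 1) (hH : ∀ r ∈ subs, (r.map g).prod ∈ H)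
    (j u : ℕ) (hu : u < M) (h : dp_yi_73 j u = true) : Good (fa g) T MG M (cP g H) Lt.yi u := by
  unfold dp_yi_73 at h
  rcases brec_true h with h | h
  · exact lS_good (T := T) (x := Lt.yi) (by decide) hu [Lt.q, Lt.z, Lt.yi, Lt.yi, Lt.z, Lt.q, Lt.yi, Lt.z, Lt.y, Lt.q, Lt.z, Lt.y, Lt.y, Lt.z, Lt.q, Lt.y, Lt.z] (H9.TCY.hole_at hinv hr 37 16 false (by decide +kernel)) h
  · exact lS_good (T := T) (x := Lt.yi) (by decide) hu [Lt.z, Lt.yi, Lt.q, Lt.yi, Lt.z, Lt.yi, Lt.z, Lt.y, Lt.z, Lt.yi, Lt.yi, Lt.q, Lt.yi, Lt.yi, Lt.z, Lt.y, Lt.z] (H9.TCY.hole_at hinv hr 41 9 false (by decide +kernel)) h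
theorem dp_yi_74_s (hinv : ∀ x, g (inv x) = (g x)⁻¹) (hr : ∀ r ∈ rels, (r.map g).prod = 1) (hH : ∀ r ∈ subs, (r.map g).prod ∈ H)
    (j u : ℕ) (hu : u < M) (h : dp_yi_74 j u = true) : Good (fa g) T MG M (cP g H) Lt.yi u := by
  unfold dp_yi_74 at h
  rcases brec_true h with h | h
  · exact lF_good (T := T) (x := Lt.yi) (by decide) [Lt.q, Lt.yi, Lt.yi, Lt.z, Lt.y, Lt.z, Lt.yi, Lt.z, Lt.yi, Lt.q, Lt.yi, Lt.z, Lt.yi, Lt.z, Lt.y, Lt.z, Lt.yi] (H9.TCY.hole_at hinv hr 41 2 false (by decide +kernel)) h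
  · exact lF_good (T := T) (x := Lt.yi) (by decide) [Lt.q, Lt.y, Lt.q, Lt.y, Lt.y, Lt.q, Lt.y, Lt.q, Lt.y, Lt.q, Lt.yi, Lt.yi, Lt.yi, Lt.q, Lt.yi] (H9.TCY.hole_at hinv hr 31 6 false (by decide +kernel)) h
theorem dp_yi_75_s (hinv : ∀ x, g (inv x) = (g x)⁻¹) (hr : ∀ r ∈ rels, (r.map g).prod = 1) (hH : ∀ r ∈ subs, (r.map g).prod ∈ H)
    (j u : ℕ) (hu : u < M) (h : dp_yi_75 j u = true) : Good (fa g) T MG M (cP g H) Lt.yi u := by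
  unfold dp_yi_75 at h
  rcases brec_true h with h | h
  · exact lS_good (T := T) (x := Lt.yi) (by decide) hu [Lt.z, Lt.yi, Lt.z, Lt.y, Lt.z, Lt.yi, Lt.yi, Lt.q, Lt.yi, Lt.yi, Lt.z, Lt.y, Lt.z, Lt.yi, Lt.z, Lt.yi, Lt.q] (H9.TCY.hole_at hinv hr 41 13 false (by decide +kernel)) h
  · exact dp_yi_74_s hinv hr hH j u hu h
theorem dp_yi_76_s (hinv : ∀ x, g (inv x) = (g x)⁻¹) (hr : ∀ r ∈ rels, (r.map g).prod = 1) (hH : ∀ r ∈ subs, (r.map g).prod ∈ H)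
    (j u : ℕ) (hu : u < M) (h : dp_yi_76 j u = true) : Good (fa g) T MG M (cP g H) Lt.yi u := by
  unfold dp_yi_76 at h
  rcases brec_true h with h | h
  · exact dp_yi_73_s hinv hr hH j u hu h
  · exact dp_yi_75_s hinv hr hH j u hu h
theorem dp_yi_77_s (hinv : ∀ x, g (inv x) = (g x)⁻¹) (hr : ∀ r ∈ rels, (r.map g).prod = 1) (hH : ∀ r ∈ subs, (r.map g).prod ∈ H)
    (j u : ℕ) (hu : u < M) (h : dp_yi_77 j u = true) : Good (fa g) T MG M (cP g H) Lt.yi u := by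
  unfold dp_yi_77 at h
  rcases brec_true h with h | h
  · exact dp_yi_72_s hinv hr hH j u hu h
  · exact dp_yi_76_s hinv hr hH j u hu h
theorem dp_yi_78_s (hinv : ∀ x, g (inv x) = (g x)⁻¹) (hr : ∀ r ∈ rels, (r.map g).prod = 1) (hH : ∀ r ∈ subs, (r.map g).prod ∈ H)
    (j u : ℕ) (hu : u < M) (h : dp_yi_78 j u = true) : Good (fa g) T MG M (cP g H) Lt.yi u := by
  unfold dp_yi_78 at h
  rcases brec_true h with h | h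
  · exact dp_yi_68_s hinv hr hH j u hu h
  · exact dp_yi_77_s hinv hr hH j u hu h
theorem dp_yi_79_s (hinv : ∀ x, g (inv x) = (g x)⁻¹) (hr : ∀ r ∈ rels, (r.map g).prod = 1) (hH : ∀ r ∈ subs, (r.map g).prod ∈ H)
    (j u : ℕ) (hu : u < M) (h : dp_yi_79 j u = true) : Good (fa g) T MG M (cP g H) Lt.yi u := by
  unfold dp_yi_79 at h
  rcases brec_true h with h | h
  · exact dp_yi_61_s hinv hr hH j u hu h
  · exact dp_yi_78_s hinv hr hH j u hu h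
theorem dp_yi_80_s (hinv : ∀ x, g (inv x) = (g x)⁻¹) (hr : ∀ r ∈ rels, (r.map g).prod = 1) (hH : ∀ r ∈ subs, (r.map g).prod ∈ H)
    (j u : ℕ) (hu : u < M) (h : dp_yi_80 j u = true) : Good (fa g) T MG M (cP g H) Lt.yi u := by
  unfold dp_yi_80 at h
  rcases brec_true h with h | h
  · exact dp_yi_49_s hinv hr hH j u hu h
  · exact dp_yi_79_s hinv hr hH j u hu h
theorem dp_yi_81_s (hinv : ∀ x, g (inv x) = (g x)⁻¹) (hr : ∀ r ∈ rels, (r.map g).prod = 1) (hH : ∀ r ∈ subs, (r.map g).prod ∈ H)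
    (j u : ℕ) (hu : u < M) (h : dp_yi_81 j u = true) : Good (fa g) T MG M (cP g H) Lt.yi u := by
  unfold dp_yi_81 at h
  rcases brec_true h with h | h
  · exact lF_good (T := T) (x := Lt.yi) (by decide) [Lt.q, Lt.z, Lt.y, Lt.z, Lt.yi, Lt.z, Lt.q, Lt.y, Lt.z, Lt.q, Lt.yi, Lt.z, Lt.y, Lt.q, Lt.z] (H9.TCY.hole_at hinv hr 27 1 false (by decide +kernel)) h
  · exact lS_good (T := T) (x := Lt.yi) (by decide) hu [Lt.z, Lt.y, Lt.q, Lt.z, Lt.y, Lt.y, Lt.z, Lt.q, Lt.y, Lt.z, Lt.yi, Lt.q, Lt.z, Lt.yi, Lt.yi, Lt.z, Lt.q] (H9.TCY.hole_at hinv hr 37 5 false (by decide +kernel)) h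
theorem dp_yi_82_s (hinv : ∀ x, g (inv x) = (g x)⁻¹) (hr : ∀ r ∈ rels, (r.map g).prod = 1) (hH : ∀ r ∈ subs, (r.map g).prod ∈ H)
    (j u : ℕ) (hu : u < M) (h : dp_yi_82 j u = true) : Good (fa g) T MG M (cP g H) Lt.yi u := by
  unfold dp_yi_82 at h
  rcases brec_true h with h | h
  · exact lF_good (T := T) (x := Lt.yi) (by decide) [Lt.z, Lt.y, Lt.z, Lt.y, Lt.q, Lt.y, Lt.z, Lt.y, Lt.z, Lt.yi, Lt.z, Lt.y, Lt.y, Lt.q, Lt.y, Lt.y, Lt.z] (H9.TCY.hole_at hinv hr 41 2 true (by decide +kernel)) h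
  · exact lF_good (T := T) (x := Lt.yi) (by decide) [Lt.q, Lt.yi, Lt.q, Lt.yi, Lt.z, Lt.q, Lt.z, Lt.yi, Lt.q, Lt.yi, Lt.q, Lt.yi, Lt.z, Lt.q, Lt.z] (H9.TCY.hole_at hinv hr 35 1 false (by decide +kernel)) h
theorem dp_yi_83_s (hinv : ∀ x, g (inv x) = (g x)⁻¹) (hr : ∀ r ∈ rels, (r.map g).prod = 1) (hH : ∀ r ∈ subs, (r.map g).prod ∈ H)
    (j u : ℕ) (hu : u < M) (h : dp_yi_83 j u = true) : Good (fa g) T MG M (cP g H) Lt.yi u := by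
  unfold dp_yi_83 at h
  rcases brec_true h with h | h
  · exact lS_good (T := T) (x := Lt.yi) (by decide) hu [Lt.yi, Lt.q, Lt.z, Lt.yi, Lt.z, Lt.y, Lt.z, Lt.q, Lt.y, Lt.y, Lt.q, Lt.z, Lt.y, Lt.z, Lt.yi, Lt.z, Lt.q] (H9.TCY.hole_at hinv hr 39 1 false (by decide +kernel)) h
  · exact dp_yi_82_s hinv hr hH j u hu h
theorem dp_yi_84_s (hinv : ∀ x, g (inv x) = (g x)⁻¹) (hr : ∀ r ∈ rels, (r.map g).prod = 1) (hH : ∀ r ∈ subs, (r.map g).prod ∈ H)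
    (j u : ℕ) (hu : u < M) (h : dp_yi_84 j u = true) : Good (fa g) T MG M (cP g H) Lt.yi u := by
  unfold dp_yi_84 at h
  rcases brec_true h with h | h
  · exact dp_yi_81_s hinv hr hH j u hu h
  · exact dp_yi_83_s hinv hr hH j u hu h
theorem dp_yi_85_s (hinv : ∀ x, g (inv x) = (g x)⁻¹) (hr : ∀ r ∈ rels, (r.map g).prod = 1) (hH : ∀ r ∈ subs, (r.map g).prod ∈ H)
    (j u : ℕ) (hu : u < M) (h : dp_yi_85 j u = true) : Good (fa g) T MG M (cP g H) Lt.yi u := by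
  unfold dp_yi_85 at h
  rcases brec_true h with h | h
  · exact lF_good (T := T) (x := Lt.yi) (by decide) [Lt.z, Lt.q, Lt.y, Lt.q, Lt.z, Lt.yi, Lt.z, Lt.y, Lt.q, Lt.z, Lt.yi, Lt.z, Lt.q, Lt.y, Lt.z] (H9.TCY.hole_at hinv hr 28 13 true (by decide +kernel)) h
  · exact lF_good (T := T) (x := Lt.yi) (by decide) [Lt.yi, Lt.q, Lt.y, Lt.q, Lt.y, Lt.y, Lt.q, Lt.y, Lt.q, Lt.y, Lt.q, Lt.yi, Lt.yi, Lt.yi, Lt.q] (H9.TCY.hole_at hinv hr 31 5 false (by decide +kernel)) h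
theorem dp_yi_86_s (hinv : ∀ x, g (inv x) = (g x)⁻¹) (hr : ∀ r ∈ rels, (r.map g).prod = 1) (hH : ∀ r ∈ subs, (r.map g).prod ∈ H)
    (j u : ℕ) (hu : u < M) (h : dp_yi_86 j u = true) : Good (fa g) T MG M (cP g H) Lt.yi u := by
  unfold dp_yi_86 at h
  rcases brec_true h with h | h
  · exact lF_good (T := T) (x := Lt.yi) (by decide) [Lt.z, Lt.q, Lt.yi, Lt.z, Lt.y, Lt.z, Lt.q, Lt.y, Lt.y, Lt.z, Lt.q, Lt.y, Lt.z, Lt.yi, Lt.z, Lt.q, Lt.yi] (H9.TCY.hole_at hinv hr 40 9 true (by decide +kernel)) h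
  · exact lF_good (T := T) (x := Lt.yi) (by decide) [Lt.yi, Lt.z, Lt.y, Lt.z, Lt.yi, Lt.z, Lt.yi, Lt.q, Lt.yi, Lt.z, Lt.yi, Lt.z, Lt.y, Lt.z, Lt.yi, Lt.yi, Lt.q] (H9.TCY.hole_at hinv hr 41 4 false (by decide +kernel)) h
theorem dp_yi_87_s (hinv : ∀ x, g (inv x) = (g x)⁻¹) (hr : ∀ r ∈ rels, (r.map g).prod = 1) (hH : ∀ r ∈ subs, (r.map g).prod ∈ H)
    (j u : ℕ) (hu : u < M) (h : dp_yi_87 j u = true) : Good (fa g) T MG M (cP g H) Lt.yi u := by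
  unfold dp_yi_87 at h
  rcases brec_true h with h | h
  · exact lF_good (T := T) (x := Lt.yi) (by decide) [Lt.z, Lt.y, Lt.z, Lt.q, Lt.y, Lt.y, Lt.q, Lt.z, Lt.y, Lt.z, Lt.yi, Lt.z, Lt.q, Lt.yi, Lt.yi, Lt.q, Lt.z] (H9.TCY.hole_at hinv hr 39 5 false (by decide +kernel)) h
  · exact dp_yi_86_s hinv hr hH j u hu h
theorem dp_yi_88_s (hinv : ∀ x, g (inv x) = (g x)⁻¹) (hr : ∀ r ∈ rels, (r.map g).prod = 1) (hH : ∀ r ∈ subs, (r.map g).prod ∈ H)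
    (j u : ℕ) (hu : u < M) (h : dp_yi_88 j u = true) : Good (fa g) T MG M (cP g H) Lt.yi u := by
  unfold dp_yi_88 at h
  rcases brec_true h with h | h
  · exact dp_yi_85_s hinv hr hH j u hu h
  · exact dp_yi_87_s hinv hr hH j u hu h
theorem dp_yi_89_s (hinv : ∀ x, g (inv x) = (g x)⁻¹) (hr : ∀ r ∈ rels, (r.map g).prod = 1) (hH : ∀ r ∈ subs, (r.map g).prod ∈ H)
    (j u : ℕ) (hu : u < M) (h : dp_yi_89 j u = true) : Good (fa g) T MG M (cP g H) Lt.yi u := by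
  unfold dp_yi_89 at h
  rcases brec_true h with h | h
  · exact dp_yi_84_s hinv hr hH j u hu h
  · exact dp_yi_88_s hinv hr hH j u hu h
theorem dp_yi_90_s (hinv : ∀ x, g (inv x) = (g x)⁻¹) (hr : ∀ r ∈ rels, (r.map g).prod = 1) (hH : ∀ r ∈ subs, (r.map g).prod ∈ H)
    (j u : ℕ) (hu : u < M) (h : dp_yi_90 j u = true) : Good (fa g) T MG M (cP g H) Lt.yi u := by
  unfold dp_yi_90 at h
  rcases brec_true h with h | h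
  · exact lS_good (T := T) (x := Lt.yi) (by decide) hu [Lt.z, Lt.q, Lt.z, Lt.q, Lt.yi, Lt.yi, Lt.yi, Lt.z, Lt.q, Lt.z, Lt.q, Lt.yi, Lt.yi] (H9.TCY.hole_at hinv hr 21 3 false (by decide +kernel)) h
  · exact lF_good (T := T) (x := Lt.yi) (by decide) [Lt.q, Lt.yi, Lt.yi, Lt.yi, Lt.q, Lt.y, Lt.q, Lt.y, Lt.q, Lt.y, Lt.y, Lt.q, Lt.y, Lt.q, Lt.yi] (H9.TCY.hole_at hinv hr 32 15 false (by decide +kernel)) h
theorem dp_yi_91_s (hinv : ∀ x, g (inv x) = (g x)⁻¹) (hr : ∀ r ∈ rels, (r.map g).prod = 1) (hH : ∀ r ∈ subs, (r.map g).prod ∈ H)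
    (j u : ℕ) (hu : u < M) (h : dp_yi_91 j u = true) : Good (fa g) T MG M (cP g H) Lt.yi u := by
  unfold dp_yi_91 at h
  rcases brec_true h with h | h
  · exact lF_good (T := T) (x := Lt.yi) (by decide) [Lt.q, Lt.z, Lt.yi, Lt.z, Lt.y, Lt.z, Lt.q, Lt.y, Lt.y, Lt.q, Lt.z, Lt.y, Lt.z, Lt.yi, Lt.z, Lt.q, Lt.yi] (H9.TCY.hole_at hinv hr 39 2 false (by decide +kernel)) h
  · exact dp_yi_90_s hinv hr hH j u hu h
theorem dp_yi_92_s (hinv : ∀ x, g (inv x) = (g x)⁻¹) (hr : ∀ r ∈ rels, (r.map g).prod = 1) (hH : ∀ r ∈ subs, (r.map g).prod ∈ H)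
    (j u : ℕ) (hu : u < M) (h : dp_yi_92 j u = true) : Good (fa g) T MG M (cP g H) Lt.yi u := by
  unfold dp_yi_92 at h
  rcases brec_true h with h | h
  · exact lF_good (T := T) (x := Lt.yi) (by decide) [Lt.z, Lt.q, Lt.z, Lt.yi, Lt.q, Lt.yi, Lt.q, Lt.yi, Lt.z, Lt.q, Lt.z, Lt.yi, Lt.q, Lt.yi, Lt.q] (H9.TCY.hole_at hinv hr 35 5 false (by decide +kernel)) h
  · exact lS_good (T := T) (x := Lt.yi) (by decide) hu [Lt.yi, Lt.yi, Lt.q, Lt.yi, Lt.yi, Lt.yi, Lt.q, Lt.y, Lt.y, Lt.y, Lt.q, Lt.yi, Lt.yi, Lt.yi, Lt.q] (H9.TCY.hole_at hinv hr 30 5 false (by decide +kernel)) h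
theorem dp_yi_93_s (hinv : ∀ x, g (inv x) = (g x)⁻¹) (hr : ∀ r ∈ rels, (r.map g).prod = 1) (hH : ∀ r ∈ subs, (r.map g).prod ∈ H)
    (j u : ℕ) (hu : u < M) (h : dp_yi_93 j u = true) : Good (fa g) T MG M (cP g H) Lt.yi u := by
  unfold dp_yi_93 at h
  rcases brec_true h with h | h
  · exact lS_good (T := T) (x := Lt.yi) (by decide) hu [Lt.q, Lt.yi, Lt.yi, Lt.yi, Lt.q, Lt.yi, Lt.yi, Lt.yi, Lt.q, Lt.y, Lt.y, Lt.y, Lt.q, Lt.yi, Lt.yi] (H9.TCY.hole_at hinv hr 30 3 false (by decide +kernel)) h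
  · exact dp_yi_92_s hinv hr hH j u hu h
theorem dp_yi_94_s (hinv : ∀ x, g (inv x) = (g x)⁻¹) (hr : ∀ r ∈ rels, (r.map g).prod = 1) (hH : ∀ r ∈ subs, (r.map g).prod ∈ H)
    (j u : ℕ) (hu : u < M) (h : dp_yi_94 j u = true) : Good (fa g) T MG M (cP g H) Lt.yi u := by
  unfold dp_yi_94 at h
  rcases brec_true h with h | h
  · exact dp_yi_91_s hinv hr hH j u hu h
  · exact dp_yi_93_s hinv hr hH j u hu h
theorem dp_yi_95_s (hinv : ∀ x, g (inv x) = (g x)⁻¹) (hr : ∀ r ∈ rels, (r.map g).prod = 1) (hH : ∀ r ∈ subs, (r.map g).prod ∈ H)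
    (j u : ℕ) (hu : u < M) (h : dp_yi_95 j u = true) : Good (fa g) T MG M (cP g H) Lt.yi u := by
  unfold dp_yi_95 at h
  rcases brec_true h with h | h
  · exact lF_good (T := T) (x := Lt.yi) (by decide) [Lt.z, Lt.q, Lt.yi, Lt.yi, Lt.yi, Lt.q, Lt.z, Lt.yi, Lt.yi, Lt.z, Lt.q, Lt.yi, Lt.yi, Lt.yi, Lt.q, Lt.z, Lt.yi, Lt.yi, Lt.z, Lt.q, Lt.yi, Lt.yi, Lt.yi, Lt.q, Lt.z, Lt.yi] (H9.TCY.hole_at hinv hr 47 7 true (by decide +kernel)) h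
  · exact lF_good (T := T) (x := Lt.yi) (by decide) [Lt.z, Lt.y, Lt.q, Lt.z, Lt.q, Lt.yi, Lt.q, Lt.y, Lt.z, Lt.yi, Lt.q, Lt.z, Lt.q, Lt.y, Lt.q] (H9.TCY.hole_at hinv hr 24 8 true (by decide +kernel)) h
theorem dp_yi_96_s (hinv : ∀ x, g (inv x) = (g x)⁻¹) (hr : ∀ r ∈ rels, (r.map g).prod = 1) (hH : ∀ r ∈ subs, (r.map g).prod ∈ H)
    (j u : ℕ) (hu : u < M) (h : dp_yi_96 j u = true) : Good (fa g) T MG M (cP g H) Lt.yi u := by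
  unfold dp_yi_96 at h
  rcases brec_true h with h | h
  · exact lS_good (T := T) (x := Lt.yi) (by decide) hu [Lt.z, Lt.y, Lt.z, Lt.yi, Lt.z, Lt.yi, Lt.q, Lt.yi, Lt.z, Lt.yi, Lt.z, Lt.y, Lt.z, Lt.yi, Lt.yi, Lt.q, Lt.yi] (H9.TCY.hole_at hinv hr 41 5 false (by decide +kernel)) h
  · exact dp_yi_95_s hinv hr hH j u hu h
theorem dp_yi_97_s (hinv : ∀ x, g (inv x) = (g x)⁻¹) (hr : ∀ r ∈ rels, (r.map g).prod = 1) (hH : ∀ r ∈ subs, (r.map g).prod ∈ H)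
    (j u : ℕ) (hu : u < M) (h : dp_yi_97 j u = true) : Good (fa g) T MG M (cP g H) Lt.yi u := by
  unfold dp_yi_97 at h
  rcases brec_true h with h | h
  · exact lF_good (T := T) (x := Lt.yi) (by decide) [Lt.q, Lt.yi, Lt.yi, Lt.q, Lt.y, Lt.q, Lt.y, Lt.y, Lt.q, Lt.y, Lt.q, Lt.y, Lt.q, Lt.yi, Lt.yi] (H9.TCY.hole_at hinv hr 31 3 false (by decide +kernel)) h
  · exact lS_good (T := T) (x := Lt.yi) (by decide) hu [Lt.q, Lt.yi, Lt.yi, Lt.z, Lt.y, Lt.z, Lt.yi, Lt.z, Lt.yi, Lt.q, Lt.yi, Lt.z, Lt.yi, Lt.z, Lt.y, Lt.z, Lt.yi] (H9.TCY.hole_at hinv hr 41 2 false (by decide +kernel)) h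
theorem dp_yi_98_s (hinv : ∀ x, g (inv x) = (g x)⁻¹) (hr : ∀ r ∈ rels, (r.map g).prod = 1) (hH : ∀ r ∈ subs, (r.map g).prod ∈ H)
    (j u : ℕ) (hu : u < M) (h : dp_yi_98 j u = true) : Good (fa g) T MG M (cP g H) Lt.yi u := by
  unfold dp_yi_98 at h
  rcases brec_true h with h | h
  · exact lF_good (T := T) (x := Lt.yi) (by decide) [Lt.z, Lt.y, Lt.q, Lt.z, Lt.yi, Lt.z, Lt.q, Lt.y, Lt.z, Lt.yi, Lt.z, Lt.q, Lt.y, Lt.q, Lt.z] (H9.TCY.hole_at hinv hr 28 3 true (by decide +kernel)) h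
  · exact dp_yi_97_s hinv hr hH j u hu h
theorem dp_yi_99_s (hinv : ∀ x, g (inv x) = (g x)⁻¹) (hr : ∀ r ∈ rels, (r.map g).prod = 1) (hH : ∀ r ∈ subs, (r.map g).prod ∈ H)
    (j u : ℕ) (hu : u < M) (h : dp_yi_99 j u = true) : Good (fa g) T MG M (cP g H) Lt.yi u := by
  unfold dp_yi_99 at h
  rcases brec_true h with h | h
  · exact dp_yi_96_s hinv hr hH j u hu h
  · exact dp_yi_98_s hinv hr hH j u hu h
theorem dp_yi_100_s (hinv : ∀ x, g (inv x) = (g x)⁻¹) (hr : ∀ r ∈ rels, (r.map g).prod = 1) (hH : ∀ r ∈ subs, (r.map g).prod ∈ H)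
    (j u : ℕ) (hu : u < M) (h : dp_yi_100 j u = true) : Good (fa g) T MG M (cP g H) Lt.yi u := by
  unfold dp_yi_100 at h
  rcases brec_true h with h | h
  · exact dp_yi_94_s hinv hr hH j u hu h
  · exact dp_yi_99_s hinv hr hH j u hu h
theorem dp_yi_101_s (hinv : ∀ x, g (inv x) = (g x)⁻¹) (hr : ∀ r ∈ rels, (r.map g).prod = 1) (hH : ∀ r ∈ subs, (r.map g).prod ∈ H)
    (j u : ℕ) (hu : u < M) (h : dp_yi_101 j u = true) : Good (fa g) T MG M (cP g H) Lt.yi u := by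
  unfold dp_yi_101 at h
  rcases brec_true h with h | h
  · exact dp_yi_89_s hinv hr hH j u hu h
  · exact dp_yi_100_s hinv hr hH j u hu h
theorem dp_yi_102_s (hinv : ∀ x, g (inv x) = (g x)⁻¹) (hr : ∀ r ∈ rels, (r.map g).prod = 1) (hH : ∀ r ∈ subs, (r.map g).prod ∈ H)
    (j u : ℕ) (hu : u < M) (h : dp_yi_102 j u = true) : Good (fa g) T MG M (cP g H) Lt.yi u := by
  unfold dp_yi_102 at h
  rcases brec_true h with h | h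
  · exact lS_good (T := T) (x := Lt.yi) (by decide) hu [Lt.yi, Lt.z, Lt.q, Lt.z, Lt.q, Lt.yi, Lt.yi, Lt.yi, Lt.z, Lt.q, Lt.z, Lt.q, Lt.yi] (H9.TCY.hole_at hinv hr 21 2 false (by decide +kernel)) h
  · exact lS_good (T := T) (x := Lt.yi) (by decide) hu [Lt.z, Lt.y, Lt.z, Lt.yi, Lt.yi, Lt.q, Lt.yi, Lt.yi, Lt.z, Lt.y, Lt.z, Lt.yi, Lt.z, Lt.yi, Lt.q, Lt.yi, Lt.z] (H9.TCY.hole_at hinv hr 41 15 false (by decide +kernel)) h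
theorem dp_yi_103_s (hinv : ∀ x, g (inv x) = (g x)⁻¹) (hr : ∀ r ∈ rels, (r.map g).prod = 1) (hH : ∀ r ∈ subs, (r.map g).prod ∈ H)
    (j u : ℕ) (hu : u < M) (h : dp_yi_103 j u = true) : Good (fa g) T MG M (cP g H) Lt.yi u := by
  unfold dp_yi_103 at h
  rcases brec_true h with h | h
  · exact lF_good (T := T) (x := Lt.yi) (by decide) [Lt.yi, Lt.z, Lt.q, Lt.z, Lt.y, Lt.y, Lt.q, Lt.yi, Lt.yi, Lt.z, Lt.q, Lt.z, Lt.y, Lt.y, Lt.q] (H9.TCY.hole_at hinv hr 34 1 false (by decide +kernel)) h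
  · exact dp_yi_102_s hinv hr hH j u hu h
theorem dp_yi_104_s (hinv : ∀ x, g (inv x) = (g x)⁻¹) (hr : ∀ r ∈ rels, (r.map g).prod = 1) (hH : ∀ r ∈ subs, (r.map g).prod ∈ H)
    (j u : ℕ) (hu : u < M) (h : dp_yi_104 j u = true) : Good (fa g) T MG M (cP g H) Lt.yi u := by
  unfold dp_yi_104 at h
  rcases brec_true h with h | h
  · exact lS_good (T := T) (x := Lt.yi) (by decide) hu [Lt.yi, Lt.q, Lt.y, Lt.y, Lt.z, Lt.q, Lt.z, Lt.yi, Lt.yi, Lt.q, Lt.y, Lt.y, Lt.z, Lt.q, Lt.z] (H9.TCY.hole_at hinv hr 33 1 false (by decide +kernel)) h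
  · exact lF_good (T := T) (x := Lt.yi) (by decide) [Lt.yi, Lt.q, Lt.z, Lt.yi, Lt.z, Lt.y, Lt.q, Lt.z, Lt.y, Lt.y, Lt.q, Lt.z, Lt.y, Lt.z, Lt.yi, Lt.q, Lt.z] (H9.TCY.hole_at hinv hr 40 1 false (by decide +kernel)) h
theorem dp_yi_105_s (hinv : ∀ x, g (inv x) = (g x)⁻¹) (hr : ∀ r ∈ rels, (r.map g).prod = 1) (hH : ∀ r ∈ subs, (r.map g).prod ∈ H)
    (j u : ℕ) (hu : u < M) (h : dp_yi_105 j u = true) : Good (fa g) T MG M (cP g H) Lt.yi u := by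
  unfold dp_yi_105 at h
  rcases brec_true h with h | h
  · exact lS_good (T := T) (x := Lt.yi) (by decide) hu [Lt.z, Lt.q, Lt.y, Lt.q, Lt.yi, Lt.z, Lt.q, Lt.y, Lt.q, Lt.z, Lt.yi, Lt.q, Lt.y, Lt.q, Lt.z] (H9.TCY.hole_at hinv hr 23 6 false (by decide +kernel)) h
  · exact dp_yi_104_s hinv hr hH j u hu h
theorem dp_yi_106_s (hinv : ∀ x, g (inv x) = (g x)⁻¹) (hr : ∀ r ∈ rels, (r.map g).prod = 1) (hH : ∀ r ∈ subs, (r.map g).prod ∈ H)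
    (j u : ℕ) (hu : u < M) (h : dp_yi_106 j u = true) : Good (fa g) T MG M (cP g H) Lt.yi u := by
  unfold dp_yi_106 at h
  rcases brec_true h with h | h
  · exact dp_yi_103_s hinv hr hH j u hu h
  · exact dp_yi_105_s hinv hr hH j u hu h
theorem dp_yi_107_s (hinv : ∀ x, g (inv x) = (g x)⁻¹) (hr : ∀ r ∈ rels, (r.map g).prod = 1) (hH : ∀ r ∈ subs, (r.map g).prod ∈ H)
    (j u : ℕ) (hu : u < M) (h : dp_yi_107 j u = true) : Good (fa g) T MG M (cP g H) Lt.yi u := by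
  unfold dp_yi_107 at h
  rcases brec_true h with h | h
  · exact lF_good (T := T) (x := Lt.yi) (by decide) [Lt.z, Lt.y, Lt.y, Lt.q, Lt.y, Lt.y, Lt.z, Lt.yi, Lt.z, Lt.y, Lt.z, Lt.y, Lt.q, Lt.y, Lt.z, Lt.y, Lt.z] (H9.TCY.hole_at hinv hr 41 12 true (by decide +kernel)) h
  · exact lS_good (T := T) (x := Lt.yi) (by decide) hu [Lt.q, Lt.z, Lt.yi, Lt.z, Lt.y, Lt.z, Lt.q, Lt.y, Lt.y, Lt.q, Lt.z, Lt.y, Lt.z, Lt.yi, Lt.z, Lt.q, Lt.yi] (H9.TCY.hole_at hinv hr 39 2 false (by decide +kernel)) h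
theorem dp_yi_108_s (hinv : ∀ x, g (inv x) = (g x)⁻¹) (hr : ∀ r ∈ rels, (r.map g).prod = 1) (hH : ∀ r ∈ subs, (r.map g).prod ∈ H)
    (j u : ℕ) (hu : u < M) (h : dp_yi_108 j u = true) : Good (fa g) T MG M (cP g H) Lt.yi u := by
  unfold dp_yi_108 at h
  rcases brec_true h with h | h
  · exact lF_good (T := T) (x := Lt.yi) (by decide) [Lt.yi, Lt.q, Lt.yi, Lt.yi, Lt.yi, Lt.q, Lt.y, Lt.q, Lt.y, Lt.q, Lt.y, Lt.y, Lt.q, Lt.y, Lt.q] (H9.TCY.hole_at hinv hr 32 14 false (by decide +kernel)) h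
  · exact dp_yi_107_s hinv hr hH j u hu h
theorem dp_yi_109_s (hinv : ∀ x, g (inv x) = (g x)⁻¹) (hr : ∀ r ∈ rels, (r.map g).prod = 1) (hH : ∀ r ∈ subs, (r.map g).prod ∈ H)
    (j u : ℕ) (hu : u < M) (h : dp_yi_109 j u = true) : Good (fa g) T MG M (cP g H) Lt.yi u := by
  unfold dp_yi_109 at h
  rcases brec_true h with h | h
  · exact lS_good (T := T) (x := Lt.yi) (by decide) hu [Lt.z, Lt.q, Lt.y, Lt.z, Lt.q, Lt.yi, Lt.z, Lt.y, Lt.q, Lt.z, Lt.yi, Lt.q, Lt.z, Lt.y, Lt.z] (H9.TCY.hole_at hinv hr 27 6 false (by decide +kernel)) h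
  · exact lF_good (T := T) (x := Lt.yi) (by decide) [Lt.q, Lt.z, Lt.y, Lt.q, Lt.z, Lt.yi, Lt.z, Lt.y, Lt.z, Lt.q, Lt.yi, Lt.z, Lt.q, Lt.y, Lt.z] (H9.TCY.hole_at hinv hr 36 1 false (by decide +kernel)) h
theorem dp_yi_110_s (hinv : ∀ x, g (inv x) = (g x)⁻¹) (hr : ∀ r ∈ rels, (r.map g).prod = 1) (hH : ∀ r ∈ subs, (r.map g).prod ∈ H)
    (j u : ℕ) (hu : u < M) (h : dp_yi_110 j u = true) : Good (fa g) T MG M (cP g H) Lt.yi u := by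
  unfold dp_yi_110 at h
  rcases brec_true h with h | h
  · exact lS_good (T := T) (x := Lt.yi) (by decide) hu [Lt.yi, Lt.yi, Lt.z, Lt.q, Lt.z, Lt.q, Lt.yi, Lt.yi, Lt.yi, Lt.z, Lt.q, Lt.z, Lt.q] (H9.TCY.hole_at hinv hr 21 1 false (by decide +kernel)) h
  · exact lS_good (T := T) (x := Lt.yi) (by decide) hu [Lt.z, Lt.y, Lt.z, Lt.y, Lt.q, Lt.y, Lt.z, Lt.y, Lt.z, Lt.yi, Lt.z, Lt.y, Lt.y, Lt.q, Lt.y, Lt.y, Lt.z] (H9.TCY.hole_at hinv hr 41 2 true (by decide +kernel)) h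
theorem dp_yi_111_s (hinv : ∀ x, g (inv x) = (g x)⁻¹) (hr : ∀ r ∈ rels, (r.map g).prod = 1) (hH : ∀ r ∈ subs, (r.map g).prod ∈ H)
    (j u : ℕ) (hu : u < M) (h : dp_yi_111 j u = true) : Good (fa g) T MG M (cP g H) Lt.yi u := by
  unfold dp_yi_111 at h
  rcases brec_true h with h | h
  · exact dp_yi_109_s hinv hr hH j u hu h
  · exact dp_yi_110_s hinv hr hH j u hu h
theorem dp_yi_112_s (hinv : ∀ x, g (inv x) = (g x)⁻¹) (hr : ∀ r ∈ rels, (r.map g).prod = 1) (hH : ∀ r ∈ subs, (r.map g).prod ∈ H)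
    (j u : ℕ) (hu : u < M) (h : dp_yi_112 j u = true) : Good (fa g) T MG M (cP g H) Lt.yi u := by
  unfold dp_yi_112 at h
  rcases brec_true h with h | h
  · exact dp_yi_108_s hinv hr hH j u hu h
  · exact dp_yi_111_s hinv hr hH j u hu h
theorem dp_yi_113_s (hinv : ∀ x, g (inv x) = (g x)⁻¹) (hr : ∀ r ∈ rels, (r.map g).prod = 1) (hH : ∀ r ∈ subs, (r.map g).prod ∈ H)
    (j u : ℕ) (hu : u < M) (h : dp_yi_113 j u = true) : Good (fa g) T MG M (cP g H) Lt.yi u := by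
  unfold dp_yi_113 at h
  rcases brec_true h with h | h
  · exact dp_yi_106_s hinv hr hH j u hu h
  · exact dp_yi_112_s hinv hr hH j u hu h
theorem dp_yi_114_s (hinv : ∀ x, g (inv x) = (g x)⁻¹) (hr : ∀ r ∈ rels, (r.map g).prod = 1) (hH : ∀ r ∈ subs, (r.map g).prod ∈ H)
    (j u : ℕ) (hu : u < M) (h : dp_yi_114 j u = true) : Good (fa g) T MG M (cP g H) Lt.yi u := by
  unfold dp_yi_114 at h
  rcases brec_true h with h | h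
  · exact lF_good (T := T) (x := Lt.yi) (by decide) [Lt.q, Lt.yi, Lt.yi, Lt.yi, Lt.q, Lt.y, Lt.y, Lt.y, Lt.q, Lt.yi, Lt.yi, Lt.yi, Lt.q, Lt.yi, Lt.yi] (H9.TCY.hole_at hinv hr 30 7 false (by decide +kernel)) h
  · exact lS_good (T := T) (x := Lt.yi) (by decide) hu [Lt.z, Lt.q, Lt.z, Lt.y, Lt.y, Lt.q, Lt.yi, Lt.yi, Lt.z, Lt.q, Lt.z, Lt.y, Lt.y, Lt.q, Lt.yi] (H9.TCY.hole_at hinv hr 34 2 false (by decide +kernel)) h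
theorem dp_yi_115_s (hinv : ∀ x, g (inv x) = (g x)⁻¹) (hr : ∀ r ∈ rels, (r.map g).prod = 1) (hH : ∀ r ∈ subs, (r.map g).prod ∈ H)
    (j u : ℕ) (hu : u < M) (h : dp_yi_115 j u = true) : Good (fa g) T MG M (cP g H) Lt.yi u := by
  unfold dp_yi_115 at h
  rcases brec_true h with h | h
  · exact lS_good (T := T) (x := Lt.yi) (by decide) hu [Lt.q, Lt.z, Lt.q, Lt.y, Lt.q, Lt.yi, Lt.z, Lt.y, Lt.q, Lt.z, Lt.q, Lt.yi, Lt.q, Lt.y, Lt.z] (H9.TCY.hole_at hinv hr 24 2 true (by decide +kernel)) h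
  · exact dp_yi_114_s hinv hr hH j u hu h
theorem dp_yi_116_s (hinv : ∀ x, g (inv x) = (g x)⁻¹) (hr : ∀ r ∈ rels, (r.map g).prod = 1) (hH : ∀ r ∈ subs, (r.map g).prod ∈ H)
    (j u : ℕ) (hu : u < M) (h : dp_yi_116 j u = true) : Good (fa g) T MG M (cP g H) Lt.yi u := by
  unfold dp_yi_116 at h
  rcases brec_true h with h | h
  · exact lS_good (T := T) (x := Lt.yi) (by decide) hu [Lt.yi, Lt.z, Lt.y, Lt.z, Lt.yi, Lt.z, Lt.yi, Lt.q, Lt.yi, Lt.z, Lt.yi, Lt.z, Lt.y, Lt.z, Lt.yi, Lt.yi, Lt.q] (H9.TCY.hole_at hinv hr 41 4 false (by decide +kernel)) h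
  · exact lS_good (T := T) (x := Lt.yi) (by decide) hu [Lt.q, Lt.yi, Lt.q, Lt.y, Lt.y, Lt.q, Lt.y, Lt.y, Lt.y, Lt.q, Lt.yi, Lt.q, Lt.yi, Lt.q, Lt.yi] (H9.TCY.hole_at hinv hr 31 7 true (by decide +kernel)) h
theorem dp_yi_117_s (hinv : ∀ x, g (inv x) = (g x)⁻¹) (hr : ∀ r ∈ rels, (r.map g).prod = 1) (hH : ∀ r ∈ subs, (r.map g).prod ∈ H)
    (j u : ℕ) (hu : u < M) (h : dp_yi_117 j u = true) : Good (fa g) T MG M (cP g H) Lt.yi u := by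
  unfold dp_yi_117 at h
  rcases brec_true h with h | h
  · exact lS_good (T := T) (x := Lt.yi) (by decide) hu [Lt.yi, Lt.q, Lt.yi, Lt.yi, Lt.yi, Lt.q, Lt.yi, Lt.yi, Lt.yi, Lt.q, Lt.y, Lt.y, Lt.y, Lt.q, Lt.yi] (H9.TCY.hole_at hinv hr 30 2 false (by decide +kernel)) h
  · exact lF_good (T := T) (x := Lt.yi) (by decide) [Lt.yi, Lt.yi, Lt.q, Lt.yi, Lt.yi, Lt.yi, Lt.q, Lt.yi, Lt.yi, Lt.yi, Lt.q, Lt.y, Lt.y, Lt.y, Lt.q] (H9.TCY.hole_at hinv hr 30 1 false (by decide +kernel)) h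
theorem dp_yi_118_s (hinv : ∀ x, g (inv x) = (g x)⁻¹) (hr : ∀ r ∈ rels, (r.map g).prod = 1) (hH : ∀ r ∈ subs, (r.map g).prod ∈ H)
    (j u : ℕ) (hu : u < M) (h : dp_yi_118 j u = true) : Good (fa g) T MG M (cP g H) Lt.yi u := by
  unfold dp_yi_118 at h
  rcases brec_true h with h | h
  · exact dp_yi_116_s hinv hr hH j u hu h
  · exact dp_yi_117_s hinv hr hH j u hu h
theorem dp_yi_119_s (hinv : ∀ x, g (inv x) = (g x)⁻¹) (hr : ∀ r ∈ rels, (r.map g).prod = 1) (hH : ∀ r ∈ subs, (r.map g).prod ∈ H)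
    (j u : ℕ) (hu : u < M) (h : dp_yi_119 j u = true) : Good (fa g) T MG M (cP g H) Lt.yi u := by
  unfold dp_yi_119 at h
  rcases brec_true h with h | h
  · exact dp_yi_115_s hinv hr hH j u hu h
  · exact dp_yi_118_s hinv hr hH j u hu h
theorem dp_yi_120_s (hinv : ∀ x, g (inv x) = (g x)⁻¹) (hr : ∀ r ∈ rels, (r.map g).prod = 1) (hH : ∀ r ∈ subs, (r.map g).prod ∈ H)
    (j u : ℕ) (hu : u < M) (h : dp_yi_120 j u = true) : Good (fa g) T MG M (cP g H) Lt.yi u := by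
  unfold dp_yi_120 at h
  rcases brec_true h with h | h
  · exact lF_good (T := T) (x := Lt.yi) (by decide) [Lt.yi, Lt.z, Lt.q, Lt.yi, Lt.yi, Lt.yi, Lt.q, Lt.z, Lt.yi, Lt.yi, Lt.z, Lt.q, Lt.yi, Lt.yi, Lt.yi, Lt.q, Lt.z, Lt.yi, Lt.yi, Lt.z, Lt.q, Lt.yi, Lt.yi, Lt.yi, Lt.q, Lt.z] (H9.TCY.hole_at hinv hr 47 6 true (by decide +kernel)) h
  · exact lF_good (T := T) (x := Lt.yi) (by decide) [Lt.z, Lt.y, Lt.z, Lt.q, Lt.yi, Lt.q, Lt.z, Lt.y, Lt.z, Lt.yi, Lt.q, Lt.z, Lt.y, Lt.z, Lt.q] (H9.TCY.hole_at hinv hr 28 12 false (by decide +kernel)) h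
theorem dp_yi_121_s (hinv : ∀ x, g (inv x) = (g x)⁻¹) (hr : ∀ r ∈ rels, (r.map g).prod = 1) (hH : ∀ r ∈ subs, (r.map g).prod ∈ H)
    (j u : ℕ) (hu : u < M) (h : dp_yi_121 j u = true) : Good (fa g) T MG M (cP g H) Lt.yi u := by
  unfold dp_yi_121 at h
  rcases brec_true h with h | h
  · exact lF_good (T := T) (x := Lt.yi) (by decide) [Lt.z, Lt.q, Lt.y, Lt.z, Lt.yi, Lt.z, Lt.q, Lt.y, Lt.q, Lt.z, Lt.yi, Lt.z, Lt.y, Lt.q, Lt.z] (H9.TCY.hole_at hinv hr 28 8 true (by decide +kernel)) h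
  · exact lS_good (T := T) (x := Lt.yi) (by decide) hu [Lt.z, Lt.q, Lt.yi, Lt.yi, Lt.q, Lt.z, Lt.yi, Lt.z, Lt.y, Lt.z, Lt.q, Lt.y, Lt.y, Lt.q, Lt.z, Lt.y, Lt.z] (H9.TCY.hole_at hinv hr 39 16 false (by decide +kernel)) h
theorem dp_yi_122_s (hinv : ∀ x, g (inv x) = (g x)⁻¹) (hr : ∀ r ∈ rels, (r.map g).prod = 1) (hH : ∀ r ∈ subs, (r.map g).prod ∈ H)
    (j u : ℕ) (hu : u < M) (h : dp_yi_122 j u = true) : Good (fa g) T MG M (cP g H) Lt.yi u := by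
  unfold dp_yi_122 at h
  rcases brec_true h with h | h
  · exact dp_yi_120_s hinv hr hH j u hu h
  · exact dp_yi_121_s hinv hr hH j u hu h
theorem dp_yi_123_s (hinv : ∀ x, g (inv x) = (g x)⁻¹) (hr : ∀ r ∈ rels, (r.map g).prod = 1) (hH : ∀ r ∈ subs, (r.map g).prod ∈ H)
    (j u : ℕ) (hu : u < M) (h : dp_yi_123 j u = true) : Good (fa g) T MG M (cP g H) Lt.yi u := by
  unfold dp_yi_123 at h
  rcases brec_true h with h | h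
  · exact lS_good (T := T) (x := Lt.yi) (by decide) hu [Lt.z, Lt.y, Lt.z, Lt.q, Lt.y, Lt.y, Lt.q, Lt.z, Lt.y, Lt.z, Lt.yi, Lt.z, Lt.q, Lt.yi, Lt.yi, Lt.q, Lt.z] (H9.TCY.hole_at hinv hr 39 5 false (by decide +kernel)) h
  · exact lF_good (T := T) (x := Lt.yi) (by decide) [Lt.q, Lt.z, Lt.yi, Lt.yi, Lt.q, Lt.z, Lt.yi, Lt.z, Lt.y, Lt.q, Lt.z, Lt.y, Lt.y, Lt.q, Lt.z, Lt.y, Lt.z] (H9.TCY.hole_at hinv hr 40 16 false (by decide +kernel)) h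
theorem dp_yi_124_s (hinv : ∀ x, g (inv x) = (g x)⁻¹) (hr : ∀ r ∈ rels, (r.map g).prod = 1) (hH : ∀ r ∈ subs, (r.map g).prod ∈ H)
    (j u : ℕ) (hu : u < M) (h : dp_yi_124 j u = true) : Good (fa g) T MG M (cP g H) Lt.yi u := by
  unfold dp_yi_124 at h
  rcases brec_true h with h | h
  · exact lS_good (T := T) (x := Lt.yi) (by decide) hu [Lt.z, Lt.q, Lt.y, Lt.q, Lt.z, Lt.yi, Lt.q, Lt.y, Lt.q, Lt.z, Lt.yi, Lt.z, Lt.q, Lt.y, Lt.q] (H9.TCY.hole_at hinv hr 23 11 false (by decide +kernel)) h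
  · exact lF_good (T := T) (x := Lt.yi) (by decide) [Lt.q, Lt.yi, Lt.z, Lt.q, Lt.z, Lt.yi, Lt.q, Lt.yi, Lt.q, Lt.yi, Lt.z, Lt.q, Lt.z, Lt.yi, Lt.q] (H9.TCY.hole_at hinv hr 35 3 false (by decide +kernel)) h
theorem dp_yi_125_s (hinv : ∀ x, g (inv x) = (g x)⁻¹) (hr : ∀ r ∈ rels, (r.map g).prod = 1) (hH : ∀ r ∈ subs, (r.map g).prod ∈ H)
    (j u : ℕ) (hu : u < M) (h : dp_yi_125 j u = true) : Good (fa g) T MG M (cP g H) Lt.yi u := by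
  unfold dp_yi_125 at h
  rcases brec_true h with h | h
  · exact dp_yi_123_s hinv hr hH j u hu h
  · exact dp_yi_124_s hinv hr hH j u hu h
theorem dp_yi_126_s (hinv : ∀ x, g (inv x) = (g x)⁻¹) (hr : ∀ r ∈ rels, (r.map g).prod = 1) (hH : ∀ r ∈ subs, (r.map g).prod ∈ H)
    (j u : ℕ) (hu : u < M) (h : dp_yi_126 j u = true) : Good (fa g) T MG M (cP g H) Lt.yi u := by
  unfold dp_yi_126 at h
  rcases brec_true h with h | h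
  · exact dp_yi_122_s hinv hr hH j u hu h
  · exact dp_yi_125_s hinv hr hH j u hu h
theorem dp_yi_127_s (hinv : ∀ x, g (inv x) = (g x)⁻¹) (hr : ∀ r ∈ rels, (r.map g).prod = 1) (hH : ∀ r ∈ subs, (r.map g).prod ∈ H)
    (j u : ℕ) (hu : u < M) (h : dp_yi_127 j u = true) : Good (fa g) T MG M (cP g H) Lt.yi u := by
  unfold dp_yi_127 at h
  rcases brec_true h with h | h
  · exact dp_yi_119_s hinv hr hH j u hu h
  · exact dp_yi_126_s hinv hr hH j u hu h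
theorem dp_yi_128_s (hinv : ∀ x, g (inv x) = (g x)⁻¹) (hr : ∀ r ∈ rels, (r.map g).prod = 1) (hH : ∀ r ∈ subs, (r.map g).prod ∈ H)
    (j u : ℕ) (hu : u < M) (h : dp_yi_128 j u = true) : Good (fa g) T MG M (cP g H) Lt.yi u := by
  unfold dp_yi_128 at h
  rcases brec_true h with h | h
  · exact dp_yi_113_s hinv hr hH j u hu h
  · exact dp_yi_127_s hinv hr hH j u hu h
theorem dp_yi_129_s (hinv : ∀ x, g (inv x) = (g x)⁻¹) (hr : ∀ r ∈ rels, (r.map g).prod = 1) (hH : ∀ r ∈ subs, (r.map g).prod ∈ H)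
    (j u : ℕ) (hu : u < M) (h : dp_yi_129 j u = true) : Good (fa g) T MG M (cP g H) Lt.yi u := by
  unfold dp_yi_129 at h
  rcases brec_true h with h | h
  · exact dp_yi_101_s hinv hr hH j u hu h
  · exact dp_yi_128_s hinv hr hH j u hu h
theorem dp_yi_130_s (hinv : ∀ x, g (inv x) = (g x)⁻¹) (hr : ∀ r ∈ rels, (r.map g).prod = 1) (hH : ∀ r ∈ subs, (r.map g).prod ∈ H)
    (j u : ℕ) (hu : u < M) (h : dp_yi_130 j u = true) : Good (fa g) T MG M (cP g H) Lt.yi u := by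
  unfold dp_yi_130 at h
  rcases brec_true h with h | h
  · exact lF_good (T := T) (x := Lt.yi) (by decide) [Lt.q, Lt.y, Lt.y, Lt.q, Lt.y, Lt.y, Lt.y, Lt.q, Lt.yi, Lt.q, Lt.yi, Lt.q, Lt.yi, Lt.yi, Lt.q] (H9.TCY.hole_at hinv hr 31 9 true (by decide +kernel)) h
  · exact lF_good (T := T) (x := Lt.yi) (by decide) [Lt.yi, Lt.yi, Lt.q, Lt.y, Lt.y, Lt.y, Lt.q, Lt.yi, Lt.yi, Lt.yi, Lt.q, Lt.yi, Lt.yi, Lt.yi, Lt.q] (H9.TCY.hole_at hinv hr 30 9 false (by decide +kernel)) h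
theorem dp_yi_131_s (hinv : ∀ x, g (inv x) = (g x)⁻¹) (hr : ∀ r ∈ rels, (r.map g).prod = 1) (hH : ∀ r ∈ subs, (r.map g).prod ∈ H)
    (j u : ℕ) (hu : u < M) (h : dp_yi_131 j u = true) : Good (fa g) T MG M (cP g H) Lt.yi u := by
  unfold dp_yi_131 at h
  rcases brec_true h with h | h
  · exact lF_good (T := T) (x := Lt.yi) (by decide) [Lt.q, Lt.yi, Lt.q, Lt.yi, Lt.q, Lt.y, Lt.y, Lt.y, Lt.q, Lt.y, Lt.y, Lt.q, Lt.yi, Lt.q, Lt.yi] (H9.TCY.hole_at hinv hr 32 8 true (by decide +kernel)) h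
  · exact lS_good (T := T) (x := Lt.yi) (by decide) hu [Lt.q, Lt.y, Lt.q, Lt.z, Lt.q, Lt.yi, Lt.z, Lt.y, Lt.q, Lt.yi, Lt.q, Lt.z, Lt.q, Lt.y, Lt.z] (H9.TCY.hole_at hinv hr 24 1 false (by decide +kernel)) h
theorem dp_yi_132_s (hinv : ∀ x, g (inv x) = (g x)⁻¹) (hr : ∀ r ∈ rels, (r.map g).prod = 1) (hH : ∀ r ∈ subs, (r.map g).prod ∈ H)
    (j u : ℕ) (hu : u < M) (h : dp_yi_132 j u = true) : Good (fa g) T MG M (cP g H) Lt.yi u := by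
  unfold dp_yi_132 at h
  rcases brec_true h with h | h
  · exact dp_yi_130_s hinv hr hH j u hu h
  · exact dp_yi_131_s hinv hr hH j u hu h
theorem dp_yi_133_s (hinv : ∀ x, g (inv x) = (g x)⁻¹) (hr : ∀ r ∈ rels, (r.map g).prod = 1) (hH : ∀ r ∈ subs, (r.map g).prod ∈ H)
    (j u : ℕ) (hu : u < M) (h : dp_yi_133 j u = true) : Good (fa g) T MG M (cP g H) Lt.yi u := by
  unfold dp_yi_133 at h
  rcases brec_true h with h | h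
  · exact lS_good (T := T) (x := Lt.yi) (by decide) hu [Lt.q, Lt.y, Lt.q, Lt.z, Lt.yi, Lt.z, Lt.q, Lt.y, Lt.q, Lt.yi, Lt.z, Lt.q, Lt.y, Lt.q, Lt.z] (H9.TCY.hole_at hinv hr 23 1 false (by decide +kernel)) h
  · exact lS_good (T := T) (x := Lt.yi) (by decide) hu [Lt.yi, Lt.q, Lt.yi, Lt.q, Lt.y, Lt.y, Lt.q, Lt.y, Lt.y, Lt.y, Lt.q, Lt.yi, Lt.q, Lt.yi, Lt.q] (H9.TCY.hole_at hinv hr 31 6 true (by decide +kernel)) h
theorem dp_yi_134_s (hinv : ∀ x, g (inv x) = (g x)⁻¹) (hr : ∀ r ∈ rels, (r.map g).prod = 1) (hH : ∀ r ∈ subs, (r.map g).prod ∈ H)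
    (j u : ℕ) (hu : u < M) (h : dp_yi_134 j u = true) : Good (fa g) T MG M (cP g H) Lt.yi u := by
  unfold dp_yi_134 at h
  rcases brec_true h with h | h
  · exact lF_good (T := T) (x := Lt.yi) (by decide) [Lt.yi, Lt.q, Lt.yi, Lt.q, Lt.yi, Lt.q, Lt.y, Lt.y, Lt.y, Lt.q, Lt.y, Lt.y, Lt.q, Lt.yi, Lt.q] (H9.TCY.hole_at hinv hr 32 7 true (by decide +kernel)) h
  · exact lF_good (T := T) (x := Lt.yi) (by decide) [Lt.z, Lt.q, Lt.yi, Lt.yi, Lt.z, Lt.q, Lt.yi, Lt.z, Lt.y, Lt.z, Lt.q, Lt.y, Lt.y, Lt.z, Lt.q, Lt.y, Lt.z] (H9.TCY.hole_at hinv hr 40 5 true (by decide +kernel)) h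
theorem dp_yi_135_s (hinv : ∀ x, g (inv x) = (g x)⁻¹) (hr : ∀ r ∈ rels, (r.map g).prod = 1) (hH : ∀ r ∈ subs, (r.map g).prod ∈ H)
    (j u : ℕ) (hu : u < M) (h : dp_yi_135 j u = true) : Good (fa g) T MG M (cP g H) Lt.yi u := by
  unfold dp_yi_135 at h
  rcases brec_true h with h | h
  · exact lS_good (T := T) (x := Lt.yi) (by decide) hu [Lt.yi, Lt.z, Lt.q, Lt.yi, Lt.yi, Lt.yi, Lt.q, Lt.z, Lt.yi, Lt.yi, Lt.z, Lt.q, Lt.yi, Lt.yi, Lt.yi, Lt.q, Lt.z, Lt.yi, Lt.yi, Lt.z, Lt.q, Lt.yi, Lt.yi, Lt.yi, Lt.q, Lt.z] (H9.TCY.hole_at hinv hr 47 6 true (by decide +kernel)) h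
  · exact dp_yi_134_s hinv hr hH j u hu h
theorem dp_yi_136_s (hinv : ∀ x, g (inv x) = (g x)⁻¹) (hr : ∀ r ∈ rels, (r.map g).prod = 1) (hH : ∀ r ∈ subs, (r.map g).prod ∈ H)
    (j u : ℕ) (hu : u < M) (h : dp_yi_136 j u = true) : Good (fa g) T MG M (cP g H) Lt.yi u := by
  unfold dp_yi_136 at h
  rcases brec_true h with h | h
  · exact dp_yi_133_s hinv hr hH j u hu h
  · exact dp_yi_135_s hinv hr hH j u hu h
theorem dp_yi_137_s (hinv : ∀ x, g (inv x) = (g x)⁻¹) (hr : ∀ r ∈ rels, (r.map g).prod = 1) (hH : ∀ r ∈ subs, (r.map g).prod ∈ H)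
    (j u : ℕ) (hu : u < M) (h : dp_yi_137 j u = true) : Good (fa g) T MG M (cP g H) Lt.yi u := by
  unfold dp_yi_137 at h
  rcases brec_true h with h | h
  · exact dp_yi_132_s hinv hr hH j u hu h
  · exact dp_yi_136_s hinv hr hH j u hu h
theorem dp_yi_138_s (hinv : ∀ x, g (inv x) = (g x)⁻¹) (hr : ∀ r ∈ rels, (r.map g).prod = 1) (hH : ∀ r ∈ subs, (r.map g).prod ∈ H)
    (j u : ℕ) (hu : u < M) (h : dp_yi_138 j u = true) : Good (fa g) T MG M (cP g H) Lt.yi u := by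
  unfold dp_yi_138 at h
  rcases brec_true h with h | h
  · exact lS_good (T := T) (x := Lt.yi) (by decide) hu [Lt.q, Lt.z, Lt.y, Lt.z, Lt.q, Lt.yi, Lt.z, Lt.y, Lt.z, Lt.q, Lt.yi, Lt.q, Lt.z, Lt.y, Lt.z] (H9.TCY.hole_at hinv hr 28 6 false (by decide +kernel)) h
  · exact lS_good (T := T) (x := Lt.yi) (by decide) hu [Lt.z, Lt.q, Lt.yi, Lt.yi, Lt.yi, Lt.q, Lt.z, Lt.yi, Lt.yi, Lt.z, Lt.q, Lt.yi, Lt.yi, Lt.yi, Lt.q, Lt.z, Lt.yi, Lt.yi, Lt.z, Lt.q, Lt.yi, Lt.yi, Lt.yi, Lt.q, Lt.z, Lt.yi] (H9.TCY.hole_at hinv hr 47 7 true (by decide +kernel)) h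
theorem dp_yi_139_s (hinv : ∀ x, g (inv x) = (g x)⁻¹) (hr : ∀ r ∈ rels, (r.map g).prod = 1) (hH : ∀ r ∈ subs, (r.map g).prod ∈ H)
    (j u : ℕ) (hu : u < M) (h : dp_yi_139 j u = true) : Good (fa g) T MG M (cP g H) Lt.yi u := by
  unfold dp_yi_139 at h
  rcases brec_true h with h | h
  · exact lF_good (T := T) (x := Lt.yi) (by decide) [Lt.q, Lt.z, Lt.y, Lt.z, Lt.q, Lt.yi, Lt.q, Lt.y, Lt.z, Lt.q, Lt.yi, Lt.q, Lt.z, Lt.y, Lt.q] (H9.TCY.hole_at hinv hr 23 8 true (by decide +kernel)) h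
  · exact lF_good (T := T) (x := Lt.yi) (by decide) [Lt.z, Lt.q, Lt.y, Lt.z, Lt.yi, Lt.q, Lt.z, Lt.y, Lt.q, Lt.z, Lt.yi, Lt.z, Lt.y, Lt.z, Lt.q] (H9.TCY.hole_at hinv hr 36 12 false (by decide +kernel)) h
theorem dp_yi_140_s (hinv : ∀ x, g (inv x) = (g x)⁻¹) (hr : ∀ r ∈ rels, (r.map g).prod = 1) (hH : ∀ r ∈ subs, (r.map g).prod ∈ H)
    (j u : ℕ) (hu : u < M) (h : dp_yi_140 j u = true) : Good (fa g) T MG M (cP g H) Lt.yi u := by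
  unfold dp_yi_140 at h
  rcases brec_true h with h | h
  · exact dp_yi_138_s hinv hr hH j u hu h
  · exact dp_yi_139_s hinv hr hH j u hu h
theorem dp_yi_141_s (hinv : ∀ x, g (inv x) = (g x)⁻¹) (hr : ∀ r ∈ rels, (r.map g).prod = 1) (hH : ∀ r ∈ subs, (r.map g).prod ∈ H)
    (j u : ℕ) (hu : u < M) (h : dp_yi_141 j u = true) : Good (fa g) T MG M (cP g H) Lt.yi u := by
  unfold dp_yi_141 at h
  rcases brec_true h with h | h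
  · exact lF_good (T := T) (x := Lt.yi) (by decide) [Lt.q, Lt.yi, Lt.yi, Lt.q, Lt.yi, Lt.q, Lt.yi, Lt.q, Lt.y, Lt.y, Lt.y, Lt.q, Lt.y, Lt.y, Lt.q] (H9.TCY.hole_at hinv hr 32 5 true (by decide +kernel)) h
  · exact lS_good (T := T) (x := Lt.yi) (by decide) hu [Lt.z, Lt.y, Lt.q, Lt.z, Lt.yi, Lt.q, Lt.z, Lt.y, Lt.z, Lt.yi, Lt.z, Lt.q, Lt.y, Lt.z, Lt.q] (H9.TCY.hole_at hinv hr 27 12 false (by decide +kernel)) h
theorem dp_yi_142_s (hinv : ∀ x, g (inv x) = (g x)⁻¹) (hr : ∀ r ∈ rels, (r.map g).prod = 1) (hH : ∀ r ∈ subs, (r.map g).prod ∈ H)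
    (j u : ℕ) (hu : u < M) (h : dp_yi_142 j u = true) : Good (fa g) T MG M (cP g H) Lt.yi u := by
  unfold dp_yi_142 at h
  rcases brec_true h with h | h
  · exact lF_good (T := T) (x := Lt.yi) (by decide) [Lt.yi, Lt.yi, Lt.q, Lt.yi, Lt.yi, Lt.q, Lt.y, Lt.q, Lt.y, Lt.y, Lt.q, Lt.y, Lt.q, Lt.y, Lt.q] (H9.TCY.hole_at hinv hr 31 1 false (by decide +kernel)) h
  · exact lS_good (T := T) (x := Lt.yi) (by decide) hu [Lt.q, Lt.y, Lt.y, Lt.z, Lt.q, Lt.z, Lt.yi, Lt.yi, Lt.q, Lt.y, Lt.y, Lt.z, Lt.q, Lt.z, Lt.yi] (H9.TCY.hole_at hinv hr 33 2 false (by decide +kernel)) h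
theorem dp_yi_143_s (hinv : ∀ x, g (inv x) = (g x)⁻¹) (hr : ∀ r ∈ rels, (r.map g).prod = 1) (hH : ∀ r ∈ subs, (r.map g).prod ∈ H)
    (j u : ℕ) (hu : u < M) (h : dp_yi_143 j u = true) : Good (fa g) T MG M (cP g H) Lt.yi u := by
  unfold dp_yi_143 at h
  rcases brec_true h with h | h
  · exact lF_good (T := T) (x := Lt.yi) (by decide) [Lt.q, Lt.y, Lt.z, Lt.q, Lt.yi, Lt.q, Lt.z, Lt.y, Lt.q, Lt.yi, Lt.q, Lt.z, Lt.y, Lt.z, Lt.q] (H9.TCY.hole_at hinv hr 23 14 true (by decide +kernel)) h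
  · exact dp_yi_142_s hinv hr hH j u hu h
theorem dp_yi_144_s (hinv : ∀ x, g (inv x) = (g x)⁻¹) (hr : ∀ r ∈ rels, (r.map g).prod = 1) (hH : ∀ r ∈ subs, (r.map g).prod ∈ H)
    (j u : ℕ) (hu : u < M) (h : dp_yi_144 j u = true) : Good (fa g) T MG M (cP g H) Lt.yi u := by
  unfold dp_yi_144 at h
  rcases brec_true h with h | h
  · exact dp_yi_141_s hinv hr hH j u hu h
  · exact dp_yi_143_s hinv hr hH j u hu h
theorem dp_yi_145_s (hinv : ∀ x, g (inv x) = (g x)⁻¹) (hr : ∀ r ∈ rels, (r.map g).prod = 1) (hH : ∀ r ∈ subs, (r.map g).prod ∈ H)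
    (j u : ℕ) (hu : u < M) (h : dp_yi_145 j u = true) : Good (fa g) T MG M (cP g H) Lt.yi u := by
  unfold dp_yi_145 at h
  rcases brec_true h with h | h
  · exact dp_yi_140_s hinv hr hH j u hu h
  · exact dp_yi_144_s hinv hr hH j u hu h
theorem dp_yi_146_s (hinv : ∀ x, g (inv x) = (g x)⁻¹) (hr : ∀ r ∈ rels, (r.map g).prod = 1) (hH : ∀ r ∈ subs, (r.map g).prod ∈ H)
    (j u : ℕ) (hu : u < M) (h : dp_yi_146 j u = true) : Good (fa g) T MG M (cP g H) Lt.yi u := by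
  unfold dp_yi_146 at h
  rcases brec_true h with h | h
  · exact dp_yi_137_s hinv hr hH j u hu h
  · exact dp_yi_145_s hinv hr hH j u hu h
theorem dp_yi_147_s (hinv : ∀ x, g (inv x) = (g x)⁻¹) (hr : ∀ r ∈ rels, (r.map g).prod = 1) (hH : ∀ r ∈ subs, (r.map g).prod ∈ H)
    (j u : ℕ) (hu : u < M) (h : dp_yi_147 j u = true) : Good (fa g) T MG M (cP g H) Lt.yi u := by
  unfold dp_yi_147 at h
  rcases brec_true h with h | h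
  · exact lF_good (T := T) (x := Lt.yi) (by decide) [Lt.q, Lt.yi, Lt.yi, Lt.q, Lt.yi, Lt.q, Lt.y, Lt.y, Lt.q, Lt.y, Lt.y, Lt.y, Lt.q, Lt.yi, Lt.q] (H9.TCY.hole_at hinv hr 31 4 true (by decide +kernel)) h
  · exact lS_good (T := T) (x := Lt.yi) (by decide) hu [Lt.yi, Lt.q, Lt.z, Lt.yi, Lt.z, Lt.y, Lt.q, Lt.z, Lt.y, Lt.y, Lt.q, Lt.z, Lt.y, Lt.z, Lt.yi, Lt.q, Lt.z] (H9.TCY.hole_at hinv hr 40 1 false (by decide +kernel)) h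
theorem dp_yi_148_s (hinv : ∀ x, g (inv x) = (g x)⁻¹) (hr : ∀ r ∈ rels, (r.map g).prod = 1) (hH : ∀ r ∈ subs, (r.map g).prod ∈ H)
    (j u : ℕ) (hu : u < M) (h : dp_yi_148 j u = true) : Good (fa g) T MG M (cP g H) Lt.yi u := by
  unfold dp_yi_148 at h
  rcases brec_true h with h | h
  · exact lF_good (T := T) (x := Lt.yi) (by decide) [Lt.q, Lt.z, Lt.yi, Lt.z, Lt.y, Lt.q, Lt.z, Lt.y, Lt.y, Lt.q, Lt.z, Lt.y, Lt.z, Lt.yi, Lt.q, Lt.z, Lt.yi] (H9.TCY.hole_at hinv hr 40 2 false (by decide +kernel)) h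
  · exact lF_good (T := T) (x := Lt.yi) (by decide) [Lt.q, Lt.z, Lt.y, Lt.z, Lt.yi, Lt.q, Lt.z, Lt.y, Lt.z, Lt.q, Lt.yi, Lt.z, Lt.y, Lt.z, Lt.q] (H9.TCY.hole_at hinv hr 28 1 false (by decide +kernel)) h
theorem dp_yi_149_s (hinv : ∀ x, g (inv x) = (g x)⁻¹) (hr : ∀ r ∈ rels, (r.map g).prod = 1) (hH : ∀ r ∈ subs, (r.map g).prod ∈ H)
    (j u : ℕ) (hu : u < M) (h : dp_yi_149 j u = true) : Good (fa g) T MG M (cP g H) Lt.yi u := by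
  unfold dp_yi_149 at h
  rcases brec_true h with h | h
  · exact lS_good (T := T) (x := Lt.yi) (by decide) hu [Lt.z, Lt.y, Lt.y, Lt.q, Lt.y, Lt.y, Lt.z, Lt.yi, Lt.z, Lt.y, Lt.z, Lt.y, Lt.q, Lt.y, Lt.z, Lt.y, Lt.z] (H9.TCY.hole_at hinv hr 41 12 true (by decide +kernel)) h
  · exact dp_yi_148_s hinv hr hH j u hu h
theorem dp_yi_150_s (hinv : ∀ x, g (inv x) = (g x)⁻¹) (hr : ∀ r ∈ rels, (r.map g).prod = 1) (hH : ∀ r ∈ subs, (r.map g).prod ∈ H)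
    (j u : ℕ) (hu : u < M) (h : dp_yi_150 j u = true) : Good (fa g) T MG M (cP g H) Lt.yi u := by
  unfold dp_yi_150 at h
  rcases brec_true h with h | h
  · exact dp_yi_147_s hinv hr hH j u hu h
  · exact dp_yi_149_s hinv hr hH j u hu h
theorem dp_yi_151_s (hinv : ∀ x, g (inv x) = (g x)⁻¹) (hr : ∀ r ∈ rels, (r.map g).prod = 1) (hH : ∀ r ∈ subs, (r.map g).prod ∈ H)
    (j u : ℕ) (hu : u < M) (h : dp_yi_151 j u = true) : Good (fa g) T MG M (cP g H) Lt.yi u := by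
  unfold dp_yi_151 at h
  rcases brec_true h with h | h
  · exact lS_good (T := T) (x := Lt.yi) (by decide) hu [Lt.q, Lt.yi, Lt.yi, Lt.q, Lt.y, Lt.q, Lt.y, Lt.y, Lt.q, Lt.y, Lt.q, Lt.y, Lt.q, Lt.yi, Lt.yi] (H9.TCY.hole_at hinv hr 31 3 false (by decide +kernel)) h
  · exact lF_good (T := T) (x := Lt.yi) (by decide) [Lt.yi, Lt.z, Lt.q, Lt.yi, Lt.z, Lt.y, Lt.z, Lt.q, Lt.y, Lt.y, Lt.z, Lt.q, Lt.y, Lt.z, Lt.yi, Lt.z, Lt.q] (H9.TCY.hole_at hinv hr 40 8 true (by decide +kernel)) h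
theorem dp_yi_152_s (hinv : ∀ x, g (inv x) = (g x)⁻¹) (hr : ∀ r ∈ rels, (r.map g).prod = 1) (hH : ∀ r ∈ subs, (r.map g).prod ∈ H)
    (j u : ℕ) (hu : u < M) (h : dp_yi_152 j u = true) : Good (fa g) T MG M (cP g H) Lt.yi u := by
  unfold dp_yi_152 at h
  rcases brec_true h with h | h
  · exact lF_good (T := T) (x := Lt.yi) (by decide) [Lt.yi, Lt.q, Lt.yi, Lt.yi, Lt.q, Lt.y, Lt.q, Lt.y, Lt.y, Lt.q, Lt.y, Lt.q, Lt.y, Lt.q, Lt.yi] (H9.TCY.hole_at hinv hr 31 2 false (by decide +kernel)) h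
  · exact dp_yi_151_s hinv hr hH j u hu h
theorem dp_yi_153_s (hinv : ∀ x, g (inv x) = (g x)⁻¹) (hr : ∀ r ∈ rels, (r.map g).prod = 1) (hH : ∀ r ∈ subs, (r.map g).prod ∈ H)
    (j u : ℕ) (hu : u < M) (h : dp_yi_153 j u = true) : Good (fa g) T MG M (cP g H) Lt.yi u := by
  unfold dp_yi_153 at h
  rcases brec_true h with h | h
  · exact lF_good (T := T) (x := Lt.yi) (by decide) [Lt.q, Lt.yi, Lt.q, Lt.yi, Lt.yi, Lt.q, Lt.yi, Lt.q, Lt.y, Lt.y, Lt.q, Lt.y, Lt.y, Lt.y, Lt.q] (H9.TCY.hole_at hinv hr 31 2 true (by decide +kernel)) h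
  · exact lF_good (T := T) (x := Lt.yi) (by decide) [Lt.z, Lt.y, Lt.q, Lt.z, Lt.y, Lt.y, Lt.q, Lt.z, Lt.y, Lt.z, Lt.yi, Lt.q, Lt.z, Lt.yi, Lt.yi, Lt.q, Lt.z] (H9.TCY.hole_at hinv hr 40 5 false (by decide +kernel)) h
theorem dp_yi_154_s (hinv : ∀ x, g (inv x) = (g x)⁻¹) (hr : ∀ r ∈ rels, (r.map g).prod = 1) (hH : ∀ r ∈ subs, (r.map g).prod ∈ H)
    (j u : ℕ) (hu : u < M) (h : dp_yi_154 j u = true) : Good (fa g) T MG M (cP g H) Lt.yi u := by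
  unfold dp_yi_154 at h
  rcases brec_true h with h | h
  · exact lS_good (T := T) (x := Lt.yi) (by decide) hu [Lt.z, Lt.y, Lt.q, Lt.z, Lt.yi, Lt.z, Lt.q, Lt.y, Lt.z, Lt.yi, Lt.z, Lt.q, Lt.y, Lt.q, Lt.z] (H9.TCY.hole_at hinv hr 28 3 true (by decide +kernel)) h
  · exact dp_yi_153_s hinv hr hH j u hu h
theorem dp_yi_155_s (hinv : ∀ x, g (inv x) = (g x)⁻¹) (hr : ∀ r ∈ rels, (r.map g).prod = 1) (hH : ∀ r ∈ subs, (r.map g).prod ∈ H)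
    (j u : ℕ) (hu : u < M) (h : dp_yi_155 j u = true) : Good (fa g) T MG M (cP g H) Lt.yi u := by
  unfold dp_yi_155 at h
  rcases brec_true h with h | h
  · exact dp_yi_152_s hinv hr hH j u hu h
  · exact dp_yi_154_s hinv hr hH j u hu h
theorem dp_yi_156_s (hinv : ∀ x, g (inv x) = (g x)⁻¹) (hr : ∀ r ∈ rels, (r.map g).prod = 1) (hH : ∀ r ∈ subs, (r.map g).prod ∈ H)
    (j u : ℕ) (hu : u < M) (h : dp_yi_156 j u = true) : Good (fa g) T MG M (cP g H) Lt.yi u := by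
  unfold dp_yi_156 at h
  rcases brec_true h with h | h
  · exact dp_yi_150_s hinv hr hH j u hu h
  · exact dp_yi_155_s hinv hr hH j u hu h
theorem dp_yi_157_s (hinv : ∀ x, g (inv x) = (g x)⁻¹) (hr : ∀ r ∈ rels, (r.map g).prod = 1) (hH : ∀ r ∈ subs, (r.map g).prod ∈ H)
    (j u : ℕ) (hu : u < M) (h : dp_yi_157 j u = true) : Good (fa g) T MG M (cP g H) Lt.yi u := by
  unfold dp_yi_157 at h
  rcases brec_true h with h | h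
  · exact lS_good (T := T) (x := Lt.yi) (by decide) hu [Lt.q, Lt.y, Lt.q, Lt.y, Lt.y, Lt.q, Lt.y, Lt.q, Lt.y, Lt.q, Lt.yi, Lt.yi, Lt.yi, Lt.q, Lt.yi] (H9.TCY.hole_at hinv hr 31 6 false (by decide +kernel)) h
  · exact lF_good (T := T) (x := Lt.yi) (by decide) [Lt.yi, Lt.yi, Lt.q, Lt.y, Lt.q, Lt.y, Lt.q, Lt.y, Lt.y, Lt.q, Lt.y, Lt.q, Lt.yi, Lt.yi, Lt.q] (H9.TCY.hole_at hinv hr 32 1 false (by decide +kernel)) h
theorem dp_yi_158_s (hinv : ∀ x, g (inv x) = (g x)⁻¹) (hr : ∀ r ∈ rels, (r.map g).prod = 1) (hH : ∀ r ∈ subs, (r.map g).prod ∈ H)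
    (j u : ℕ) (hu : u < M) (h : dp_yi_158 j u = true) : Good (fa g) T MG M (cP g H) Lt.yi u := by
  unfold dp_yi_158 at h
  rcases brec_true h with h | h
  · exact lS_good (T := T) (x := Lt.yi) (by decide) hu [Lt.z, Lt.y, Lt.q, Lt.yi, Lt.q, Lt.z, Lt.q, Lt.y, Lt.z, Lt.yi, Lt.q, Lt.y, Lt.q, Lt.z, Lt.q] (H9.TCY.hole_at hinv hr 24 7 false (by decide +kernel)) h
  · exact dp_yi_157_s hinv hr hH j u hu h
theorem dp_yi_159_s (hinv : ∀ x, g (inv x) = (g x)⁻¹) (hr : ∀ r ∈ rels, (r.map g).prod = 1) (hH : ∀ r ∈ subs, (r.map g).prod ∈ H)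
    (j u : ℕ) (hu : u < M) (h : dp_yi_159 j u = true) : Good (fa g) T MG M (cP g H) Lt.yi u := by
  unfold dp_yi_159 at h
  rcases brec_true h with h | h
  · exact lS_good (T := T) (x := Lt.yi) (by decide) hu [Lt.z, Lt.q, Lt.yi, Lt.z, Lt.y, Lt.z, Lt.q, Lt.y, Lt.y, Lt.z, Lt.q, Lt.y, Lt.z, Lt.yi, Lt.z, Lt.q, Lt.yi] (H9.TCY.hole_at hinv hr 40 9 true (by decide +kernel)) h
  · exact lS_good (T := T) (x := Lt.yi) (by decide) hu [Lt.q, Lt.yi, Lt.q, Lt.yi, Lt.z, Lt.q, Lt.z, Lt.yi, Lt.q, Lt.yi, Lt.q, Lt.yi, Lt.z, Lt.q, Lt.z] (H9.TCY.hole_at hinv hr 35 1 false (by decide +kernel)) h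
theorem dp_yi_160_s (hinv : ∀ x, g (inv x) = (g x)⁻¹) (hr : ∀ r ∈ rels, (r.map g).prod = 1) (hH : ∀ r ∈ subs, (r.map g).prod ∈ H)
    (j u : ℕ) (hu : u < M) (h : dp_yi_160 j u = true) : Good (fa g) T MG M (cP g H) Lt.yi u := by
  unfold dp_yi_160 at h
  rcases brec_true h with h | h
  · exact lF_good (T := T) (x := Lt.yi) (by decide) [Lt.v, Lt.q, Lt.z, Lt.q, Lt.z, Lt.y, Lt.z, Lt.q, Lt.z, Lt.q, Lt.v] (H9.TCY.hole_at hinv hr 13 1 true (by decide +kernel)) h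
  · exact dp_yi_159_s hinv hr hH j u hu h
theorem dp_yi_161_s (hinv : ∀ x, g (inv x) = (g x)⁻¹) (hr : ∀ r ∈ rels, (r.map g).prod = 1) (hH : ∀ r ∈ subs, (r.map g).prod ∈ H)
    (j u : ℕ) (hu : u < M) (h : dp_yi_161 j u = true) : Good (fa g) T MG M (cP g H) Lt.yi u := by
  unfold dp_yi_161 at h
  rcases brec_true h with h | h
  · exact dp_yi_158_s hinv hr hH j u hu h
  · exact dp_yi_160_s hinv hr hH j u hu h
theorem dp_yi_162_s (hinv : ∀ x, g (inv x) = (g x)⁻¹) (hr : ∀ r ∈ rels, (r.map g).prod = 1) (hH : ∀ r ∈ subs, (r.map g).prod ∈ H)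
    (j u : ℕ) (hu : u < M) (h : dp_yi_162 j u = true) : Good (fa g) T MG M (cP g H) Lt.yi u := by
  unfold dp_yi_162 at h
  rcases brec_true h with h | h
  · exact lS_good (T := T) (x := Lt.yi) (by decide) hu [Lt.z, Lt.q, Lt.z, Lt.yi, Lt.q, Lt.yi, Lt.q, Lt.yi, Lt.z, Lt.q, Lt.z, Lt.yi, Lt.q, Lt.yi, Lt.q] (H9.TCY.hole_at hinv hr 35 5 false (by decide +kernel)) h
  · exact lS_good (T := T) (x := Lt.yi) (by decide) hu [Lt.yi, Lt.z, Lt.q, Lt.z, Lt.y, Lt.y, Lt.q, Lt.yi, Lt.yi, Lt.z, Lt.q, Lt.z, Lt.y, Lt.y, Lt.q] (H9.TCY.hole_at hinv hr 34 1 false (by decide +kernel)) h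
theorem dp_yi_163_s (hinv : ∀ x, g (inv x) = (g x)⁻¹) (hr : ∀ r ∈ rels, (r.map g).prod = 1) (hH : ∀ r ∈ subs, (r.map g).prod ∈ H)
    (j u : ℕ) (hu : u < M) (h : dp_yi_163 j u = true) : Good (fa g) T MG M (cP g H) Lt.yi u := by
  unfold dp_yi_163 at h
  rcases brec_true h with h | h
  · exact lS_good (T := T) (x := Lt.yi) (by decide) hu [Lt.q, Lt.z, Lt.y, Lt.z, Lt.yi, Lt.z, Lt.q, Lt.y, Lt.z, Lt.q, Lt.yi, Lt.z, Lt.y, Lt.q, Lt.z] (H9.TCY.hole_at hinv hr 27 1 false (by decide +kernel)) h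
  · exact dp_yi_162_s hinv hr hH j u hu h
theorem dp_yi_164_s (hinv : ∀ x, g (inv x) = (g x)⁻¹) (hr : ∀ r ∈ rels, (r.map g).prod = 1) (hH : ∀ r ∈ subs, (r.map g).prod ∈ H)
    (j u : ℕ) (hu : u < M) (h : dp_yi_164 j u = true) : Good (fa g) T MG M (cP g H) Lt.yi u := by
  unfold dp_yi_164 at h
  rcases brec_true h with h | h
  · exact lF_good (T := T) (x := Lt.yi) (by decide) [Lt.z, Lt.y, Lt.z, Lt.q, Lt.yi, Lt.z, Lt.q, Lt.y, Lt.z, Lt.yi, Lt.q, Lt.z, Lt.y, Lt.q, Lt.z] (H9.TCY.hole_at hinv hr 36 7 false (by decide +kernel)) h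
  · exact lF_good (T := T) (x := Lt.yi) (by decide) [Lt.z, Lt.y, Lt.z, Lt.q, Lt.y, Lt.y, Lt.z, Lt.q, Lt.y, Lt.z, Lt.yi, Lt.z, Lt.q, Lt.yi, Lt.yi, Lt.z, Lt.q] (H9.TCY.hole_at hinv hr 40 12 true (by decide +kernel)) h
theorem dp_yi_165_s (hinv : ∀ x, g (inv x) = (g x)⁻¹) (hr : ∀ r ∈ rels, (r.map g).prod = 1) (hH : ∀ r ∈ subs, (r.map g).prod ∈ H)
    (j u : ℕ) (hu : u < M) (h : dp_yi_165 j u = true) : Good (fa g) T MG M (cP g H) Lt.yi u := by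
  unfold dp_yi_165 at h
  rcases brec_true h with h | h
  · exact lF_good (T := T) (x := Lt.yi) (by decide) [Lt.q, Lt.y, Lt.q, Lt.y, Lt.q, Lt.y, Lt.y, Lt.q, Lt.y, Lt.q, Lt.yi, Lt.yi, Lt.q, Lt.yi, Lt.yi] (H9.TCY.hole_at hinv hr 32 3 false (by decide +kernel)) h
  · exact dp_yi_164_s hinv hr hH j u hu h
theorem dp_yi_166_s (hinv : ∀ x, g (inv x) = (g x)⁻¹) (hr : ∀ r ∈ rels, (r.map g).prod = 1) (hH : ∀ r ∈ subs, (r.map g).prod ∈ H)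
    (j u : ℕ) (hu : u < M) (h : dp_yi_166 j u = true) : Good (fa g) T MG M (cP g H) Lt.yi u := by
  unfold dp_yi_166 at h
  rcases brec_true h with h | h
  · exact dp_yi_163_s hinv hr hH j u hu h
  · exact dp_yi_165_s hinv hr hH j u hu h
theorem dp_yi_167_s (hinv : ∀ x, g (inv x) = (g x)⁻¹) (hr : ∀ r ∈ rels, (r.map g).prod = 1) (hH : ∀ r ∈ subs, (r.map g).prod ∈ H)
    (j u : ℕ) (hu : u < M) (h : dp_yi_167 j u = true) : Good (fa g) T MG M (cP g H) Lt.yi u := by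
  unfold dp_yi_167 at h
  rcases brec_true h with h | h
  · exact dp_yi_161_s hinv hr hH j u hu h
  · exact dp_yi_166_s hinv hr hH j u hu h
theorem dp_yi_168_s (hinv : ∀ x, g (inv x) = (g x)⁻¹) (hr : ∀ r ∈ rels, (r.map g).prod = 1) (hH : ∀ r ∈ subs, (r.map g).prod ∈ H)
    (j u : ℕ) (hu : u < M) (h : dp_yi_168 j u = true) : Good (fa g) T MG M (cP g H) Lt.yi u := by
  unfold dp_yi_168 at h
  rcases brec_true h with h | h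
  · exact dp_yi_156_s hinv hr hH j u hu h
  · exact dp_yi_167_s hinv hr hH j u hu h
theorem dp_yi_169_s (hinv : ∀ x, g (inv x) = (g x)⁻¹) (hr : ∀ r ∈ rels, (r.map g).prod = 1) (hH : ∀ r ∈ subs, (r.map g).prod ∈ H)
    (j u : ℕ) (hu : u < M) (h : dp_yi_169 j u = true) : Good (fa g) T MG M (cP g H) Lt.yi u := by
  unfold dp_yi_169 at h
  rcases brec_true h with h | h
  · exact dp_yi_146_s hinv hr hH j u hu h
  · exact dp_yi_168_s hinv hr hH j u hu h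
theorem dp_yi_170_s (hinv : ∀ x, g (inv x) = (g x)⁻¹) (hr : ∀ r ∈ rels, (r.map g).prod = 1) (hH : ∀ r ∈ subs, (r.map g).prod ∈ H)
    (j u : ℕ) (hu : u < M) (h : dp_yi_170 j u = true) : Good (fa g) T MG M (cP g H) Lt.yi u := by
  unfold dp_yi_170 at h
  rcases brec_true h with h | h
  · exact lS_good (T := T) (x := Lt.yi) (by decide) hu [Lt.z, Lt.q, Lt.y, Lt.z, Lt.yi, Lt.z, Lt.q, Lt.y, Lt.q, Lt.z, Lt.yi, Lt.z, Lt.y, Lt.q, Lt.z] (H9.TCY.hole_at hinv hr 28 8 true (by decide +kernel)) h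
  · exact lF_good (T := T) (x := Lt.yi) (by decide) [Lt.q, Lt.y, Lt.y, Lt.y, Lt.q, Lt.yi, Lt.yi, Lt.yi, Lt.q, Lt.yi, Lt.yi, Lt.yi, Lt.q, Lt.yi, Lt.yi] (H9.TCY.hole_at hinv hr 30 11 false (by decide +kernel)) h
theorem dp_yi_171_s (hinv : ∀ x, g (inv x) = (g x)⁻¹) (hr : ∀ r ∈ rels, (r.map g).prod = 1) (hH : ∀ r ∈ subs, (r.map g).prod ∈ H)
    (j u : ℕ) (hu : u < M) (h : dp_yi_171 j u = true) : Good (fa g) T MG M (cP g H) Lt.yi u := by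
  unfold dp_yi_171 at h
  rcases brec_true h with h | h
  · exact lS_good (T := T) (x := Lt.yi) (by decide) hu [Lt.q, Lt.yi, Lt.yi, Lt.yi, Lt.q, Lt.y, Lt.q, Lt.y, Lt.q, Lt.y, Lt.y, Lt.q, Lt.y, Lt.q, Lt.yi] (H9.TCY.hole_at hinv hr 32 15 false (by decide +kernel)) h
  · exact dp_yi_170_s hinv hr hH j u hu h
theorem dp_yi_172_s (hinv : ∀ x, g (inv x) = (g x)⁻¹) (hr : ∀ r ∈ rels, (r.map g).prod = 1) (hH : ∀ r ∈ subs, (r.map g).prod ∈ H)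
    (j u : ℕ) (hu : u < M) (h : dp_yi_172 j u = true) : Good (fa g) T MG M (cP g H) Lt.yi u := by
  unfold dp_yi_172 at h
  rcases brec_true h with h | h
  · exact lF_good (T := T) (x := Lt.yi) (by decide) [Lt.yi, Lt.q, Lt.z, Lt.yi, Lt.q, Lt.z, Lt.yi, Lt.z, Lt.y, Lt.z, Lt.q, Lt.y, Lt.z, Lt.q, Lt.y, Lt.y, Lt.z, Lt.q, Lt.yi, Lt.q, Lt.z, Lt.q, Lt.y, Lt.q, Lt.z] (H9.TCY.hole_at hinv hr 46 4 false (by decide +kernel)) h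
  · exact lF_good (T := T) (x := Lt.yi) (by decide) [Lt.q, Lt.z, Lt.y, Lt.z, Lt.q, Lt.yi, Lt.q, Lt.z, Lt.y, Lt.z, Lt.q, Lt.yi, Lt.q, Lt.z, Lt.y, Lt.z, Lt.q] (H9.TCY.hole_at hinv hr 42 1 true (by decide +kernel)) h
theorem dp_yi_173_s (hinv : ∀ x, g (inv x) = (g x)⁻¹) (hr : ∀ r ∈ rels, (r.map g).prod = 1) (hH : ∀ r ∈ subs, (r.map g).prod ∈ H)
    (j u : ℕ) (hu : u < M) (h : dp_yi_173 j u = true) : Good (fa g) T MG M (cP g H) Lt.yi u := by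
  unfold dp_yi_173 at h
  rcases brec_true h with h | h
  · exact lS_good (T := T) (x := Lt.yi) (by decide) hu [Lt.z, Lt.q, Lt.y, Lt.q, Lt.z, Lt.yi, Lt.z, Lt.y, Lt.q, Lt.z, Lt.yi, Lt.z, Lt.q, Lt.y, Lt.z] (H9.TCY.hole_at hinv hr 28 13 true (by decide +kernel)) h
  · exact lS_good (T := T) (x := Lt.yi) (by decide) hu [Lt.yi, Lt.q, Lt.y, Lt.q, Lt.y, Lt.y, Lt.q, Lt.y, Lt.q, Lt.y, Lt.q, Lt.yi, Lt.yi, Lt.yi, Lt.q] (H9.TCY.hole_at hinv hr 31 5 false (by decide +kernel)) h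
theorem dp_yi_174_s (hinv : ∀ x, g (inv x) = (g x)⁻¹) (hr : ∀ r ∈ rels, (r.map g).prod = 1) (hH : ∀ r ∈ subs, (r.map g).prod ∈ H)
    (j u : ℕ) (hu : u < M) (h : dp_yi_174 j u = true) : Good (fa g) T MG M (cP g H) Lt.yi u := by
  unfold dp_yi_174 at h
  rcases brec_true h with h | h
  · exact dp_yi_172_s hinv hr hH j u hu h
  · exact dp_yi_173_s hinv hr hH j u hu h
theorem dp_yi_175_s (hinv : ∀ x, g (inv x) = (g x)⁻¹) (hr : ∀ r ∈ rels, (r.map g).prod = 1) (hH : ∀ r ∈ subs, (r.map g).prod ∈ H)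
    (j u : ℕ) (hu : u < M) (h : dp_yi_175 j u = true) : Good (fa g) T MG M (cP g H) Lt.yi u := by
  unfold dp_yi_175 at h
  rcases brec_true h with h | h
  · exact dp_yi_171_s hinv hr hH j u hu h
  · exact dp_yi_174_s hinv hr hH j u hu h
theorem dp_yi_176_s (hinv : ∀ x, g (inv x) = (g x)⁻¹) (hr : ∀ r ∈ rels, (r.map g).prod = 1) (hH : ∀ r ∈ subs, (r.map g).prod ∈ H)
    (j u : ℕ) (hu : u < M) (h : dp_yi_176 j u = true) : Good (fa g) T MG M (cP g H) Lt.yi u := by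
  unfold dp_yi_176 at h
  rcases brec_true h with h | h
  · exact lF_good (T := T) (x := Lt.yi) (by decide) [Lt.yi, Lt.q, Lt.y, Lt.q, Lt.y, Lt.q, Lt.y, Lt.y, Lt.q, Lt.y, Lt.q, Lt.yi, Lt.yi, Lt.q, Lt.yi] (H9.TCY.hole_at hinv hr 32 2 false (by decide +kernel)) h
  · exact lF_good (T := T) (x := Lt.yi) (by decide) [Lt.yi, Lt.q, Lt.yi, Lt.yi, Lt.yi, Lt.q, Lt.y, Lt.y, Lt.y, Lt.q, Lt.yi, Lt.yi, Lt.yi, Lt.q, Lt.yi] (H9.TCY.hole_at hinv hr 30 6 false (by decide +kernel)) h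
theorem dp_yi_177_s (hinv : ∀ x, g (inv x) = (g x)⁻¹) (hr : ∀ r ∈ rels, (r.map g).prod = 1) (hH : ∀ r ∈ subs, (r.map g).prod ∈ H)
    (j u : ℕ) (hu : u < M) (h : dp_yi_177 j u = true) : Good (fa g) T MG M (cP g H) Lt.yi u := by
  unfold dp_yi_177 at h
  rcases brec_true h with h | h
  · exact lS_good (T := T) (x := Lt.yi) (by decide) hu [Lt.q, Lt.z, Lt.yi, Lt.q, Lt.z, Lt.yi, Lt.q, Lt.z, Lt.yi, Lt.q, Lt.z, Lt.yi, Lt.q, Lt.z, Lt.yi, Lt.q, Lt.z, Lt.yi, Lt.q, Lt.z, Lt.yi, Lt.q, Lt.z] (H9.TCY.hole_at hinv hr 44 1 true (by decide +kernel)) h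
  · exact dp_yi_176_s hinv hr hH j u hu h
theorem dp_yi_178_s (hinv : ∀ x, g (inv x) = (g x)⁻¹) (hr : ∀ r ∈ rels, (r.map g).prod = 1) (hH : ∀ r ∈ subs, (r.map g).prod ∈ H)
    (j u : ℕ) (hu : u < M) (h : dp_yi_178 j u = true) : Good (fa g) T MG M (cP g H) Lt.yi u := by
  unfold dp_yi_178 at h
  rcases brec_true h with h | h
  · exact lF_good (T := T) (x := Lt.yi) (by decide) [Lt.q, Lt.z, Lt.q, Lt.y, Lt.z, Lt.yi, Lt.q, Lt.y, Lt.q, Lt.z, Lt.q, Lt.yi, Lt.z, Lt.y, Lt.q] (H9.TCY.hole_at hinv hr 24 11 false (by decide +kernel)) h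
  · exact lS_good (T := T) (x := Lt.yi) (by decide) hu [Lt.yi, Lt.q, Lt.yi, Lt.q, Lt.yi, Lt.q, Lt.y, Lt.y, Lt.y, Lt.q, Lt.y, Lt.y, Lt.q, Lt.yi, Lt.q] (H9.TCY.hole_at hinv hr 32 7 true (by decide +kernel)) h
theorem dp_yi_179_s (hinv : ∀ x, g (inv x) = (g x)⁻¹) (hr : ∀ r ∈ rels, (r.map g).prod = 1) (hH : ∀ r ∈ subs, (r.map g).prod ∈ H)
    (j u : ℕ) (hu : u < M) (h : dp_yi_179 j u = true) : Good (fa g) T MG M (cP g H) Lt.yi u := by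
  unfold dp_yi_179 at h
  rcases brec_true h with h | h
  · exact lF_good (T := T) (x := Lt.yi) (by decide) [Lt.z, Lt.q, Lt.y, Lt.q, Lt.z, Lt.yi, Lt.z, Lt.q, Lt.y, Lt.q, Lt.z, Lt.yi, Lt.z, Lt.q, Lt.y, Lt.q, Lt.z] (H9.TCY.hole_at hinv hr 42 3 false (by decide +kernel)) h
  · exact lF_good (T := T) (x := Lt.yi) (by decide) [Lt.q, Lt.z, Lt.yi, Lt.q, Lt.z, Lt.yi, Lt.q, Lt.z, Lt.yi, Lt.q, Lt.z, Lt.yi, Lt.q, Lt.z, Lt.yi, Lt.q, Lt.z, Lt.yi, Lt.q, Lt.z, Lt.yi, Lt.q, Lt.z] (H9.TCY.hole_at hinv hr 44 1 true (by decide +kernel)) h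
theorem dp_yi_180_s (hinv : ∀ x, g (inv x) = (g x)⁻¹) (hr : ∀ r ∈ rels, (r.map g).prod = 1) (hH : ∀ r ∈ subs, (r.map g).prod ∈ H)
    (j u : ℕ) (hu : u < M) (h : dp_yi_180 j u = true) : Good (fa g) T MG M (cP g H) Lt.yi u := by
  unfold dp_yi_180 at h
  rcases brec_true h with h | h
  · exact dp_yi_178_s hinv hr hH j u hu h
  · exact dp_yi_179_s hinv hr hH j u hu h
theorem dp_yi_181_s (hinv : ∀ x, g (inv x) = (g x)⁻¹) (hr : ∀ r ∈ rels, (r.map g).prod = 1) (hH : ∀ r ∈ subs, (r.map g).prod ∈ H)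
    (j u : ℕ) (hu : u < M) (h : dp_yi_181 j u = true) : Good (fa g) T MG M (cP g H) Lt.yi u := by
  unfold dp_yi_181 at h
  rcases brec_true h with h | h
  · exact dp_yi_177_s hinv hr hH j u hu h
  · exact dp_yi_180_s hinv hr hH j u hu h
theorem dp_yi_182_s (hinv : ∀ x, g (inv x) = (g x)⁻¹) (hr : ∀ r ∈ rels, (r.map g).prod = 1) (hH : ∀ r ∈ subs, (r.map g).prod ∈ H)
    (j u : ℕ) (hu : u < M) (h : dp_yi_182 j u = true) : Good (fa g) T MG M (cP g H) Lt.yi u := by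
  unfold dp_yi_182 at h
  rcases brec_true h with h | h
  · exact dp_yi_175_s hinv hr hH j u hu h
  · exact dp_yi_181_s hinv hr hH j u hu h
theorem dp_yi_183_s (hinv : ∀ x, g (inv x) = (g x)⁻¹) (hr : ∀ r ∈ rels, (r.map g).prod = 1) (hH : ∀ r ∈ subs, (r.map g).prod ∈ H)
    (j u : ℕ) (hu : u < M) (h : dp_yi_183 j u = true) : Good (fa g) T MG M (cP g H) Lt.yi u := by
  unfold dp_yi_183 at h
  rcases brec_true h with h | h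
  · exact lS_good (T := T) (x := Lt.yi) (by decide) hu [Lt.q, Lt.z, Lt.y, Lt.z, Lt.q, Lt.yi, Lt.q, Lt.y, Lt.z, Lt.q, Lt.yi, Lt.q, Lt.z, Lt.y, Lt.q] (H9.TCY.hole_at hinv hr 23 8 true (by decide +kernel)) h
  · exact lF_good (T := T) (x := Lt.yi) (by decide) [Lt.yi, Lt.q, Lt.y, Lt.y, Lt.y, Lt.q, Lt.yi, Lt.yi, Lt.yi, Lt.q, Lt.yi, Lt.yi, Lt.yi, Lt.q, Lt.yi] (H9.TCY.hole_at hinv hr 30 10 false (by decide +kernel)) h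
theorem dp_yi_184_s (hinv : ∀ x, g (inv x) = (g x)⁻¹) (hr : ∀ r ∈ rels, (r.map g).prod = 1) (hH : ∀ r ∈ subs, (r.map g).prod ∈ H)
    (j u : ℕ) (hu : u < M) (h : dp_yi_184 j u = true) : Good (fa g) T MG M (cP g H) Lt.yi u := by
  unfold dp_yi_184 at h
  rcases brec_true h with h | h
  · exact lS_good (T := T) (x := Lt.yi) (by decide) hu [Lt.yi, Lt.z, Lt.q, Lt.yi, Lt.z, Lt.y, Lt.z, Lt.q, Lt.y, Lt.y, Lt.z, Lt.q, Lt.y, Lt.z, Lt.yi, Lt.z, Lt.q] (H9.TCY.hole_at hinv hr 40 8 true (by decide +kernel)) h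
  · exact lS_good (T := T) (x := Lt.yi) (by decide) hu [Lt.z, Lt.y, Lt.z, Lt.q, Lt.yi, Lt.q, Lt.z, Lt.y, Lt.z, Lt.yi, Lt.q, Lt.z, Lt.y, Lt.z, Lt.q] (H9.TCY.hole_at hinv hr 28 12 false (by decide +kernel)) h
theorem dp_yi_185_s (hinv : ∀ x, g (inv x) = (g x)⁻¹) (hr : ∀ r ∈ rels, (r.map g).prod = 1) (hH : ∀ r ∈ subs, (r.map g).prod ∈ H)
    (j u : ℕ) (hu : u < M) (h : dp_yi_185 j u = true) : Good (fa g) T MG M (cP g H) Lt.yi u := by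
  unfold dp_yi_185 at h
  rcases brec_true h with h | h
  · exact dp_yi_183_s hinv hr hH j u hu h
  · exact dp_yi_184_s hinv hr hH j u hu h
theorem dp_yi_186_s (hinv : ∀ x, g (inv x) = (g x)⁻¹) (hr : ∀ r ∈ rels, (r.map g).prod = 1) (hH : ∀ r ∈ subs, (r.map g).prod ∈ H)
    (j u : ℕ) (hu : u < M) (h : dp_yi_186 j u = true) : Good (fa g) T MG M (cP g H) Lt.yi u := by
  unfold dp_yi_186 at h
  rcases brec_true h with h | h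
  · exact lF_good (T := T) (x := Lt.yi) (by decide) [Lt.z, Lt.q, Lt.z, Lt.y, Lt.z, Lt.q, Lt.z, Lt.yi, Lt.z, Lt.q, Lt.z, Lt.y, Lt.z, Lt.q, Lt.z] (H9.TCY.hole_at hinv hr 25 1 false (by decide +kernel)) h
  · exact lS_good (T := T) (x := Lt.yi) (by decide) hu [Lt.q, Lt.yi, Lt.q, Lt.yi, Lt.q, Lt.y, Lt.y, Lt.y, Lt.q, Lt.y, Lt.y, Lt.q, Lt.yi, Lt.q, Lt.yi] (H9.TCY.hole_at hinv hr 32 8 true (by decide +kernel)) h
theorem dp_yi_187_s (hinv : ∀ x, g (inv x) = (g x)⁻¹) (hr : ∀ r ∈ rels, (r.map g).prod = 1) (hH : ∀ r ∈ subs, (r.map g).prod ∈ H)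
    (j u : ℕ) (hu : u < M) (h : dp_yi_187 j u = true) : Good (fa g) T MG M (cP g H) Lt.yi u := by
  unfold dp_yi_187 at h
  rcases brec_true h with h | h
  · exact lS_good (T := T) (x := Lt.yi) (by decide) hu [Lt.z, Lt.q, Lt.yi, Lt.yi, Lt.z, Lt.q, Lt.yi, Lt.z, Lt.y, Lt.z, Lt.q, Lt.y, Lt.y, Lt.z, Lt.q, Lt.y, Lt.z] (H9.TCY.hole_at hinv hr 40 5 true (by decide +kernel)) h
  · exact lS_good (T := T) (x := Lt.yi) (by decide) hu [Lt.q, Lt.z, Lt.yi, Lt.z, Lt.y, Lt.q, Lt.z, Lt.y, Lt.y, Lt.q, Lt.z, Lt.y, Lt.z, Lt.yi, Lt.q, Lt.z, Lt.yi] (H9.TCY.hole_at hinv hr 40 2 false (by decide +kernel)) h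
theorem dp_yi_188_s (hinv : ∀ x, g (inv x) = (g x)⁻¹) (hr : ∀ r ∈ rels, (r.map g).prod = 1) (hH : ∀ r ∈ subs, (r.map g).prod ∈ H)
    (j u : ℕ) (hu : u < M) (h : dp_yi_188 j u = true) : Good (fa g) T MG M (cP g H) Lt.yi u := by
  unfold dp_yi_188 at h
  rcases brec_true h with h | h
  · exact dp_yi_186_s hinv hr hH j u hu h
  · exact dp_yi_187_s hinv hr hH j u hu h
theorem dp_yi_189_s (hinv : ∀ x, g (inv x) = (g x)⁻¹) (hr : ∀ r ∈ rels, (r.map g).prod = 1) (hH : ∀ r ∈ subs, (r.map g).prod ∈ H)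
    (j u : ℕ) (hu : u < M) (h : dp_yi_189 j u = true) : Good (fa g) T MG M (cP g H) Lt.yi u := by
  unfold dp_yi_189 at h
  rcases brec_true h with h | h
  · exact dp_yi_185_s hinv hr hH j u hu h
  · exact dp_yi_188_s hinv hr hH j u hu h
theorem dp_yi_190_s (hinv : ∀ x, g (inv x) = (g x)⁻¹) (hr : ∀ r ∈ rels, (r.map g).prod = 1) (hH : ∀ r ∈ subs, (r.map g).prod ∈ H)
    (j u : ℕ) (hu : u < M) (h : dp_yi_190 j u = true) : Good (fa g) T MG M (cP g H) Lt.yi u := by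
  unfold dp_yi_190 at h
  rcases brec_true h with h | h
  · exact lS_good (T := T) (x := Lt.yi) (by decide) hu [Lt.yi, Lt.yi, Lt.q, Lt.yi, Lt.yi, Lt.yi, Lt.q, Lt.yi, Lt.yi, Lt.yi, Lt.q, Lt.y, Lt.y, Lt.y, Lt.q] (H9.TCY.hole_at hinv hr 30 1 false (by decide +kernel)) h
  · exact lS_good (T := T) (x := Lt.yi) (by decide) hu [Lt.yi, Lt.yi, Lt.q, Lt.yi, Lt.yi, Lt.q, Lt.y, Lt.q, Lt.y, Lt.y, Lt.q, Lt.y, Lt.q, Lt.y, Lt.q] (H9.TCY.hole_at hinv hr 31 1 false (by decide +kernel)) h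
theorem dp_yi_191_s (hinv : ∀ x, g (inv x) = (g x)⁻¹) (hr : ∀ r ∈ rels, (r.map g).prod = 1) (hH : ∀ r ∈ subs, (r.map g).prod ∈ H)
    (j u : ℕ) (hu : u < M) (h : dp_yi_191 j u = true) : Good (fa g) T MG M (cP g H) Lt.yi u := by
  unfold dp_yi_191 at h
  rcases brec_true h with h | h
  · exact lF_good (T := T) (x := Lt.yi) (by decide) [Lt.q, Lt.z, Lt.yi, Lt.q, Lt.z, Lt.yi, Lt.z, Lt.y, Lt.z, Lt.q, Lt.y, Lt.z, Lt.q, Lt.y, Lt.y, Lt.z, Lt.q, Lt.yi, Lt.q, Lt.z, Lt.q, Lt.y, Lt.q, Lt.z, Lt.yi] (H9.TCY.hole_at hinv hr 46 5 false (by decide +kernel)) h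
  · exact lS_good (T := T) (x := Lt.yi) (by decide) hu [Lt.z, Lt.y, Lt.z, Lt.q, Lt.yi, Lt.z, Lt.q, Lt.y, Lt.z, Lt.yi, Lt.q, Lt.z, Lt.y, Lt.q, Lt.z] (H9.TCY.hole_at hinv hr 36 7 false (by decide +kernel)) h
theorem dp_yi_192_s (hinv : ∀ x, g (inv x) = (g x)⁻¹) (hr : ∀ r ∈ rels, (r.map g).prod = 1) (hH : ∀ r ∈ subs, (r.map g).prod ∈ H)
    (j u : ℕ) (hu : u < M) (h : dp_yi_192 j u = true) : Good (fa g) T MG M (cP g H) Lt.yi u := by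
  unfold dp_yi_192 at h
  rcases brec_true h with h | h
  · exact dp_yi_190_s hinv hr hH j u hu h
  · exact dp_yi_191_s hinv hr hH j u hu h
theorem dp_yi_193_s (hinv : ∀ x, g (inv x) = (g x)⁻¹) (hr : ∀ r ∈ rels, (r.map g).prod = 1) (hH : ∀ r ∈ subs, (r.map g).prod ∈ H)
    (j u : ℕ) (hu : u < M) (h : dp_yi_193 j u = true) : Good (fa g) T MG M (cP g H) Lt.yi u := by
  unfold dp_yi_193 at h
  rcases brec_true h with h | h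
  · exact lS_good (T := T) (x := Lt.yi) (by decide) hu [Lt.q, Lt.yi, Lt.yi, Lt.q, Lt.yi, Lt.q, Lt.yi, Lt.q, Lt.y, Lt.y, Lt.y, Lt.q, Lt.y, Lt.y, Lt.q] (H9.TCY.hole_at hinv hr 32 5 true (by decide +kernel)) h
  · exact lF_good (T := T) (x := Lt.yi) (by decide) [Lt.q, Lt.y, Lt.z, Lt.yi, Lt.q, Lt.z, Lt.q, Lt.y, Lt.q, Lt.yi, Lt.z, Lt.y, Lt.q, Lt.z, Lt.q] (H9.TCY.hole_at hinv hr 24 14 true (by decide +kernel)) h
theorem dp_yi_194_s (hinv : ∀ x, g (inv x) = (g x)⁻¹) (hr : ∀ r ∈ rels, (r.map g).prod = 1) (hH : ∀ r ∈ subs, (r.map g).prod ∈ H)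
    (j u : ℕ) (hu : u < M) (h : dp_yi_194 j u = true) : Good (fa g) T MG M (cP g H) Lt.yi u := by
  unfold dp_yi_194 at h
  rcases brec_true h with h | h
  · exact lS_good (T := T) (x := Lt.yi) (by decide) hu [Lt.q, Lt.z, Lt.y, Lt.q, Lt.z, Lt.yi, Lt.z, Lt.y, Lt.z, Lt.q, Lt.yi, Lt.z, Lt.q, Lt.y, Lt.z] (H9.TCY.hole_at hinv hr 36 1 false (by decide +kernel)) h
  · exact lS_good (T := T) (x := Lt.yi) (by decide) hu [Lt.q, Lt.y, Lt.y, Lt.q, Lt.y, Lt.y, Lt.y, Lt.q, Lt.yi, Lt.q, Lt.yi, Lt.q, Lt.yi, Lt.yi, Lt.q] (H9.TCY.hole_at hinv hr 31 9 true (by decide +kernel)) h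
theorem dp_yi_195_s (hinv : ∀ x, g (inv x) = (g x)⁻¹) (hr : ∀ r ∈ rels, (r.map g).prod = 1) (hH : ∀ r ∈ subs, (r.map g).prod ∈ H)
    (j u : ℕ) (hu : u < M) (h : dp_yi_195 j u = true) : Good (fa g) T MG M (cP g H) Lt.yi u := by
  unfold dp_yi_195 at h
  rcases brec_true h with h | h
  · exact lS_good (T := T) (x := Lt.yi) (by decide) hu [Lt.q, Lt.z, Lt.y, Lt.z, Lt.q, Lt.yi, Lt.q, Lt.z, Lt.y, Lt.z, Lt.q, Lt.yi, Lt.q, Lt.z, Lt.y, Lt.z, Lt.q] (H9.TCY.hole_at hinv hr 42 1 true (by decide +kernel)) h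
  · exact dp_yi_194_s hinv hr hH j u hu h
theorem dp_yi_196_s (hinv : ∀ x, g (inv x) = (g x)⁻¹) (hr : ∀ r ∈ rels, (r.map g).prod = 1) (hH : ∀ r ∈ subs, (r.map g).prod ∈ H)
    (j u : ℕ) (hu : u < M) (h : dp_yi_196 j u = true) : Good (fa g) T MG M (cP g H) Lt.yi u := by
  unfold dp_yi_196 at h
  rcases brec_true h with h | h
  · exact dp_yi_193_s hinv hr hH j u hu h
  · exact dp_yi_195_s hinv hr hH j u hu h
theorem dp_yi_197_s (hinv : ∀ x, g (inv x) = (g x)⁻¹) (hr : ∀ r ∈ rels, (r.map g).prod = 1) (hH : ∀ r ∈ subs, (r.map g).prod ∈ H)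
    (j u : ℕ) (hu : u < M) (h : dp_yi_197 j u = true) : Good (fa g) T MG M (cP g H) Lt.yi u := by
  unfold dp_yi_197 at h
  rcases brec_true h with h | h
  · exact dp_yi_192_s hinv hr hH j u hu h
  · exact dp_yi_196_s hinv hr hH j u hu h
theorem dp_yi_198_s (hinv : ∀ x, g (inv x) = (g x)⁻¹) (hr : ∀ r ∈ rels, (r.map g).prod = 1) (hH : ∀ r ∈ subs, (r.map g).prod ∈ H)
    (j u : ℕ) (hu : u < M) (h : dp_yi_198 j u = true) : Good (fa g) T MG M (cP g H) Lt.yi u := by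
  unfold dp_yi_198 at h
  rcases brec_true h with h | h
  · exact dp_yi_189_s hinv hr hH j u hu h
  · exact dp_yi_197_s hinv hr hH j u hu h
theorem dp_yi_199_s (hinv : ∀ x, g (inv x) = (g x)⁻¹) (hr : ∀ r ∈ rels, (r.map g).prod = 1) (hH : ∀ r ∈ subs, (r.map g).prod ∈ H)
    (j u : ℕ) (hu : u < M) (h : dp_yi_199 j u = true) : Good (fa g) T MG M (cP g H) Lt.yi u := by
  unfold dp_yi_199 at h
  rcases brec_true h with h | h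
  · exact dp_yi_182_s hinv hr hH j u hu h
  · exact dp_yi_198_s hinv hr hH j u hu h
theorem dp_yi_200_s (hinv : ∀ x, g (inv x) = (g x)⁻¹) (hr : ∀ r ∈ rels, (r.map g).prod = 1) (hH : ∀ r ∈ subs, (r.map g).prod ∈ H)
    (j u : ℕ) (hu : u < M) (h : dp_yi_200 j u = true) : Good (fa g) T MG M (cP g H) Lt.yi u := by
  unfold dp_yi_200 at h
  rcases brec_true h with h | h
  · exact lS_good (T := T) (x := Lt.yi) (by decide) hu [Lt.z, Lt.q, Lt.y, Lt.z, Lt.yi, Lt.q, Lt.z, Lt.y, Lt.q, Lt.z, Lt.yi, Lt.z, Lt.y, Lt.z, Lt.q] (H9.TCY.hole_at hinv hr 36 12 false (by decide +kernel)) h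
  · exact lS_good (T := T) (x := Lt.yi) (by decide) hu [Lt.q, Lt.y, Lt.z, Lt.q, Lt.yi, Lt.q, Lt.z, Lt.y, Lt.q, Lt.yi, Lt.q, Lt.z, Lt.y, Lt.z, Lt.q] (H9.TCY.hole_at hinv hr 23 14 true (by decide +kernel)) h
theorem dp_yi_201_s (hinv : ∀ x, g (inv x) = (g x)⁻¹) (hr : ∀ r ∈ rels, (r.map g).prod = 1) (hH : ∀ r ∈ subs, (r.map g).prod ∈ H)
    (j u : ℕ) (hu : u < M) (h : dp_yi_201 j u = true) : Good (fa g) T MG M (cP g H) Lt.yi u := by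
  unfold dp_yi_201 at h
  rcases brec_true h with h | h
  · exact lS_good (T := T) (x := Lt.yi) (by decide) hu [Lt.z, Lt.y, Lt.z, Lt.q, Lt.y, Lt.y, Lt.z, Lt.q, Lt.y, Lt.z, Lt.yi, Lt.z, Lt.q, Lt.yi, Lt.yi, Lt.z, Lt.q] (H9.TCY.hole_at hinv hr 40 12 true (by decide +kernel)) h
  · exact lS_good (T := T) (x := Lt.yi) (by decide) hu [Lt.z, Lt.q, Lt.y, Lt.q, Lt.z, Lt.yi, Lt.z, Lt.q, Lt.y, Lt.q, Lt.z, Lt.yi, Lt.z, Lt.q, Lt.y, Lt.q, Lt.z] (H9.TCY.hole_at hinv hr 42 3 false (by decide +kernel)) h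
theorem dp_yi_202_s (hinv : ∀ x, g (inv x) = (g x)⁻¹) (hr : ∀ r ∈ rels, (r.map g).prod = 1) (hH : ∀ r ∈ subs, (r.map g).prod ∈ H)
    (j u : ℕ) (hu : u < M) (h : dp_yi_202 j u = true) : Good (fa g) T MG M (cP g H) Lt.yi u := by
  unfold dp_yi_202 at h
  rcases brec_true h with h | h
  · exact dp_yi_200_s hinv hr hH j u hu h
  · exact dp_yi_201_s hinv hr hH j u hu h
theorem dp_yi_203_s (hinv : ∀ x, g (inv x) = (g x)⁻¹) (hr : ∀ r ∈ rels, (r.map g).prod = 1) (hH : ∀ r ∈ subs, (r.map g).prod ∈ H)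
    (j u : ℕ) (hu : u < M) (h : dp_yi_203 j u = true) : Good (fa g) T MG M (cP g H) Lt.yi u := by
  unfold dp_yi_203 at h
  rcases brec_true h with h | h
  · exact lS_good (T := T) (x := Lt.yi) (by decide) hu [Lt.q, Lt.z, Lt.y, Lt.z, Lt.yi, Lt.q, Lt.z, Lt.y, Lt.z, Lt.q, Lt.yi, Lt.z, Lt.y, Lt.z, Lt.q] (H9.TCY.hole_at hinv hr 28 1 false (by decide +kernel)) h
  · exact lS_good (T := T) (x := Lt.yi) (by decide) hu [Lt.q, Lt.yi, Lt.q, Lt.yi, Lt.yi, Lt.q, Lt.yi, Lt.q, Lt.y, Lt.y, Lt.q, Lt.y, Lt.y, Lt.y, Lt.q] (H9.TCY.hole_at hinv hr 31 2 true (by decide +kernel)) h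
theorem dp_yi_204_s (hinv : ∀ x, g (inv x) = (g x)⁻¹) (hr : ∀ r ∈ rels, (r.map g).prod = 1) (hH : ∀ r ∈ subs, (r.map g).prod ∈ H)
    (j u : ℕ) (hu : u < M) (h : dp_yi_204 j u = true) : Good (fa g) T MG M (cP g H) Lt.yi u := by
  unfold dp_yi_204 at h
  rcases brec_true h with h | h
  · exact lS_good (T := T) (x := Lt.yi) (by decide) hu [Lt.q, Lt.z, Lt.yi, Lt.yi, Lt.q, Lt.z, Lt.yi, Lt.z, Lt.y, Lt.q, Lt.z, Lt.y, Lt.y, Lt.q, Lt.z, Lt.y, Lt.z] (H9.TCY.hole_at hinv hr 40 16 false (by decide +kernel)) h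
  · exact lF_good (T := T) (x := Lt.yi) (by decide) [Lt.q, Lt.z, Lt.yi, Lt.z, Lt.y, Lt.z, Lt.q, Lt.y, Lt.z, Lt.q, Lt.y, Lt.y, Lt.z, Lt.q, Lt.yi, Lt.q, Lt.z, Lt.q, Lt.y, Lt.q, Lt.z, Lt.yi, Lt.yi, Lt.q, Lt.z] (H9.TCY.hole_at hinv hr 46 8 false (by decide +kernel)) h
theorem dp_yi_205_s (hinv : ∀ x, g (inv x) = (g x)⁻¹) (hr : ∀ r ∈ rels, (r.map g).prod = 1) (hH : ∀ r ∈ subs, (r.map g).prod ∈ H)
    (j u : ℕ) (hu : u < M) (h : dp_yi_205 j u = true) : Good (fa g) T MG M (cP g H) Lt.yi u := by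
  unfold dp_yi_205 at h
  rcases brec_true h with h | h
  · exact lS_good (T := T) (x := Lt.yi) (by decide) hu [Lt.q, Lt.yi, Lt.z, Lt.q, Lt.z, Lt.yi, Lt.q, Lt.yi, Lt.q, Lt.yi, Lt.z, Lt.q, Lt.z, Lt.yi, Lt.q] (H9.TCY.hole_at hinv hr 35 3 false (by decide +kernel)) h
  · exact dp_yi_204_s hinv hr hH j u hu h
theorem dp_yi_206_s (hinv : ∀ x, g (inv x) = (g x)⁻¹) (hr : ∀ r ∈ rels, (r.map g).prod = 1) (hH : ∀ r ∈ subs, (r.map g).prod ∈ H)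
    (j u : ℕ) (hu : u < M) (h : dp_yi_206 j u = true) : Good (fa g) T MG M (cP g H) Lt.yi u := by
  unfold dp_yi_206 at h
  rcases brec_true h with h | h
  · exact dp_yi_203_s hinv hr hH j u hu h
  · exact dp_yi_205_s hinv hr hH j u hu h
theorem dp_yi_207_s (hinv : ∀ x, g (inv x) = (g x)⁻¹) (hr : ∀ r ∈ rels, (r.map g).prod = 1) (hH : ∀ r ∈ subs, (r.map g).prod ∈ H)
    (j u : ℕ) (hu : u < M) (h : dp_yi_207 j u = true) : Good (fa g) T MG M (cP g H) Lt.yi u := by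
  unfold dp_yi_207 at h
  rcases brec_true h with h | h
  · exact dp_yi_202_s hinv hr hH j u hu h
  · exact dp_yi_206_s hinv hr hH j u hu h
theorem dp_yi_208_s (hinv : ∀ x, g (inv x) = (g x)⁻¹) (hr : ∀ r ∈ rels, (r.map g).prod = 1) (hH : ∀ r ∈ subs, (r.map g).prod ∈ H)
    (j u : ℕ) (hu : u < M) (h : dp_yi_208 j u = true) : Good (fa g) T MG M (cP g H) Lt.yi u := by
  unfold dp_yi_208 at h
  rcases brec_true h with h | h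
  · exact lS_good (T := T) (x := Lt.yi) (by decide) hu [Lt.yi, Lt.yi, Lt.q, Lt.y, Lt.q, Lt.y, Lt.q, Lt.y, Lt.y, Lt.q, Lt.y, Lt.q, Lt.yi, Lt.yi, Lt.q] (H9.TCY.hole_at hinv hr 32 1 false (by decide +kernel)) h
  · exact lS_good (T := T) (x := Lt.yi) (by decide) hu [Lt.z, Lt.y, Lt.q, Lt.z, Lt.q, Lt.yi, Lt.q, Lt.y, Lt.z, Lt.yi, Lt.q, Lt.z, Lt.q, Lt.y, Lt.q] (H9.TCY.hole_at hinv hr 24 8 true (by decide +kernel)) h
theorem dp_yi_209_s (hinv : ∀ x, g (inv x) = (g x)⁻¹) (hr : ∀ r ∈ rels, (r.map g).prod = 1) (hH : ∀ r ∈ subs, (r.map g).prod ∈ H)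
    (j u : ℕ) (hu : u < M) (h : dp_yi_209 j u = true) : Good (fa g) T MG M (cP g H) Lt.yi u := by
  unfold dp_yi_209 at h
  rcases brec_true h with h | h
  · exact lS_good (T := T) (x := Lt.yi) (by decide) hu [Lt.q, Lt.z, Lt.q, Lt.y, Lt.z, Lt.yi, Lt.q, Lt.y, Lt.q, Lt.z, Lt.q, Lt.yi, Lt.z, Lt.y, Lt.q] (H9.TCY.hole_at hinv hr 24 11 false (by decide +kernel)) h
  · exact lS_good (T := T) (x := Lt.yi) (by decide) hu [Lt.q, Lt.yi, Lt.yi, Lt.q, Lt.yi, Lt.q, Lt.y, Lt.y, Lt.q, Lt.y, Lt.y, Lt.y, Lt.q, Lt.yi, Lt.q] (H9.TCY.hole_at hinv hr 31 4 true (by decide +kernel)) h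
theorem dp_yi_210_s (hinv : ∀ x, g (inv x) = (g x)⁻¹) (hr : ∀ r ∈ rels, (r.map g).prod = 1) (hH : ∀ r ∈ subs, (r.map g).prod ∈ H)
    (j u : ℕ) (hu : u < M) (h : dp_yi_210 j u = true) : Good (fa g) T MG M (cP g H) Lt.yi u := by
  unfold dp_yi_210 at h
  rcases brec_true h with h | h
  · exact lS_good (T := T) (x := Lt.yi) (by decide) hu [Lt.yi, Lt.q, Lt.yi, Lt.yi, Lt.q, Lt.y, Lt.q, Lt.y, Lt.y, Lt.q, Lt.y, Lt.q, Lt.y, Lt.q, Lt.yi] (H9.TCY.hole_at hinv hr 31 2 false (by decide +kernel)) h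
  · exact dp_yi_209_s hinv hr hH j u hu h
theorem dp_yi_211_s (hinv : ∀ x, g (inv x) = (g x)⁻¹) (hr : ∀ r ∈ rels, (r.map g).prod = 1) (hH : ∀ r ∈ subs, (r.map g).prod ∈ H)
    (j u : ℕ) (hu : u < M) (h : dp_yi_211 j u = true) : Good (fa g) T MG M (cP g H) Lt.yi u := by
  unfold dp_yi_211 at h
  rcases brec_true h with h | h
  · exact dp_yi_208_s hinv hr hH j u hu h
  · exact dp_yi_210_s hinv hr hH j u hu h
theorem dp_yi_212_s (hinv : ∀ x, g (inv x) = (g x)⁻¹) (hr : ∀ r ∈ rels, (r.map g).prod = 1) (hH : ∀ r ∈ subs, (r.map g).prod ∈ H)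
    (j u : ℕ) (hu : u < M) (h : dp_yi_212 j u = true) : Good (fa g) T MG M (cP g H) Lt.yi u := by
  unfold dp_yi_212 at h
  rcases brec_true h with h | h
  · exact lS_good (T := T) (x := Lt.yi) (by decide) hu [Lt.yi, Lt.q, Lt.yi, Lt.yi, Lt.yi, Lt.q, Lt.y, Lt.q, Lt.y, Lt.q, Lt.y, Lt.y, Lt.q, Lt.y, Lt.q] (H9.TCY.hole_at hinv hr 32 14 false (by decide +kernel)) h
  · exact lF_good (T := T) (x := Lt.yi) (by decide) [Lt.q, Lt.yi, Lt.q, Lt.y, Lt.y, Lt.y, Lt.q, Lt.y, Lt.y, Lt.q, Lt.yi, Lt.q, Lt.yi, Lt.yi, Lt.q] (H9.TCY.hole_at hinv hr 32 10 true (by decide +kernel)) h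
theorem dp_yi_213_s (hinv : ∀ x, g (inv x) = (g x)⁻¹) (hr : ∀ r ∈ rels, (r.map g).prod = 1) (hH : ∀ r ∈ subs, (r.map g).prod ∈ H)
    (j u : ℕ) (hu : u < M) (h : dp_yi_213 j u = true) : Good (fa g) T MG M (cP g H) Lt.yi u := by
  unfold dp_yi_213 at h
  rcases brec_true h with h | h
  · exact lS_good (T := T) (x := Lt.yi) (by decide) hu [Lt.q, Lt.yi, Lt.yi, Lt.yi, Lt.q, Lt.y, Lt.y, Lt.y, Lt.q, Lt.yi, Lt.yi, Lt.yi, Lt.q, Lt.yi, Lt.yi] (H9.TCY.hole_at hinv hr 30 7 false (by decide +kernel)) h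
  · exact dp_yi_212_s hinv hr hH j u hu h
theorem dp_yi_214_s (hinv : ∀ x, g (inv x) = (g x)⁻¹) (hr : ∀ r ∈ rels, (r.map g).prod = 1) (hH : ∀ r ∈ subs, (r.map g).prod ∈ H)
    (j u : ℕ) (hu : u < M) (h : dp_yi_214 j u = true) : Good (fa g) T MG M (cP g H) Lt.yi u := by
  unfold dp_yi_214 at h
  rcases brec_true h with h | h
  · exact lS_good (T := T) (x := Lt.yi) (by decide) hu [Lt.yi, Lt.q, Lt.z, Lt.yi, Lt.q, Lt.z, Lt.yi, Lt.z, Lt.y, Lt.z, Lt.q, Lt.y, Lt.z, Lt.q, Lt.y, Lt.y, Lt.z, Lt.q, Lt.yi, Lt.q, Lt.z, Lt.q, Lt.y, Lt.q, Lt.z] (H9.TCY.hole_at hinv hr 46 4 false (by decide +kernel)) h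
  · exact lF_good (T := T) (x := Lt.yi) (by decide) [Lt.yi, Lt.yi, Lt.q, Lt.z, Lt.yi, Lt.yi, Lt.z, Lt.q, Lt.yi, Lt.yi, Lt.yi, Lt.q, Lt.z, Lt.yi, Lt.yi, Lt.z, Lt.q, Lt.yi, Lt.yi, Lt.yi, Lt.q, Lt.z, Lt.yi, Lt.yi, Lt.z, Lt.q] (H9.TCY.hole_at hinv hr 47 1 true (by decide +kernel)) h
theorem dp_yi_215_s (hinv : ∀ x, g (inv x) = (g x)⁻¹) (hr : ∀ r ∈ rels, (r.map g).prod = 1) (hH : ∀ r ∈ subs, (r.map g).prod ∈ H)
    (j u : ℕ) (hu : u < M) (h : dp_yi_215 j u = true) : Good (fa g) T MG M (cP g H) Lt.yi u := by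
  unfold dp_yi_215 at h
  rcases brec_true h with h | h
  · exact lS_good (T := T) (x := Lt.yi) (by decide) hu [Lt.z, Lt.y, Lt.q, Lt.z, Lt.y, Lt.y, Lt.q, Lt.z, Lt.y, Lt.z, Lt.yi, Lt.q, Lt.z, Lt.yi, Lt.yi, Lt.q, Lt.z] (H9.TCY.hole_at hinv hr 40 5 false (by decide +kernel)) h
  · exact dp_yi_214_s hinv hr hH j u hu h
theorem dp_yi_216_s (hinv : ∀ x, g (inv x) = (g x)⁻¹) (hr : ∀ r ∈ rels, (r.map g).prod = 1) (hH : ∀ r ∈ subs, (r.map g).prod ∈ H)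
    (j u : ℕ) (hu : u < M) (h : dp_yi_216 j u = true) : Good (fa g) T MG M (cP g H) Lt.yi u := by
  unfold dp_yi_216 at h
  rcases brec_true h with h | h
  · exact dp_yi_213_s hinv hr hH j u hu h
  · exact dp_yi_215_s hinv hr hH j u hu h
theorem dp_yi_217_s (hinv : ∀ x, g (inv x) = (g x)⁻¹) (hr : ∀ r ∈ rels, (r.map g).prod = 1) (hH : ∀ r ∈ subs, (r.map g).prod ∈ H)
    (j u : ℕ) (hu : u < M) (h : dp_yi_217 j u = true) : Good (fa g) T MG M (cP g H) Lt.yi u := by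
  unfold dp_yi_217 at h
  rcases brec_true h with h | h
  · exact dp_yi_211_s hinv hr hH j u hu h
  · exact dp_yi_216_s hinv hr hH j u hu h
theorem dp_yi_218_s (hinv : ∀ x, g (inv x) = (g x)⁻¹) (hr : ∀ r ∈ rels, (r.map g).prod = 1) (hH : ∀ r ∈ subs, (r.map g).prod ∈ H)
    (j u : ℕ) (hu : u < M) (h : dp_yi_218 j u = true) : Good (fa g) T MG M (cP g H) Lt.yi u := by
  unfold dp_yi_218 at h
  rcases brec_true h with h | h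
  · exact dp_yi_207_s hinv hr hH j u hu h
  · exact dp_yi_217_s hinv hr hH j u hu h
theorem dp_yi_219_s (hinv : ∀ x, g (inv x) = (g x)⁻¹) (hr : ∀ r ∈ rels, (r.map g).prod = 1) (hH : ∀ r ∈ subs, (r.map g).prod ∈ H)
    (j u : ℕ) (hu : u < M) (h : dp_yi_219 j u = true) : Good (fa g) T MG M (cP g H) Lt.yi u := by
  unfold dp_yi_219 at h
  rcases brec_true h with h | h
  · exact lS_good (T := T) (x := Lt.yi) (by decide) hu [Lt.q, Lt.z, Lt.yi, Lt.q, Lt.z, Lt.yi, Lt.z, Lt.y, Lt.z, Lt.q, Lt.y, Lt.z, Lt.q, Lt.y, Lt.y, Lt.z, Lt.q, Lt.yi, Lt.q, Lt.z, Lt.q, Lt.y, Lt.q, Lt.z, Lt.yi] (H9.TCY.hole_at hinv hr 46 5 false (by decide +kernel)) h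
  · exact lS_good (T := T) (x := Lt.yi) (by decide) hu [Lt.yi, Lt.yi, Lt.q, Lt.y, Lt.y, Lt.y, Lt.q, Lt.yi, Lt.yi, Lt.yi, Lt.q, Lt.yi, Lt.yi, Lt.yi, Lt.q] (H9.TCY.hole_at hinv hr 30 9 false (by decide +kernel)) h
theorem dp_yi_220_s (hinv : ∀ x, g (inv x) = (g x)⁻¹) (hr : ∀ r ∈ rels, (r.map g).prod = 1) (hH : ∀ r ∈ subs, (r.map g).prod ∈ H)
    (j u : ℕ) (hu : u < M) (h : dp_yi_220 j u = true) : Good (fa g) T MG M (cP g H) Lt.yi u := by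
  unfold dp_yi_220 at h
  rcases brec_true h with h | h
  · exact lF_good (T := T) (x := Lt.yi) (by decide) [Lt.q, Lt.y, Lt.y, Lt.y, Lt.q, Lt.y, Lt.y, Lt.q, Lt.yi, Lt.q, Lt.yi, Lt.yi, Lt.q, Lt.yi, Lt.q] (H9.TCY.hole_at hinv hr 32 12 true (by decide +kernel)) h
  · exact dp_yi_219_s hinv hr hH j u hu h
theorem dp_yi_221_s (hinv : ∀ x, g (inv x) = (g x)⁻¹) (hr : ∀ r ∈ rels, (r.map g).prod = 1) (hH : ∀ r ∈ subs, (r.map g).prod ∈ H)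
    (j u : ℕ) (hu : u < M) (h : dp_yi_221 j u = true) : Good (fa g) T MG M (cP g H) Lt.yi u := by
  unfold dp_yi_221 at h
  rcases brec_true h with h | h
  · exact lS_good (T := T) (x := Lt.yi) (by decide) hu [Lt.q, Lt.z, Lt.yi, Lt.z, Lt.y, Lt.z, Lt.q, Lt.y, Lt.z, Lt.q, Lt.y, Lt.y, Lt.z, Lt.q, Lt.yi, Lt.q, Lt.z, Lt.q, Lt.y, Lt.q, Lt.z, Lt.yi, Lt.yi, Lt.q, Lt.z] (H9.TCY.hole_at hinv hr 46 8 false (by decide +kernel)) h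
  · exact lS_good (T := T) (x := Lt.yi) (by decide) hu [Lt.yi, Lt.q, Lt.z, Lt.yi, Lt.yi, Lt.z, Lt.q, Lt.yi, Lt.yi, Lt.yi, Lt.q, Lt.z, Lt.yi, Lt.yi, Lt.z, Lt.q, Lt.yi, Lt.yi, Lt.yi, Lt.q, Lt.z, Lt.yi, Lt.yi, Lt.z, Lt.q, Lt.yi] (H9.TCY.hole_at hinv hr 47 2 true (by decide +kernel)) h
theorem dp_yi_222_s (hinv : ∀ x, g (inv x) = (g x)⁻¹) (hr : ∀ r ∈ rels, (r.map g).prod = 1) (hH : ∀ r ∈ subs, (r.map g).prod ∈ H)
    (j u : ℕ) (hu : u < M) (h : dp_yi_222 j u = true) : Good (fa g) T MG M (cP g H) Lt.yi u := by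
  unfold dp_yi_222 at h
  rcases brec_true h with h | h
  · exact lF_good (T := T) (x := Lt.yi) (by decide) [Lt.yi, Lt.q, Lt.z, Lt.yi, Lt.yi, Lt.z, Lt.q, Lt.yi, Lt.yi, Lt.yi, Lt.q, Lt.z, Lt.yi, Lt.yi, Lt.z, Lt.q, Lt.yi, Lt.yi, Lt.yi, Lt.q, Lt.z, Lt.yi, Lt.yi, Lt.z, Lt.q, Lt.yi] (H9.TCY.hole_at hinv hr 47 2 true (by decide +kernel)) h
  · exact dp_yi_221_s hinv hr hH j u hu h
theorem dp_yi_223_s (hinv : ∀ x, g (inv x) = (g x)⁻¹) (hr : ∀ r ∈ rels, (r.map g).prod = 1) (hH : ∀ r ∈ subs, (r.map g).prod ∈ H)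
    (j u : ℕ) (hu : u < M) (h : dp_yi_223 j u = true) : Good (fa g) T MG M (cP g H) Lt.yi u := by
  unfold dp_yi_223 at h
  rcases brec_true h with h | h
  · exact dp_yi_220_s hinv hr hH j u hu h
  · exact dp_yi_222_s hinv hr hH j u hu h
theorem dp_yi_224_s (hinv : ∀ x, g (inv x) = (g x)⁻¹) (hr : ∀ r ∈ rels, (r.map g).prod = 1) (hH : ∀ r ∈ subs, (r.map g).prod ∈ H)
    (j u : ℕ) (hu : u < M) (h : dp_yi_224 j u = true) : Good (fa g) T MG M (cP g H) Lt.yi u := by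
  unfold dp_yi_224 at h
  rcases brec_true h with h | h
  · exact lS_good (T := T) (x := Lt.yi) (by decide) hu [Lt.q, Lt.y, Lt.q, Lt.y, Lt.q, Lt.y, Lt.y, Lt.q, Lt.y, Lt.q, Lt.yi, Lt.yi, Lt.q, Lt.yi, Lt.yi] (H9.TCY.hole_at hinv hr 32 3 false (by decide +kernel)) h
  · exact lS_good (T := T) (x := Lt.yi) (by decide) hu [Lt.q, Lt.y, Lt.z, Lt.yi, Lt.q, Lt.z, Lt.q, Lt.y, Lt.q, Lt.yi, Lt.z, Lt.y, Lt.q, Lt.z, Lt.q] (H9.TCY.hole_at hinv hr 24 14 true (by decide +kernel)) h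
theorem dp_yi_225_s (hinv : ∀ x, g (inv x) = (g x)⁻¹) (hr : ∀ r ∈ rels, (r.map g).prod = 1) (hH : ∀ r ∈ subs, (r.map g).prod ∈ H)
    (j u : ℕ) (hu : u < M) (h : dp_yi_225 j u = true) : Good (fa g) T MG M (cP g H) Lt.yi u := by
  unfold dp_yi_225 at h
  rcases brec_true h with h | h
  · exact lS_good (T := T) (x := Lt.yi) (by decide) hu [Lt.v, Lt.q, Lt.z, Lt.q, Lt.z, Lt.y, Lt.z, Lt.q, Lt.z, Lt.q, Lt.v] (H9.TCY.hole_at hinv hr 13 1 true (by decide +kernel)) h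
  · exact lS_good (T := T) (x := Lt.yi) (by decide) hu [Lt.q, Lt.y, Lt.y, Lt.y, Lt.q, Lt.yi, Lt.yi, Lt.yi, Lt.q, Lt.yi, Lt.yi, Lt.yi, Lt.q, Lt.yi, Lt.yi] (H9.TCY.hole_at hinv hr 30 11 false (by decide +kernel)) h
theorem dp_yi_226_s (hinv : ∀ x, g (inv x) = (g x)⁻¹) (hr : ∀ r ∈ rels, (r.map g).prod = 1) (hH : ∀ r ∈ subs, (r.map g).prod ∈ H)
    (j u : ℕ) (hu : u < M) (h : dp_yi_226 j u = true) : Good (fa g) T MG M (cP g H) Lt.yi u := by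
  unfold dp_yi_226 at h
  rcases brec_true h with h | h
  · exact dp_yi_224_s hinv hr hH j u hu h
  · exact dp_yi_225_s hinv hr hH j u hu h
theorem dp_yi_227_s (hinv : ∀ x, g (inv x) = (g x)⁻¹) (hr : ∀ r ∈ rels, (r.map g).prod = 1) (hH : ∀ r ∈ subs, (r.map g).prod ∈ H)
    (j u : ℕ) (hu : u < M) (h : dp_yi_227 j u = true) : Good (fa g) T MG M (cP g H) Lt.yi u := by
  unfold dp_yi_227 at h
  rcases brec_true h with h | h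
  · exact lS_good (T := T) (x := Lt.yi) (by decide) hu [Lt.q, Lt.z, Lt.yi, Lt.yi, Lt.z, Lt.q, Lt.yi, Lt.yi, Lt.yi, Lt.q, Lt.z, Lt.yi, Lt.yi, Lt.z, Lt.q, Lt.yi, Lt.yi, Lt.yi, Lt.q, Lt.z, Lt.yi, Lt.yi, Lt.z, Lt.q, Lt.yi, Lt.yi] (H9.TCY.hole_at hinv hr 47 3 true (by decide +kernel)) h
  · exact lS_good (T := T) (x := Lt.yi) (by decide) hu [Lt.yi, Lt.q, Lt.yi, Lt.yi, Lt.yi, Lt.q, Lt.y, Lt.y, Lt.y, Lt.q, Lt.yi, Lt.yi, Lt.yi, Lt.q, Lt.yi] (H9.TCY.hole_at hinv hr 30 6 false (by decide +kernel)) h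
theorem dp_yi_228_s (hinv : ∀ x, g (inv x) = (g x)⁻¹) (hr : ∀ r ∈ rels, (r.map g).prod = 1) (hH : ∀ r ∈ subs, (r.map g).prod ∈ H)
    (j u : ℕ) (hu : u < M) (h : dp_yi_228 j u = true) : Good (fa g) T MG M (cP g H) Lt.yi u := by
  unfold dp_yi_228 at h
  rcases brec_true h with h | h
  · exact lS_good (T := T) (x := Lt.yi) (by decide) hu [Lt.q, Lt.yi, Lt.q, Lt.y, Lt.y, Lt.y, Lt.q, Lt.y, Lt.y, Lt.q, Lt.yi, Lt.q, Lt.yi, Lt.yi, Lt.q] (H9.TCY.hole_at hinv hr 32 10 true (by decide +kernel)) h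
  · exact lF_good (T := T) (x := Lt.yi) (by decide) [Lt.q, Lt.z, Lt.yi, Lt.yi, Lt.yi, Lt.q, Lt.z, Lt.yi, Lt.q, Lt.z, Lt.yi, Lt.yi, Lt.yi, Lt.q, Lt.z, Lt.yi, Lt.q, Lt.z, Lt.yi, Lt.yi, Lt.yi, Lt.q, Lt.z, Lt.yi, Lt.q, Lt.z, Lt.yi, Lt.yi, Lt.yi, Lt.q, Lt.z] (H9.TCY.hole_at hinv hr 48 6 true (by decide +kernel)) h
theorem dp_yi_229_s (hinv : ∀ x, g (inv x) = (g x)⁻¹) (hr : ∀ r ∈ rels, (r.map g).prod = 1) (hH : ∀ r ∈ subs, (r.map g).prod ∈ H)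
    (j u : ℕ) (hu : u < M) (h : dp_yi_229 j u = true) : Good (fa g) T MG M (cP g H) Lt.yi u := by
  unfold dp_yi_229 at h
  rcases brec_true h with h | h
  · exact dp_yi_227_s hinv hr hH j u hu h
  · exact dp_yi_228_s hinv hr hH j u hu h
theorem dp_yi_230_s (hinv : ∀ x, g (inv x) = (g x)⁻¹) (hr : ∀ r ∈ rels, (r.map g).prod = 1) (hH : ∀ r ∈ subs, (r.map g).prod ∈ H)
    (j u : ℕ) (hu : u < M) (h : dp_yi_230 j u = true) : Good (fa g) T MG M (cP g H) Lt.yi u := by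
  unfold dp_yi_230 at h
  rcases brec_true h with h | h
  · exact dp_yi_226_s hinv hr hH j u hu h
  · exact dp_yi_229_s hinv hr hH j u hu h
theorem dp_yi_231_s (hinv : ∀ x, g (inv x) = (g x)⁻¹) (hr : ∀ r ∈ rels, (r.map g).prod = 1) (hH : ∀ r ∈ subs, (r.map g).prod ∈ H)
    (j u : ℕ) (hu : u < M) (h : dp_yi_231 j u = true) : Good (fa g) T MG M (cP g H) Lt.yi u := by
  unfold dp_yi_231 at h
  rcases brec_true h with h | h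
  · exact dp_yi_223_s hinv hr hH j u hu h
  · exact dp_yi_230_s hinv hr hH j u hu h
theorem dp_yi_232_s (hinv : ∀ x, g (inv x) = (g x)⁻¹) (hr : ∀ r ∈ rels, (r.map g).prod = 1) (hH : ∀ r ∈ subs, (r.map g).prod ∈ H)
    (j u : ℕ) (hu : u < M) (h : dp_yi_232 j u = true) : Good (fa g) T MG M (cP g H) Lt.yi u := by
  unfold dp_yi_232 at h
  rcases brec_true h with h | h
  · exact lS_good (T := T) (x := Lt.yi) (by decide) hu [Lt.yi, Lt.q, Lt.y, Lt.y, Lt.y, Lt.q, Lt.yi, Lt.yi, Lt.yi, Lt.q, Lt.yi, Lt.yi, Lt.yi, Lt.q, Lt.yi] (H9.TCY.hole_at hinv hr 30 10 false (by decide +kernel)) h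
  · exact lF_good (T := T) (x := Lt.yi) (by decide) [Lt.z, Lt.y, Lt.z, Lt.q, Lt.y, Lt.z, Lt.q, Lt.y, Lt.y, Lt.z, Lt.q, Lt.yi, Lt.q, Lt.z, Lt.q, Lt.y, Lt.q, Lt.z, Lt.yi, Lt.yi, Lt.q, Lt.z, Lt.yi, Lt.q, Lt.z] (H9.TCY.hole_at hinv hr 46 11 false (by decide +kernel)) h
theorem dp_yi_233_s (hinv : ∀ x, g (inv x) = (g x)⁻¹) (hr : ∀ r ∈ rels, (r.map g).prod = 1) (hH : ∀ r ∈ subs, (r.map g).prod ∈ H)
    (j u : ℕ) (hu : u < M) (h : dp_yi_233 j u = true) : Good (fa g) T MG M (cP g H) Lt.yi u := by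
  unfold dp_yi_233 at h
  rcases brec_true h with h | h
  · exact lS_good (T := T) (x := Lt.yi) (by decide) hu [Lt.yi, Lt.yi, Lt.q, Lt.z, Lt.yi, Lt.yi, Lt.z, Lt.q, Lt.yi, Lt.yi, Lt.yi, Lt.q, Lt.z, Lt.yi, Lt.yi, Lt.z, Lt.q, Lt.yi, Lt.yi, Lt.yi, Lt.q, Lt.z, Lt.yi, Lt.yi, Lt.z, Lt.q] (H9.TCY.hole_at hinv hr 47 1 true (by decide +kernel)) h
  · exact lF_good (T := T) (x := Lt.yi) (by decide) [Lt.q, Lt.y, Lt.y, Lt.y, Lt.q, Lt.y, Lt.y, Lt.y, Lt.q, Lt.y, Lt.y, Lt.y, Lt.q, Lt.yi, Lt.yi] (H9.TCY.hole_at hinv hr 30 4 true (by decide +kernel)) h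
theorem dp_yi_234_s (hinv : ∀ x, g (inv x) = (g x)⁻¹) (hr : ∀ r ∈ rels, (r.map g).prod = 1) (hH : ∀ r ∈ subs, (r.map g).prod ∈ H)
    (j u : ℕ) (hu : u < M) (h : dp_yi_234 j u = true) : Good (fa g) T MG M (cP g H) Lt.yi u := by
  unfold dp_yi_234 at h
  rcases brec_true h with h | h
  · exact lS_good (T := T) (x := Lt.yi) (by decide) hu [Lt.yi, Lt.yi, Lt.q, Lt.z, Lt.yi, Lt.q, Lt.z, Lt.yi, Lt.yi, Lt.yi, Lt.q, Lt.z, Lt.yi, Lt.q, Lt.z, Lt.yi, Lt.yi, Lt.yi, Lt.q, Lt.z, Lt.yi, Lt.q, Lt.z, Lt.yi, Lt.yi, Lt.yi, Lt.q, Lt.z, Lt.yi, Lt.q, Lt.z] (H9.TCY.hole_at hinv hr 48 1 true (by decide +kernel)) h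
  · exact dp_yi_233_s hinv hr hH j u hu h
theorem dp_yi_235_s (hinv : ∀ x, g (inv x) = (g x)⁻¹) (hr : ∀ r ∈ rels, (r.map g).prod = 1) (hH : ∀ r ∈ subs, (r.map g).prod ∈ H)
    (j u : ℕ) (hu : u < M) (h : dp_yi_235 j u = true) : Good (fa g) T MG M (cP g H) Lt.yi u := by
  unfold dp_yi_235 at h
  rcases brec_true h with h | h
  · exact dp_yi_232_s hinv hr hH j u hu h
  · exact dp_yi_234_s hinv hr hH j u hu h
theorem dp_yi_236_s (hinv : ∀ x, g (inv x) = (g x)⁻¹) (hr : ∀ r ∈ rels, (r.map g).prod = 1) (hH : ∀ r ∈ subs, (r.map g).prod ∈ H)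
    (j u : ℕ) (hu : u < M) (h : dp_yi_236 j u = true) : Good (fa g) T MG M (cP g H) Lt.yi u := by
  unfold dp_yi_236 at h
  rcases brec_true h with h | h
  · exact lF_good (T := T) (x := Lt.yi) (by decide) [Lt.q, Lt.z, Lt.yi, Lt.yi, Lt.z, Lt.q, Lt.yi, Lt.yi, Lt.yi, Lt.q, Lt.z, Lt.yi, Lt.yi, Lt.z, Lt.q, Lt.yi, Lt.yi, Lt.yi, Lt.q, Lt.z, Lt.yi, Lt.yi, Lt.z, Lt.q, Lt.yi, Lt.yi] (H9.TCY.hole_at hinv hr 47 3 true (by decide +kernel)) h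
  · exact lS_good (T := T) (x := Lt.yi) (by decide) hu [Lt.q, Lt.z, Lt.yi, Lt.yi, Lt.yi, Lt.q, Lt.z, Lt.yi, Lt.q, Lt.z, Lt.yi, Lt.yi, Lt.yi, Lt.q, Lt.z, Lt.yi, Lt.q, Lt.z, Lt.yi, Lt.yi, Lt.yi, Lt.q, Lt.z, Lt.yi, Lt.q, Lt.z, Lt.yi, Lt.yi, Lt.yi, Lt.q, Lt.z] (H9.TCY.hole_at hinv hr 48 6 true (by decide +kernel)) h
theorem dp_yi_237_s (hinv : ∀ x, g (inv x) = (g x)⁻¹) (hr : ∀ r ∈ rels, (r.map g).prod = 1) (hH : ∀ r ∈ subs, (r.map g).prod ∈ H)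
    (j u : ℕ) (hu : u < M) (h : dp_yi_237 j u = true) : Good (fa g) T MG M (cP g H) Lt.yi u := by
  unfold dp_yi_237 at h
  rcases brec_true h with h | h
  · exact lS_good (T := T) (x := Lt.yi) (by decide) hu [Lt.z, Lt.q, Lt.z, Lt.y, Lt.z, Lt.q, Lt.z, Lt.yi, Lt.z, Lt.q, Lt.z, Lt.y, Lt.z, Lt.q, Lt.z] (H9.TCY.hole_at hinv hr 25 1 false (by decide +kernel)) h
  · exact lS_good (T := T) (x := Lt.yi) (by decide) hu [Lt.yi, Lt.q, Lt.z, Lt.yi, Lt.q, Lt.z, Lt.yi, Lt.yi, Lt.yi, Lt.q, Lt.z, Lt.yi, Lt.q, Lt.z, Lt.yi, Lt.yi, Lt.yi, Lt.q, Lt.z, Lt.yi, Lt.q, Lt.z, Lt.yi, Lt.yi, Lt.yi, Lt.q, Lt.z, Lt.yi, Lt.q, Lt.z, Lt.yi] (H9.TCY.hole_at hinv hr 48 2 true (by decide +kernel)) h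
theorem dp_yi_238_s (hinv : ∀ x, g (inv x) = (g x)⁻¹) (hr : ∀ r ∈ rels, (r.map g).prod = 1) (hH : ∀ r ∈ subs, (r.map g).prod ∈ H)
    (j u : ℕ) (hu : u < M) (h : dp_yi_238 j u = true) : Good (fa g) T MG M (cP g H) Lt.yi u := by
  unfold dp_yi_238 at h
  rcases brec_true h with h | h
  · exact lS_good (T := T) (x := Lt.yi) (by decide) hu [Lt.yi, Lt.q, Lt.y, Lt.q, Lt.y, Lt.q, Lt.y, Lt.y, Lt.q, Lt.y, Lt.q, Lt.yi, Lt.yi, Lt.q, Lt.yi] (H9.TCY.hole_at hinv hr 32 2 false (by decide +kernel)) h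
  · exact dp_yi_237_s hinv hr hH j u hu h
theorem dp_yi_239_s (hinv : ∀ x, g (inv x) = (g x)⁻¹) (hr : ∀ r ∈ rels, (r.map g).prod = 1) (hH : ∀ r ∈ subs, (r.map g).prod ∈ H)
    (j u : ℕ) (hu : u < M) (h : dp_yi_239 j u = true) : Good (fa g) T MG M (cP g H) Lt.yi u := by
  unfold dp_yi_239 at h
  rcases brec_true h with h | h
  · exact dp_yi_236_s hinv hr hH j u hu h
  · exact dp_yi_238_s hinv hr hH j u hu h
theorem dp_yi_240_s (hinv : ∀ x, g (inv x) = (g x)⁻¹) (hr : ∀ r ∈ rels, (r.map g).prod = 1) (hH : ∀ r ∈ subs, (r.map g).prod ∈ H)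
    (j u : ℕ) (hu : u < M) (h : dp_yi_240 j u = true) : Good (fa g) T MG M (cP g H) Lt.yi u := by
  unfold dp_yi_240 at h
  rcases brec_true h with h | h
  · exact dp_yi_235_s hinv hr hH j u hu h
  · exact dp_yi_239_s hinv hr hH j u hu h
theorem dp_yi_241_s (hinv : ∀ x, g (inv x) = (g x)⁻¹) (hr : ∀ r ∈ rels, (r.map g).prod = 1) (hH : ∀ r ∈ subs, (r.map g).prod ∈ H)
    (j u : ℕ) (hu : u < M) (h : dp_yi_241 j u = true) : Good (fa g) T MG M (cP g H) Lt.yi u := by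
  unfold dp_yi_241 at h
  rcases brec_true h with h | h
  · exact lS_good (T := T) (x := Lt.yi) (by decide) hu [Lt.z, Lt.y, Lt.z, Lt.q, Lt.y, Lt.z, Lt.q, Lt.y, Lt.y, Lt.z, Lt.q, Lt.yi, Lt.q, Lt.z, Lt.q, Lt.y, Lt.q, Lt.z, Lt.yi, Lt.yi, Lt.q, Lt.z, Lt.yi, Lt.q, Lt.z] (H9.TCY.hole_at hinv hr 46 11 false (by decide +kernel)) h
  · exact lF_good (T := T) (x := Lt.yi) (by decide) [Lt.yi, Lt.yi, Lt.q, Lt.y, Lt.y, Lt.y, Lt.q, Lt.y, Lt.y, Lt.y, Lt.q, Lt.y, Lt.y, Lt.y, Lt.q] (H9.TCY.hole_at hinv hr 30 2 true (by decide +kernel)) h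
theorem dp_yi_242_s (hinv : ∀ x, g (inv x) = (g x)⁻¹) (hr : ∀ r ∈ rels, (r.map g).prod = 1) (hH : ∀ r ∈ subs, (r.map g).prod ∈ H)
    (j u : ℕ) (hu : u < M) (h : dp_yi_242 j u = true) : Good (fa g) T MG M (cP g H) Lt.yi u := by
  unfold dp_yi_242 at h
  rcases brec_true h with h | h
  · exact lS_good (T := T) (x := Lt.yi) (by decide) hu [Lt.q, Lt.y, Lt.y, Lt.y, Lt.q, Lt.y, Lt.y, Lt.q, Lt.yi, Lt.q, Lt.yi, Lt.yi, Lt.q, Lt.yi, Lt.q] (H9.TCY.hole_at hinv hr 32 12 true (by decide +kernel)) h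
  · exact dp_yi_241_s hinv hr hH j u hu h
theorem dp_yi_243_s (hinv : ∀ x, g (inv x) = (g x)⁻¹) (hr : ∀ r ∈ rels, (r.map g).prod = 1) (hH : ∀ r ∈ subs, (r.map g).prod ∈ H)
    (j u : ℕ) (hu : u < M) (h : dp_yi_243 j u = true) : Good (fa g) T MG M (cP g H) Lt.yi u := by
  unfold dp_yi_243 at h
  rcases brec_true h with h | h
  · exact lF_good (T := T) (x := Lt.yi) (by decide) [Lt.yi, Lt.yi, Lt.q, Lt.z, Lt.yi, Lt.q, Lt.z, Lt.yi, Lt.yi, Lt.yi, Lt.q, Lt.z, Lt.yi, Lt.q, Lt.z, Lt.yi, Lt.yi, Lt.yi, Lt.q, Lt.z, Lt.yi, Lt.q, Lt.z, Lt.yi, Lt.yi, Lt.yi, Lt.q, Lt.z, Lt.yi, Lt.q, Lt.z] (H9.TCY.hole_at hinv hr 48 1 true (by decide +kernel)) h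
  · exact lF_good (T := T) (x := Lt.yi) (by decide) [Lt.yi, Lt.q, Lt.z, Lt.yi, Lt.q, Lt.z, Lt.yi, Lt.yi, Lt.yi, Lt.q, Lt.z, Lt.yi, Lt.q, Lt.z, Lt.yi, Lt.yi, Lt.yi, Lt.q, Lt.z, Lt.yi, Lt.q, Lt.z, Lt.yi, Lt.yi, Lt.yi, Lt.q, Lt.z, Lt.yi, Lt.q, Lt.z, Lt.yi] (H9.TCY.hole_at hinv hr 48 2 true (by decide +kernel)) h
theorem dp_yi_244_s (hinv : ∀ x, g (inv x) = (g x)⁻¹) (hr : ∀ r ∈ rels, (r.map g).prod = 1) (hH : ∀ r ∈ subs, (r.map g).prod ∈ H)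
    (j u : ℕ) (hu : u < M) (h : dp_yi_244 j u = true) : Good (fa g) T MG M (cP g H) Lt.yi u := by
  unfold dp_yi_244 at h
  rcases brec_true h with h | h
  · exact lS_good (T := T) (x := Lt.yi) (by decide) hu [Lt.q, Lt.z, Lt.yi, Lt.q, Lt.z, Lt.yi, Lt.yi, Lt.yi, Lt.q, Lt.z, Lt.yi, Lt.q, Lt.z, Lt.yi, Lt.yi, Lt.yi, Lt.q, Lt.z, Lt.yi, Lt.q, Lt.z, Lt.yi, Lt.yi, Lt.yi, Lt.q, Lt.z, Lt.yi, Lt.q, Lt.z, Lt.yi, Lt.yi] (H9.TCY.hole_at hinv hr 48 3 true (by decide +kernel)) h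
  · exact lF_good (T := T) (x := Lt.yi) (by decide) [Lt.yi, Lt.q, Lt.y, Lt.y, Lt.y, Lt.q, Lt.y, Lt.y, Lt.y, Lt.q, Lt.y, Lt.y, Lt.y, Lt.q, Lt.yi] (H9.TCY.hole_at hinv hr 30 3 true (by decide +kernel)) h
theorem dp_yi_245_s (hinv : ∀ x, g (inv x) = (g x)⁻¹) (hr : ∀ r ∈ rels, (r.map g).prod = 1) (hH : ∀ r ∈ subs, (r.map g).prod ∈ H)
    (j u : ℕ) (hu : u < M) (h : dp_yi_245 j u = true) : Good (fa g) T MG M (cP g H) Lt.yi u := by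
  unfold dp_yi_245 at h
  rcases brec_true h with h | h
  · exact dp_yi_243_s hinv hr hH j u hu h
  · exact dp_yi_244_s hinv hr hH j u hu h
theorem dp_yi_246_s (hinv : ∀ x, g (inv x) = (g x)⁻¹) (hr : ∀ r ∈ rels, (r.map g).prod = 1) (hH : ∀ r ∈ subs, (r.map g).prod ∈ H)
    (j u : ℕ) (hu : u < M) (h : dp_yi_246 j u = true) : Good (fa g) T MG M (cP g H) Lt.yi u := by
  unfold dp_yi_246 at h
  rcases brec_true h with h | h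
  · exact dp_yi_242_s hinv hr hH j u hu h
  · exact dp_yi_245_s hinv hr hH j u hu h
theorem dp_yi_247_s (hinv : ∀ x, g (inv x) = (g x)⁻¹) (hr : ∀ r ∈ rels, (r.map g).prod = 1) (hH : ∀ r ∈ subs, (r.map g).prod ∈ H)
    (j u : ℕ) (hu : u < M) (h : dp_yi_247 j u = true) : Good (fa g) T MG M (cP g H) Lt.yi u := by
  unfold dp_yi_247 at h
  rcases brec_true h with h | h
  · exact lF_good (T := T) (x := Lt.yi) (by decide) [Lt.q, Lt.z, Lt.q, Lt.y, Lt.q, Lt.z, Lt.yi, Lt.yi, Lt.q, Lt.z, Lt.yi, Lt.q, Lt.z, Lt.yi, Lt.z, Lt.y, Lt.z, Lt.q, Lt.y, Lt.z, Lt.q, Lt.y, Lt.y, Lt.z, Lt.q] (H9.TCY.hole_at hinv hr 46 23 false (by decide +kernel)) h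
  · exact lS_good (T := T) (x := Lt.yi) (by decide) hu [Lt.q, Lt.z, Lt.q, Lt.y, Lt.q, Lt.z, Lt.yi, Lt.yi, Lt.q, Lt.z, Lt.yi, Lt.q, Lt.z, Lt.yi, Lt.z, Lt.y, Lt.z, Lt.q, Lt.y, Lt.z, Lt.q, Lt.y, Lt.y, Lt.z, Lt.q] (H9.TCY.hole_at hinv hr 46 23 false (by decide +kernel)) h
theorem dp_yi_248_s (hinv : ∀ x, g (inv x) = (g x)⁻¹) (hr : ∀ r ∈ rels, (r.map g).prod = 1) (hH : ∀ r ∈ subs, (r.map g).prod ∈ H)
    (j u : ℕ) (hu : u < M) (h : dp_yi_248 j u = true) : Good (fa g) T MG M (cP g H) Lt.yi u := by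
  unfold dp_yi_248 at h
  rcases brec_true h with h | h
  · exact lS_good (T := T) (x := Lt.yi) (by decide) hu [Lt.yi, Lt.yi, Lt.q, Lt.y, Lt.y, Lt.y, Lt.q, Lt.y, Lt.y, Lt.y, Lt.q, Lt.y, Lt.y, Lt.y, Lt.q] (H9.TCY.hole_at hinv hr 30 2 true (by decide +kernel)) h
  · exact lS_good (T := T) (x := Lt.yi) (by decide) hu [Lt.q, Lt.y, Lt.y, Lt.y, Lt.q, Lt.y, Lt.y, Lt.y, Lt.q, Lt.y, Lt.y, Lt.y, Lt.q, Lt.yi, Lt.yi] (H9.TCY.hole_at hinv hr 30 4 true (by decide +kernel)) h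
theorem dp_yi_249_s (hinv : ∀ x, g (inv x) = (g x)⁻¹) (hr : ∀ r ∈ rels, (r.map g).prod = 1) (hH : ∀ r ∈ subs, (r.map g).prod ∈ H)
    (j u : ℕ) (hu : u < M) (h : dp_yi_249 j u = true) : Good (fa g) T MG M (cP g H) Lt.yi u := by
  unfold dp_yi_249 at h
  rcases brec_true h with h | h
  · exact lF_good (T := T) (x := Lt.yi) (by decide) [Lt.q, Lt.z, Lt.yi, Lt.q, Lt.z, Lt.yi, Lt.yi, Lt.yi, Lt.q, Lt.z, Lt.yi, Lt.q, Lt.z, Lt.yi, Lt.yi, Lt.yi, Lt.q, Lt.z, Lt.yi, Lt.q, Lt.z, Lt.yi, Lt.yi, Lt.yi, Lt.q, Lt.z, Lt.yi, Lt.q, Lt.z, Lt.yi, Lt.yi] (H9.TCY.hole_at hinv hr 48 3 true (by decide +kernel)) h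
  · exact dp_yi_248_s hinv hr hH j u hu h
theorem dp_yi_250_s (hinv : ∀ x, g (inv x) = (g x)⁻¹) (hr : ∀ r ∈ rels, (r.map g).prod = 1) (hH : ∀ r ∈ subs, (r.map g).prod ∈ H)
    (j u : ℕ) (hu : u < M) (h : dp_yi_250 j u = true) : Good (fa g) T MG M (cP g H) Lt.yi u := by
  unfold dp_yi_250 at h
  rcases brec_true h with h | h
  · exact dp_yi_247_s hinv hr hH j u hu h
  · exact dp_yi_249_s hinv hr hH j u hu h
theorem dp_yi_251_s (hinv : ∀ x, g (inv x) = (g x)⁻¹) (hr : ∀ r ∈ rels, (r.map g).prod = 1) (hH : ∀ r ∈ subs, (r.map g).prod ∈ H)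
    (j u : ℕ) (hu : u < M) (h : dp_yi_251 j u = true) : Good (fa g) T MG M (cP g H) Lt.yi u := by
  unfold dp_yi_251 at h
  rcases brec_true h with h | h
  · exact lS_good (T := T) (x := Lt.yi) (by decide) hu [Lt.z, Lt.y, Lt.y, Lt.y, Lt.z, Lt.q, Lt.y, Lt.z, Lt.q, Lt.y, Lt.z, Lt.q, Lt.yi, Lt.q, Lt.z, Lt.yi, Lt.q, Lt.z, Lt.yi, Lt.yi, Lt.yi, Lt.z, Lt.y, Lt.y, Lt.y, Lt.z, Lt.q, Lt.y, Lt.z, Lt.q, Lt.y, Lt.z, Lt.q, Lt.yi, Lt.q, Lt.z, Lt.yi, Lt.q, Lt.z, Lt.yi, Lt.yi, Lt.yi, Lt.z, Lt.y, Lt.y, Lt.y, Lt.z, Lt.q, Lt.y, Lt.z, Lt.q, Lt.y, Lt.z, Lt.q, Lt.z, Lt.yi, Lt.q, Lt.z, Lt.yi, Lt.q, Lt.z, Lt.yi, Lt.yi] (H9.TCY.hole_at hinv hr 49 10 false (by decide +kernel)) h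
  · exact lS_good (T := T) (x := Lt.yi) (by decide) hu [Lt.yi, Lt.q, Lt.y, Lt.y, Lt.y, Lt.q, Lt.y, Lt.y, Lt.y, Lt.q, Lt.y, Lt.y, Lt.y, Lt.q, Lt.yi] (H9.TCY.hole_at hinv hr 30 3 true (by decide +kernel)) h
theorem dp_yi_252_s (hinv : ∀ x, g (inv x) = (g x)⁻¹) (hr : ∀ r ∈ rels, (r.map g).prod = 1) (hH : ∀ r ∈ subs, (r.map g).prod ∈ H)
    (j u : ℕ) (hu : u < M) (h : dp_yi_252 j u = true) : Good (fa g) T MG M (cP g H) Lt.yi u := by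
  unfold dp_yi_252 at h
  rcases brec_true h with h | h
  · exact lS_good (T := T) (x := Lt.yi) (by decide) hu [Lt.z, Lt.y, Lt.y, Lt.y, Lt.z, Lt.q, Lt.y, Lt.z, Lt.q, Lt.y, Lt.z, Lt.q, Lt.yi, Lt.q, Lt.z, Lt.yi, Lt.q, Lt.z, Lt.yi, Lt.yi, Lt.yi, Lt.z, Lt.y, Lt.y, Lt.y, Lt.z, Lt.q, Lt.y, Lt.z, Lt.q, Lt.y, Lt.z, Lt.q, Lt.z, Lt.yi, Lt.q, Lt.z, Lt.yi, Lt.q, Lt.z, Lt.yi, Lt.yi, Lt.yi, Lt.z, Lt.y, Lt.y, Lt.y, Lt.z, Lt.q, Lt.y, Lt.z, Lt.q, Lt.y, Lt.z, Lt.q, Lt.yi, Lt.q, Lt.z, Lt.yi, Lt.q, Lt.z, Lt.yi, Lt.yi] (H9.TCY.hole_at hinv hr 49 31 false (by decide +kernel)) h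
  · exact lS_good (T := T) (x := Lt.yi) (by decide) hu [Lt.q, Lt.z, Lt.yi, Lt.q, Lt.z, Lt.yi, Lt.yi, Lt.yi, Lt.z, Lt.y, Lt.y, Lt.y, Lt.z, Lt.q, Lt.y, Lt.z, Lt.q, Lt.y, Lt.z, Lt.q, Lt.yi, Lt.q, Lt.z, Lt.yi, Lt.q, Lt.z, Lt.yi, Lt.yi, Lt.yi, Lt.z, Lt.y, Lt.y, Lt.y, Lt.z, Lt.q, Lt.y, Lt.z, Lt.q, Lt.y, Lt.z, Lt.q, Lt.z, Lt.yi, Lt.q, Lt.z, Lt.yi, Lt.q, Lt.z, Lt.yi, Lt.yi, Lt.yi, Lt.z, Lt.y, Lt.y, Lt.y, Lt.z, Lt.q, Lt.y, Lt.z, Lt.q, Lt.y, Lt.z, Lt.q] (H9.TCY.hole_at hinv hr 49 23 false (by decide +kernel)) h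
theorem dp_yi_253_s (hinv : ∀ x, g (inv x) = (g x)⁻¹) (hr : ∀ r ∈ rels, (r.map g).prod = 1) (hH : ∀ r ∈ subs, (r.map g).prod ∈ H)
    (j u : ℕ) (hu : u < M) (h : dp_yi_253 j u = true) : Good (fa g) T MG M (cP g H) Lt.yi u := by
  unfold dp_yi_253 at h
  rcases brec_true h with h | h
  · exact lS_good (T := T) (x := Lt.yi) (by decide) hu [Lt.yi, Lt.yi, Lt.z, Lt.y, Lt.y, Lt.y, Lt.z, Lt.q, Lt.y, Lt.z, Lt.q, Lt.y, Lt.z, Lt.q, Lt.yi, Lt.q, Lt.z, Lt.yi, Lt.q, Lt.z, Lt.yi, Lt.yi, Lt.yi, Lt.z, Lt.y, Lt.y, Lt.y, Lt.z, Lt.q, Lt.y, Lt.z, Lt.q, Lt.y, Lt.z, Lt.q, Lt.z, Lt.yi, Lt.q, Lt.z, Lt.yi, Lt.q, Lt.z, Lt.yi, Lt.yi, Lt.yi, Lt.z, Lt.y, Lt.y, Lt.y, Lt.z, Lt.q, Lt.y, Lt.z, Lt.q, Lt.y, Lt.z, Lt.q, Lt.yi, Lt.q, Lt.z, Lt.yi, Lt.q, Lt.z] (H9.TCY.hole_at hinv hr 49 29 false (by decide +kernel)) h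
  · exact lS_good (T := T) (x := Lt.yi) (by decide) hu [Lt.yi, Lt.z, Lt.y, Lt.y, Lt.y, Lt.z, Lt.q, Lt.y, Lt.z, Lt.q, Lt.y, Lt.z, Lt.q, Lt.yi, Lt.q, Lt.z, Lt.yi, Lt.q, Lt.z, Lt.yi, Lt.yi, Lt.yi, Lt.z, Lt.y, Lt.y, Lt.y, Lt.z, Lt.q, Lt.y, Lt.z, Lt.q, Lt.y, Lt.z, Lt.q, Lt.yi, Lt.q, Lt.z, Lt.yi, Lt.q, Lt.z, Lt.yi, Lt.yi, Lt.yi, Lt.z, Lt.y, Lt.y, Lt.y, Lt.z, Lt.q, Lt.y, Lt.z, Lt.q, Lt.y, Lt.z, Lt.q, Lt.z, Lt.yi, Lt.q, Lt.z, Lt.yi, Lt.q, Lt.z, Lt.yi] (H9.TCY.hole_at hinv hr 49 9 false (by decide +kernel)) h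
theorem dp_yi_254_s (hinv : ∀ x, g (inv x) = (g x)⁻¹) (hr : ∀ r ∈ rels, (r.map g).prod = 1) (hH : ∀ r ∈ subs, (r.map g).prod ∈ H)
    (j u : ℕ) (hu : u < M) (h : dp_yi_254 j u = true) : Good (fa g) T MG M (cP g H) Lt.yi u := by
  unfold dp_yi_254 at h
  rcases brec_true h with h | h
  · exact lS_good (T := T) (x := Lt.yi) (by decide) hu [Lt.z, Lt.y, Lt.y, Lt.y, Lt.z, Lt.q, Lt.y, Lt.z, Lt.q, Lt.y, Lt.q, Lt.z, Lt.yi, Lt.q, Lt.z, Lt.yi, Lt.q, Lt.z, Lt.yi, Lt.yi, Lt.yi, Lt.z, Lt.y, Lt.y, Lt.y, Lt.z, Lt.q, Lt.y, Lt.z, Lt.q, Lt.y, Lt.q, Lt.z, Lt.yi, Lt.q, Lt.z, Lt.yi, Lt.q, Lt.z, Lt.yi, Lt.yi, Lt.yi, Lt.z, Lt.y, Lt.y, Lt.y, Lt.z, Lt.q, Lt.y, Lt.z, Lt.q, Lt.y, Lt.z, Lt.q, Lt.z, Lt.yi, Lt.q, Lt.z, Lt.yi, Lt.q, Lt.z, Lt.yi, Lt.yi] (H9.TCY.hole_at hinv hr 49 11 true (by decide +kernel)) h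
  · exact dp_yi_253_s hinv hr hH j u hu h
theorem dp_yi_255_s (hinv : ∀ x, g (inv x) = (g x)⁻¹) (hr : ∀ r ∈ rels, (r.map g).prod = 1) (hH : ∀ r ∈ subs, (r.map g).prod ∈ H)
    (j u : ℕ) (hu : u < M) (h : dp_yi_255 j u = true) : Good (fa g) T MG M (cP g H) Lt.yi u := by
  unfold dp_yi_255 at h
  rcases brec_true h with h | h
  · exact dp_yi_252_s hinv hr hH j u hu h
  · exact dp_yi_254_s hinv hr hH j u hu h
theorem dp_yi_256_s (hinv : ∀ x, g (inv x) = (g x)⁻¹) (hr : ∀ r ∈ rels, (r.map g).prod = 1) (hH : ∀ r ∈ subs, (r.map g).prod ∈ H)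
    (j u : ℕ) (hu : u < M) (h : dp_yi_256 j u = true) : Good (fa g) T MG M (cP g H) Lt.yi u := by
  unfold dp_yi_256 at h
  rcases brec_true h with h | h
  · exact dp_yi_251_s hinv hr hH j u hu h
  · exact dp_yi_255_s hinv hr hH j u hu h
theorem dp_yi_257_s (hinv : ∀ x, g (inv x) = (g x)⁻¹) (hr : ∀ r ∈ rels, (r.map g).prod = 1) (hH : ∀ r ∈ subs, (r.map g).prod ∈ H)
    (j u : ℕ) (hu : u < M) (h : dp_yi_257 j u = true) : Good (fa g) T MG M (cP g H) Lt.yi u := by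
  unfold dp_yi_257 at h
  rcases brec_true h with h | h
  · exact lS_good (T := T) (x := Lt.yi) (by decide) hu [Lt.z, Lt.y, Lt.y, Lt.y, Lt.z, Lt.q, Lt.y, Lt.z, Lt.q, Lt.y, Lt.q, Lt.z, Lt.yi, Lt.q, Lt.z, Lt.yi, Lt.q, Lt.z, Lt.yi, Lt.yi, Lt.yi, Lt.z, Lt.y, Lt.y, Lt.y, Lt.z, Lt.q, Lt.y, Lt.z, Lt.q, Lt.y, Lt.z, Lt.q, Lt.z, Lt.yi, Lt.q, Lt.z, Lt.yi, Lt.q, Lt.z, Lt.yi, Lt.yi, Lt.yi, Lt.z, Lt.y, Lt.y, Lt.y, Lt.z, Lt.q, Lt.y, Lt.z, Lt.q, Lt.y, Lt.q, Lt.z, Lt.yi, Lt.q, Lt.z, Lt.yi, Lt.q, Lt.z, Lt.yi, Lt.yi] (H9.TCY.hole_at hinv hr 49 32 true (by decide +kernel)) h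
  · exact lS_good (T := T) (x := Lt.yi) (by decide) hu [Lt.yi, Lt.z, Lt.y, Lt.y, Lt.y, Lt.z, Lt.q, Lt.y, Lt.z, Lt.q, Lt.y, Lt.z, Lt.q, Lt.z, Lt.yi, Lt.q, Lt.z, Lt.yi, Lt.q, Lt.z, Lt.yi, Lt.yi, Lt.yi, Lt.z, Lt.y, Lt.y, Lt.y, Lt.z, Lt.q, Lt.y, Lt.z, Lt.q, Lt.y, Lt.z, Lt.q, Lt.yi, Lt.q, Lt.z, Lt.yi, Lt.q, Lt.z, Lt.yi, Lt.yi, Lt.yi, Lt.z, Lt.y, Lt.y, Lt.y, Lt.z, Lt.q, Lt.y, Lt.z, Lt.q, Lt.y, Lt.z, Lt.q, Lt.yi, Lt.q, Lt.z, Lt.yi, Lt.q, Lt.z, Lt.yi] (H9.TCY.hole_at hinv hr 49 51 false (by decide +kernel)) h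
theorem dp_yi_258_s (hinv : ∀ x, g (inv x) = (g x)⁻¹) (hr : ∀ r ∈ rels, (r.map g).prod = 1) (hH : ∀ r ∈ subs, (r.map g).prod ∈ H)
    (j u : ℕ) (hu : u < M) (h : dp_yi_258 j u = true) : Good (fa g) T MG M (cP g H) Lt.yi u := by
  unfold dp_yi_258 at h
  rcases brec_true h with h | h
  · exact lS_good (T := T) (x := Lt.yi) (by decide) hu [Lt.q, Lt.z, Lt.yi, Lt.q, Lt.z, Lt.yi, Lt.yi, Lt.yi, Lt.z, Lt.y, Lt.y, Lt.y, Lt.z, Lt.q, Lt.y, Lt.z, Lt.q, Lt.y, Lt.q, Lt.z, Lt.yi, Lt.q, Lt.z, Lt.yi, Lt.q, Lt.z, Lt.yi, Lt.yi, Lt.yi, Lt.z, Lt.y, Lt.y, Lt.y, Lt.z, Lt.q, Lt.y, Lt.z, Lt.q, Lt.y, Lt.z, Lt.q, Lt.z, Lt.yi, Lt.q, Lt.z, Lt.yi, Lt.q, Lt.z, Lt.yi, Lt.yi, Lt.yi, Lt.z, Lt.y, Lt.y, Lt.y, Lt.z, Lt.q, Lt.y, Lt.z, Lt.q, Lt.y, Lt.q, Lt.z] (H9.TCY.hole_at hinv hr 49 24 true (by decide +kernel)) h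
  · exact dp_yi_257_s hinv hr hH j u hu h
theorem dp_yi_259_s (hinv : ∀ x, g (inv x) = (g x)⁻¹) (hr : ∀ r ∈ rels, (r.map g).prod = 1) (hH : ∀ r ∈ subs, (r.map g).prod ∈ H)
    (j u : ℕ) (hu : u < M) (h : dp_yi_259 j u = true) : Good (fa g) T MG M (cP g H) Lt.yi u := by
  unfold dp_yi_259 at h
  rcases brec_true h with h | h
  · exact lS_good (T := T) (x := Lt.yi) (by decide) hu [Lt.yi, Lt.z, Lt.y, Lt.y, Lt.y, Lt.z, Lt.q, Lt.y, Lt.z, Lt.q, Lt.y, Lt.z, Lt.q, Lt.yi, Lt.q, Lt.z, Lt.yi, Lt.q, Lt.z, Lt.yi, Lt.yi, Lt.yi, Lt.z, Lt.y, Lt.y, Lt.y, Lt.z, Lt.q, Lt.y, Lt.z, Lt.q, Lt.y, Lt.z, Lt.q, Lt.z, Lt.yi, Lt.q, Lt.z, Lt.yi, Lt.q, Lt.z, Lt.yi, Lt.yi, Lt.yi, Lt.z, Lt.y, Lt.y, Lt.y, Lt.z, Lt.q, Lt.y, Lt.z, Lt.q, Lt.y, Lt.z, Lt.q, Lt.yi, Lt.q, Lt.z, Lt.yi, Lt.q, Lt.z, Lt.yi] (H9.TCY.hole_at hinv hr 49 30 false (by decide +kernel))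 h
  · exact lF_good (T := T) (x := Lt.yi) (by decide) [Lt.yi, Lt.yi, Lt.z, Lt.y, Lt.y, Lt.y, Lt.z, Lt.q, Lt.y, Lt.z, Lt.q, Lt.y, Lt.q, Lt.z, Lt.yi, Lt.q, Lt.z, Lt.yi, Lt.q, Lt.z, Lt.yi, Lt.yi, Lt.yi, Lt.z, Lt.y, Lt.y, Lt.y, Lt.z, Lt.q, Lt.y, Lt.z, Lt.q, Lt.y, Lt.z, Lt.q, Lt.z, Lt.yi, Lt.q, Lt.z, Lt.yi, Lt.q, Lt.z, Lt.yi, Lt.yi, Lt.yi, Lt.z, Lt.y, Lt.y, Lt.y, Lt.z, Lt.q, Lt.y, Lt.z, Lt.q, Lt.y, Lt.q, Lt.z, Lt.yi, Lt.q, Lt.z, Lt.yi, Lt.q, Lt.z] (H9.TCY.hole_at hinv hr 49 30 true (by decide +kernel)) h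
theorem dp_yi_260_s (hinv : ∀ x, g (inv x) = (g x)⁻¹) (hr : ∀ r ∈ rels, (r.map g).prod = 1) (hH : ∀ r ∈ subs, (r.map g).prod ∈ H)
    (j u : ℕ) (hu : u < M) (h : dp_yi_260 j u = true) : Good (fa g) T MG M (cP g H) Lt.yi u := by
  unfold dp_yi_260 at h
  rcases brec_true h with h | h
  · exact lS_good (T := T) (x := Lt.yi) (by decide) hu [Lt.q, Lt.z, Lt.yi, Lt.yi, Lt.yi, Lt.z, Lt.y, Lt.y, Lt.y, Lt.z, Lt.q, Lt.y, Lt.z, Lt.q, Lt.y, Lt.z, Lt.q, Lt.yi, Lt.q, Lt.z, Lt.yi, Lt.q, Lt.z, Lt.yi, Lt.yi, Lt.yi, Lt.z, Lt.y, Lt.y, Lt.y, Lt.z, Lt.q, Lt.y, Lt.z, Lt.q, Lt.y, Lt.z, Lt.q, Lt.yi, Lt.q, Lt.z, Lt.yi, Lt.q, Lt.z, Lt.yi, Lt.yi, Lt.yi, Lt.z, Lt.y, Lt.y, Lt.y, Lt.z, Lt.q, Lt.y, Lt.z, Lt.q, Lt.y, Lt.z, Lt.q, Lt.z, Lt.yi, Lt.q, Lt.z] (H9.TCY.hole_at hinv hr 49 5 false (by decide +kernel)) h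
  · exact lS_good (T := T) (x := Lt.yi) (by decide) hu [Lt.q, Lt.z, Lt.yi, Lt.q, Lt.z, Lt.yi, Lt.yi, Lt.yi, Lt.z, Lt.y, Lt.y, Lt.y, Lt.z, Lt.q, Lt.y, Lt.z, Lt.q, Lt.y, Lt.z, Lt.q, Lt.z, Lt.yi, Lt.q, Lt.z, Lt.yi, Lt.q, Lt.z, Lt.yi, Lt.yi, Lt.yi, Lt.z, Lt.y, Lt.y, Lt.y, Lt.z, Lt.q, Lt.y, Lt.z, Lt.q, Lt.y, Lt.z, Lt.q, Lt.yi, Lt.q, Lt.z, Lt.yi, Lt.q, Lt.z, Lt.yi, Lt.yi, Lt.yi, Lt.z, Lt.y, Lt.y, Lt.y, Lt.z, Lt.q, Lt.y, Lt.z, Lt.q, Lt.y, Lt.z, Lt.q] (H9.TCY.hole_at hinv hr 49 44 false (by decide +kernel)) h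
theorem dp_yi_261_s (hinv : ∀ x, g (inv x) = (g x)⁻¹) (hr : ∀ r ∈ rels, (r.map g).prod = 1) (hH : ∀ r ∈ subs, (r.map g).prod ∈ H)
    (j u : ℕ) (hu : u < M) (h : dp_yi_261 j u = true) : Good (fa g) T MG M (cP g H) Lt.yi u := by
  unfold dp_yi_261 at h
  rcases brec_true h with h | h
  · exact dp_yi_259_s hinv hr hH j u hu h
  · exact dp_yi_260_s hinv hr hH j u hu h
theorem dp_yi_262_s (hinv : ∀ x, g (inv x) = (g x)⁻¹) (hr : ∀ r ∈ rels, (r.map g).prod = 1) (hH : ∀ r ∈ subs, (r.map g).prod ∈ H)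
    (j u : ℕ) (hu : u < M) (h : dp_yi_262 j u = true) : Good (fa g) T MG M (cP g H) Lt.yi u := by
  unfold dp_yi_262 at h
  rcases brec_true h with h | h
  · exact dp_yi_258_s hinv hr hH j u hu h
  · exact dp_yi_261_s hinv hr hH j u hu h
theorem dp_yi_263_s (hinv : ∀ x, g (inv x) = (g x)⁻¹) (hr : ∀ r ∈ rels, (r.map g).prod = 1) (hH : ∀ r ∈ subs, (r.map g).prod ∈ H)
    (j u : ℕ) (hu : u < M) (h : dp_yi_263 j u = true) : Good (fa g) T MG M (cP g H) Lt.yi u := by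
  unfold dp_yi_263 at h
  rcases brec_true h with h | h
  · exact lS_good (T := T) (x := Lt.yi) (by decide) hu [Lt.z, Lt.y, Lt.y, Lt.y, Lt.z, Lt.q, Lt.y, Lt.z, Lt.q, Lt.y, Lt.z, Lt.q, Lt.z, Lt.yi, Lt.q, Lt.z, Lt.yi, Lt.q, Lt.z, Lt.yi, Lt.yi, Lt.yi, Lt.z, Lt.y, Lt.y, Lt.y, Lt.z, Lt.q, Lt.y, Lt.z, Lt.q, Lt.y, Lt.z, Lt.q, Lt.yi, Lt.q, Lt.z, Lt.yi, Lt.q, Lt.z, Lt.yi, Lt.yi, Lt.yi, Lt.z, Lt.y, Lt.y, Lt.y, Lt.z, Lt.q, Lt.y, Lt.z, Lt.q, Lt.y, Lt.z, Lt.q, Lt.yi, Lt.q, Lt.z, Lt.yi, Lt.q, Lt.z, Lt.yi, Lt.yi] (H9.TCY.hole_at hinv hr 49 52 false (by decide +kernel)) h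
  · exact lS_good (T := T) (x := Lt.yi) (by decide) hu [Lt.yi, Lt.yi, Lt.z, Lt.y, Lt.y, Lt.y, Lt.z, Lt.q, Lt.y, Lt.z, Lt.q, Lt.y, Lt.z, Lt.q, Lt.yi, Lt.q, Lt.z, Lt.yi, Lt.q, Lt.z, Lt.yi, Lt.yi, Lt.yi, Lt.z, Lt.y, Lt.y, Lt.y, Lt.z, Lt.q, Lt.y, Lt.z, Lt.q, Lt.y, Lt.z, Lt.q, Lt.yi, Lt.q, Lt.z, Lt.yi, Lt.q, Lt.z, Lt.yi, Lt.yi, Lt.yi, Lt.z, Lt.y, Lt.y, Lt.y, Lt.z, Lt.q, Lt.y, Lt.z, Lt.q, Lt.y, Lt.z, Lt.q, Lt.z, Lt.yi, Lt.q, Lt.z, Lt.yi, Lt.q, Lt.z] (H9.TCY.hole_at hinv hr 49 8 false (by decide +kernel)) h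
theorem dp_yi_264_s (hinv : ∀ x, g (inv x) = (g x)⁻¹) (hr : ∀ r ∈ rels, (r.map g).prod = 1) (hH : ∀ r ∈ subs, (r.map g).prod ∈ H)
    (j u : ℕ) (hu : u < M) (h : dp_yi_264 j u = true) : Good (fa g) T MG M (cP g H) Lt.yi u := by
  unfold dp_yi_264 at h
  rcases brec_true h with h | h
  · exact lF_good (T := T) (x := Lt.yi) (by decide) [Lt.yi, Lt.z, Lt.y, Lt.y, Lt.y, Lt.z, Lt.q, Lt.y, Lt.z, Lt.q, Lt.y, Lt.z, Lt.q, Lt.z, Lt.yi, Lt.q, Lt.z, Lt.yi, Lt.q, Lt.z, Lt.yi, Lt.yi, Lt.yi, Lt.z, Lt.y, Lt.y, Lt.y, Lt.z, Lt.q, Lt.y, Lt.z, Lt.q, Lt.y, Lt.q, Lt.z, Lt.yi, Lt.q, Lt.z, Lt.yi, Lt.q, Lt.z, Lt.yi, Lt.yi, Lt.yi, Lt.z, Lt.y, Lt.y, Lt.y, Lt.z, Lt.q, Lt.y, Lt.z, Lt.q, Lt.y, Lt.q, Lt.z, Lt.yi, Lt.q, Lt.z, Lt.yi, Lt.q, Lt.z, Lt.yi] (H9.TCY.hole_at hinv hr 49 52 true (by decide +kernel)) h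
  · exact lF_good (T := T) (x := Lt.yi) (by decide) [Lt.yi, Lt.z, Lt.y, Lt.y, Lt.y, Lt.z, Lt.q, Lt.y, Lt.z, Lt.q, Lt.y, Lt.q, Lt.z, Lt.yi, Lt.q, Lt.z, Lt.yi, Lt.q, Lt.z, Lt.yi, Lt.yi, Lt.yi, Lt.z, Lt.y, Lt.y, Lt.y, Lt.z, Lt.q, Lt.y, Lt.z, Lt.q, Lt.y, Lt.q, Lt.z, Lt.yi, Lt.q, Lt.z, Lt.yi, Lt.q, Lt.z, Lt.yi, Lt.yi, Lt.yi, Lt.z, Lt.y, Lt.y, Lt.y, Lt.z, Lt.q, Lt.y, Lt.z, Lt.q, Lt.y, Lt.z, Lt.q, Lt.z, Lt.yi, Lt.q, Lt.z, Lt.yi, Lt.q, Lt.z, Lt.yi] (H9.TCY.hole_at hinv hr 49 10 true (by decide +kernel)) h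
theorem dp_yi_265_s (hinv : ∀ x, g (inv x) = (g x)⁻¹) (hr : ∀ r ∈ rels, (r.map g).prod = 1) (hH : ∀ r ∈ subs, (r.map g).prod ∈ H)
    (j u : ℕ) (hu : u < M) (h : dp_yi_265 j u = true) : Good (fa g) T MG M (cP g H) Lt.yi u := by
  unfold dp_yi_265 at h
  rcases brec_true h with h | h
  · exact lS_good (T := T) (x := Lt.yi) (by decide) hu [Lt.yi, Lt.yi, Lt.z, Lt.y, Lt.y, Lt.y, Lt.z, Lt.q, Lt.y, Lt.z, Lt.q, Lt.y, Lt.q, Lt.z, Lt.yi, Lt.q, Lt.z, Lt.yi, Lt.q, Lt.z, Lt.yi, Lt.yi, Lt.yi, Lt.z, Lt.y, Lt.y, Lt.y, Lt.z, Lt.q, Lt.y, Lt.z, Lt.q, Lt.y, Lt.q, Lt.z, Lt.yi, Lt.q, Lt.z, Lt.yi, Lt.q, Lt.z, Lt.yi, Lt.yi, Lt.yi, Lt.z, Lt.y, Lt.y, Lt.y, Lt.z, Lt.q, Lt.y, Lt.z, Lt.q, Lt.y, Lt.z, Lt.q, Lt.z, Lt.yi, Lt.q, Lt.z, Lt.yi, Lt.q, Lt.z] (H9.TCY.hole_at hinv hr 49 9 true (by decide +kernel)) h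
  · exact dp_yi_264_s hinv hr hH j u hu h
theorem dp_yi_266_s (hinv : ∀ x, g (inv x) = (g x)⁻¹) (hr : ∀ r ∈ rels, (r.map g).prod = 1) (hH : ∀ r ∈ subs, (r.map g).prod ∈ H)
    (j u : ℕ) (hu : u < M) (h : dp_yi_266 j u = true) : Good (fa g) T MG M (cP g H) Lt.yi u := by
  unfold dp_yi_266 at h
  rcases brec_true h with h | h
  · exact lF_good (T := T) (x := Lt.yi) (by decide) [Lt.z, Lt.y, Lt.y, Lt.y, Lt.z, Lt.q, Lt.y, Lt.z, Lt.q, Lt.y, Lt.z, Lt.q, Lt.yi, Lt.q, Lt.z, Lt.yi, Lt.q, Lt.z, Lt.yi, Lt.yi, Lt.yi, Lt.z, Lt.y, Lt.y, Lt.y, Lt.z, Lt.q, Lt.y, Lt.z, Lt.q, Lt.y, Lt.z, Lt.q, Lt.yi, Lt.q, Lt.z, Lt.yi, Lt.q, Lt.z, Lt.yi, Lt.yi, Lt.yi, Lt.z, Lt.y, Lt.y, Lt.y, Lt.z, Lt.q, Lt.y, Lt.z, Lt.q, Lt.y, Lt.z, Lt.q, Lt.z, Lt.yi, Lt.q, Lt.z, Lt.yi, Lt.q, Lt.z, Lt.yi, Lt.yi] (H9.TCY.hole_at hinv hr 49 10 false (by decide +kernel)) h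
  · exact dp_yi_265_s hinv hr hH j u hu h
theorem dp_yi_267_s (hinv : ∀ x, g (inv x) = (g x)⁻¹) (hr : ∀ r ∈ rels, (r.map g).prod = 1) (hH : ∀ r ∈ subs, (r.map g).prod ∈ H)
    (j u : ℕ) (hu : u < M) (h : dp_yi_267 j u = true) : Good (fa g) T MG M (cP g H) Lt.yi u := by
  unfold dp_yi_267 at h
  rcases brec_true h with h | h
  · exact dp_yi_263_s hinv hr hH j u hu h
  · exact dp_yi_266_s hinv hr hH j u hu h
theorem dp_yi_268_s (hinv : ∀ x, g (inv x) = (g x)⁻¹) (hr : ∀ r ∈ rels, (r.map g).prod = 1) (hH : ∀ r ∈ subs, (r.map g).prod ∈ H)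
    (j u : ℕ) (hu : u < M) (h : dp_yi_268 j u = true) : Good (fa g) T MG M (cP g H) Lt.yi u := by
  unfold dp_yi_268 at h
  rcases brec_true h with h | h
  · exact lS_good (T := T) (x := Lt.yi) (by decide) hu [Lt.yi, Lt.z, Lt.y, Lt.y, Lt.y, Lt.z, Lt.q, Lt.y, Lt.z, Lt.q, Lt.y, Lt.q, Lt.z, Lt.yi, Lt.q, Lt.z, Lt.yi, Lt.q, Lt.z, Lt.yi, Lt.yi, Lt.yi, Lt.z, Lt.y, Lt.y, Lt.y, Lt.z, Lt.q, Lt.y, Lt.z, Lt.q, Lt.y, Lt.q, Lt.z, Lt.yi, Lt.q, Lt.z, Lt.yi, Lt.q, Lt.z, Lt.yi, Lt.yi, Lt.yi, Lt.z, Lt.y, Lt.y, Lt.y, Lt.z, Lt.q, Lt.y, Lt.z, Lt.q, Lt.y, Lt.z, Lt.q, Lt.z, Lt.yi, Lt.q, Lt.z, Lt.yi, Lt.q, Lt.z, Lt.yi] (H9.TCY.hole_at hinv hr 49 10 true (by decide +kernel)) h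
  · exact lS_good (T := T) (x := Lt.yi) (by decide) hu [Lt.z, Lt.y, Lt.y, Lt.y, Lt.z, Lt.q, Lt.y, Lt.z, Lt.q, Lt.y, Lt.z, Lt.q, Lt.z, Lt.yi, Lt.q, Lt.z, Lt.yi, Lt.q, Lt.z, Lt.yi, Lt.yi, Lt.yi, Lt.z, Lt.y, Lt.y, Lt.y, Lt.z, Lt.q, Lt.y, Lt.z, Lt.q, Lt.y, Lt.q, Lt.z, Lt.yi, Lt.q, Lt.z, Lt.yi, Lt.q, Lt.z, Lt.yi, Lt.yi, Lt.yi, Lt.z, Lt.y, Lt.y, Lt.y, Lt.z, Lt.q, Lt.y, Lt.z, Lt.q, Lt.y, Lt.q, Lt.z, Lt.yi, Lt.q, Lt.z, Lt.yi, Lt.q, Lt.z, Lt.yi, Lt.yi] (H9.TCY.hole_at hinv hr 49 53 true (by decide +kernel)) h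
theorem dp_yi_269_s (hinv : ∀ x, g (inv x) = (g x)⁻¹) (hr : ∀ r ∈ rels, (r.map g).prod = 1) (hH : ∀ r ∈ subs, (r.map g).prod ∈ H)
    (j u : ℕ) (hu : u < M) (h : dp_yi_269 j u = true) : Good (fa g) T MG M (cP g H) Lt.yi u := by
  unfold dp_yi_269 at h
  rcases brec_true h with h | h
  · exact lS_good (T := T) (x := Lt.yi) (by decide) hu [Lt.yi, Lt.z, Lt.y, Lt.y, Lt.y, Lt.z, Lt.q, Lt.y, Lt.z, Lt.q, Lt.y, Lt.q, Lt.z, Lt.yi, Lt.q, Lt.z, Lt.yi, Lt.q, Lt.z, Lt.yi, Lt.yi, Lt.yi, Lt.z, Lt.y, Lt.y, Lt.y, Lt.z, Lt.q, Lt.y, Lt.z, Lt.q, Lt.y, Lt.z, Lt.q, Lt.z, Lt.yi, Lt.q, Lt.z, Lt.yi, Lt.q, Lt.z, Lt.yi, Lt.yi, Lt.yi, Lt.z, Lt.y, Lt.y, Lt.y, Lt.z, Lt.q, Lt.y, Lt.z, Lt.q, Lt.y, Lt.q, Lt.z, Lt.yi, Lt.q, Lt.z, Lt.yi, Lt.q, Lt.z, Lt.yi] (H9.TCY.hole_at hinv hr 49 31 true (by decide +kernel)) h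
  · exact lF_good (T := T) (x := Lt.yi) (by decide) [Lt.z, Lt.y, Lt.y, Lt.y, Lt.z, Lt.q, Lt.y, Lt.z, Lt.q, Lt.y, Lt.q, Lt.z, Lt.yi, Lt.q, Lt.z, Lt.yi, Lt.q, Lt.z, Lt.yi, Lt.yi, Lt.yi, Lt.z, Lt.y, Lt.y, Lt.y, Lt.z, Lt.q, Lt.y, Lt.z, Lt.q, Lt.y, Lt.z, Lt.q, Lt.z, Lt.yi, Lt.q, Lt.z, Lt.yi, Lt.q, Lt.z, Lt.yi, Lt.yi, Lt.yi, Lt.z, Lt.y, Lt.y, Lt.y, Lt.z, Lt.q, Lt.y, Lt.z, Lt.q, Lt.y, Lt.q, Lt.z, Lt.yi, Lt.q, Lt.z, Lt.yi, Lt.q, Lt.z, Lt.yi, Lt.yi] (H9.TCY.hole_at hinv hr 49 32 true (by decide +kernel)) h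
theorem dp_yi_270_s (hinv : ∀ x, g (inv x) = (g x)⁻¹) (hr : ∀ r ∈ rels, (r.map g).prod = 1) (hH : ∀ r ∈ subs, (r.map g).prod ∈ H)
    (j u : ℕ) (hu : u < M) (h : dp_yi_270 j u = true) : Good (fa g) T MG M (cP g H) Lt.yi u := by
  unfold dp_yi_270 at h
  rcases brec_true h with h | h
  · exact dp_yi_268_s hinv hr hH j u hu h
  · exact dp_yi_269_s hinv hr hH j u hu h
theorem dp_yi_271_s (hinv : ∀ x, g (inv x) = (g x)⁻¹) (hr : ∀ r ∈ rels, (r.map g).prod = 1) (hH : ∀ r ∈ subs, (r.map g).prod ∈ H)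
    (j u : ℕ) (hu : u < M) (h : dp_yi_271 j u = true) : Good (fa g) T MG M (cP g H) Lt.yi u := by
  unfold dp_yi_271 at h
  rcases brec_true h with h | h
  · exact lF_good (T := T) (x := Lt.yi) (by decide) [Lt.z, Lt.y, Lt.y, Lt.y, Lt.z, Lt.q, Lt.y, Lt.z, Lt.q, Lt.y, Lt.z, Lt.q, Lt.z, Lt.yi, Lt.q, Lt.z, Lt.yi, Lt.q, Lt.z, Lt.yi, Lt.yi, Lt.yi, Lt.z, Lt.y, Lt.y, Lt.y, Lt.z, Lt.q, Lt.y, Lt.z, Lt.q, Lt.y, Lt.z, Lt.q, Lt.yi, Lt.q, Lt.z, Lt.yi, Lt.q, Lt.z, Lt.yi, Lt.yi, Lt.yi, Lt.z, Lt.y, Lt.y, Lt.y, Lt.z, Lt.q, Lt.y, Lt.z, Lt.q, Lt.y, Lt.z, Lt.q, Lt.yi, Lt.q, Lt.z, Lt.yi, Lt.q, Lt.z, Lt.yi, Lt.yi] (H9.TCY.hole_at hinv hr 49 52 false (by decide +kernel)) h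
  · exact lS_good (T := T) (x := Lt.yi) (by decide) hu [Lt.yi, Lt.yi, Lt.z, Lt.y, Lt.y, Lt.y, Lt.z, Lt.q, Lt.y, Lt.z, Lt.q, Lt.y, Lt.q, Lt.z, Lt.yi, Lt.q, Lt.z, Lt.yi, Lt.q, Lt.z, Lt.yi, Lt.yi, Lt.yi, Lt.z, Lt.y, Lt.y, Lt.y, Lt.z, Lt.q, Lt.y, Lt.z, Lt.q, Lt.y, Lt.z, Lt.q, Lt.z, Lt.yi, Lt.q, Lt.z, Lt.yi, Lt.q, Lt.z, Lt.yi, Lt.yi, Lt.yi, Lt.z, Lt.y, Lt.y, Lt.y, Lt.z, Lt.q, Lt.y, Lt.z, Lt.q, Lt.y, Lt.q, Lt.z, Lt.yi, Lt.q, Lt.z, Lt.yi, Lt.q, Lt.z] (H9.TCY.hole_at hinv hr 49 30 true (by decide +kernel)) h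
theorem dp_yi_272_s (hinv : ∀ x, g (inv x) = (g x)⁻¹) (hr : ∀ r ∈ rels, (r.map g).prod = 1) (hH : ∀ r ∈ subs, (r.map g).prod ∈ H)
    (j u : ℕ) (hu : u < M) (h : dp_yi_272 j u = true) : Good (fa g) T MG M (cP g H) Lt.yi u := by
  unfold dp_yi_272 at h
  rcases brec_true h with h | h
  · exact lF_good (T := T) (x := Lt.yi) (by decide) [Lt.z, Lt.y, Lt.y, Lt.y, Lt.z, Lt.q, Lt.y, Lt.z, Lt.q, Lt.y, Lt.z, Lt.q, Lt.z, Lt.yi, Lt.q, Lt.z, Lt.yi, Lt.q, Lt.z, Lt.yi, Lt.yi, Lt.yi, Lt.z, Lt.y, Lt.y, Lt.y, Lt.z, Lt.q, Lt.y, Lt.z, Lt.q, Lt.y, Lt.q, Lt.z, Lt.yi, Lt.q, Lt.z, Lt.yi, Lt.q, Lt.z, Lt.yi, Lt.yi, Lt.yi, Lt.z, Lt.y, Lt.y, Lt.y, Lt.z, Lt.q, Lt.y, Lt.z, Lt.q, Lt.y, Lt.q, Lt.z, Lt.yi, Lt.q, Lt.z, Lt.yi, Lt.q, Lt.z, Lt.yi, Lt.yi] (H9.TCY.hole_at hinv hr 49 53 true (by decide +kernel)) h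
  · exact lF_good (T := T) (x := Lt.yi) (by decide) [Lt.yi, Lt.yi, Lt.z, Lt.y, Lt.y, Lt.y, Lt.z, Lt.q, Lt.y, Lt.z, Lt.q, Lt.y, Lt.z, Lt.q, Lt.yi, Lt.q, Lt.z, Lt.yi, Lt.q, Lt.z, Lt.yi, Lt.yi, Lt.yi, Lt.z, Lt.y, Lt.y, Lt.y, Lt.z, Lt.q, Lt.y, Lt.z, Lt.q, Lt.y, Lt.z, Lt.q, Lt.yi, Lt.q, Lt.z, Lt.yi, Lt.q, Lt.z, Lt.yi, Lt.yi, Lt.yi, Lt.z, Lt.y, Lt.y, Lt.y, Lt.z, Lt.q, Lt.y, Lt.z, Lt.q, Lt.y, Lt.z, Lt.q, Lt.z, Lt.yi, Lt.q, Lt.z, Lt.yi, Lt.q, Lt.z] (H9.TCY.hole_at hinv hr 49 8 false (by decide +kernel)) h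
theorem dp_yi_273_s (hinv : ∀ x, g (inv x) = (g x)⁻¹) (hr : ∀ r ∈ rels, (r.map g).prod = 1) (hH : ∀ r ∈ subs, (r.map g).prod ∈ H)
    (j u : ℕ) (hu : u < M) (h : dp_yi_273 j u = true) : Good (fa g) T MG M (cP g H) Lt.yi u := by
  unfold dp_yi_273 at h
  rcases brec_true h with h | h
  · exact lF_good (T := T) (x := Lt.yi) (by decide) [Lt.z, Lt.y, Lt.y, Lt.y, Lt.z, Lt.q, Lt.y, Lt.z, Lt.q, Lt.y, Lt.z, Lt.q, Lt.yi, Lt.q, Lt.z, Lt.yi, Lt.q, Lt.z, Lt.yi, Lt.yi, Lt.yi, Lt.z, Lt.y, Lt.y, Lt.y, Lt.z, Lt.q, Lt.y, Lt.z, Lt.q, Lt.y, Lt.z, Lt.q, Lt.z, Lt.yi, Lt.q, Lt.z, Lt.yi, Lt.q, Lt.z, Lt.yi, Lt.yi, Lt.yi, Lt.z, Lt.y, Lt.y, Lt.y, Lt.z, Lt.q, Lt.y, Lt.z, Lt.q, Lt.y, Lt.z, Lt.q, Lt.yi, Lt.q, Lt.z, Lt.yi, Lt.q, Lt.z, Lt.yi, Lt.yi] (H9.TCY.hole_at hinv hr 49 31 false (by decide +kernel)) h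
  · exact dp_yi_272_s hinv hr hH j u hu h
theorem dp_yi_274_s (hinv : ∀ x, g (inv x) = (g x)⁻¹) (hr : ∀ r ∈ rels, (r.map g).prod = 1) (hH : ∀ r ∈ subs, (r.map g).prod ∈ H)
    (j u : ℕ) (hu : u < M) (h : dp_yi_274 j u = true) : Good (fa g) T MG M (cP g H) Lt.yi u := by
  unfold dp_yi_274 at h
  rcases brec_true h with h | h
  · exact dp_yi_271_s hinv hr hH j u hu h
  · exact dp_yi_273_s hinv hr hH j u hu h
theorem dp_yi_275_s (hinv : ∀ x, g (inv x) = (g x)⁻¹) (hr : ∀ r ∈ rels, (r.map g).prod = 1) (hH : ∀ r ∈ subs, (r.map g).prod ∈ H)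
    (j u : ℕ) (hu : u < M) (h : dp_yi_275 j u = true) : Good (fa g) T MG M (cP g H) Lt.yi u := by
  unfold dp_yi_275 at h
  rcases brec_true h with h | h
  · exact dp_yi_270_s hinv hr hH j u hu h
  · exact dp_yi_274_s hinv hr hH j u hu h
theorem dp_yi_276_s (hinv : ∀ x, g (inv x) = (g x)⁻¹) (hr : ∀ r ∈ rels, (r.map g).prod = 1) (hH : ∀ r ∈ subs, (r.map g).prod ∈ H)
    (j u : ℕ) (hu : u < M) (h : dp_yi_276 j u = true) : Good (fa g) T MG M (cP g H) Lt.yi u := by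
  unfold dp_yi_276 at h
  rcases brec_true h with h | h
  · exact dp_yi_267_s hinv hr hH j u hu h
  · exact dp_yi_275_s hinv hr hH j u hu h
theorem dp_yi_277_s (hinv : ∀ x, g (inv x) = (g x)⁻¹) (hr : ∀ r ∈ rels, (r.map g).prod = 1) (hH : ∀ r ∈ subs, (r.map g).prod ∈ H)
    (j u : ℕ) (hu : u < M) (h : dp_yi_277 j u = true) : Good (fa g) T MG M (cP g H) Lt.yi u := by
  unfold dp_yi_277 at h
  rcases brec_true h with h | h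
  · exact dp_yi_262_s hinv hr hH j u hu h
  · exact dp_yi_276_s hinv hr hH j u hu h
theorem dp_yi_278_s (hinv : ∀ x, g (inv x) = (g x)⁻¹) (hr : ∀ r ∈ rels, (r.map g).prod = 1) (hH : ∀ r ∈ subs, (r.map g).prod ∈ H)
    (j u : ℕ) (hu : u < M) (h : dp_yi_278 j u = true) : Good (fa g) T MG M (cP g H) Lt.yi u := by
  unfold dp_yi_278 at h
  rcases brec_true h with h | h
  · exact dp_yi_256_s hinv hr hH j u hu h
  · exact dp_yi_277_s hinv hr hH j u hu h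
theorem dp_yi_279_s (hinv : ∀ x, g (inv x) = (g x)⁻¹) (hr : ∀ r ∈ rels, (r.map g).prod = 1) (hH : ∀ r ∈ subs, (r.map g).prod ∈ H)
    (j u : ℕ) (hu : u < M) (h : dp_yi_279 j u = true) : Good (fa g) T MG M (cP g H) Lt.yi u := by
  unfold dp_yi_279 at h
  rcases brec_true h with h | h
  · exact dp_yi_250_s hinv hr hH j u hu h
  · exact dp_yi_278_s hinv hr hH j u hu h
theorem dp_yi_280_s (hinv : ∀ x, g (inv x) = (g x)⁻¹) (hr : ∀ r ∈ rels, (r.map g).prod = 1) (hH : ∀ r ∈ subs, (r.map g).prod ∈ H)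
    (j u : ℕ) (hu : u < M) (h : dp_yi_280 j u = true) : Good (fa g) T MG M (cP g H) Lt.yi u := by
  unfold dp_yi_280 at h
  rcases brec_true h with h | h
  · exact dp_yi_246_s hinv hr hH j u hu h
  · exact dp_yi_279_s hinv hr hH j u hu h
theorem dp_yi_281_s (hinv : ∀ x, g (inv x) = (g x)⁻¹) (hr : ∀ r ∈ rels, (r.map g).prod = 1) (hH : ∀ r ∈ subs, (r.map g).prod ∈ H)
    (j u : ℕ) (hu : u < M) (h : dp_yi_281 j u = true) : Good (fa g) T MG M (cP g H) Lt.yi u := by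
  unfold dp_yi_281 at h
  rcases brec_true h with h | h
  · exact dp_yi_240_s hinv hr hH j u hu h
  · exact dp_yi_280_s hinv hr hH j u hu h
theorem dp_yi_282_s (hinv : ∀ x, g (inv x) = (g x)⁻¹) (hr : ∀ r ∈ rels, (r.map g).prod = 1) (hH : ∀ r ∈ subs, (r.map g).prod ∈ H)
    (j u : ℕ) (hu : u < M) (h : dp_yi_282 j u = true) : Good (fa g) T MG M (cP g H) Lt.yi u := by
  unfold dp_yi_282 at h
  rcases brec_true h with h | h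
  · exact dp_yi_231_s hinv hr hH j u hu h
  · exact dp_yi_281_s hinv hr hH j u hu h
theorem dp_yi_283_s (hinv : ∀ x, g (inv x) = (g x)⁻¹) (hr : ∀ r ∈ rels, (r.map g).prod = 1) (hH : ∀ r ∈ subs, (r.map g).prod ∈ H)
    (j u : ℕ) (hu : u < M) (h : dp_yi_283 j u = true) : Good (fa g) T MG M (cP g H) Lt.yi u := by
  unfold dp_yi_283 at h
  rcases brec_true h with h | h
  · exact dp_yi_218_s hinv hr hH j u hu h
  · exact dp_yi_282_s hinv hr hH j u hu h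
theorem dp_yi_284_s (hinv : ∀ x, g (inv x) = (g x)⁻¹) (hr : ∀ r ∈ rels, (r.map g).prod = 1) (hH : ∀ r ∈ subs, (r.map g).prod ∈ H)
    (j u : ℕ) (hu : u < M) (h : dp_yi_284 j u = true) : Good (fa g) T MG M (cP g H) Lt.yi u := by
  unfold dp_yi_284 at h
  rcases brec_true h with h | h
  · exact dp_yi_199_s hinv hr hH j u hu h
  · exact dp_yi_283_s hinv hr hH j u hu h
theorem dp_yi_285_s (hinv : ∀ x, g (inv x) = (g x)⁻¹) (hr : ∀ r ∈ rels, (r.map g).prod = 1) (hH : ∀ r ∈ subs, (r.map g).prod ∈ H)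
    (j u : ℕ) (hu : u < M) (h : dp_yi_285 j u = true) : Good (fa g) T MG M (cP g H) Lt.yi u := by
  unfold dp_yi_285 at h
  rcases brec_true h with h | h
  · exact dp_yi_169_s hinv hr hH j u hu h
  · exact dp_yi_284_s hinv hr hH j u hu h
theorem dp_yi_286_s (hinv : ∀ x, g (inv x) = (g x)⁻¹) (hr : ∀ r ∈ rels, (r.map g).prod = 1) (hH : ∀ r ∈ subs, (r.map g).prod ∈ H)
    (j u : ℕ) (hu : u < M) (h : dp_yi_286 j u = true) : Good (fa g) T MG M (cP g H) Lt.yi u := by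
  unfold dp_yi_286 at h
  rcases brec_true h with h | h
  · exact dp_yi_129_s hinv hr hH j u hu h
  · exact dp_yi_285_s hinv hr hH j u hu h
theorem dp_yi_287_s (hinv : ∀ x, g (inv x) = (g x)⁻¹) (hr : ∀ r ∈ rels, (r.map g).prod = 1) (hH : ∀ r ∈ subs, (r.map g).prod ∈ H)
    (j u : ℕ) (hu : u < M) (h : dp_yi_287 j u = true) : Good (fa g) T MG M (cP g H) Lt.yi u := by
  unfold dp_yi_287 at h
  rcases brec_true h with h | h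
  · exact dp_yi_80_s hinv hr hH j u hu h
  · exact dp_yi_286_s hinv hr hH j u hu h
theorem dp_yi_288_s (hinv : ∀ x, g (inv x) = (g x)⁻¹) (hr : ∀ r ∈ rels, (r.map g).prod = 1) (hH : ∀ r ∈ subs, (r.map g).prod ∈ H)
    (j u : ℕ) (hu : u < M) (h : dp_yi_288 j u = true) : Good (fa g) T MG M (cP g H) Lt.yi u := by
  unfold dp_yi_288 at h
  rcases brec_true h with h | h
  · exact dp_yi_30_s hinv hr hH j u hu h
  · exact dp_yi_287_s hinv hr hH j u hu h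
theorem dp_yi_289_s (hinv : ∀ x, g (inv x) = (g x)⁻¹) (hr : ∀ r ∈ rels, (r.map g).prod = 1) (hH : ∀ r ∈ subs, (r.map g).prod ∈ H)
    (j u : ℕ) (hu : u < M) (h : dp_yi_289 j u = true) : Good (fa g) T MG M (cP g H) Lt.yi u := by
  unfold dp_yi_289 at h
  rcases brec_true h with h | h
  · exact dp_yi_9_s hinv hr hH j u hu h
  · exact dp_yi_288_s hinv hr hH j u hu h
theorem dp_yi_290_s (hinv : ∀ x, g (inv x) = (g x)⁻¹) (hr : ∀ r ∈ rels, (r.map g).prod = 1) (hH : ∀ r ∈ subs, (r.map g).prod ∈ H)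
    (j u : ℕ) (hu : u < M) (h : dp_yi_290 j u = true) : Good (fa g) T MG M (cP g H) Lt.yi u := by
  unfold dp_yi_290 at h
  rcases brec_true h with h | h
  · exact dp_yi_1_s hinv hr hH j u hu h
  · exact dp_yi_289_s hinv hr hH j u hu h
theorem dp_yi_291_s (hinv : ∀ x, g (inv x) = (g x)⁻¹) (hr : ∀ r ∈ rels, (r.map g).prod = 1) (hH : ∀ r ∈ subs, (r.map g).prod ∈ H)
    (j u : ℕ) (hu : u < M) (h : dp_yi_291 j u = true) : Good (fa g) T MG M (cP g H) Lt.yi u := by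
  unfold dp_yi_291 at h
  rcases brec_true h with h | h
  · exact lF3_good (T := T) (x := Lt.yi) (by decide) .v .y .v (H9.TCY.hole_at hinv hr 6 1 false (by decide +kernel)) h
  · exact dp_yi_290_s hinv hr hH j u hu h
theorem dp_yi_292_s (hinv : ∀ x, g (inv x) = (g x)⁻¹) (hr : ∀ r ∈ rels, (r.map g).prod = 1) (hH : ∀ r ∈ subs, (r.map g).prod ∈ H)
    (j u : ℕ) (hu : u < M) (h : dp_yi_292 j u = true) : Good (fa g) T MG M (cP g H) Lt.yi u := by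
  unfold dp_yi_292 at h
  rcases brec_true h with h | h
  · exact lDef_good (T := T) (x := Lt.yi) (by decide) rfl h
  · exact dp_yi_291_s hinv hr hH j u hu h
theorem snd_yi (hinv : ∀ x, g (inv x) = (g x)⁻¹) (hr : ∀ r ∈ rels, (r.map g).prod = 1) (hH : ∀ r ∈ subs, (r.map g).prod ∈ H)
    (j u : ℕ) (hu : u < M) (h : disp_yi j u = true) : Good (fa g) T MG M (cP g H) Lt.yi u := by
  unfold disp_yi at h
  rcases brec_true h with h | h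
  · rcases brec_true h with h | h
    · exact lF1_good (T := T) (x := Lt.yi) (by decide) .y (H9.TCY.hole_at hinv hr 50 0 false (by decide +kernel)) h
    · exact lPar_good (T := T) (x := Lt.yi) (x' := Lt.y) (by decide) rfl (inv_rel hinv _ _ rfl) h
  · exact dp_yi_292_s hinv hr hH j u hu h
theorem snc_yi (hinv : ∀ x, g (inv x) = (g x)⁻¹) (hr : ∀ r ∈ rels, (r.map g).prod = 1) (hH : ∀ r ∈ subs, (r.map g).prod ∈ H)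
    (j u : ℕ) (hu : u < M) (h : chk_yi j u = true) : (T Lt.yi u < A ∧ Good (fa g) T MG M (cP g H) Lt.yi u) ∨ (A ≤ T Lt.yi u ∧ MG u < A) := by
  unfold chk_yi at h
  cases hb : Nat.ble A (T_yi u) with
  | true => rw [hb] at h; exact Or.inr ⟨le_of_ble hb, le_of_ble h⟩
  | false => rw [hb] at h; exact Or.inl ⟨lt_of_ble_false hb, snd_yi hinv hr hH j u hu h⟩
end
end H9.HN.TCHN
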