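import Cfsg.Agent.Lib.H9.HN.TCHN.Snd0
import Cfsg.Agent.Lib.H9.HN.TCY
set_option autoImplicit false
set_option maxRecDepth 100000
set_option linter.all false
namespace H9.HN.TCHN
open H35.TC
section
variable {G : Type} [Group G] {g : Lt → G} {H : Subgroup G}
theorem dp_z_0_s (hinv : ∀ x, g (inv x) = (g x)⁻¹) (hr : ∀ r ∈ rels, (r.map g).prod = 1) (hH : ∀ r ∈ subs, (r.map g).prod ∈ H)
    (j u : ℕ) (hu : u < M) (h : dp_z_0 j u = true) : Good (fa g) T MG M (cP g H) Lt.z u := by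
  unfold dp_z_0 at h
  rcases brec_true h with h | h
  · exact lF_good (T := T) (x := Lt.z) (by decide) [Lt.q, Lt.z, Lt.q, Lt.yi, Lt.z, Lt.q, Lt.z, Lt.q, Lt.y] (H9.TCY.hole_at hinv hr 10 1 true (by decide +kernel)) h
  · exact lF_good (T := T) (x := Lt.z) (by decide) [Lt.q, Lt.z, Lt.y, Lt.q, Lt.z, Lt.q, Lt.z, Lt.yi, Lt.q] (H9.TCY.hole_at hinv hr 10 3 false (by decide +kernel)) h
theorem dp_z_1_s (hinv : ∀ x, g (inv x) = (g x)⁻¹) (hr : ∀ r ∈ rels, (r.map g).prod = 1) (hH : ∀ r ∈ subs, (r.map g).prod ∈ H)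
    (j u : ℕ) (hu : u < M) (h : dp_z_1 j u = true) : Good (fa g) T MG M (cP g H) Lt.z u := by
  unfold dp_z_1 at h
  rcases brec_true h with h | h
  · exact lF_good (T := T) (x := Lt.z) (by decide) [Lt.y, Lt.q, Lt.z, Lt.q, Lt.z, Lt.yi, Lt.q, Lt.z, Lt.q] (H9.TCY.hole_at hinv hr 10 5 false (by decide +kernel)) h
  · exact dp_z_0_s hinv hr hH j u hu h
theorem dp_z_2_s (hinv : ∀ x, g (inv x) = (g x)⁻¹) (hr : ∀ r ∈ rels, (r.map g).prod = 1) (hH : ∀ r ∈ subs, (r.map g).prod ∈ H)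
    (j u : ℕ) (hu : u < M) (h : dp_z_2 j u = true) : Good (fa g) T MG M (cP g H) Lt.z u := by
  unfold dp_z_2 at h
  rcases brec_true h with h | h
  · exact lF_good (T := T) (x := Lt.z) (by decide) [Lt.q, Lt.z, Lt.q, Lt.y, Lt.z, Lt.q, Lt.z, Lt.q, Lt.yi] (H9.TCY.hole_at hinv hr 10 6 true (by decide +kernel)) h
  · exact lF_good (T := T) (x := Lt.z) (by decide) [Lt.v, Lt.z, Lt.v, Lt.z, Lt.v, Lt.z, Lt.v, Lt.z, Lt.v] (H9.TCY.hole_at hinv hr 1 0 false (by decide +kernel)) h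
theorem dp_z_3_s (hinv : ∀ x, g (inv x) = (g x)⁻¹) (hr : ∀ r ∈ rels, (r.map g).prod = 1) (hH : ∀ r ∈ subs, (r.map g).prod ∈ H)
    (j u : ℕ) (hu : u < M) (h : dp_z_3 j u = true) : Good (fa g) T MG M (cP g H) Lt.z u := by
  unfold dp_z_3 at h
  rcases brec_true h with h | h
  · exact lS_good (T := T) (x := Lt.z) (by decide) hu [Lt.z] (H9.TCY.hole_at hinv hr 3 0 false (by decide +kernel)) h
  · exact dp_z_2_s hinv hr hH j u hu h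
theorem dp_z_4_s (hinv : ∀ x, g (inv x) = (g x)⁻¹) (hr : ∀ r ∈ rels, (r.map g).prod = 1) (hH : ∀ r ∈ subs, (r.map g).prod ∈ H)
    (j u : ℕ) (hu : u < M) (h : dp_z_4 j u = true) : Good (fa g) T MG M (cP g H) Lt.z u := by
  unfold dp_z_4 at h
  rcases brec_true h with h | h
  · exact dp_z_1_s hinv hr hH j u hu h
  · exact dp_z_3_s hinv hr hH j u hu h
theorem dp_z_5_s (hinv : ∀ x, g (inv x) = (g x)⁻¹) (hr : ∀ r ∈ rels, (r.map g).prod = 1) (hH : ∀ r ∈ subs, (r.map g).prod ∈ H)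
    (j u : ℕ) (hu : u < M) (h : dp_z_5 j u = true) : Good (fa g) T MG M (cP g H) Lt.z u := by
  unfold dp_z_5 at h
  rcases brec_true h with h | h
  · exact lF_good (T := T) (x := Lt.z) (by decide) [Lt.q, Lt.z, Lt.q, Lt.z, Lt.q, Lt.z, Lt.q] (H9.TCY.hole_at hinv hr 0 0 false (by decide +kernel)) h
  · exact dp_z_4_s hinv hr hH j u hu h
theorem dp_z_6_s (hinv : ∀ x, g (inv x) = (g x)⁻¹) (hr : ∀ r ∈ rels, (r.map g).prod = 1) (hH : ∀ r ∈ subs, (r.map g).prod ∈ H)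
    (j u : ℕ) (hu : u < M) (h : dp_z_6 j u = true) : Good (fa g) T MG M (cP g H) Lt.z u := by
  unfold dp_z_6 at h
  rcases brec_true h with h | h
  · exact lF_good (T := T) (x := Lt.z) (by decide) [Lt.yi, Lt.q, Lt.z, Lt.q, Lt.z, Lt.y, Lt.q, Lt.z, Lt.q] (H9.TCY.hole_at hinv hr 10 0 false (by decide +kernel)) h
  · exact lF_good (T := T) (x := Lt.z) (by decide) [Lt.y, Lt.z, Lt.yi, Lt.z, Lt.y, Lt.z, Lt.yi, Lt.z, Lt.y, Lt.z, Lt.yi] (H9.TCY.hole_at hinv hr 12 2 false (by decide +kernel)) h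
theorem dp_z_7_s (hinv : ∀ x, g (inv x) = (g x)⁻¹) (hr : ∀ r ∈ rels, (r.map g).prod = 1) (hH : ∀ r ∈ subs, (r.map g).prod ∈ H)
    (j u : ℕ) (hu : u < M) (h : dp_z_7 j u = true) : Good (fa g) T MG M (cP g H) Lt.z u := by
  unfold dp_z_7 at h
  rcases brec_true h with h | h
  · exact lF_good (T := T) (x := Lt.z) (by decide) [Lt.yi, Lt.z, Lt.y, Lt.z, Lt.yi, Lt.z, Lt.y, Lt.z, Lt.yi, Lt.z, Lt.y] (H9.TCY.hole_at hinv hr 12 0 false (by decide +kernel)) h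
  · exact lF_good (T := T) (x := Lt.z) (by decide) [Lt.q, Lt.z, Lt.yi, Lt.q, Lt.z, Lt.q, Lt.z, Lt.y, Lt.q] (H9.TCY.hole_at hinv hr 10 8 false (by decide +kernel)) h
theorem dp_z_8_s (hinv : ∀ x, g (inv x) = (g x)⁻¹) (hr : ∀ r ∈ rels, (r.map g).prod = 1) (hH : ∀ r ∈ subs, (r.map g).prod ∈ H)
    (j u : ℕ) (hu : u < M) (h : dp_z_8 j u = true) : Good (fa g) T MG M (cP g H) Lt.z u := by
  unfold dp_z_8 at h
  rcases brec_true h with h | h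
  · exact lS_good (T := T) (x := Lt.z) (by decide) hu [Lt.v, Lt.q, Lt.v, Lt.z, Lt.v, Lt.q, Lt.v] (H9.TCY.hole_at hinv hr 9 3 false (by decide +kernel)) h
  · exact dp_z_7_s hinv hr hH j u hu h
theorem dp_z_9_s (hinv : ∀ x, g (inv x) = (g x)⁻¹) (hr : ∀ r ∈ rels, (r.map g).prod = 1) (hH : ∀ r ∈ subs, (r.map g).prod ∈ H)
    (j u : ℕ) (hu : u < M) (h : dp_z_9 j u = true) : Good (fa g) T MG M (cP g H) Lt.z u := by
  unfold dp_z_9 at h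
  rcases brec_true h with h | h
  · exact dp_z_6_s hinv hr hH j u hu h
  · exact dp_z_8_s hinv hr hH j u hu h
theorem dp_z_10_s (hinv : ∀ x, g (inv x) = (g x)⁻¹) (hr : ∀ r ∈ rels, (r.map g).prod = 1) (hH : ∀ r ∈ subs, (r.map g).prod ∈ H)
    (j u : ℕ) (hu : u < M) (h : dp_z_10 j u = true) : Good (fa g) T MG M (cP g H) Lt.z u := by
  unfold dp_z_10 at h
  rcases brec_true h with h | h
  · exact lS_good (T := T) (x := Lt.z) (by decide) hu [Lt.q, Lt.z, Lt.q, Lt.z, Lt.q, Lt.z, Lt.q] (H9.TCY.hole_at hinv hr 0 0 false (by decide +kernel)) h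
  · exact lF_good (T := T) (x := Lt.z) (by decide) [Lt.q, Lt.yi, Lt.z, Lt.q, Lt.z, Lt.q, Lt.y, Lt.z, Lt.q] (H9.TCY.hole_at hinv hr 10 3 true (by decide +kernel)) h
theorem dp_z_11_s (hinv : ∀ x, g (inv x) = (g x)⁻¹) (hr : ∀ r ∈ rels, (r.map g).prod = 1) (hH : ∀ r ∈ subs, (r.map g).prod ∈ H)
    (j u : ℕ) (hu : u < M) (h : dp_z_11 j u = true) : Good (fa g) T MG M (cP g H) Lt.z u := by
  unfold dp_z_11 at h
  rcases brec_true h with h | h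
  · exact lF_good (T := T) (x := Lt.z) (by decide) [Lt.q, Lt.v, Lt.q, Lt.z, Lt.v, Lt.q, Lt.z, Lt.q, Lt.z, Lt.v] (H9.TCY.hole_at hinv hr 11 0 false (by decide +kernel)) h
  · exact dp_z_10_s hinv hr hH j u hu h
theorem dp_z_12_s (hinv : ∀ x, g (inv x) = (g x)⁻¹) (hr : ∀ r ∈ rels, (r.map g).prod = 1) (hH : ∀ r ∈ subs, (r.map g).prod ∈ H)
    (j u : ℕ) (hu : u < M) (h : dp_z_12 j u = true) : Good (fa g) T MG M (cP g H) Lt.z u := by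
  unfold dp_z_12 at h
  rcases brec_true h with h | h
  · exact lF_good (T := T) (x := Lt.z) (by decide) [Lt.v, Lt.q, Lt.z, Lt.q, Lt.z, Lt.v, Lt.z, Lt.q, Lt.v, Lt.q] (H9.TCY.hole_at hinv hr 11 4 false (by decide +kernel)) h
  · exact lF_good (T := T) (x := Lt.z) (by decide) [Lt.y, Lt.q, Lt.yi, Lt.z, Lt.y, Lt.z, Lt.yi, Lt.q, Lt.y, Lt.z, Lt.yi] (H9.TCY.hole_at hinv hr 17 6 false (by decide +kernel)) h
theorem dp_z_13_s (hinv : ∀ x, g (inv x) = (g x)⁻¹) (hr : ∀ r ∈ rels, (r.map g).prod = 1) (hH : ∀ r ∈ subs, (r.map g).prod ∈ H)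
    (j u : ℕ) (hu : u < M) (h : dp_z_13 j u = true) : Good (fa g) T MG M (cP g H) Lt.z u := by
  unfold dp_z_13 at h
  rcases brec_true h with h | h
  · exact lF_good (T := T) (x := Lt.z) (by decide) [Lt.yi, Lt.q, Lt.y, Lt.z, Lt.yi, Lt.z, Lt.y, Lt.q, Lt.yi, Lt.z, Lt.y] (H9.TCY.hole_at hinv hr 17 0 false (by decide +kernel)) h
  · exact lF_good (T := T) (x := Lt.z) (by decide) [Lt.q, Lt.y, Lt.z, Lt.q, Lt.z, Lt.q, Lt.yi, Lt.z, Lt.q] (H9.TCY.hole_at hinv hr 10 8 true (by decide +kernel)) h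
theorem dp_z_14_s (hinv : ∀ x, g (inv x) = (g x)⁻¹) (hr : ∀ r ∈ rels, (r.map g).prod = 1) (hH : ∀ r ∈ subs, (r.map g).prod ∈ H)
    (j u : ℕ) (hu : u < M) (h : dp_z_14 j u = true) : Good (fa g) T MG M (cP g H) Lt.z u := by
  unfold dp_z_14 at h
  rcases brec_true h with h | h
  · exact lF_good (T := T) (x := Lt.z) (by decide) [Lt.yi, Lt.z, Lt.y, Lt.q, Lt.yi, Lt.z, Lt.y, Lt.z, Lt.yi, Lt.q, Lt.y] (H9.TCY.hole_at hinv hr 17 4 false (by decide +kernel)) h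
  · exact dp_z_13_s hinv hr hH j u hu h
theorem dp_z_15_s (hinv : ∀ x, g (inv x) = (g x)⁻¹) (hr : ∀ r ∈ rels, (r.map g).prod = 1) (hH : ∀ r ∈ subs, (r.map g).prod ∈ H)
    (j u : ℕ) (hu : u < M) (h : dp_z_15 j u = true) : Good (fa g) T MG M (cP g H) Lt.z u := by
  unfold dp_z_15 at h
  rcases brec_true h with h | h
  · exact dp_z_12_s hinv hr hH j u hu h
  · exact dp_z_14_s hinv hr hH j u hu h
theorem dp_z_16_s (hinv : ∀ x, g (inv x) = (g x)⁻¹) (hr : ∀ r ∈ rels, (r.map g).prod = 1) (hH : ∀ r ∈ subs, (r.map g).prod ∈ H)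
    (j u : ℕ) (hu : u < M) (h : dp_z_16 j u = true) : Good (fa g) T MG M (cP g H) Lt.z u := by
  unfold dp_z_16 at h
  rcases brec_true h with h | h
  · exact dp_z_11_s hinv hr hH j u hu h
  · exact dp_z_15_s hinv hr hH j u hu h
theorem dp_z_17_s (hinv : ∀ x, g (inv x) = (g x)⁻¹) (hr : ∀ r ∈ rels, (r.map g).prod = 1) (hH : ∀ r ∈ subs, (r.map g).prod ∈ H)
    (j u : ℕ) (hu : u < M) (h : dp_z_17 j u = true) : Good (fa g) T MG M (cP g H) Lt.z u := by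
  unfold dp_z_17 at h
  rcases brec_true h with h | h
  · exact dp_z_9_s hinv hr hH j u hu h
  · exact dp_z_16_s hinv hr hH j u hu h
theorem dp_z_18_s (hinv : ∀ x, g (inv x) = (g x)⁻¹) (hr : ∀ r ∈ rels, (r.map g).prod = 1) (hH : ∀ r ∈ subs, (r.map g).prod ∈ H)
    (j u : ℕ) (hu : u < M) (h : dp_z_18 j u = true) : Good (fa g) T MG M (cP g H) Lt.z u := by
  unfold dp_z_18 at h
  rcases brec_true h with h | h
  · exact lF_good (T := T) (x := Lt.z) (by decide) [Lt.y, Lt.z, Lt.yi, Lt.q, Lt.y, Lt.z, Lt.yi, Lt.z, Lt.y, Lt.q, Lt.yi] (H9.TCY.hole_at hinv hr 17 10 false (by decide +kernel)) h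
  · exact lS_good (T := T) (x := Lt.z) (by decide) hu [Lt.y, Lt.q, Lt.z, Lt.q, Lt.z, Lt.yi, Lt.q, Lt.z, Lt.q] (H9.TCY.hole_at hinv hr 10 5 false (by decide +kernel)) h
theorem dp_z_19_s (hinv : ∀ x, g (inv x) = (g x)⁻¹) (hr : ∀ r ∈ rels, (r.map g).prod = 1) (hH : ∀ r ∈ subs, (r.map g).prod ∈ H)
    (j u : ℕ) (hu : u < M) (h : dp_z_19 j u = true) : Good (fa g) T MG M (cP g H) Lt.z u := by
  unfold dp_z_19 at h
  rcases brec_true h with h | h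
  · exact lS_good (T := T) (x := Lt.z) (by decide) hu [Lt.yi, Lt.z, Lt.y, Lt.z, Lt.yi, Lt.z, Lt.y, Lt.z, Lt.yi, Lt.z, Lt.y] (H9.TCY.hole_at hinv hr 12 0 false (by decide +kernel)) h
  · exact lS_good (T := T) (x := Lt.z) (by decide) hu [Lt.y, Lt.z, Lt.yi, Lt.z, Lt.y, Lt.z, Lt.yi, Lt.z, Lt.y, Lt.z, Lt.yi] (H9.TCY.hole_at hinv hr 12 2 false (by decide +kernel)) h
theorem dp_z_20_s (hinv : ∀ x, g (inv x) = (g x)⁻¹) (hr : ∀ r ∈ rels, (r.map g).prod = 1) (hH : ∀ r ∈ subs, (r.map g).prod ∈ H)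
    (j u : ℕ) (hu : u < M) (h : dp_z_20 j u = true) : Good (fa g) T MG M (cP g H) Lt.z u := by
  unfold dp_z_20 at h
  rcases brec_true h with h | h
  · exact dp_z_18_s hinv hr hH j u hu h
  · exact dp_z_19_s hinv hr hH j u hu h
theorem dp_z_21_s (hinv : ∀ x, g (inv x) = (g x)⁻¹) (hr : ∀ r ∈ rels, (r.map g).prod = 1) (hH : ∀ r ∈ subs, (r.map g).prod ∈ H)
    (j u : ℕ) (hu : u < M) (h : dp_z_21 j u = true) : Good (fa g) T MG M (cP g H) Lt.z u := by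
  unfold dp_z_21 at h
  rcases brec_true h with h | h
  · exact lS_good (T := T) (x := Lt.z) (by decide) hu [Lt.q, Lt.z, Lt.q, Lt.yi, Lt.z, Lt.q, Lt.z, Lt.q, Lt.y] (H9.TCY.hole_at hinv hr 10 1 true (by decide +kernel)) h
  · exact lS_good (T := T) (x := Lt.z) (by decide) hu [Lt.q, Lt.z, Lt.y, Lt.q, Lt.z, Lt.q, Lt.z, Lt.yi, Lt.q] (H9.TCY.hole_at hinv hr 10 3 false (by decide +kernel)) h
theorem dp_z_22_s (hinv : ∀ x, g (inv x) = (g x)⁻¹) (hr : ∀ r ∈ rels, (r.map g).prod = 1) (hH : ∀ r ∈ subs, (r.map g).prod ∈ H)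
    (j u : ℕ) (hu : u < M) (h : dp_z_22 j u = true) : Good (fa g) T MG M (cP g H) Lt.z u := by
  unfold dp_z_22 at h
  rcases brec_true h with h | h
  · exact lS_good (T := T) (x := Lt.z) (by decide) hu [Lt.v, Lt.z, Lt.v, Lt.z, Lt.v, Lt.z, Lt.v, Lt.z, Lt.v] (H9.TCY.hole_at hinv hr 1 0 false (by decide +kernel)) h
  · exact dp_z_21_s hinv hr hH j u hu h
theorem dp_z_23_s (hinv : ∀ x, g (inv x) = (g x)⁻¹) (hr : ∀ r ∈ rels, (r.map g).prod = 1) (hH : ∀ r ∈ subs, (r.map g).prod ∈ H)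
    (j u : ℕ) (hu : u < M) (h : dp_z_23 j u = true) : Good (fa g) T MG M (cP g H) Lt.z u := by
  unfold dp_z_23 at h
  rcases brec_true h with h | h
  · exact lS_good (T := T) (x := Lt.z) (by decide) hu [Lt.yi, Lt.q, Lt.z, Lt.q, Lt.z, Lt.y, Lt.q, Lt.z, Lt.q] (H9.TCY.hole_at hinv hr 10 0 false (by decide +kernel)) h
  · exact lF_good (T := T) (x := Lt.z) (by decide) [Lt.q, Lt.v, Lt.q, Lt.z, Lt.q, Lt.v, Lt.q, Lt.z, Lt.q, Lt.v, Lt.q] (H9.TCY.hole_at hinv hr 14 0 false (by decide +kernel)) h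
theorem dp_z_24_s (hinv : ∀ x, g (inv x) = (g x)⁻¹) (hr : ∀ r ∈ rels, (r.map g).prod = 1) (hH : ∀ r ∈ subs, (r.map g).prod ∈ H)
    (j u : ℕ) (hu : u < M) (h : dp_z_24 j u = true) : Good (fa g) T MG M (cP g H) Lt.z u := by
  unfold dp_z_24 at h
  rcases brec_true h with h | h
  · exact lS_good (T := T) (x := Lt.z) (by decide) hu [Lt.q, Lt.z, Lt.q, Lt.y, Lt.z, Lt.q, Lt.z, Lt.q, Lt.yi] (H9.TCY.hole_at hinv hr 10 6 true (by decide +kernel)) h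
  · exact dp_z_23_s hinv hr hH j u hu h
theorem dp_z_25_s (hinv : ∀ x, g (inv x) = (g x)⁻¹) (hr : ∀ r ∈ rels, (r.map g).prod = 1) (hH : ∀ r ∈ subs, (r.map g).prod ∈ H)
    (j u : ℕ) (hu : u < M) (h : dp_z_25 j u = true) : Good (fa g) T MG M (cP g H) Lt.z u := by
  unfold dp_z_25 at h
  rcases brec_true h with h | h
  · exact dp_z_22_s hinv hr hH j u hu h
  · exact dp_z_24_s hinv hr hH j u hu h
theorem dp_z_26_s (hinv : ∀ x, g (inv x) = (g x)⁻¹) (hr : ∀ r ∈ rels, (r.map g).prod = 1) (hH : ∀ r ∈ subs, (r.map g).prod ∈ H)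
    (j u : ℕ) (hu : u < M) (h : dp_z_26 j u = true) : Good (fa g) T MG M (cP g H) Lt.z u := by
  unfold dp_z_26 at h
  rcases brec_true h with h | h
  · exact dp_z_20_s hinv hr hH j u hu h
  · exact dp_z_25_s hinv hr hH j u hu h
theorem dp_z_27_s (hinv : ∀ x, g (inv x) = (g x)⁻¹) (hr : ∀ r ∈ rels, (r.map g).prod = 1) (hH : ∀ r ∈ subs, (r.map g).prod ∈ H)
    (j u : ℕ) (hu : u < M) (h : dp_z_27 j u = true) : Good (fa g) T MG M (cP g H) Lt.z u := by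
  unfold dp_z_27 at h
  rcases brec_true h with h | h
  · exact lS_good (T := T) (x := Lt.z) (by decide) hu [Lt.y, Lt.q, Lt.yi, Lt.z, Lt.y, Lt.z, Lt.yi, Lt.q, Lt.y, Lt.z, Lt.yi] (H9.TCY.hole_at hinv hr 17 6 false (by decide +kernel)) h
  · exact lS_good (T := T) (x := Lt.z) (by decide) hu [Lt.q, Lt.v, Lt.q, Lt.z, Lt.v, Lt.q, Lt.z, Lt.q, Lt.z, Lt.v] (H9.TCY.hole_at hinv hr 11 0 false (by decide +kernel)) h
theorem dp_z_28_s (hinv : ∀ x, g (inv x) = (g x)⁻¹) (hr : ∀ r ∈ rels, (r.map g).prod = 1) (hH : ∀ r ∈ subs, (r.map g).prod ∈ H)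
    (j u : ℕ) (hu : u < M) (h : dp_z_28 j u = true) : Good (fa g) T MG M (cP g H) Lt.z u := by
  unfold dp_z_28 at h
  rcases brec_true h with h | h
  · exact lF_good (T := T) (x := Lt.z) (by decide) [Lt.y, Lt.z, Lt.y, Lt.q, Lt.yi, Lt.z, Lt.yi, Lt.z, Lt.y, Lt.z, Lt.y, Lt.q, Lt.yi, Lt.z, Lt.yi] (H9.TCY.hole_at hinv hr 26 4 false (by decide +kernel)) h
  · exact lF_good (T := T) (x := Lt.z) (by decide) [Lt.v, Lt.z, Lt.q, Lt.z, Lt.q, Lt.v, Lt.z, Lt.q, Lt.v, Lt.q] (H9.TCY.hole_at hinv hr 11 1 true (by decide +kernel)) h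
theorem dp_z_29_s (hinv : ∀ x, g (inv x) = (g x)⁻¹) (hr : ∀ r ∈ rels, (r.map g).prod = 1) (hH : ∀ r ∈ subs, (r.map g).prod ∈ H)
    (j u : ℕ) (hu : u < M) (h : dp_z_29 j u = true) : Good (fa g) T MG M (cP g H) Lt.z u := by
  unfold dp_z_29 at h
  rcases brec_true h with h | h
  · exact dp_z_27_s hinv hr hH j u hu h
  · exact dp_z_28_s hinv hr hH j u hu h
theorem dp_z_30_s (hinv : ∀ x, g (inv x) = (g x)⁻¹) (hr : ∀ r ∈ rels, (r.map g).prod = 1) (hH : ∀ r ∈ subs, (r.map g).prod ∈ H)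
    (j u : ℕ) (hu : u < M) (h : dp_z_30 j u = true) : Good (fa g) T MG M (cP g H) Lt.z u := by
  unfold dp_z_30 at h
  rcases brec_true h with h | h
  · exact lF_good (T := T) (x := Lt.z) (by decide) [Lt.q, Lt.z, Lt.v, Lt.z, Lt.q, Lt.v, Lt.q, Lt.z, Lt.v, Lt.q] (H9.TCY.hole_at hinv hr 11 7 false (by decide +kernel)) h
  · exact lS_good (T := T) (x := Lt.z) (by decide) hu [Lt.v, Lt.q, Lt.z, Lt.q, Lt.z, Lt.v, Lt.z, Lt.q, Lt.v, Lt.q] (H9.TCY.hole_at hinv hr 11 4 false (by decide +kernel)) h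
theorem dp_z_31_s (hinv : ∀ x, g (inv x) = (g x)⁻¹) (hr : ∀ r ∈ rels, (r.map g).prod = 1) (hH : ∀ r ∈ subs, (r.map g).prod ∈ H)
    (j u : ℕ) (hu : u < M) (h : dp_z_31 j u = true) : Good (fa g) T MG M (cP g H) Lt.z u := by
  unfold dp_z_31 at h
  rcases brec_true h with h | h
  · exact lF_good (T := T) (x := Lt.z) (by decide) [Lt.y, Lt.q, Lt.yi, Lt.z, Lt.yi, Lt.z, Lt.y, Lt.z, Lt.y, Lt.q, Lt.yi, Lt.z, Lt.yi, Lt.z, Lt.y] (H9.TCY.hole_at hinv hr 26 6 false (by decide +kernel)) h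
  · exact lF_good (T := T) (x := Lt.z) (by decide) [Lt.q, Lt.z, Lt.q, Lt.v, Lt.z, Lt.q, Lt.v, Lt.q, Lt.z, Lt.v] (H9.TCY.hole_at hinv hr 11 3 true (by decide +kernel)) h
theorem dp_z_32_s (hinv : ∀ x, g (inv x) = (g x)⁻¹) (hr : ∀ r ∈ rels, (r.map g).prod = 1) (hH : ∀ r ∈ subs, (r.map g).prod ∈ H)
    (j u : ℕ) (hu : u < M) (h : dp_z_32 j u = true) : Good (fa g) T MG M (cP g H) Lt.z u := by
  unfold dp_z_32 at h
  rcases brec_true h with h | h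
  · exact lS_good (T := T) (x := Lt.z) (by decide) hu [Lt.yi, Lt.q, Lt.y, Lt.z, Lt.yi, Lt.z, Lt.y, Lt.q, Lt.yi, Lt.z, Lt.y] (H9.TCY.hole_at hinv hr 17 0 false (by decide +kernel)) h
  · exact dp_z_31_s hinv hr hH j u hu h
theorem dp_z_33_s (hinv : ∀ x, g (inv x) = (g x)⁻¹) (hr : ∀ r ∈ rels, (r.map g).prod = 1) (hH : ∀ r ∈ subs, (r.map g).prod ∈ H)
    (j u : ℕ) (hu : u < M) (h : dp_z_33 j u = true) : Good (fa g) T MG M (cP g H) Lt.z u := by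
  unfold dp_z_33 at h
  rcases brec_true h with h | h
  · exact dp_z_30_s hinv hr hH j u hu h
  · exact dp_z_32_s hinv hr hH j u hu h
theorem dp_z_34_s (hinv : ∀ x, g (inv x) = (g x)⁻¹) (hr : ∀ r ∈ rels, (r.map g).prod = 1) (hH : ∀ r ∈ subs, (r.map g).prod ∈ H)
    (j u : ℕ) (hu : u < M) (h : dp_z_34 j u = true) : Good (fa g) T MG M (cP g H) Lt.z u := by
  unfold dp_z_34 at h
  rcases brec_true h with h | h
  · exact dp_z_29_s hinv hr hH j u hu h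
  · exact dp_z_33_s hinv hr hH j u hu h
theorem dp_z_35_s (hinv : ∀ x, g (inv x) = (g x)⁻¹) (hr : ∀ r ∈ rels, (r.map g).prod = 1) (hH : ∀ r ∈ subs, (r.map g).prod ∈ H)
    (j u : ℕ) (hu : u < M) (h : dp_z_35 j u = true) : Good (fa g) T MG M (cP g H) Lt.z u := by
  unfold dp_z_35 at h
  rcases brec_true h with h | h
  · exact lS_good (T := T) (x := Lt.z) (by decide) hu [Lt.yi, Lt.z, Lt.y, Lt.q, Lt.yi, Lt.z, Lt.y, Lt.z, Lt.yi, Lt.q, Lt.y] (H9.TCY.hole_at hinv hr 17 4 false (by decide +kernel)) h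
  · exact lF_good (T := T) (x := Lt.z) (by decide) [Lt.yi, Lt.z, Lt.y, Lt.z, Lt.y, Lt.q, Lt.yi, Lt.z, Lt.yi, Lt.z, Lt.y, Lt.z, Lt.y, Lt.q, Lt.yi] (H9.TCY.hole_at hinv hr 26 2 false (by decide +kernel)) h
theorem dp_z_36_s (hinv : ∀ x, g (inv x) = (g x)⁻¹) (hr : ∀ r ∈ rels, (r.map g).prod = 1) (hH : ∀ r ∈ subs, (r.map g).prod ∈ H)
    (j u : ℕ) (hu : u < M) (h : dp_z_36 j u = true) : Good (fa g) T MG M (cP g H) Lt.z u := by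
  unfold dp_z_36 at h
  rcases brec_true h with h | h
  · exact lF_good (T := T) (x := Lt.z) (by decide) [Lt.yi, Lt.z, Lt.yi, Lt.q, Lt.y, Lt.z, Lt.y, Lt.z, Lt.yi, Lt.z, Lt.yi, Lt.q, Lt.y, Lt.z, Lt.y] (H9.TCY.hole_at hinv hr 29 6 false (by decide +kernel)) h
  · exact lS_good (T := T) (x := Lt.z) (by decide) hu [Lt.q, Lt.z, Lt.yi, Lt.q, Lt.z, Lt.q, Lt.z, Lt.y, Lt.q] (H9.TCY.hole_at hinv hr 10 8 false (by decide +kernel)) h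
theorem dp_z_37_s (hinv : ∀ x, g (inv x) = (g x)⁻¹) (hr : ∀ r ∈ rels, (r.map g).prod = 1) (hH : ∀ r ∈ subs, (r.map g).prod ∈ H)
    (j u : ℕ) (hu : u < M) (h : dp_z_37 j u = true) : Good (fa g) T MG M (cP g H) Lt.z u := by
  unfold dp_z_37 at h
  rcases brec_true h with h | h
  · exact lF_good (T := T) (x := Lt.z) (by decide) [Lt.q, Lt.v, Lt.q, Lt.z, Lt.v, Lt.z, Lt.q, Lt.z, Lt.q, Lt.v] (H9.TCY.hole_at hinv hr 11 8 true (by decide +kernel)) h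
  · exact dp_z_36_s hinv hr hH j u hu h
theorem dp_z_38_s (hinv : ∀ x, g (inv x) = (g x)⁻¹) (hr : ∀ r ∈ rels, (r.map g).prod = 1) (hH : ∀ r ∈ subs, (r.map g).prod ∈ H)
    (j u : ℕ) (hu : u < M) (h : dp_z_38 j u = true) : Good (fa g) T MG M (cP g H) Lt.z u := by
  unfold dp_z_38 at h
  rcases brec_true h with h | h
  · exact dp_z_35_s hinv hr hH j u hu h
  · exact dp_z_37_s hinv hr hH j u hu h
theorem dp_z_39_s (hinv : ∀ x, g (inv x) = (g x)⁻¹) (hr : ∀ r ∈ rels, (r.map g).prod = 1) (hH : ∀ r ∈ subs, (r.map g).prod ∈ H)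
    (j u : ℕ) (hu : u < M) (h : dp_z_39 j u = true) : Good (fa g) T MG M (cP g H) Lt.z u := by
  unfold dp_z_39 at h
  rcases brec_true h with h | h
  · exact lS_good (T := T) (x := Lt.z) (by decide) hu [Lt.q, Lt.yi, Lt.z, Lt.q, Lt.z, Lt.q, Lt.y, Lt.z, Lt.q] (H9.TCY.hole_at hinv hr 10 3 true (by decide +kernel)) h
  · exact lF_good (T := T) (x := Lt.z) (by decide) [Lt.y, Lt.q, Lt.yi, Lt.z, Lt.q, Lt.z, Lt.y, Lt.q, Lt.yi, Lt.z, Lt.q] (H9.TCY.hole_at hinv hr 15 4 false (by decide +kernel)) h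
theorem dp_z_40_s (hinv : ∀ x, g (inv x) = (g x)⁻¹) (hr : ∀ r ∈ rels, (r.map g).prod = 1) (hH : ∀ r ∈ subs, (r.map g).prod ∈ H)
    (j u : ℕ) (hu : u < M) (h : dp_z_40 j u = true) : Good (fa g) T MG M (cP g H) Lt.z u := by
  unfold dp_z_40 at h
  rcases brec_true h with h | h
  · exact lS_good (T := T) (x := Lt.z) (by decide) hu [Lt.y, Lt.z, Lt.yi, Lt.q, Lt.y, Lt.z, Lt.yi, Lt.z, Lt.y, Lt.q, Lt.yi] (H9.TCY.hole_at hinv hr 17 10 false (by decide +kernel)) h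
  · exact dp_z_39_s hinv hr hH j u hu h
theorem dp_z_41_s (hinv : ∀ x, g (inv x) = (g x)⁻¹) (hr : ∀ r ∈ rels, (r.map g).prod = 1) (hH : ∀ r ∈ subs, (r.map g).prod ∈ H)
    (j u : ℕ) (hu : u < M) (h : dp_z_41 j u = true) : Good (fa g) T MG M (cP g H) Lt.z u := by
  unfold dp_z_41 at h
  rcases brec_true h with h | h
  · exact lF_good (T := T) (x := Lt.z) (by decide) [Lt.yi, Lt.q, Lt.y, Lt.z, Lt.y, Lt.z, Lt.yi, Lt.z, Lt.yi, Lt.q, Lt.y, Lt.z, Lt.y, Lt.z, Lt.yi] (H9.TCY.hole_at hinv hr 29 0 false (by decide +kernel)) h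
  · exact lF_good (T := T) (x := Lt.z) (by decide) [Lt.q, Lt.z, Lt.yi, Lt.q, Lt.y, Lt.z, Lt.q, Lt.z, Lt.yi, Lt.q, Lt.y] (H9.TCY.hole_at hinv hr 16 4 false (by decide +kernel)) h
theorem dp_z_42_s (hinv : ∀ x, g (inv x) = (g x)⁻¹) (hr : ∀ r ∈ rels, (r.map g).prod = 1) (hH : ∀ r ∈ subs, (r.map g).prod ∈ H)
    (j u : ℕ) (hu : u < M) (h : dp_z_42 j u = true) : Good (fa g) T MG M (cP g H) Lt.z u := by
  unfold dp_z_42 at h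
  rcases brec_true h with h | h
  · exact lF_good (T := T) (x := Lt.z) (by decide) [Lt.y, Lt.z, Lt.yi, Lt.z, Lt.yi, Lt.q, Lt.y, Lt.z, Lt.y, Lt.z, Lt.yi, Lt.z, Lt.yi, Lt.q, Lt.y] (H9.TCY.hole_at hinv hr 29 4 false (by decide +kernel)) h
  · exact lF_good (T := T) (x := Lt.z) (by decide) [Lt.q, Lt.z, Lt.y, Lt.q, Lt.yi, Lt.z, Lt.q, Lt.z, Lt.y, Lt.q, Lt.yi] (H9.TCY.hole_at hinv hr 15 2 false (by decide +kernel)) h
theorem dp_z_43_s (hinv : ∀ x, g (inv x) = (g x)⁻¹) (hr : ∀ r ∈ rels, (r.map g).prod = 1) (hH : ∀ r ∈ subs, (r.map g).prod ∈ H)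
    (j u : ℕ) (hu : u < M) (h : dp_z_43 j u = true) : Good (fa g) T MG M (cP g H) Lt.z u := by
  unfold dp_z_43 at h
  rcases brec_true h with h | h
  · exact dp_z_41_s hinv hr hH j u hu h
  · exact dp_z_42_s hinv hr hH j u hu h
theorem dp_z_44_s (hinv : ∀ x, g (inv x) = (g x)⁻¹) (hr : ∀ r ∈ rels, (r.map g).prod = 1) (hH : ∀ r ∈ subs, (r.map g).prod ∈ H)
    (j u : ℕ) (hu : u < M) (h : dp_z_44 j u = true) : Good (fa g) T MG M (cP g H) Lt.z u := by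
  unfold dp_z_44 at h
  rcases brec_true h with h | h
  · exact dp_z_40_s hinv hr hH j u hu h
  · exact dp_z_43_s hinv hr hH j u hu h
theorem dp_z_45_s (hinv : ∀ x, g (inv x) = (g x)⁻¹) (hr : ∀ r ∈ rels, (r.map g).prod = 1) (hH : ∀ r ∈ subs, (r.map g).prod ∈ H)
    (j u : ℕ) (hu : u < M) (h : dp_z_45 j u = true) : Good (fa g) T MG M (cP g H) Lt.z u := by
  unfold dp_z_45 at h
  rcases brec_true h with h | h
  · exact dp_z_38_s hinv hr hH j u hu h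
  · exact dp_z_44_s hinv hr hH j u hu h
theorem dp_z_46_s (hinv : ∀ x, g (inv x) = (g x)⁻¹) (hr : ∀ r ∈ rels, (r.map g).prod = 1) (hH : ∀ r ∈ subs, (r.map g).prod ∈ H)
    (j u : ℕ) (hu : u < M) (h : dp_z_46 j u = true) : Good (fa g) T MG M (cP g H) Lt.z u := by
  unfold dp_z_46 at h
  rcases brec_true h with h | h
  · exact dp_z_34_s hinv hr hH j u hu h
  · exact dp_z_45_s hinv hr hH j u hu h
theorem dp_z_47_s (hinv : ∀ x, g (inv x) = (g x)⁻¹) (hr : ∀ r ∈ rels, (r.map g).prod = 1) (hH : ∀ r ∈ subs, (r.map g).prod ∈ H)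
    (j u : ℕ) (hu : u < M) (h : dp_z_47 j u = true) : Good (fa g) T MG M (cP g H) Lt.z u := by
  unfold dp_z_47 at h
  rcases brec_true h with h | h
  · exact dp_z_26_s hinv hr hH j u hu h
  · exact dp_z_46_s hinv hr hH j u hu h
theorem dp_z_48_s (hinv : ∀ x, g (inv x) = (g x)⁻¹) (hr : ∀ r ∈ rels, (r.map g).prod = 1) (hH : ∀ r ∈ subs, (r.map g).prod ∈ H)
    (j u : ℕ) (hu : u < M) (h : dp_z_48 j u = true) : Good (fa g) T MG M (cP g H) Lt.z u := by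
  unfold dp_z_48 at h
  rcases brec_true h with h | h
  · exact lF_good (T := T) (x := Lt.z) (by decide) [Lt.v, Lt.z, Lt.q, Lt.v, Lt.q, Lt.z, Lt.v, Lt.q, Lt.z, Lt.q] (H9.TCY.hole_at hinv hr 11 9 false (by decide +kernel)) h
  · exact lF_good (T := T) (x := Lt.z) (by decide) [Lt.yi, Lt.q, Lt.y, Lt.z, Lt.q, Lt.z, Lt.yi, Lt.q, Lt.y, Lt.z, Lt.q] (H9.TCY.hole_at hinv hr 16 0 false (by decide +kernel)) h
theorem dp_z_49_s (hinv : ∀ x, g (inv x) = (g x)⁻¹) (hr : ∀ r ∈ rels, (r.map g).prod = 1) (hH : ∀ r ∈ subs, (r.map g).prod ∈ H)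
    (j u : ℕ) (hu : u < M) (h : dp_z_49 j u = true) : Good (fa g) T MG M (cP g H) Lt.z u := by
  unfold dp_z_49 at h
  rcases brec_true h with h | h
  · exact lF_good (T := T) (x := Lt.z) (by decide) [Lt.q, Lt.v, Lt.z, Lt.q, Lt.v, Lt.q, Lt.z, Lt.v, Lt.z, Lt.q] (H9.TCY.hole_at hinv hr 11 5 true (by decide +kernel)) h
  · exact lF_good (T := T) (x := Lt.z) (by decide) [Lt.y, Lt.y, Lt.z, Lt.yi, Lt.yi, Lt.z, Lt.y, Lt.y, Lt.z, Lt.yi, Lt.yi, Lt.z, Lt.y, Lt.y, Lt.z, Lt.yi, Lt.yi] (H9.TCY.hole_at hinv hr 38 3 false (by decide +kernel)) h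
theorem dp_z_50_s (hinv : ∀ x, g (inv x) = (g x)⁻¹) (hr : ∀ r ∈ rels, (r.map g).prod = 1) (hH : ∀ r ∈ subs, (r.map g).prod ∈ H)
    (j u : ℕ) (hu : u < M) (h : dp_z_50 j u = true) : Good (fa g) T MG M (cP g H) Lt.z u := by
  unfold dp_z_50 at h
  rcases brec_true h with h | h
  · exact dp_z_48_s hinv hr hH j u hu h
  · exact dp_z_49_s hinv hr hH j u hu h
theorem dp_z_51_s (hinv : ∀ x, g (inv x) = (g x)⁻¹) (hr : ∀ r ∈ rels, (r.map g).prod = 1) (hH : ∀ r ∈ subs, (r.map g).prod ∈ H)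
    (j u : ℕ) (hu : u < M) (h : dp_z_51 j u = true) : Good (fa g) T MG M (cP g H) Lt.z u := by
  unfold dp_z_51 at h
  rcases brec_true h with h | h
  · exact lF_good (T := T) (x := Lt.z) (by decide) [Lt.yi, Lt.yi, Lt.z, Lt.y, Lt.y, Lt.z, Lt.yi, Lt.yi, Lt.z, Lt.y, Lt.y, Lt.z, Lt.yi, Lt.yi, Lt.z, Lt.y, Lt.y] (H9.TCY.hole_at hinv hr 38 0 false (by decide +kernel)) h
  · exact lS_good (T := T) (x := Lt.z) (by decide) hu [Lt.y, Lt.z, Lt.y, Lt.q, Lt.yi, Lt.z, Lt.yi, Lt.z, Lt.y, Lt.z, Lt.y, Lt.q, Lt.yi, Lt.z, Lt.yi] (H9.TCY.hole_at hinv hr 26 4 false (by decide +kernel)) h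
theorem dp_z_52_s (hinv : ∀ x, g (inv x) = (g x)⁻¹) (hr : ∀ r ∈ rels, (r.map g).prod = 1) (hH : ∀ r ∈ subs, (r.map g).prod ∈ H)
    (j u : ℕ) (hu : u < M) (h : dp_z_52 j u = true) : Good (fa g) T MG M (cP g H) Lt.z u := by
  unfold dp_z_52 at h
  rcases brec_true h with h | h
  · exact lF_good (T := T) (x := Lt.z) (by decide) [Lt.q, Lt.z, Lt.q, Lt.v, Lt.y, Lt.v, Lt.q, Lt.z, Lt.q, Lt.z, Lt.yi] (H9.TCY.hole_at hinv hr 13 7 false (by decide +kernel)) h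
  · exact lS_good (T := T) (x := Lt.z) (by decide) hu [Lt.y, Lt.q, Lt.yi, Lt.z, Lt.yi, Lt.z, Lt.y, Lt.z, Lt.y, Lt.q, Lt.yi, Lt.z, Lt.yi, Lt.z, Lt.y] (H9.TCY.hole_at hinv hr 26 6 false (by decide +kernel)) h
theorem dp_z_53_s (hinv : ∀ x, g (inv x) = (g x)⁻¹) (hr : ∀ r ∈ rels, (r.map g).prod = 1) (hH : ∀ r ∈ subs, (r.map g).prod ∈ H)
    (j u : ℕ) (hu : u < M) (h : dp_z_53 j u = true) : Good (fa g) T MG M (cP g H) Lt.z u := by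
  unfold dp_z_53 at h
  rcases brec_true h with h | h
  · exact dp_z_51_s hinv hr hH j u hu h
  · exact dp_z_52_s hinv hr hH j u hu h
theorem dp_z_54_s (hinv : ∀ x, g (inv x) = (g x)⁻¹) (hr : ∀ r ∈ rels, (r.map g).prod = 1) (hH : ∀ r ∈ subs, (r.map g).prod ∈ H)
    (j u : ℕ) (hu : u < M) (h : dp_z_54 j u = true) : Good (fa g) T MG M (cP g H) Lt.z u := by
  unfold dp_z_54 at h
  rcases brec_true h with h | h
  · exact dp_z_50_s hinv hr hH j u hu h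
  · exact dp_z_53_s hinv hr hH j u hu h
theorem dp_z_55_s (hinv : ∀ x, g (inv x) = (g x)⁻¹) (hr : ∀ r ∈ rels, (r.map g).prod = 1) (hH : ∀ r ∈ subs, (r.map g).prod ∈ H)
    (j u : ℕ) (hu : u < M) (h : dp_z_55 j u = true) : Good (fa g) T MG M (cP g H) Lt.z u := by
  unfold dp_z_55 at h
  rcases brec_true h with h | h
  · exact lF_good (T := T) (x := Lt.z) (by decide) [Lt.q, Lt.z, Lt.q, Lt.v, Lt.yi, Lt.v, Lt.q, Lt.z, Lt.q, Lt.z, Lt.y] (H9.TCY.hole_at hinv hr 13 8 true (by decide +kernel)) h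
  · exact lF_good (T := T) (x := Lt.z) (by decide) [Lt.v, Lt.z, Lt.q, Lt.z, Lt.v, Lt.q, Lt.v, Lt.q, Lt.v, Lt.z, Lt.q, Lt.z, Lt.v] (H9.TCY.hole_at hinv hr 20 9 false (by decide +kernel)) h
theorem dp_z_56_s (hinv : ∀ x, g (inv x) = (g x)⁻¹) (hr : ∀ r ∈ rels, (r.map g).prod = 1) (hH : ∀ r ∈ subs, (r.map g).prod ∈ H)
    (j u : ℕ) (hu : u < M) (h : dp_z_56 j u = true) : Good (fa g) T MG M (cP g H) Lt.z u := by
  unfold dp_z_56 at h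
  rcases brec_true h with h | h
  · exact lS_good (T := T) (x := Lt.z) (by decide) hu [Lt.yi, Lt.z, Lt.yi, Lt.q, Lt.y, Lt.z, Lt.y, Lt.z, Lt.yi, Lt.z, Lt.yi, Lt.q, Lt.y, Lt.z, Lt.y] (H9.TCY.hole_at hinv hr 29 6 false (by decide +kernel)) h
  · exact dp_z_55_s hinv hr hH j u hu h
theorem dp_z_57_s (hinv : ∀ x, g (inv x) = (g x)⁻¹) (hr : ∀ r ∈ rels, (r.map g).prod = 1) (hH : ∀ r ∈ subs, (r.map g).prod ∈ H)
    (j u : ℕ) (hu : u < M) (h : dp_z_57 j u = true) : Good (fa g) T MG M (cP g H) Lt.z u := by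
  unfold dp_z_57 at h
  rcases brec_true h with h | h
  · exact lS_good (T := T) (x := Lt.z) (by decide) hu [Lt.q, Lt.y, Lt.z, Lt.q, Lt.z, Lt.q, Lt.yi, Lt.z, Lt.q] (H9.TCY.hole_at hinv hr 10 8 true (by decide +kernel)) h
  · exact lF_good (T := T) (x := Lt.z) (by decide) [Lt.q, Lt.yi, Lt.q, Lt.y, Lt.z, Lt.q, Lt.yi, Lt.q, Lt.z, Lt.y, Lt.q, Lt.yi, Lt.q, Lt.z, Lt.y] (H9.TCY.hole_at hinv hr 23 12 true (by decide +kernel)) h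
theorem dp_z_58_s (hinv : ∀ x, g (inv x) = (g x)⁻¹) (hr : ∀ r ∈ rels, (r.map g).prod = 1) (hH : ∀ r ∈ subs, (r.map g).prod ∈ H)
    (j u : ℕ) (hu : u < M) (h : dp_z_58 j u = true) : Good (fa g) T MG M (cP g H) Lt.z u := by
  unfold dp_z_58 at h
  rcases brec_true h with h | h
  · exact lF_good (T := T) (x := Lt.z) (by decide) [Lt.yi, Lt.z, Lt.q, Lt.y, Lt.z, Lt.q, Lt.yi, Lt.z, Lt.y, Lt.q, Lt.z, Lt.yi, Lt.q, Lt.z, Lt.y] (H9.TCY.hole_at hinv hr 27 5 false (by decide +kernel)) h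
  · exact dp_z_57_s hinv hr hH j u hu h
theorem dp_z_59_s (hinv : ∀ x, g (inv x) = (g x)⁻¹) (hr : ∀ r ∈ rels, (r.map g).prod = 1) (hH : ∀ r ∈ subs, (r.map g).prod ∈ H)
    (j u : ℕ) (hu : u < M) (h : dp_z_59 j u = true) : Good (fa g) T MG M (cP g H) Lt.z u := by
  unfold dp_z_59 at h
  rcases brec_true h with h | h
  · exact dp_z_56_s hinv hr hH j u hu h
  · exact dp_z_58_s hinv hr hH j u hu h
theorem dp_z_60_s (hinv : ∀ x, g (inv x) = (g x)⁻¹) (hr : ∀ r ∈ rels, (r.map g).prod = 1) (hH : ∀ r ∈ subs, (r.map g).prod ∈ H)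
    (j u : ℕ) (hu : u < M) (h : dp_z_60 j u = true) : Good (fa g) T MG M (cP g H) Lt.z u := by
  unfold dp_z_60 at h
  rcases brec_true h with h | h
  · exact lF_good (T := T) (x := Lt.z) (by decide) [Lt.q, Lt.y, Lt.q, Lt.yi, Lt.z, Lt.q, Lt.y, Lt.q, Lt.z, Lt.yi, Lt.q, Lt.y, Lt.q, Lt.z, Lt.yi] (H9.TCY.hole_at hinv hr 23 7 false (by decide +kernel)) h
  · exact lS_good (T := T) (x := Lt.z) (by decide) hu [Lt.yi, Lt.z, Lt.y, Lt.z, Lt.y, Lt.q, Lt.yi, Lt.z, Lt.yi, Lt.z, Lt.y, Lt.z, Lt.y, Lt.q, Lt.yi] (H9.TCY.hole_at hinv hr 26 2 false (by decide +kernel)) h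
theorem dp_z_61_s (hinv : ∀ x, g (inv x) = (g x)⁻¹) (hr : ∀ r ∈ rels, (r.map g).prod = 1) (hH : ∀ r ∈ subs, (r.map g).prod ∈ H)
    (j u : ℕ) (hu : u < M) (h : dp_z_61 j u = true) : Good (fa g) T MG M (cP g H) Lt.z u := by
  unfold dp_z_61 at h
  rcases brec_true h with h | h
  · exact lS_good (T := T) (x := Lt.z) (by decide) hu [Lt.yi, Lt.q, Lt.y, Lt.z, Lt.y, Lt.z, Lt.yi, Lt.z, Lt.yi, Lt.q, Lt.y, Lt.z, Lt.y, Lt.z, Lt.yi] (H9.TCY.hole_at hinv hr 29 0 false (by decide +kernel)) h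
  · exact dp_z_60_s hinv hr hH j u hu h
theorem dp_z_62_s (hinv : ∀ x, g (inv x) = (g x)⁻¹) (hr : ∀ r ∈ rels, (r.map g).prod = 1) (hH : ∀ r ∈ subs, (r.map g).prod ∈ H)
    (j u : ℕ) (hu : u < M) (h : dp_z_62 j u = true) : Good (fa g) T MG M (cP g H) Lt.z u := by
  unfold dp_z_62 at h
  rcases brec_true h with h | h
  · exact lF_good (T := T) (x := Lt.z) (by decide) [Lt.yi, Lt.q, Lt.z, Lt.yi, Lt.yi, Lt.z, Lt.q, Lt.yi, Lt.z, Lt.y, Lt.q, Lt.z, Lt.y, Lt.y, Lt.z, Lt.q, Lt.y] (H9.TCY.hole_at hinv hr 37 15 false (by decide +kernel)) h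
  · exact lF_good (T := T) (x := Lt.z) (by decide) [Lt.y, Lt.q, Lt.z, Lt.y, Lt.y, Lt.z, Lt.q, Lt.y, Lt.z, Lt.yi, Lt.q, Lt.z, Lt.yi, Lt.yi, Lt.z, Lt.q, Lt.yi] (H9.TCY.hole_at hinv hr 37 6 false (by decide +kernel)) h
theorem dp_z_63_s (hinv : ∀ x, g (inv x) = (g x)⁻¹) (hr : ∀ r ∈ rels, (r.map g).prod = 1) (hH : ∀ r ∈ subs, (r.map g).prod ∈ H)
    (j u : ℕ) (hu : u < M) (h : dp_z_63 j u = true) : Good (fa g) T MG M (cP g H) Lt.z u := by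
  unfold dp_z_63 at h
  rcases brec_true h with h | h
  · exact lF_good (T := T) (x := Lt.z) (by decide) [Lt.y, Lt.q, Lt.y, Lt.z, Lt.y, Lt.z, Lt.yi, Lt.z, Lt.y, Lt.y, Lt.q, Lt.y, Lt.y, Lt.z, Lt.yi, Lt.z, Lt.y] (H9.TCY.hole_at hinv hr 41 5 true (by decide +kernel)) h
  · exact dp_z_62_s hinv hr hH j u hu h
theorem dp_z_64_s (hinv : ∀ x, g (inv x) = (g x)⁻¹) (hr : ∀ r ∈ rels, (r.map g).prod = 1) (hH : ∀ r ∈ subs, (r.map g).prod ∈ H)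
    (j u : ℕ) (hu : u < M) (h : dp_z_64 j u = true) : Good (fa g) T MG M (cP g H) Lt.z u := by
  unfold dp_z_64 at h
  rcases brec_true h with h | h
  · exact dp_z_61_s hinv hr hH j u hu h
  · exact dp_z_63_s hinv hr hH j u hu h
theorem dp_z_65_s (hinv : ∀ x, g (inv x) = (g x)⁻¹) (hr : ∀ r ∈ rels, (r.map g).prod = 1) (hH : ∀ r ∈ subs, (r.map g).prod ∈ H)
    (j u : ℕ) (hu : u < M) (h : dp_z_65 j u = true) : Good (fa g) T MG M (cP g H) Lt.z u := by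
  unfold dp_z_65 at h
  rcases brec_true h with h | h
  · exact dp_z_59_s hinv hr hH j u hu h
  · exact dp_z_64_s hinv hr hH j u hu h
theorem dp_z_66_s (hinv : ∀ x, g (inv x) = (g x)⁻¹) (hr : ∀ r ∈ rels, (r.map g).prod = 1) (hH : ∀ r ∈ subs, (r.map g).prod ∈ H)
    (j u : ℕ) (hu : u < M) (h : dp_z_66 j u = true) : Good (fa g) T MG M (cP g H) Lt.z u := by
  unfold dp_z_66 at h
  rcases brec_true h with h | h
  · exact dp_z_54_s hinv hr hH j u hu h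
  · exact dp_z_65_s hinv hr hH j u hu h
theorem dp_z_67_s (hinv : ∀ x, g (inv x) = (g x)⁻¹) (hr : ∀ r ∈ rels, (r.map g).prod = 1) (hH : ∀ r ∈ subs, (r.map g).prod ∈ H)
    (j u : ℕ) (hu : u < M) (h : dp_z_67 j u = true) : Good (fa g) T MG M (cP g H) Lt.z u := by
  unfold dp_z_67 at h
  rcases brec_true h with h | h
  · exact lF_good (T := T) (x := Lt.z) (by decide) [Lt.yi, Lt.q, Lt.yi, Lt.z, Lt.yi, Lt.z, Lt.y, Lt.z, Lt.yi, Lt.yi, Lt.q, Lt.yi, Lt.yi, Lt.z, Lt.y, Lt.z, Lt.yi] (H9.TCY.hole_at hinv hr 41 10 false (by decide +kernel)) h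
  · exact lS_good (T := T) (x := Lt.z) (by decide) hu [Lt.y, Lt.y, Lt.z, Lt.yi, Lt.yi, Lt.z, Lt.y, Lt.y, Lt.z, Lt.yi, Lt.yi, Lt.z, Lt.y, Lt.y, Lt.z, Lt.yi, Lt.yi] (H9.TCY.hole_at hinv hr 38 3 false (by decide +kernel)) h
theorem dp_z_68_s (hinv : ∀ x, g (inv x) = (g x)⁻¹) (hr : ∀ r ∈ rels, (r.map g).prod = 1) (hH : ∀ r ∈ subs, (r.map g).prod ∈ H)
    (j u : ℕ) (hu : u < M) (h : dp_z_68 j u = true) : Good (fa g) T MG M (cP g H) Lt.z u := by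
  unfold dp_z_68 at h
  rcases brec_true h with h | h
  · exact lS_good (T := T) (x := Lt.z) (by decide) hu [Lt.yi, Lt.yi, Lt.z, Lt.y, Lt.y, Lt.z, Lt.yi, Lt.yi, Lt.z, Lt.y, Lt.y, Lt.z, Lt.yi, Lt.yi, Lt.z, Lt.y, Lt.y] (H9.TCY.hole_at hinv hr 38 0 false (by decide +kernel)) h
  · exact dp_z_67_s hinv hr hH j u hu h
theorem dp_z_69_s (hinv : ∀ x, g (inv x) = (g x)⁻¹) (hr : ∀ r ∈ rels, (r.map g).prod = 1) (hH : ∀ r ∈ subs, (r.map g).prod ∈ H)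
    (j u : ℕ) (hu : u < M) (h : dp_z_69 j u = true) : Good (fa g) T MG M (cP g H) Lt.z u := by
  unfold dp_z_69 at h
  rcases brec_true h with h | h
  · exact lS_good (T := T) (x := Lt.z) (by decide) hu [Lt.y, Lt.z, Lt.yi, Lt.z, Lt.yi, Lt.q, Lt.y, Lt.z, Lt.y, Lt.z, Lt.yi, Lt.z, Lt.yi, Lt.q, Lt.y] (H9.TCY.hole_at hinv hr 29 4 false (by decide +kernel)) h
  · exact lS_good (T := T) (x := Lt.z) (by decide) hu [Lt.q, Lt.v, Lt.q, Lt.z, Lt.q, Lt.v, Lt.q, Lt.z, Lt.q, Lt.v, Lt.q] (H9.TCY.hole_at hinv hr 14 0 false (by decide +kernel)) h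
theorem dp_z_70_s (hinv : ∀ x, g (inv x) = (g x)⁻¹) (hr : ∀ r ∈ rels, (r.map g).prod = 1) (hH : ∀ r ∈ subs, (r.map g).prod ∈ H)
    (j u : ℕ) (hu : u < M) (h : dp_z_70 j u = true) : Good (fa g) T MG M (cP g H) Lt.z u := by
  unfold dp_z_70 at h
  rcases brec_true h with h | h
  · exact lF_good (T := T) (x := Lt.z) (by decide) [Lt.y, Lt.q, Lt.yi, Lt.q, Lt.z, Lt.q, Lt.y, Lt.z, Lt.yi, Lt.q, Lt.y, Lt.q, Lt.z, Lt.q, Lt.yi] (H9.TCY.hole_at hinv hr 24 8 false (by decide +kernel)) h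
  · exact lF_good (T := T) (x := Lt.z) (by decide) [Lt.yi, Lt.z, Lt.y, Lt.z, Lt.yi, Lt.yi, Lt.q, Lt.yi, Lt.yi, Lt.z, Lt.y, Lt.z, Lt.yi, Lt.z, Lt.yi, Lt.q, Lt.yi] (H9.TCY.hole_at hinv hr 41 14 false (by decide +kernel)) h
theorem dp_z_71_s (hinv : ∀ x, g (inv x) = (g x)⁻¹) (hr : ∀ r ∈ rels, (r.map g).prod = 1) (hH : ∀ r ∈ subs, (r.map g).prod ∈ H)
    (j u : ℕ) (hu : u < M) (h : dp_z_71 j u = true) : Good (fa g) T MG M (cP g H) Lt.z u := by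
  unfold dp_z_71 at h
  rcases brec_true h with h | h
  · exact dp_z_69_s hinv hr hH j u hu h
  · exact dp_z_70_s hinv hr hH j u hu h
theorem dp_z_72_s (hinv : ∀ x, g (inv x) = (g x)⁻¹) (hr : ∀ r ∈ rels, (r.map g).prod = 1) (hH : ∀ r ∈ subs, (r.map g).prod ∈ H)
    (j u : ℕ) (hu : u < M) (h : dp_z_72 j u = true) : Good (fa g) T MG M (cP g H) Lt.z u := by
  unfold dp_z_72 at h
  rcases brec_true h with h | h
  · exact dp_z_68_s hinv hr hH j u hu h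
  · exact dp_z_71_s hinv hr hH j u hu h
theorem dp_z_73_s (hinv : ∀ x, g (inv x) = (g x)⁻¹) (hr : ∀ r ∈ rels, (r.map g).prod = 1) (hH : ∀ r ∈ subs, (r.map g).prod ∈ H)
    (j u : ℕ) (hu : u < M) (h : dp_z_73 j u = true) : Good (fa g) T MG M (cP g H) Lt.z u := by
  unfold dp_z_73 at h
  rcases brec_true h with h | h
  · exact lF_good (T := T) (x := Lt.z) (by decide) [Lt.yi, Lt.q, Lt.y, Lt.q, Lt.z, Lt.q, Lt.yi, Lt.z, Lt.y, Lt.q, Lt.yi, Lt.q, Lt.z, Lt.q, Lt.y] (H9.TCY.hole_at hinv hr 24 0 false (by decide +kernel)) h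
  · exact lF_good (T := T) (x := Lt.z) (by decide) [Lt.y, Lt.z, Lt.yi, Lt.z, Lt.y, Lt.y, Lt.q, Lt.y, Lt.y, Lt.z, Lt.yi, Lt.z, Lt.y, Lt.z, Lt.y, Lt.q, Lt.y] (H9.TCY.hole_at hinv hr 41 9 true (by decide +kernel)) h
theorem dp_z_74_s (hinv : ∀ x, g (inv x) = (g x)⁻¹) (hr : ∀ r ∈ rels, (r.map g).prod = 1) (hH : ∀ r ∈ subs, (r.map g).prod ∈ H)
    (j u : ℕ) (hu : u < M) (h : dp_z_74 j u = true) : Good (fa g) T MG M (cP g H) Lt.z u := by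
  unfold dp_z_74 at h
  rcases brec_true h with h | h
  · exact lF_good (T := T) (x := Lt.z) (by decide) [Lt.q, Lt.yi, Lt.q, Lt.z, Lt.y, Lt.q, Lt.yi, Lt.q, Lt.z, Lt.y, Lt.z, Lt.q, Lt.yi, Lt.q, Lt.y] (H9.TCY.hole_at hinv hr 23 1 true (by decide +kernel)) h
  · exact dp_z_73_s hinv hr hH j u hu h
theorem dp_z_75_s (hinv : ∀ x, g (inv x) = (g x)⁻¹) (hr : ∀ r ∈ rels, (r.map g).prod = 1) (hH : ∀ r ∈ subs, (r.map g).prod ∈ H)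
    (j u : ℕ) (hu : u < M) (h : dp_z_75 j u = true) : Good (fa g) T MG M (cP g H) Lt.z u := by
  unfold dp_z_75 at h
  rcases brec_true h with h | h
  · exact lF_good (T := T) (x := Lt.z) (by decide) [Lt.y, Lt.q, Lt.z, Lt.q, Lt.yi, Lt.q, Lt.y, Lt.z, Lt.yi, Lt.q, Lt.z, Lt.q, Lt.y, Lt.q, Lt.yi] (H9.TCY.hole_at hinv hr 24 9 true (by decide +kernel)) h
  · exact lF_good (T := T) (x := Lt.z) (by decide) [Lt.y, Lt.q, Lt.z, Lt.yi, Lt.q, Lt.z, Lt.y, Lt.z, Lt.yi, Lt.z, Lt.q, Lt.y, Lt.z, Lt.q, Lt.yi] (H9.TCY.hole_at hinv hr 27 13 false (by decide +kernel)) h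
theorem dp_z_76_s (hinv : ∀ x, g (inv x) = (g x)⁻¹) (hr : ∀ r ∈ rels, (r.map g).prod = 1) (hH : ∀ r ∈ subs, (r.map g).prod ∈ H)
    (j u : ℕ) (hu : u < M) (h : dp_z_76 j u = true) : Good (fa g) T MG M (cP g H) Lt.z u := by
  unfold dp_z_76 at h
  rcases brec_true h with h | h
  · exact lF_good (T := T) (x := Lt.z) (by decide) [Lt.q, Lt.y, Lt.z, Lt.yi, Lt.q, Lt.z, Lt.yi, Lt.yi, Lt.z, Lt.q, Lt.yi, Lt.z, Lt.y, Lt.q, Lt.z, Lt.y, Lt.y] (H9.TCY.hole_at hinv hr 37 12 false (by decide +kernel)) h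
  · exact lF_good (T := T) (x := Lt.z) (by decide) [Lt.q, Lt.y, Lt.q, Lt.z, Lt.yi, Lt.q, Lt.y, Lt.q, Lt.z, Lt.yi, Lt.z, Lt.q, Lt.y, Lt.q, Lt.yi] (H9.TCY.hole_at hinv hr 23 12 false (by decide +kernel)) h
theorem dp_z_77_s (hinv : ∀ x, g (inv x) = (g x)⁻¹) (hr : ∀ r ∈ rels, (r.map g).prod = 1) (hH : ∀ r ∈ subs, (r.map g).prod ∈ H)
    (j u : ℕ) (hu : u < M) (h : dp_z_77 j u = true) : Good (fa g) T MG M (cP g H) Lt.z u := by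
  unfold dp_z_77 at h
  rcases brec_true h with h | h
  · exact dp_z_75_s hinv hr hH j u hu h
  · exact dp_z_76_s hinv hr hH j u hu h
theorem dp_z_78_s (hinv : ∀ x, g (inv x) = (g x)⁻¹) (hr : ∀ r ∈ rels, (r.map g).prod = 1) (hH : ∀ r ∈ subs, (r.map g).prod ∈ H)
    (j u : ℕ) (hu : u < M) (h : dp_z_78 j u = true) : Good (fa g) T MG M (cP g H) Lt.z u := by
  unfold dp_z_78 at h
  rcases brec_true h with h | h
  · exact dp_z_74_s hinv hr hH j u hu h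
  · exact dp_z_77_s hinv hr hH j u hu h
theorem dp_z_79_s (hinv : ∀ x, g (inv x) = (g x)⁻¹) (hr : ∀ r ∈ rels, (r.map g).prod = 1) (hH : ∀ r ∈ subs, (r.map g).prod ∈ H)
    (j u : ℕ) (hu : u < M) (h : dp_z_79 j u = true) : Good (fa g) T MG M (cP g H) Lt.z u := by
  unfold dp_z_79 at h
  rcases brec_true h with h | h
  · exact dp_z_72_s hinv hr hH j u hu h
  · exact dp_z_78_s hinv hr hH j u hu h
theorem dp_z_80_s (hinv : ∀ x, g (inv x) = (g x)⁻¹) (hr : ∀ r ∈ rels, (r.map g).prod = 1) (hH : ∀ r ∈ subs, (r.map g).prod ∈ H)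
    (j u : ℕ) (hu : u < M) (h : dp_z_80 j u = true) : Good (fa g) T MG M (cP g H) Lt.z u := by
  unfold dp_z_80 at h
  rcases brec_true h with h | h
  · exact lF_good (T := T) (x := Lt.z) (by decide) [Lt.y, Lt.q, Lt.yi, Lt.q, Lt.z, Lt.y, Lt.z, Lt.q, Lt.yi, Lt.q, Lt.y, Lt.z, Lt.q, Lt.yi, Lt.q] (H9.TCY.hole_at hinv hr 23 5 true (by decide +kernel)) h
  · exact lF_good (T := T) (x := Lt.z) (by decide) [Lt.yi, Lt.q, Lt.z, Lt.q, Lt.y, Lt.q, Lt.yi, Lt.z, Lt.y, Lt.q, Lt.z, Lt.q, Lt.yi, Lt.q, Lt.y] (H9.TCY.hole_at hinv hr 24 1 true (by decide +kernel)) h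
theorem dp_z_81_s (hinv : ∀ x, g (inv x) = (g x)⁻¹) (hr : ∀ r ∈ rels, (r.map g).prod = 1) (hH : ∀ r ∈ subs, (r.map g).prod ∈ H)
    (j u : ℕ) (hu : u < M) (h : dp_z_81 j u = true) : Good (fa g) T MG M (cP g H) Lt.z u := by
  unfold dp_z_81 at h
  rcases brec_true h with h | h
  · exact lF_good (T := T) (x := Lt.z) (by decide) [Lt.q, Lt.yi, Lt.z, Lt.y, Lt.q, Lt.z, Lt.y, Lt.y, Lt.z, Lt.q, Lt.y, Lt.z, Lt.yi, Lt.q, Lt.z, Lt.yi, Lt.yi] (H9.TCY.hole_at hinv hr 37 3 false (by decide +kernel)) h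
  · exact lF_good (T := T) (x := Lt.z) (by decide) [Lt.yi, Lt.z, Lt.q, Lt.y, Lt.q, Lt.yi, Lt.z, Lt.q, Lt.y, Lt.q, Lt.z, Lt.yi, Lt.q, Lt.y, Lt.q] (H9.TCY.hole_at hinv hr 23 5 false (by decide +kernel)) h
theorem dp_z_82_s (hinv : ∀ x, g (inv x) = (g x)⁻¹) (hr : ∀ r ∈ rels, (r.map g).prod = 1) (hH : ∀ r ∈ subs, (r.map g).prod ∈ H)
    (j u : ℕ) (hu : u < M) (h : dp_z_82 j u = true) : Good (fa g) T MG M (cP g H) Lt.z u := by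
  unfold dp_z_82 at h
  rcases brec_true h with h | h
  · exact dp_z_80_s hinv hr hH j u hu h
  · exact dp_z_81_s hinv hr hH j u hu h
theorem dp_z_83_s (hinv : ∀ x, g (inv x) = (g x)⁻¹) (hr : ∀ r ∈ rels, (r.map g).prod = 1) (hH : ∀ r ∈ subs, (r.map g).prod ∈ H)
    (j u : ℕ) (hu : u < M) (h : dp_z_83 j u = true) : Good (fa g) T MG M (cP g H) Lt.z u := by
  unfold dp_z_83 at h
  rcases brec_true h with h | h
  · exact lS_good (T := T) (x := Lt.z) (by decide) hu [Lt.yi, Lt.q, Lt.z, Lt.yi, Lt.yi, Lt.z, Lt.q, Lt.yi, Lt.z, Lt.y, Lt.q, Lt.z, Lt.y, Lt.y, Lt.z, Lt.q, Lt.y] (H9.TCY.hole_at hinv hr 37 15 false (by decide +kernel)) h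
  · exact lF_good (T := T) (x := Lt.z) (by decide) [Lt.yi, Lt.q, Lt.y, Lt.q, Lt.z, Lt.yi, Lt.z, Lt.q, Lt.y, Lt.q, Lt.yi, Lt.z, Lt.q, Lt.y, Lt.q] (H9.TCY.hole_at hinv hr 23 0 false (by decide +kernel)) h
theorem dp_z_84_s (hinv : ∀ x, g (inv x) = (g x)⁻¹) (hr : ∀ r ∈ rels, (r.map g).prod = 1) (hH : ∀ r ∈ subs, (r.map g).prod ∈ H)
    (j u : ℕ) (hu : u < M) (h : dp_z_84 j u = true) : Good (fa g) T MG M (cP g H) Lt.z u := by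
  unfold dp_z_84 at h
  rcases brec_true h with h | h
  · exact lF_good (T := T) (x := Lt.z) (by decide) [Lt.y, Lt.z, Lt.q, Lt.yi, Lt.q, Lt.y, Lt.z, Lt.q, Lt.yi, Lt.q, Lt.z, Lt.y, Lt.q, Lt.yi, Lt.q] (H9.TCY.hole_at hinv hr 23 10 true (by decide +kernel)) h
  · exact lF_good (T := T) (x := Lt.z) (by decide) [Lt.yi, Lt.z, Lt.q, Lt.z, Lt.q, Lt.v, Lt.y, Lt.v, Lt.q, Lt.z, Lt.q] (H9.TCY.hole_at hinv hr 13 5 false (by decide +kernel)) h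
theorem dp_z_85_s (hinv : ∀ x, g (inv x) = (g x)⁻¹) (hr : ∀ r ∈ rels, (r.map g).prod = 1) (hH : ∀ r ∈ subs, (r.map g).prod ∈ H)
    (j u : ℕ) (hu : u < M) (h : dp_z_85 j u = true) : Good (fa g) T MG M (cP g H) Lt.z u := by
  unfold dp_z_85 at h
  rcases brec_true h with h | h
  · exact lS_good (T := T) (x := Lt.z) (by decide) hu [Lt.yi, Lt.q, Lt.yi, Lt.z, Lt.yi, Lt.z, Lt.y, Lt.z, Lt.yi, Lt.yi, Lt.q, Lt.yi, Lt.yi, Lt.z, Lt.y, Lt.z, Lt.yi] (H9.TCY.hole_at hinv hr 41 10 false (by decide +kernel)) h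
  · exact dp_z_84_s hinv hr hH j u hu h
theorem dp_z_86_s (hinv : ∀ x, g (inv x) = (g x)⁻¹) (hr : ∀ r ∈ rels, (r.map g).prod = 1) (hH : ∀ r ∈ subs, (r.map g).prod ∈ H)
    (j u : ℕ) (hu : u < M) (h : dp_z_86 j u = true) : Good (fa g) T MG M (cP g H) Lt.z u := by
  unfold dp_z_86 at h
  rcases brec_true h with h | h
  · exact dp_z_83_s hinv hr hH j u hu h
  · exact dp_z_85_s hinv hr hH j u hu h
theorem dp_z_87_s (hinv : ∀ x, g (inv x) = (g x)⁻¹) (hr : ∀ r ∈ rels, (r.map g).prod = 1) (hH : ∀ r ∈ subs, (r.map g).prod ∈ H)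
    (j u : ℕ) (hu : u < M) (h : dp_z_87 j u = true) : Good (fa g) T MG M (cP g H) Lt.z u := by
  unfold dp_z_87 at h
  rcases brec_true h with h | h
  · exact dp_z_82_s hinv hr hH j u hu h
  · exact dp_z_86_s hinv hr hH j u hu h
theorem dp_z_88_s (hinv : ∀ x, g (inv x) = (g x)⁻¹) (hr : ∀ r ∈ rels, (r.map g).prod = 1) (hH : ∀ r ∈ subs, (r.map g).prod ∈ H)
    (j u : ℕ) (hu : u < M) (h : dp_z_88 j u = true) : Good (fa g) T MG M (cP g H) Lt.z u := by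
  unfold dp_z_88 at h
  rcases brec_true h with h | h
  · exact lS_good (T := T) (x := Lt.z) (by decide) hu [Lt.y, Lt.q, Lt.z, Lt.y, Lt.y, Lt.z, Lt.q, Lt.y, Lt.z, Lt.yi, Lt.q, Lt.z, Lt.yi, Lt.yi, Lt.z, Lt.q, Lt.yi] (H9.TCY.hole_at hinv hr 37 6 false (by decide +kernel)) h
  · exact lS_good (T := T) (x := Lt.z) (by decide) hu [Lt.y, Lt.q, Lt.y, Lt.z, Lt.y, Lt.z, Lt.yi, Lt.z, Lt.y, Lt.y, Lt.q, Lt.y, Lt.y, Lt.z, Lt.yi, Lt.z, Lt.y] (H9.TCY.hole_at hinv hr 41 5 true (by decide +kernel)) h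
theorem dp_z_89_s (hinv : ∀ x, g (inv x) = (g x)⁻¹) (hr : ∀ r ∈ rels, (r.map g).prod = 1) (hH : ∀ r ∈ subs, (r.map g).prod ∈ H)
    (j u : ℕ) (hu : u < M) (h : dp_z_89 j u = true) : Good (fa g) T MG M (cP g H) Lt.z u := by
  unfold dp_z_89 at h
  rcases brec_true h with h | h
  · exact lS_good (T := T) (x := Lt.z) (by decide) hu [Lt.v, Lt.z, Lt.q, Lt.z, Lt.q, Lt.v, Lt.z, Lt.q, Lt.v, Lt.q] (H9.TCY.hole_at hinv hr 11 1 true (by decide +kernel)) h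
  · exact lF_good (T := T) (x := Lt.z) (by decide) [Lt.q, Lt.y, Lt.z, Lt.q, Lt.yi, Lt.z, Lt.y, Lt.q, Lt.z, Lt.yi, Lt.q, Lt.z, Lt.y, Lt.z, Lt.yi] (H9.TCY.hole_at hinv hr 27 7 false (by decide +kernel)) h
theorem dp_z_90_s (hinv : ∀ x, g (inv x) = (g x)⁻¹) (hr : ∀ r ∈ rels, (r.map g).prod = 1) (hH : ∀ r ∈ subs, (r.map g).prod ∈ H)
    (j u : ℕ) (hu : u < M) (h : dp_z_90 j u = true) : Good (fa g) T MG M (cP g H) Lt.z u := by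
  unfold dp_z_90 at h
  rcases brec_true h with h | h
  · exact lF_good (T := T) (x := Lt.z) (by decide) [Lt.y, Lt.y, Lt.y, Lt.q, Lt.z, Lt.q, Lt.z, Lt.y, Lt.y, Lt.y, Lt.q, Lt.z, Lt.q] (H9.TCY.hole_at hinv hr 21 4 true (by decide +kernel)) h
  · exact dp_z_89_s hinv hr hH j u hu h
theorem dp_z_91_s (hinv : ∀ x, g (inv x) = (g x)⁻¹) (hr : ∀ r ∈ rels, (r.map g).prod = 1) (hH : ∀ r ∈ subs, (r.map g).prod ∈ H)
    (j u : ℕ) (hu : u < M) (h : dp_z_91 j u = true) : Good (fa g) T MG M (cP g H) Lt.z u := by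
  unfold dp_z_91 at h
  rcases brec_true h with h | h
  · exact dp_z_88_s hinv hr hH j u hu h
  · exact dp_z_90_s hinv hr hH j u hu h
theorem dp_z_92_s (hinv : ∀ x, g (inv x) = (g x)⁻¹) (hr : ∀ r ∈ rels, (r.map g).prod = 1) (hH : ∀ r ∈ subs, (r.map g).prod ∈ H)
    (j u : ℕ) (hu : u < M) (h : dp_z_92 j u = true) : Good (fa g) T MG M (cP g H) Lt.z u := by
  unfold dp_z_92 at h
  rcases brec_true h with h | h
  · exact lF_good (T := T) (x := Lt.z) (by decide) [Lt.y, Lt.z, Lt.yi, Lt.z, Lt.yi, Lt.q, Lt.yi, Lt.z, Lt.yi, Lt.z, Lt.y, Lt.z, Lt.yi, Lt.yi, Lt.q, Lt.yi, Lt.yi] (H9.TCY.hole_at hinv hr 41 6 false (by decide +kernel)) h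
  · exact lF_good (T := T) (x := Lt.z) (by decide) [Lt.yi, Lt.z, Lt.yi, Lt.q, Lt.yi, Lt.z, Lt.yi, Lt.z, Lt.y, Lt.z, Lt.yi, Lt.yi, Lt.q, Lt.yi, Lt.yi, Lt.z, Lt.y] (H9.TCY.hole_at hinv hr 41 8 false (by decide +kernel)) h
theorem dp_z_93_s (hinv : ∀ x, g (inv x) = (g x)⁻¹) (hr : ∀ r ∈ rels, (r.map g).prod = 1) (hH : ∀ r ∈ subs, (r.map g).prod ∈ H)
    (j u : ℕ) (hu : u < M) (h : dp_z_93 j u = true) : Good (fa g) T MG M (cP g H) Lt.z u := by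
  unfold dp_z_93 at h
  rcases brec_true h with h | h
  · exact lS_good (T := T) (x := Lt.z) (by decide) hu [Lt.y, Lt.z, Lt.yi, Lt.z, Lt.y, Lt.y, Lt.q, Lt.y, Lt.y, Lt.z, Lt.yi, Lt.z, Lt.y, Lt.z, Lt.y, Lt.q, Lt.y] (H9.TCY.hole_at hinv hr 41 9 true (by decide +kernel)) h
  · exact dp_z_92_s hinv hr hH j u hu h
theorem dp_z_94_s (hinv : ∀ x, g (inv x) = (g x)⁻¹) (hr : ∀ r ∈ rels, (r.map g).prod = 1) (hH : ∀ r ∈ subs, (r.map g).prod ∈ H)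
    (j u : ℕ) (hu : u < M) (h : dp_z_94 j u = true) : Good (fa g) T MG M (cP g H) Lt.z u := by
  unfold dp_z_94 at h
  rcases brec_true h with h | h
  · exact lF_good (T := T) (x := Lt.z) (by decide) [Lt.y, Lt.y, Lt.z, Lt.q, Lt.y, Lt.z, Lt.yi, Lt.q, Lt.z, Lt.yi, Lt.yi, Lt.z, Lt.q, Lt.yi, Lt.z, Lt.y, Lt.q] (H9.TCY.hole_at hinv hr 37 9 false (by decide +kernel)) h
  · exact lS_good (T := T) (x := Lt.z) (by decide) hu [Lt.yi, Lt.z, Lt.y, Lt.z, Lt.yi, Lt.yi, Lt.q, Lt.yi, Lt.yi, Lt.z, Lt.y, Lt.z, Lt.yi, Lt.z, Lt.yi, Lt.q, Lt.yi] (H9.TCY.hole_at hinv hr 41 14 false (by decide +kernel)) h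
theorem dp_z_95_s (hinv : ∀ x, g (inv x) = (g x)⁻¹) (hr : ∀ r ∈ rels, (r.map g).prod = 1) (hH : ∀ r ∈ subs, (r.map g).prod ∈ H)
    (j u : ℕ) (hu : u < M) (h : dp_z_95 j u = true) : Good (fa g) T MG M (cP g H) Lt.z u := by
  unfold dp_z_95 at h
  rcases brec_true h with h | h
  · exact lF_good (T := T) (x := Lt.z) (by decide) [Lt.q, Lt.y, Lt.y, Lt.q, Lt.z, Lt.y, Lt.z, Lt.yi, Lt.z, Lt.q, Lt.yi, Lt.yi, Lt.q, Lt.z, Lt.yi, Lt.z, Lt.y] (H9.TCY.hole_at hinv hr 39 8 false (by decide +kernel)) h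
  · exact dp_z_94_s hinv hr hH j u hu h
theorem dp_z_96_s (hinv : ∀ x, g (inv x) = (g x)⁻¹) (hr : ∀ r ∈ rels, (r.map g).prod = 1) (hH : ∀ r ∈ subs, (r.map g).prod ∈ H)
    (j u : ℕ) (hu : u < M) (h : dp_z_96 j u = true) : Good (fa g) T MG M (cP g H) Lt.z u := by
  unfold dp_z_96 at h
  rcases brec_true h with h | h
  · exact dp_z_93_s hinv hr hH j u hu h
  · exact dp_z_95_s hinv hr hH j u hu h
theorem dp_z_97_s (hinv : ∀ x, g (inv x) = (g x)⁻¹) (hr : ∀ r ∈ rels, (r.map g).prod = 1) (hH : ∀ r ∈ subs, (r.map g).prod ∈ H)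
    (j u : ℕ) (hu : u < M) (h : dp_z_97 j u = true) : Good (fa g) T MG M (cP g H) Lt.z u := by
  unfold dp_z_97 at h
  rcases brec_true h with h | h
  · exact dp_z_91_s hinv hr hH j u hu h
  · exact dp_z_96_s hinv hr hH j u hu h
theorem dp_z_98_s (hinv : ∀ x, g (inv x) = (g x)⁻¹) (hr : ∀ r ∈ rels, (r.map g).prod = 1) (hH : ∀ r ∈ subs, (r.map g).prod ∈ H)
    (j u : ℕ) (hu : u < M) (h : dp_z_98 j u = true) : Good (fa g) T MG M (cP g H) Lt.z u := by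
  unfold dp_z_98 at h
  rcases brec_true h with h | h
  · exact dp_z_87_s hinv hr hH j u hu h
  · exact dp_z_97_s hinv hr hH j u hu h
theorem dp_z_99_s (hinv : ∀ x, g (inv x) = (g x)⁻¹) (hr : ∀ r ∈ rels, (r.map g).prod = 1) (hH : ∀ r ∈ subs, (r.map g).prod ∈ H)
    (j u : ℕ) (hu : u < M) (h : dp_z_99 j u = true) : Good (fa g) T MG M (cP g H) Lt.z u := by
  unfold dp_z_99 at h
  rcases brec_true h with h | h
  · exact dp_z_79_s hinv hr hH j u hu h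
  · exact dp_z_98_s hinv hr hH j u hu h
theorem dp_z_100_s (hinv : ∀ x, g (inv x) = (g x)⁻¹) (hr : ∀ r ∈ rels, (r.map g).prod = 1) (hH : ∀ r ∈ subs, (r.map g).prod ∈ H)
    (j u : ℕ) (hu : u < M) (h : dp_z_100 j u = true) : Good (fa g) T MG M (cP g H) Lt.z u := by
  unfold dp_z_100 at h
  rcases brec_true h with h | h
  · exact dp_z_66_s hinv hr hH j u hu h
  · exact dp_z_99_s hinv hr hH j u hu h
theorem dp_z_101_s (hinv : ∀ x, g (inv x) = (g x)⁻¹) (hr : ∀ r ∈ rels, (r.map g).prod = 1) (hH : ∀ r ∈ subs, (r.map g).prod ∈ H)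
    (j u : ℕ) (hu : u < M) (h : dp_z_101 j u = true) : Good (fa g) T MG M (cP g H) Lt.z u := by
  unfold dp_z_101 at h
  rcases brec_true h with h | h
  · exact lF_good (T := T) (x := Lt.z) (by decide) [Lt.q, Lt.z, Lt.q, Lt.yi, Lt.yi, Lt.yi, Lt.z, Lt.q, Lt.z, Lt.q, Lt.yi, Lt.yi, Lt.yi] (H9.TCY.hole_at hinv hr 21 4 false (by decide +kernel)) h
  · exact lF_good (T := T) (x := Lt.z) (by decide) [Lt.y, Lt.z, Lt.q, Lt.z, Lt.q, Lt.v, Lt.yi, Lt.v, Lt.q, Lt.z, Lt.q] (H9.TCY.hole_at hinv hr 13 6 true (by decide +kernel)) h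
theorem dp_z_102_s (hinv : ∀ x, g (inv x) = (g x)⁻¹) (hr : ∀ r ∈ rels, (r.map g).prod = 1) (hH : ∀ r ∈ subs, (r.map g).prod ∈ H)
    (j u : ℕ) (hu : u < M) (h : dp_z_102 j u = true) : Good (fa g) T MG M (cP g H) Lt.z u := by
  unfold dp_z_102 at h
  rcases brec_true h with h | h
  · exact lF_good (T := T) (x := Lt.z) (by decide) [Lt.q, Lt.yi, Lt.yi, Lt.q, Lt.z, Lt.yi, Lt.z, Lt.y, Lt.z, Lt.q, Lt.y, Lt.y, Lt.q, Lt.z, Lt.y, Lt.z, Lt.yi] (H9.TCY.hole_at hinv hr 39 17 false (by decide +kernel)) h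
  · exact dp_z_101_s hinv hr hH j u hu h
theorem dp_z_103_s (hinv : ∀ x, g (inv x) = (g x)⁻¹) (hr : ∀ r ∈ rels, (r.map g).prod = 1) (hH : ∀ r ∈ subs, (r.map g).prod ∈ H)
    (j u : ℕ) (hu : u < M) (h : dp_z_103 j u = true) : Good (fa g) T MG M (cP g H) Lt.z u := by
  unfold dp_z_103 at h
  rcases brec_true h with h | h
  · exact lS_good (T := T) (x := Lt.z) (by decide) hu [Lt.q, Lt.z, Lt.q, Lt.v, Lt.z, Lt.q, Lt.v, Lt.q, Lt.z, Lt.v] (H9.TCY.hole_at hinv hr 11 3 true (by decide +kernel)) h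
  · exact lF_good (T := T) (x := Lt.z) (by decide) [Lt.yi, Lt.z, Lt.y, Lt.z, Lt.y, Lt.q, Lt.y, Lt.z, Lt.y, Lt.z, Lt.yi, Lt.z, Lt.y, Lt.y, Lt.q, Lt.y, Lt.y] (H9.TCY.hole_at hinv hr 41 1 true (by decide +kernel)) h
theorem dp_z_104_s (hinv : ∀ x, g (inv x) = (g x)⁻¹) (hr : ∀ r ∈ rels, (r.map g).prod = 1) (hH : ∀ r ∈ subs, (r.map g).prod ∈ H)
    (j u : ℕ) (hu : u < M) (h : dp_z_104 j u = true) : Good (fa g) T MG M (cP g H) Lt.z u := by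
  unfold dp_z_104 at h
  rcases brec_true h with h | h
  · exact lF_good (T := T) (x := Lt.z) (by decide) [Lt.yi, Lt.q, Lt.z, Lt.y, Lt.z, Lt.q, Lt.yi, Lt.z, Lt.y, Lt.z, Lt.q, Lt.yi, Lt.q, Lt.z, Lt.y] (H9.TCY.hole_at hinv hr 28 5 false (by decide +kernel)) h
  · exact dp_z_103_s hinv hr hH j u hu h
theorem dp_z_105_s (hinv : ∀ x, g (inv x) = (g x)⁻¹) (hr : ∀ r ∈ rels, (r.map g).prod = 1) (hH : ∀ r ∈ subs, (r.map g).prod ∈ H)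
    (j u : ℕ) (hu : u < M) (h : dp_z_105 j u = true) : Good (fa g) T MG M (cP g H) Lt.z u := by
  unfold dp_z_105 at h
  rcases brec_true h with h | h
  · exact dp_z_102_s hinv hr hH j u hu h
  · exact dp_z_104_s hinv hr hH j u hu h
theorem dp_z_106_s (hinv : ∀ x, g (inv x) = (g x)⁻¹) (hr : ∀ r ∈ rels, (r.map g).prod = 1) (hH : ∀ r ∈ subs, (r.map g).prod ∈ H)
    (j u : ℕ) (hu : u < M) (h : dp_z_106 j u = true) : Good (fa g) T MG M (cP g H) Lt.z u := by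
  unfold dp_z_106 at h
  rcases brec_true h with h | h
  · exact lF_good (T := T) (x := Lt.z) (by decide) [Lt.yi, Lt.yi, Lt.q, Lt.yi, Lt.yi, Lt.z, Lt.y, Lt.z, Lt.yi, Lt.z, Lt.yi, Lt.q, Lt.yi, Lt.z, Lt.yi, Lt.z, Lt.y] (H9.TCY.hole_at hinv hr 41 0 false (by decide +kernel)) h
  · exact lF_good (T := T) (x := Lt.z) (by decide) [Lt.yi, Lt.yi, Lt.z, Lt.q, Lt.yi, Lt.z, Lt.y, Lt.q, Lt.z, Lt.y, Lt.y, Lt.z, Lt.q, Lt.y, Lt.z, Lt.yi, Lt.q] (H9.TCY.hole_at hinv hr 37 0 false (by decide +kernel)) h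
theorem dp_z_107_s (hinv : ∀ x, g (inv x) = (g x)⁻¹) (hr : ∀ r ∈ rels, (r.map g).prod = 1) (hH : ∀ r ∈ subs, (r.map g).prod ∈ H)
    (j u : ℕ) (hu : u < M) (h : dp_z_107 j u = true) : Good (fa g) T MG M (cP g H) Lt.z u := by
  unfold dp_z_107 at h
  rcases brec_true h with h | h
  · exact lF_good (T := T) (x := Lt.z) (by decide) [Lt.y, Lt.y, Lt.q, Lt.y, Lt.y, Lt.z, Lt.yi, Lt.z, Lt.y, Lt.z, Lt.y, Lt.q, Lt.y, Lt.z, Lt.y, Lt.z, Lt.yi] (H9.TCY.hole_at hinv hr 41 13 true (by decide +kernel)) h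
  · exact dp_z_106_s hinv hr hH j u hu h
theorem dp_z_108_s (hinv : ∀ x, g (inv x) = (g x)⁻¹) (hr : ∀ r ∈ rels, (r.map g).prod = 1) (hH : ∀ r ∈ subs, (r.map g).prod ∈ H)
    (j u : ℕ) (hu : u < M) (h : dp_z_108 j u = true) : Good (fa g) T MG M (cP g H) Lt.z u := by
  unfold dp_z_108 at h
  rcases brec_true h with h | h
  · exact lS_good (T := T) (x := Lt.z) (by decide) hu [Lt.q, Lt.z, Lt.v, Lt.z, Lt.q, Lt.v, Lt.q, Lt.z, Lt.v, Lt.q] (H9.TCY.hole_at hinv hr 11 7 false (by decide +kernel)) h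
  · exact lF_good (T := T) (x := Lt.z) (by decide) [Lt.yi, Lt.z, Lt.y, Lt.z, Lt.q, Lt.y, Lt.y, Lt.q, Lt.z, Lt.y, Lt.z, Lt.yi, Lt.z, Lt.q, Lt.yi, Lt.yi, Lt.q] (H9.TCY.hole_at hinv hr 39 4 false (by decide +kernel)) h
theorem dp_z_109_s (hinv : ∀ x, g (inv x) = (g x)⁻¹) (hr : ∀ r ∈ rels, (r.map g).prod = 1) (hH : ∀ r ∈ subs, (r.map g).prod ∈ H)
    (j u : ℕ) (hu : u < M) (h : dp_z_109 j u = true) : Good (fa g) T MG M (cP g H) Lt.z u := by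
  unfold dp_z_109 at h
  rcases brec_true h with h | h
  · exact lF_good (T := T) (x := Lt.z) (by decide) [Lt.yi, Lt.z, Lt.q, Lt.yi, Lt.yi, Lt.q, Lt.z, Lt.yi, Lt.z, Lt.y, Lt.z, Lt.q, Lt.y, Lt.y, Lt.q, Lt.z, Lt.y] (H9.TCY.hole_at hinv hr 39 15 false (by decide +kernel)) h
  · exact dp_z_108_s hinv hr hH j u hu h
theorem dp_z_110_s (hinv : ∀ x, g (inv x) = (g x)⁻¹) (hr : ∀ r ∈ rels, (r.map g).prod = 1) (hH : ∀ r ∈ subs, (r.map g).prod ∈ H)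
    (j u : ℕ) (hu : u < M) (h : dp_z_110 j u = true) : Good (fa g) T MG M (cP g H) Lt.z u := by
  unfold dp_z_110 at h
  rcases brec_true h with h | h
  · exact dp_z_107_s hinv hr hH j u hu h
  · exact dp_z_109_s hinv hr hH j u hu h
theorem dp_z_111_s (hinv : ∀ x, g (inv x) = (g x)⁻¹) (hr : ∀ r ∈ rels, (r.map g).prod = 1) (hH : ∀ r ∈ subs, (r.map g).prod ∈ H)
    (j u : ℕ) (hu : u < M) (h : dp_z_111 j u = true) : Good (fa g) T MG M (cP g H) Lt.z u := by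
  unfold dp_z_111 at h
  rcases brec_true h with h | h
  · exact dp_z_105_s hinv hr hH j u hu h
  · exact dp_z_110_s hinv hr hH j u hu h
theorem dp_z_112_s (hinv : ∀ x, g (inv x) = (g x)⁻¹) (hr : ∀ r ∈ rels, (r.map g).prod = 1) (hH : ∀ r ∈ subs, (r.map g).prod ∈ H)
    (j u : ℕ) (hu : u < M) (h : dp_z_112 j u = true) : Good (fa g) T MG M (cP g H) Lt.z u := by
  unfold dp_z_112 at h
  rcases brec_true h with h | h
  · exact lF_good (T := T) (x := Lt.z) (by decide) [Lt.q, Lt.yi, Lt.q, Lt.z, Lt.y, Lt.z, Lt.yi, Lt.q, Lt.z, Lt.y, Lt.z, Lt.q, Lt.yi, Lt.z, Lt.y] (H9.TCY.hole_at hinv hr 28 15 false (by decide +kernel)) h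
  · exact lF_good (T := T) (x := Lt.z) (by decide) [Lt.y, Lt.z, Lt.y, Lt.q, Lt.y, Lt.z, Lt.y, Lt.z, Lt.yi, Lt.z, Lt.y, Lt.y, Lt.q, Lt.y, Lt.y, Lt.z, Lt.yi] (H9.TCY.hole_at hinv hr 41 3 true (by decide +kernel)) h
theorem dp_z_113_s (hinv : ∀ x, g (inv x) = (g x)⁻¹) (hr : ∀ r ∈ rels, (r.map g).prod = 1) (hH : ∀ r ∈ subs, (r.map g).prod ∈ H)
    (j u : ℕ) (hu : u < M) (h : dp_z_113 j u = true) : Good (fa g) T MG M (cP g H) Lt.z u := by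
  unfold dp_z_113 at h
  rcases brec_true h with h | h
  · exact lF_good (T := T) (x := Lt.z) (by decide) [Lt.y, Lt.z, Lt.q, Lt.y, Lt.y, Lt.q, Lt.z, Lt.y, Lt.z, Lt.yi, Lt.z, Lt.q, Lt.yi, Lt.yi, Lt.q, Lt.z, Lt.yi] (H9.TCY.hole_at hinv hr 39 6 false (by decide +kernel)) h
  · exact dp_z_112_s hinv hr hH j u hu h
theorem dp_z_114_s (hinv : ∀ x, g (inv x) = (g x)⁻¹) (hr : ∀ r ∈ rels, (r.map g).prod = 1) (hH : ∀ r ∈ subs, (r.map g).prod ∈ H)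
    (j u : ℕ) (hu : u < M) (h : dp_z_114 j u = true) : Good (fa g) T MG M (cP g H) Lt.z u := by
  unfold dp_z_114 at h
  rcases brec_true h with h | h
  · exact lF_good (T := T) (x := Lt.z) (by decide) [Lt.y, Lt.z, Lt.q, Lt.yi, Lt.q, Lt.z, Lt.y, Lt.z, Lt.yi, Lt.q, Lt.z, Lt.y, Lt.z, Lt.q, Lt.yi] (H9.TCY.hole_at hinv hr 28 13 false (by decide +kernel)) h
  · exact lS_good (T := T) (x := Lt.z) (by decide) hu [Lt.q, Lt.y, Lt.z, Lt.yi, Lt.q, Lt.z, Lt.yi, Lt.yi, Lt.z, Lt.q, Lt.yi, Lt.z, Lt.y, Lt.q, Lt.z, Lt.y, Lt.y] (H9.TCY.hole_at hinv hr 37 12 false (by decide +kernel)) h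
theorem dp_z_115_s (hinv : ∀ x, g (inv x) = (g x)⁻¹) (hr : ∀ r ∈ rels, (r.map g).prod = 1) (hH : ∀ r ∈ subs, (r.map g).prod ∈ H)
    (j u : ℕ) (hu : u < M) (h : dp_z_115 j u = true) : Good (fa g) T MG M (cP g H) Lt.z u := by
  unfold dp_z_115 at h
  rcases brec_true h with h | h
  · exact lF_good (T := T) (x := Lt.z) (by decide) [Lt.y, Lt.z, Lt.yi, Lt.z, Lt.q, Lt.yi, Lt.yi, Lt.q, Lt.z, Lt.yi, Lt.z, Lt.y, Lt.z, Lt.q, Lt.y, Lt.y, Lt.q] (H9.TCY.hole_at hinv hr 39 13 false (by decide +kernel)) h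
  · exact lS_good (T := T) (x := Lt.z) (by decide) hu [Lt.q, Lt.yi, Lt.q, Lt.y, Lt.z, Lt.q, Lt.yi, Lt.q, Lt.z, Lt.y, Lt.q, Lt.yi, Lt.q, Lt.z, Lt.y] (H9.TCY.hole_at hinv hr 23 12 true (by decide +kernel)) h
theorem dp_z_116_s (hinv : ∀ x, g (inv x) = (g x)⁻¹) (hr : ∀ r ∈ rels, (r.map g).prod = 1) (hH : ∀ r ∈ subs, (r.map g).prod ∈ H)
    (j u : ℕ) (hu : u < M) (h : dp_z_116 j u = true) : Good (fa g) T MG M (cP g H) Lt.z u := by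
  unfold dp_z_116 at h
  rcases brec_true h with h | h
  · exact dp_z_114_s hinv hr hH j u hu h
  · exact dp_z_115_s hinv hr hH j u hu h
theorem dp_z_117_s (hinv : ∀ x, g (inv x) = (g x)⁻¹) (hr : ∀ r ∈ rels, (r.map g).prod = 1) (hH : ∀ r ∈ subs, (r.map g).prod ∈ H)
    (j u : ℕ) (hu : u < M) (h : dp_z_117 j u = true) : Good (fa g) T MG M (cP g H) Lt.z u := by
  unfold dp_z_117 at h
  rcases brec_true h with h | h
  · exact dp_z_113_s hinv hr hH j u hu h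
  · exact dp_z_116_s hinv hr hH j u hu h
theorem dp_z_118_s (hinv : ∀ x, g (inv x) = (g x)⁻¹) (hr : ∀ r ∈ rels, (r.map g).prod = 1) (hH : ∀ r ∈ subs, (r.map g).prod ∈ H)
    (j u : ℕ) (hu : u < M) (h : dp_z_118 j u = true) : Good (fa g) T MG M (cP g H) Lt.z u := by
  unfold dp_z_118 at h
  rcases brec_true h with h | h
  · exact lS_good (T := T) (x := Lt.z) (by decide) hu [Lt.y, Lt.q, Lt.yi, Lt.z, Lt.q, Lt.z, Lt.y, Lt.q, Lt.yi, Lt.z, Lt.q] (H9.TCY.hole_at hinv hr 15 4 false (by decide +kernel)) h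
  · exact lS_good (T := T) (x := Lt.z) (by decide) hu [Lt.q, Lt.z, Lt.y, Lt.q, Lt.yi, Lt.z, Lt.q, Lt.z, Lt.y, Lt.q, Lt.yi] (H9.TCY.hole_at hinv hr 15 2 false (by decide +kernel)) h
theorem dp_z_119_s (hinv : ∀ x, g (inv x) = (g x)⁻¹) (hr : ∀ r ∈ rels, (r.map g).prod = 1) (hH : ∀ r ∈ subs, (r.map g).prod ∈ H)
    (j u : ℕ) (hu : u < M) (h : dp_z_119 j u = true) : Good (fa g) T MG M (cP g H) Lt.z u := by
  unfold dp_z_119 at h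
  rcases brec_true h with h | h
  · exact lF_good (T := T) (x := Lt.z) (by decide) [Lt.q, Lt.z, Lt.yi, Lt.yi, Lt.q, Lt.y, Lt.y, Lt.z, Lt.q, Lt.z, Lt.yi, Lt.yi, Lt.q, Lt.y, Lt.y] (H9.TCY.hole_at hinv hr 33 6 false (by decide +kernel)) h
  · exact dp_z_118_s hinv hr hH j u hu h
theorem dp_z_120_s (hinv : ∀ x, g (inv x) = (g x)⁻¹) (hr : ∀ r ∈ rels, (r.map g).prod = 1) (hH : ∀ r ∈ subs, (r.map g).prod ∈ H)
    (j u : ℕ) (hu : u < M) (h : dp_z_120 j u = true) : Good (fa g) T MG M (cP g H) Lt.z u := by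
  unfold dp_z_120 at h
  rcases brec_true h with h | h
  · exact lF_good (T := T) (x := Lt.z) (by decide) [Lt.v, Lt.z, Lt.v, Lt.z, Lt.q, Lt.z, Lt.v, Lt.q, Lt.v, Lt.q, Lt.v, Lt.z, Lt.q] (H9.TCY.hole_at hinv hr 20 7 false (by decide +kernel)) h
  · exact lF_good (T := T) (x := Lt.z) (by decide) [Lt.q, Lt.yi, Lt.z, Lt.y, Lt.q, Lt.z, Lt.yi, Lt.q, Lt.z, Lt.y, Lt.z, Lt.yi, Lt.z, Lt.q, Lt.y] (H9.TCY.hole_at hinv hr 27 10 false (by decide +kernel)) h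
theorem dp_z_121_s (hinv : ∀ x, g (inv x) = (g x)⁻¹) (hr : ∀ r ∈ rels, (r.map g).prod = 1) (hH : ∀ r ∈ subs, (r.map g).prod ∈ H)
    (j u : ℕ) (hu : u < M) (h : dp_z_121 j u = true) : Good (fa g) T MG M (cP g H) Lt.z u := by
  unfold dp_z_121 at h
  rcases brec_true h with h | h
  · exact lS_good (T := T) (x := Lt.z) (by decide) hu [Lt.q, Lt.yi, Lt.q, Lt.z, Lt.y, Lt.q, Lt.yi, Lt.q, Lt.z, Lt.y, Lt.z, Lt.q, Lt.yi, Lt.q, Lt.y] (H9.TCY.hole_at hinv hr 23 1 true (by decide +kernel)) h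
  · exact lS_good (T := T) (x := Lt.z) (by decide) hu [Lt.q, Lt.v, Lt.q, Lt.z, Lt.v, Lt.z, Lt.q, Lt.z, Lt.q, Lt.v] (H9.TCY.hole_at hinv hr 11 8 true (by decide +kernel)) h
theorem dp_z_122_s (hinv : ∀ x, g (inv x) = (g x)⁻¹) (hr : ∀ r ∈ rels, (r.map g).prod = 1) (hH : ∀ r ∈ subs, (r.map g).prod ∈ H)
    (j u : ℕ) (hu : u < M) (h : dp_z_122 j u = true) : Good (fa g) T MG M (cP g H) Lt.z u := by
  unfold dp_z_122 at h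
  rcases brec_true h with h | h
  · exact dp_z_120_s hinv hr hH j u hu h
  · exact dp_z_121_s hinv hr hH j u hu h
theorem dp_z_123_s (hinv : ∀ x, g (inv x) = (g x)⁻¹) (hr : ∀ r ∈ rels, (r.map g).prod = 1) (hH : ∀ r ∈ subs, (r.map g).prod ∈ H)
    (j u : ℕ) (hu : u < M) (h : dp_z_123 j u = true) : Good (fa g) T MG M (cP g H) Lt.z u := by
  unfold dp_z_123 at h
  rcases brec_true h with h | h
  · exact dp_z_119_s hinv hr hH j u hu h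
  · exact dp_z_122_s hinv hr hH j u hu h
theorem dp_z_124_s (hinv : ∀ x, g (inv x) = (g x)⁻¹) (hr : ∀ r ∈ rels, (r.map g).prod = 1) (hH : ∀ r ∈ subs, (r.map g).prod ∈ H)
    (j u : ℕ) (hu : u < M) (h : dp_z_124 j u = true) : Good (fa g) T MG M (cP g H) Lt.z u := by
  unfold dp_z_124 at h
  rcases brec_true h with h | h
  · exact dp_z_117_s hinv hr hH j u hu h
  · exact dp_z_123_s hinv hr hH j u hu h
theorem dp_z_125_s (hinv : ∀ x, g (inv x) = (g x)⁻¹) (hr : ∀ r ∈ rels, (r.map g).prod = 1) (hH : ∀ r ∈ subs, (r.map g).prod ∈ H)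
    (j u : ℕ) (hu : u < M) (h : dp_z_125 j u = true) : Good (fa g) T MG M (cP g H) Lt.z u := by
  unfold dp_z_125 at h
  rcases brec_true h with h | h
  · exact dp_z_111_s hinv hr hH j u hu h
  · exact dp_z_124_s hinv hr hH j u hu h
theorem dp_z_126_s (hinv : ∀ x, g (inv x) = (g x)⁻¹) (hr : ∀ r ∈ rels, (r.map g).prod = 1) (hH : ∀ r ∈ subs, (r.map g).prod ∈ H)
    (j u : ℕ) (hu : u < M) (h : dp_z_126 j u = true) : Good (fa g) T MG M (cP g H) Lt.z u := by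
  unfold dp_z_126 at h
  rcases brec_true h with h | h
  · exact lF_good (T := T) (x := Lt.z) (by decide) [Lt.y, Lt.z, Lt.yi, Lt.yi, Lt.q, Lt.yi, Lt.yi, Lt.z, Lt.y, Lt.z, Lt.yi, Lt.z, Lt.yi, Lt.q, Lt.yi, Lt.z, Lt.yi] (H9.TCY.hole_at hinv hr 41 16 false (by decide +kernel)) h
  · exact lS_good (T := T) (x := Lt.z) (by decide) hu [Lt.yi, Lt.z, Lt.q, Lt.y, Lt.z, Lt.q, Lt.yi, Lt.z, Lt.y, Lt.q, Lt.z, Lt.yi, Lt.q, Lt.z, Lt.y] (H9.TCY.hole_at hinv hr 27 5 false (by decide +kernel)) h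
theorem dp_z_127_s (hinv : ∀ x, g (inv x) = (g x)⁻¹) (hr : ∀ r ∈ rels, (r.map g).prod = 1) (hH : ∀ r ∈ subs, (r.map g).prod ∈ H)
    (j u : ℕ) (hu : u < M) (h : dp_z_127 j u = true) : Good (fa g) T MG M (cP g H) Lt.z u := by
  unfold dp_z_127 at h
  rcases brec_true h with h | h
  · exact lF_good (T := T) (x := Lt.z) (by decide) [Lt.y, Lt.q, Lt.z, Lt.yi, Lt.z, Lt.q, Lt.y, Lt.z, Lt.yi, Lt.z, Lt.q, Lt.y, Lt.q, Lt.z, Lt.yi] (H9.TCY.hole_at hinv hr 28 4 true (by decide +kernel)) h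
  · exact dp_z_126_s hinv hr hH j u hu h
theorem dp_z_128_s (hinv : ∀ x, g (inv x) = (g x)⁻¹) (hr : ∀ r ∈ rels, (r.map g).prod = 1) (hH : ∀ r ∈ subs, (r.map g).prod ∈ H)
    (j u : ℕ) (hu : u < M) (h : dp_z_128 j u = true) : Good (fa g) T MG M (cP g H) Lt.z u := by
  unfold dp_z_128 at h
  rcases brec_true h with h | h
  · exact lS_good (T := T) (x := Lt.z) (by decide) hu [Lt.yi, Lt.z, Lt.y, Lt.z, Lt.y, Lt.q, Lt.y, Lt.z, Lt.y, Lt.z, Lt.yi, Lt.z, Lt.y, Lt.y, Lt.q, Lt.y, Lt.y] (H9.TCY.hole_at hinv hr 41 1 true (by decide +kernel)) h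
  · exact lS_good (T := T) (x := Lt.z) (by decide) hu [Lt.v, Lt.z, Lt.q, Lt.v, Lt.q, Lt.z, Lt.v, Lt.q, Lt.z, Lt.q] (H9.TCY.hole_at hinv hr 11 9 false (by decide +kernel)) h
theorem dp_z_129_s (hinv : ∀ x, g (inv x) = (g x)⁻¹) (hr : ∀ r ∈ rels, (r.map g).prod = 1) (hH : ∀ r ∈ subs, (r.map g).prod ∈ H)
    (j u : ℕ) (hu : u < M) (h : dp_z_129 j u = true) : Good (fa g) T MG M (cP g H) Lt.z u := by
  unfold dp_z_129 at h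
  rcases brec_true h with h | h
  · exact lS_good (T := T) (x := Lt.z) (by decide) hu [Lt.q, Lt.z, Lt.yi, Lt.q, Lt.y, Lt.z, Lt.q, Lt.z, Lt.yi, Lt.q, Lt.y] (H9.TCY.hole_at hinv hr 16 4 false (by decide +kernel)) h
  · exact lF_good (T := T) (x := Lt.z) (by decide) [Lt.yi, Lt.q, Lt.z, Lt.y, Lt.z, Lt.yi, Lt.z, Lt.q, Lt.y, Lt.z, Lt.q, Lt.yi, Lt.z, Lt.y, Lt.q] (H9.TCY.hole_at hinv hr 27 0 false (by decide +kernel)) h
theorem dp_z_130_s (hinv : ∀ x, g (inv x) = (g x)⁻¹) (hr : ∀ r ∈ rels, (r.map g).prod = 1) (hH : ∀ r ∈ subs, (r.map g).prod ∈ H)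
    (j u : ℕ) (hu : u < M) (h : dp_z_130 j u = true) : Good (fa g) T MG M (cP g H) Lt.z u := by
  unfold dp_z_130 at h
  rcases brec_true h with h | h
  · exact dp_z_128_s hinv hr hH j u hu h
  · exact dp_z_129_s hinv hr hH j u hu h
theorem dp_z_131_s (hinv : ∀ x, g (inv x) = (g x)⁻¹) (hr : ∀ r ∈ rels, (r.map g).prod = 1) (hH : ∀ r ∈ subs, (r.map g).prod ∈ H)
    (j u : ℕ) (hu : u < M) (h : dp_z_131 j u = true) : Good (fa g) T MG M (cP g H) Lt.z u := by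
  unfold dp_z_131 at h
  rcases brec_true h with h | h
  · exact dp_z_127_s hinv hr hH j u hu h
  · exact dp_z_130_s hinv hr hH j u hu h
theorem dp_z_132_s (hinv : ∀ x, g (inv x) = (g x)⁻¹) (hr : ∀ r ∈ rels, (r.map g).prod = 1) (hH : ∀ r ∈ subs, (r.map g).prod ∈ H)
    (j u : ℕ) (hu : u < M) (h : dp_z_132 j u = true) : Good (fa g) T MG M (cP g H) Lt.z u := by
  unfold dp_z_132 at h
  rcases brec_true h with h | h
  · exact lF_good (T := T) (x := Lt.z) (by decide) [Lt.yi, Lt.z, Lt.y, Lt.y, Lt.q, Lt.y, Lt.y, Lt.z, Lt.yi, Lt.z, Lt.y, Lt.z, Lt.y, Lt.q, Lt.y, Lt.z, Lt.y] (H9.TCY.hole_at hinv hr 41 11 true (by decide +kernel)) h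
  · exact lF_good (T := T) (x := Lt.z) (by decide) [Lt.yi, Lt.z, Lt.q, Lt.y, Lt.q, Lt.z, Lt.yi, Lt.z, Lt.y, Lt.q, Lt.z, Lt.yi, Lt.z, Lt.q, Lt.y] (H9.TCY.hole_at hinv hr 28 12 true (by decide +kernel)) h
theorem dp_z_133_s (hinv : ∀ x, g (inv x) = (g x)⁻¹) (hr : ∀ r ∈ rels, (r.map g).prod = 1) (hH : ∀ r ∈ subs, (r.map g).prod ∈ H)
    (j u : ℕ) (hu : u < M) (h : dp_z_133 j u = true) : Good (fa g) T MG M (cP g H) Lt.z u := by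
  unfold dp_z_133 at h
  rcases brec_true h with h | h
  · exact lS_good (T := T) (x := Lt.z) (by decide) hu [Lt.q, Lt.yi, Lt.z, Lt.y, Lt.q, Lt.z, Lt.y, Lt.y, Lt.z, Lt.q, Lt.y, Lt.z, Lt.yi, Lt.q, Lt.z, Lt.yi, Lt.yi] (H9.TCY.hole_at hinv hr 37 3 false (by decide +kernel)) h
  · exact lS_good (T := T) (x := Lt.z) (by decide) hu [Lt.yi, Lt.yi, Lt.z, Lt.q, Lt.yi, Lt.z, Lt.y, Lt.q, Lt.z, Lt.y, Lt.y, Lt.z, Lt.q, Lt.y, Lt.z, Lt.yi, Lt.q] (H9.TCY.hole_at hinv hr 37 0 false (by decide +kernel)) h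
theorem dp_z_134_s (hinv : ∀ x, g (inv x) = (g x)⁻¹) (hr : ∀ r ∈ rels, (r.map g).prod = 1) (hH : ∀ r ∈ subs, (r.map g).prod ∈ H)
    (j u : ℕ) (hu : u < M) (h : dp_z_134 j u = true) : Good (fa g) T MG M (cP g H) Lt.z u := by
  unfold dp_z_134 at h
  rcases brec_true h with h | h
  · exact dp_z_132_s hinv hr hH j u hu h
  · exact dp_z_133_s hinv hr hH j u hu h
theorem dp_z_135_s (hinv : ∀ x, g (inv x) = (g x)⁻¹) (hr : ∀ r ∈ rels, (r.map g).prod = 1) (hH : ∀ r ∈ subs, (r.map g).prod ∈ H)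
    (j u : ℕ) (hu : u < M) (h : dp_z_135 j u = true) : Good (fa g) T MG M (cP g H) Lt.z u := by
  unfold dp_z_135 at h
  rcases brec_true h with h | h
  · exact lS_good (T := T) (x := Lt.z) (by decide) hu [Lt.y, Lt.q, Lt.yi, Lt.q, Lt.z, Lt.y, Lt.z, Lt.q, Lt.yi, Lt.q, Lt.y, Lt.z, Lt.q, Lt.yi, Lt.q] (H9.TCY.hole_at hinv hr 23 5 true (by decide +kernel)) h
  · exact lS_good (T := T) (x := Lt.z) (by decide) hu [Lt.q, Lt.y, Lt.q, Lt.yi, Lt.z, Lt.q, Lt.y, Lt.q, Lt.z, Lt.yi, Lt.q, Lt.y, Lt.q, Lt.z, Lt.yi] (H9.TCY.hole_at hinv hr 23 7 false (by decide +kernel)) h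
theorem dp_z_136_s (hinv : ∀ x, g (inv x) = (g x)⁻¹) (hr : ∀ r ∈ rels, (r.map g).prod = 1) (hH : ∀ r ∈ subs, (r.map g).prod ∈ H)
    (j u : ℕ) (hu : u < M) (h : dp_z_136 j u = true) : Good (fa g) T MG M (cP g H) Lt.z u := by
  unfold dp_z_136 at h
  rcases brec_true h with h | h
  · exact lF_good (T := T) (x := Lt.z) (by decide) [Lt.y, Lt.z, Lt.yi, Lt.z, Lt.q, Lt.y, Lt.z, Lt.q, Lt.yi, Lt.z, Lt.y, Lt.q, Lt.z, Lt.yi, Lt.q] (H9.TCY.hole_at hinv hr 27 3 false (by decide +kernel)) h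
  · exact lS_good (T := T) (x := Lt.z) (by decide) hu [Lt.q, Lt.y, Lt.q, Lt.z, Lt.yi, Lt.q, Lt.y, Lt.q, Lt.z, Lt.yi, Lt.z, Lt.q, Lt.y, Lt.q, Lt.yi] (H9.TCY.hole_at hinv hr 23 12 false (by decide +kernel)) h
theorem dp_z_137_s (hinv : ∀ x, g (inv x) = (g x)⁻¹) (hr : ∀ r ∈ rels, (r.map g).prod = 1) (hH : ∀ r ∈ subs, (r.map g).prod ∈ H)
    (j u : ℕ) (hu : u < M) (h : dp_z_137 j u = true) : Good (fa g) T MG M (cP g H) Lt.z u := by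
  unfold dp_z_137 at h
  rcases brec_true h with h | h
  · exact dp_z_135_s hinv hr hH j u hu h
  · exact dp_z_136_s hinv hr hH j u hu h
theorem dp_z_138_s (hinv : ∀ x, g (inv x) = (g x)⁻¹) (hr : ∀ r ∈ rels, (r.map g).prod = 1) (hH : ∀ r ∈ subs, (r.map g).prod ∈ H)
    (j u : ℕ) (hu : u < M) (h : dp_z_138 j u = true) : Good (fa g) T MG M (cP g H) Lt.z u := by
  unfold dp_z_138 at h
  rcases brec_true h with h | h
  · exact dp_z_134_s hinv hr hH j u hu h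
  · exact dp_z_137_s hinv hr hH j u hu h
theorem dp_z_139_s (hinv : ∀ x, g (inv x) = (g x)⁻¹) (hr : ∀ r ∈ rels, (r.map g).prod = 1) (hH : ∀ r ∈ subs, (r.map g).prod ∈ H)
    (j u : ℕ) (hu : u < M) (h : dp_z_139 j u = true) : Good (fa g) T MG M (cP g H) Lt.z u := by
  unfold dp_z_139 at h
  rcases brec_true h with h | h
  · exact dp_z_131_s hinv hr hH j u hu h
  · exact dp_z_138_s hinv hr hH j u hu h
theorem dp_z_140_s (hinv : ∀ x, g (inv x) = (g x)⁻¹) (hr : ∀ r ∈ rels, (r.map g).prod = 1) (hH : ∀ r ∈ subs, (r.map g).prod ∈ H)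
    (j u : ℕ) (hu : u < M) (h : dp_z_140 j u = true) : Good (fa g) T MG M (cP g H) Lt.z u := by
  unfold dp_z_140 at h
  rcases brec_true h with h | h
  · exact lF_good (T := T) (x := Lt.z) (by decide) [Lt.q, Lt.z, Lt.v, Lt.q, Lt.v, Lt.q, Lt.v, Lt.z, Lt.q, Lt.z, Lt.v, Lt.z, Lt.v] (H9.TCY.hole_at hinv hr 20 11 false (by decide +kernel)) h
  · exact lF_good (T := T) (x := Lt.z) (by decide) [Lt.q, Lt.y, Lt.z, Lt.yi, Lt.z, Lt.q, Lt.y, Lt.q, Lt.z, Lt.yi, Lt.z, Lt.y, Lt.q, Lt.z, Lt.yi] (H9.TCY.hole_at hinv hr 28 9 true (by decide +kernel)) h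
theorem dp_z_141_s (hinv : ∀ x, g (inv x) = (g x)⁻¹) (hr : ∀ r ∈ rels, (r.map g).prod = 1) (hH : ∀ r ∈ subs, (r.map g).prod ∈ H)
    (j u : ℕ) (hu : u < M) (h : dp_z_141 j u = true) : Good (fa g) T MG M (cP g H) Lt.z u := by
  unfold dp_z_141 at h
  rcases brec_true h with h | h
  · exact lS_good (T := T) (x := Lt.z) (by decide) hu [Lt.yi, Lt.z, Lt.yi, Lt.q, Lt.yi, Lt.z, Lt.yi, Lt.z, Lt.y, Lt.z, Lt.yi, Lt.yi, Lt.q, Lt.yi, Lt.yi, Lt.z, Lt.y] (H9.TCY.hole_at hinv hr 41 8 false (by decide +kernel)) h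
  · exact lS_good (T := T) (x := Lt.z) (by decide) hu [Lt.y, Lt.y, Lt.q, Lt.y, Lt.y, Lt.z, Lt.yi, Lt.z, Lt.y, Lt.z, Lt.y, Lt.q, Lt.y, Lt.z, Lt.y, Lt.z, Lt.yi] (H9.TCY.hole_at hinv hr 41 13 true (by decide +kernel)) h
theorem dp_z_142_s (hinv : ∀ x, g (inv x) = (g x)⁻¹) (hr : ∀ r ∈ rels, (r.map g).prod = 1) (hH : ∀ r ∈ subs, (r.map g).prod ∈ H)
    (j u : ℕ) (hu : u < M) (h : dp_z_142 j u = true) : Good (fa g) T MG M (cP g H) Lt.z u := by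
  unfold dp_z_142 at h
  rcases brec_true h with h | h
  · exact dp_z_140_s hinv hr hH j u hu h
  · exact dp_z_141_s hinv hr hH j u hu h
theorem dp_z_143_s (hinv : ∀ x, g (inv x) = (g x)⁻¹) (hr : ∀ r ∈ rels, (r.map g).prod = 1) (hH : ∀ r ∈ subs, (r.map g).prod ∈ H)
    (j u : ℕ) (hu : u < M) (h : dp_z_143 j u = true) : Good (fa g) T MG M (cP g H) Lt.z u := by
  unfold dp_z_143 at h
  rcases brec_true h with h | h
  · exact lS_good (T := T) (x := Lt.z) (by decide) hu [Lt.y, Lt.y, Lt.z, Lt.q, Lt.y, Lt.z, Lt.yi, Lt.q, Lt.z, Lt.yi, Lt.yi, Lt.z, Lt.q, Lt.yi, Lt.z, Lt.y, Lt.q] (H9.TCY.hole_at hinv hr 37 9 false (by decide +kernel)) h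
  · exact lF_good (T := T) (x := Lt.z) (by decide) [Lt.yi, Lt.q, Lt.z, Lt.y, Lt.q, Lt.z, Lt.yi, Lt.z, Lt.y, Lt.z, Lt.q, Lt.yi, Lt.z, Lt.q, Lt.y] (H9.TCY.hole_at hinv hr 36 0 false (by decide +kernel)) h
theorem dp_z_144_s (hinv : ∀ x, g (inv x) = (g x)⁻¹) (hr : ∀ r ∈ rels, (r.map g).prod = 1) (hH : ∀ r ∈ subs, (r.map g).prod ∈ H)
    (j u : ℕ) (hu : u < M) (h : dp_z_144 j u = true) : Good (fa g) T MG M (cP g H) Lt.z u := by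
  unfold dp_z_144 at h
  rcases brec_true h with h | h
  · exact lS_good (T := T) (x := Lt.z) (by decide) hu [Lt.yi, Lt.q, Lt.y, Lt.z, Lt.q, Lt.z, Lt.yi, Lt.q, Lt.y, Lt.z, Lt.q] (H9.TCY.hole_at hinv hr 16 0 false (by decide +kernel)) h
  · exact lS_good (T := T) (x := Lt.z) (by decide) hu [Lt.y, Lt.q, Lt.z, Lt.yi, Lt.q, Lt.z, Lt.y, Lt.z, Lt.yi, Lt.z, Lt.q, Lt.y, Lt.z, Lt.q, Lt.yi] (H9.TCY.hole_at hinv hr 27 13 false (by decide +kernel)) h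
theorem dp_z_145_s (hinv : ∀ x, g (inv x) = (g x)⁻¹) (hr : ∀ r ∈ rels, (r.map g).prod = 1) (hH : ∀ r ∈ subs, (r.map g).prod ∈ H)
    (j u : ℕ) (hu : u < M) (h : dp_z_145 j u = true) : Good (fa g) T MG M (cP g H) Lt.z u := by
  unfold dp_z_145 at h
  rcases brec_true h with h | h
  · exact lS_good (T := T) (x := Lt.z) (by decide) hu [Lt.yi, Lt.yi, Lt.q, Lt.yi, Lt.yi, Lt.z, Lt.y, Lt.z, Lt.yi, Lt.z, Lt.yi, Lt.q, Lt.yi, Lt.z, Lt.yi, Lt.z, Lt.y] (H9.TCY.hole_at hinv hr 41 0 false (by decide +kernel)) h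
  · exact dp_z_144_s hinv hr hH j u hu h
theorem dp_z_146_s (hinv : ∀ x, g (inv x) = (g x)⁻¹) (hr : ∀ r ∈ rels, (r.map g).prod = 1) (hH : ∀ r ∈ subs, (r.map g).prod ∈ H)
    (j u : ℕ) (hu : u < M) (h : dp_z_146 j u = true) : Good (fa g) T MG M (cP g H) Lt.z u := by
  unfold dp_z_146 at h
  rcases brec_true h with h | h
  · exact dp_z_143_s hinv hr hH j u hu h
  · exact dp_z_145_s hinv hr hH j u hu h
theorem dp_z_147_s (hinv : ∀ x, g (inv x) = (g x)⁻¹) (hr : ∀ r ∈ rels, (r.map g).prod = 1) (hH : ∀ r ∈ subs, (r.map g).prod ∈ H)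
    (j u : ℕ) (hu : u < M) (h : dp_z_147 j u = true) : Good (fa g) T MG M (cP g H) Lt.z u := by
  unfold dp_z_147 at h
  rcases brec_true h with h | h
  · exact dp_z_142_s hinv hr hH j u hu h
  · exact dp_z_146_s hinv hr hH j u hu h
theorem dp_z_148_s (hinv : ∀ x, g (inv x) = (g x)⁻¹) (hr : ∀ r ∈ rels, (r.map g).prod = 1) (hH : ∀ r ∈ subs, (r.map g).prod ∈ H)
    (j u : ℕ) (hu : u < M) (h : dp_z_148 j u = true) : Good (fa g) T MG M (cP g H) Lt.z u := by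
  unfold dp_z_148 at h
  rcases brec_true h with h | h
  · exact lS_good (T := T) (x := Lt.z) (by decide) hu [Lt.yi, Lt.q, Lt.y, Lt.q, Lt.z, Lt.q, Lt.yi, Lt.z, Lt.y, Lt.q, Lt.yi, Lt.q, Lt.z, Lt.q, Lt.y] (H9.TCY.hole_at hinv hr 24 0 false (by decide +kernel)) h
  · exact lS_good (T := T) (x := Lt.z) (by decide) hu [Lt.q, Lt.yi, Lt.yi, Lt.q, Lt.z, Lt.yi, Lt.z, Lt.y, Lt.z, Lt.q, Lt.y, Lt.y, Lt.q, Lt.z, Lt.y, Lt.z, Lt.yi] (H9.TCY.hole_at hinv hr 39 17 false (by decide +kernel)) h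
theorem dp_z_149_s (hinv : ∀ x, g (inv x) = (g x)⁻¹) (hr : ∀ r ∈ rels, (r.map g).prod = 1) (hH : ∀ r ∈ subs, (r.map g).prod ∈ H)
    (j u : ℕ) (hu : u < M) (h : dp_z_149 j u = true) : Good (fa g) T MG M (cP g H) Lt.z u := by
  unfold dp_z_149 at h
  rcases brec_true h with h | h
  · exact lS_good (T := T) (x := Lt.z) (by decide) hu [Lt.v, Lt.z, Lt.q, Lt.z, Lt.v, Lt.q, Lt.v, Lt.q, Lt.v, Lt.z, Lt.q, Lt.z, Lt.v] (H9.TCY.hole_at hinv hr 20 9 false (by decide +kernel)) h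
  · exact lF_good (T := T) (x := Lt.z) (by decide) [Lt.q, Lt.z, Lt.y, Lt.y, Lt.q, Lt.yi, Lt.yi, Lt.z, Lt.q, Lt.z, Lt.y, Lt.y, Lt.q, Lt.yi, Lt.yi] (H9.TCY.hole_at hinv hr 34 3 false (by decide +kernel)) h
theorem dp_z_150_s (hinv : ∀ x, g (inv x) = (g x)⁻¹) (hr : ∀ r ∈ rels, (r.map g).prod = 1) (hH : ∀ r ∈ subs, (r.map g).prod ∈ H)
    (j u : ℕ) (hu : u < M) (h : dp_z_150 j u = true) : Good (fa g) T MG M (cP g H) Lt.z u := by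
  unfold dp_z_150 at h
  rcases brec_true h with h | h
  · exact dp_z_148_s hinv hr hH j u hu h
  · exact dp_z_149_s hinv hr hH j u hu h
theorem dp_z_151_s (hinv : ∀ x, g (inv x) = (g x)⁻¹) (hr : ∀ r ∈ rels, (r.map g).prod = 1) (hH : ∀ r ∈ subs, (r.map g).prod ∈ H)
    (j u : ℕ) (hu : u < M) (h : dp_z_151 j u = true) : Good (fa g) T MG M (cP g H) Lt.z u := by
  unfold dp_z_151 at h
  rcases brec_true h with h | h
  · exact lS_good (T := T) (x := Lt.z) (by decide) hu [Lt.yi, Lt.q, Lt.y, Lt.q, Lt.z, Lt.yi, Lt.z, Lt.q, Lt.y, Lt.q, Lt.yi, Lt.z, Lt.q, Lt.y, Lt.q] (H9.TCY.hole_at hinv hr 23 0 false (by decide +kernel)) h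
  · exact lS_good (T := T) (x := Lt.z) (by decide) hu [Lt.y, Lt.z, Lt.y, Lt.q, Lt.y, Lt.z, Lt.y, Lt.z, Lt.yi, Lt.z, Lt.y, Lt.y, Lt.q, Lt.y, Lt.y, Lt.z, Lt.yi] (H9.TCY.hole_at hinv hr 41 3 true (by decide +kernel)) h
theorem dp_z_152_s (hinv : ∀ x, g (inv x) = (g x)⁻¹) (hr : ∀ r ∈ rels, (r.map g).prod = 1) (hH : ∀ r ∈ subs, (r.map g).prod ∈ H)
    (j u : ℕ) (hu : u < M) (h : dp_z_152 j u = true) : Good (fa g) T MG M (cP g H) Lt.z u := by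
  unfold dp_z_152 at h
  rcases brec_true h with h | h
  · exact lS_good (T := T) (x := Lt.z) (by decide) hu [Lt.y, Lt.z, Lt.yi, Lt.z, Lt.yi, Lt.q, Lt.yi, Lt.z, Lt.yi, Lt.z, Lt.y, Lt.z, Lt.yi, Lt.yi, Lt.q, Lt.yi, Lt.yi] (H9.TCY.hole_at hinv hr 41 6 false (by decide +kernel)) h
  · exact lF_good (T := T) (x := Lt.z) (by decide) [Lt.q, Lt.yi, Lt.z, Lt.y, Lt.z, Lt.q, Lt.yi, Lt.q, Lt.z, Lt.y, Lt.z, Lt.yi, Lt.q, Lt.z, Lt.y] (H9.TCY.hole_at hinv hr 28 10 false (by decide +kernel)) h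
theorem dp_z_153_s (hinv : ∀ x, g (inv x) = (g x)⁻¹) (hr : ∀ r ∈ rels, (r.map g).prod = 1) (hH : ∀ r ∈ subs, (r.map g).prod ∈ H)
    (j u : ℕ) (hu : u < M) (h : dp_z_153 j u = true) : Good (fa g) T MG M (cP g H) Lt.z u := by
  unfold dp_z_153 at h
  rcases brec_true h with h | h
  · exact lF_good (T := T) (x := Lt.z) (by decide) [Lt.y, Lt.y, Lt.q, Lt.yi, Lt.yi, Lt.z, Lt.q, Lt.z, Lt.y, Lt.y, Lt.q, Lt.yi, Lt.yi, Lt.z, Lt.q] (H9.TCY.hole_at hinv hr 34 5 false (by decide +kernel)) h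
  · exact dp_z_152_s hinv hr hH j u hu h
theorem dp_z_154_s (hinv : ∀ x, g (inv x) = (g x)⁻¹) (hr : ∀ r ∈ rels, (r.map g).prod = 1) (hH : ∀ r ∈ subs, (r.map g).prod ∈ H)
    (j u : ℕ) (hu : u < M) (h : dp_z_154 j u = true) : Good (fa g) T MG M (cP g H) Lt.z u := by
  unfold dp_z_154 at h
  rcases brec_true h with h | h
  · exact dp_z_151_s hinv hr hH j u hu h
  · exact dp_z_153_s hinv hr hH j u hu h
theorem dp_z_155_s (hinv : ∀ x, g (inv x) = (g x)⁻¹) (hr : ∀ r ∈ rels, (r.map g).prod = 1) (hH : ∀ r ∈ subs, (r.map g).prod ∈ H)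
    (j u : ℕ) (hu : u < M) (h : dp_z_155 j u = true) : Good (fa g) T MG M (cP g H) Lt.z u := by
  unfold dp_z_155 at h
  rcases brec_true h with h | h
  · exact dp_z_150_s hinv hr hH j u hu h
  · exact dp_z_154_s hinv hr hH j u hu h
theorem dp_z_156_s (hinv : ∀ x, g (inv x) = (g x)⁻¹) (hr : ∀ r ∈ rels, (r.map g).prod = 1) (hH : ∀ r ∈ subs, (r.map g).prod ∈ H)
    (j u : ℕ) (hu : u < M) (h : dp_z_156 j u = true) : Good (fa g) T MG M (cP g H) Lt.z u := by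
  unfold dp_z_156 at h
  rcases brec_true h with h | h
  · exact dp_z_147_s hinv hr hH j u hu h
  · exact dp_z_155_s hinv hr hH j u hu h
theorem dp_z_157_s (hinv : ∀ x, g (inv x) = (g x)⁻¹) (hr : ∀ r ∈ rels, (r.map g).prod = 1) (hH : ∀ r ∈ subs, (r.map g).prod ∈ H)
    (j u : ℕ) (hu : u < M) (h : dp_z_157 j u = true) : Good (fa g) T MG M (cP g H) Lt.z u := by
  unfold dp_z_157 at h
  rcases brec_true h with h | h
  · exact dp_z_139_s hinv hr hH j u hu h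
  · exact dp_z_156_s hinv hr hH j u hu h
theorem dp_z_158_s (hinv : ∀ x, g (inv x) = (g x)⁻¹) (hr : ∀ r ∈ rels, (r.map g).prod = 1) (hH : ∀ r ∈ subs, (r.map g).prod ∈ H)
    (j u : ℕ) (hu : u < M) (h : dp_z_158 j u = true) : Good (fa g) T MG M (cP g H) Lt.z u := by
  unfold dp_z_158 at h
  rcases brec_true h with h | h
  · exact dp_z_125_s hinv hr hH j u hu h
  · exact dp_z_157_s hinv hr hH j u hu h
theorem dp_z_159_s (hinv : ∀ x, g (inv x) = (g x)⁻¹) (hr : ∀ r ∈ rels, (r.map g).prod = 1) (hH : ∀ r ∈ subs, (r.map g).prod ∈ H)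
    (j u : ℕ) (hu : u < M) (h : dp_z_159 j u = true) : Good (fa g) T MG M (cP g H) Lt.z u := by
  unfold dp_z_159 at h
  rcases brec_true h with h | h
  · exact lF_good (T := T) (x := Lt.z) (by decide) [Lt.yi, Lt.z, Lt.y, Lt.q, Lt.z, Lt.yi, Lt.z, Lt.q, Lt.y, Lt.z, Lt.yi, Lt.z, Lt.q, Lt.y, Lt.q] (H9.TCY.hole_at hinv hr 28 2 true (by decide +kernel)) h
  · exact lS_good (T := T) (x := Lt.z) (by decide) hu [Lt.q, Lt.y, Lt.y, Lt.q, Lt.z, Lt.y, Lt.z, Lt.yi, Lt.z, Lt.q, Lt.yi, Lt.yi, Lt.q, Lt.z, Lt.yi, Lt.z, Lt.y] (H9.TCY.hole_at hinv hr 39 8 false (by decide +kernel)) h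
theorem dp_z_160_s (hinv : ∀ x, g (inv x) = (g x)⁻¹) (hr : ∀ r ∈ rels, (r.map g).prod = 1) (hH : ∀ r ∈ subs, (r.map g).prod ∈ H)
    (j u : ℕ) (hu : u < M) (h : dp_z_160 j u = true) : Good (fa g) T MG M (cP g H) Lt.z u := by
  unfold dp_z_160 at h
  rcases brec_true h with h | h
  · exact lF_good (T := T) (x := Lt.z) (by decide) [Lt.yi, Lt.yi, Lt.q, Lt.y, Lt.y, Lt.z, Lt.q, Lt.z, Lt.yi, Lt.yi, Lt.q, Lt.y, Lt.y, Lt.z, Lt.q] (H9.TCY.hole_at hinv hr 33 0 false (by decide +kernel)) h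
  · exact lS_good (T := T) (x := Lt.z) (by decide) hu [Lt.yi, Lt.q, Lt.z, Lt.q, Lt.y, Lt.q, Lt.yi, Lt.z, Lt.y, Lt.q, Lt.z, Lt.q, Lt.yi, Lt.q, Lt.y] (H9.TCY.hole_at hinv hr 24 1 true (by decide +kernel)) h
theorem dp_z_161_s (hinv : ∀ x, g (inv x) = (g x)⁻¹) (hr : ∀ r ∈ rels, (r.map g).prod = 1) (hH : ∀ r ∈ subs, (r.map g).prod ∈ H)
    (j u : ℕ) (hu : u < M) (h : dp_z_161 j u = true) : Good (fa g) T MG M (cP g H) Lt.z u := by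
  unfold dp_z_161 at h
  rcases brec_true h with h | h
  · exact lS_good (T := T) (x := Lt.z) (by decide) hu [Lt.yi, Lt.z, Lt.q, Lt.y, Lt.q, Lt.yi, Lt.z, Lt.q, Lt.y, Lt.q, Lt.z, Lt.yi, Lt.q, Lt.y, Lt.q] (H9.TCY.hole_at hinv hr 23 5 false (by decide +kernel)) h
  · exact dp_z_160_s hinv hr hH j u hu h
theorem dp_z_162_s (hinv : ∀ x, g (inv x) = (g x)⁻¹) (hr : ∀ r ∈ rels, (r.map g).prod = 1) (hH : ∀ r ∈ subs, (r.map g).prod ∈ H)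
    (j u : ℕ) (hu : u < M) (h : dp_z_162 j u = true) : Good (fa g) T MG M (cP g H) Lt.z u := by
  unfold dp_z_162 at h
  rcases brec_true h with h | h
  · exact dp_z_159_s hinv hr hH j u hu h
  · exact dp_z_161_s hinv hr hH j u hu h
theorem dp_z_163_s (hinv : ∀ x, g (inv x) = (g x)⁻¹) (hr : ∀ r ∈ rels, (r.map g).prod = 1) (hH : ∀ r ∈ subs, (r.map g).prod ∈ H)
    (j u : ℕ) (hu : u < M) (h : dp_z_163 j u = true) : Good (fa g) T MG M (cP g H) Lt.z u := by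
  unfold dp_z_163 at h
  rcases brec_true h with h | h
  · exact lS_good (T := T) (x := Lt.z) (by decide) hu [Lt.y, Lt.q, Lt.z, Lt.q, Lt.yi, Lt.q, Lt.y, Lt.z, Lt.yi, Lt.q, Lt.z, Lt.q, Lt.y, Lt.q, Lt.yi] (H9.TCY.hole_at hinv hr 24 9 true (by decide +kernel)) h
  · exact lS_good (T := T) (x := Lt.z) (by decide) hu [Lt.y, Lt.q, Lt.yi, Lt.q, Lt.z, Lt.q, Lt.y, Lt.z, Lt.yi, Lt.q, Lt.y, Lt.q, Lt.z, Lt.q, Lt.yi] (H9.TCY.hole_at hinv hr 24 8 false (by decide +kernel)) h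
theorem dp_z_164_s (hinv : ∀ x, g (inv x) = (g x)⁻¹) (hr : ∀ r ∈ rels, (r.map g).prod = 1) (hH : ∀ r ∈ subs, (r.map g).prod ∈ H)
    (j u : ℕ) (hu : u < M) (h : dp_z_164 j u = true) : Good (fa g) T MG M (cP g H) Lt.z u := by
  unfold dp_z_164 at h
  rcases brec_true h with h | h
  · exact lF_good (T := T) (x := Lt.z) (by decide) [Lt.q, Lt.y, Lt.q, Lt.z, Lt.yi, Lt.z, Lt.y, Lt.q, Lt.z, Lt.yi, Lt.z, Lt.q, Lt.y, Lt.z, Lt.yi] (H9.TCY.hole_at hinv hr 28 14 true (by decide +kernel)) h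
  · exact lF_good (T := T) (x := Lt.z) (by decide) [Lt.q, Lt.z, Lt.v, Lt.z, Lt.v, Lt.z, Lt.q, Lt.z, Lt.v, Lt.q, Lt.v, Lt.q, Lt.v] (H9.TCY.hole_at hinv hr 20 5 false (by decide +kernel)) h
theorem dp_z_165_s (hinv : ∀ x, g (inv x) = (g x)⁻¹) (hr : ∀ r ∈ rels, (r.map g).prod = 1) (hH : ∀ r ∈ subs, (r.map g).prod ∈ H)
    (j u : ℕ) (hu : u < M) (h : dp_z_165 j u = true) : Good (fa g) T MG M (cP g H) Lt.z u := by
  unfold dp_z_165 at h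
  rcases brec_true h with h | h
  · exact lF_good (T := T) (x := Lt.z) (by decide) [Lt.y, Lt.z, Lt.q, Lt.yi, Lt.z, Lt.y, Lt.z, Lt.q, Lt.yi, Lt.q, Lt.z, Lt.y, Lt.z, Lt.yi, Lt.q] (H9.TCY.hole_at hinv hr 28 8 false (by decide +kernel)) h
  · exact dp_z_164_s hinv hr hH j u hu h
theorem dp_z_166_s (hinv : ∀ x, g (inv x) = (g x)⁻¹) (hr : ∀ r ∈ rels, (r.map g).prod = 1) (hH : ∀ r ∈ subs, (r.map g).prod ∈ H)
    (j u : ℕ) (hu : u < M) (h : dp_z_166 j u = true) : Good (fa g) T MG M (cP g H) Lt.z u := by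
  unfold dp_z_166 at h
  rcases brec_true h with h | h
  · exact dp_z_163_s hinv hr hH j u hu h
  · exact dp_z_165_s hinv hr hH j u hu h
theorem dp_z_167_s (hinv : ∀ x, g (inv x) = (g x)⁻¹) (hr : ∀ r ∈ rels, (r.map g).prod = 1) (hH : ∀ r ∈ subs, (r.map g).prod ∈ H)
    (j u : ℕ) (hu : u < M) (h : dp_z_167 j u = true) : Good (fa g) T MG M (cP g H) Lt.z u := by
  unfold dp_z_167 at h
  rcases brec_true h with h | h
  · exact dp_z_162_s hinv hr hH j u hu h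
  · exact dp_z_166_s hinv hr hH j u hu h
theorem dp_z_168_s (hinv : ∀ x, g (inv x) = (g x)⁻¹) (hr : ∀ r ∈ rels, (r.map g).prod = 1) (hH : ∀ r ∈ subs, (r.map g).prod ∈ H)
    (j u : ℕ) (hu : u < M) (h : dp_z_168 j u = true) : Good (fa g) T MG M (cP g H) Lt.z u := by
  unfold dp_z_168 at h
  rcases brec_true h with h | h
  · exact lS_good (T := T) (x := Lt.z) (by decide) hu [Lt.y, Lt.z, Lt.yi, Lt.z, Lt.q, Lt.yi, Lt.yi, Lt.q, Lt.z, Lt.yi, Lt.z, Lt.y, Lt.z, Lt.q, Lt.y, Lt.y, Lt.q] (H9.TCY.hole_at hinv hr 39 13 false (by decide +kernel)) h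
  · exact lS_good (T := T) (x := Lt.z) (by decide) hu [Lt.y, Lt.z, Lt.q, Lt.yi, Lt.q, Lt.y, Lt.z, Lt.q, Lt.yi, Lt.q, Lt.z, Lt.y, Lt.q, Lt.yi, Lt.q] (H9.TCY.hole_at hinv hr 23 10 true (by decide +kernel)) h
theorem dp_z_169_s (hinv : ∀ x, g (inv x) = (g x)⁻¹) (hr : ∀ r ∈ rels, (r.map g).prod = 1) (hH : ∀ r ∈ subs, (r.map g).prod ∈ H)
    (j u : ℕ) (hu : u < M) (h : dp_z_169 j u = true) : Good (fa g) T MG M (cP g H) Lt.z u := by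
  unfold dp_z_169 at h
  rcases brec_true h with h | h
  · exact lF_good (T := T) (x := Lt.z) (by decide) [Lt.q, Lt.y, Lt.z, Lt.yi, Lt.z, Lt.q, Lt.yi, Lt.yi, Lt.z, Lt.q, Lt.yi, Lt.z, Lt.y, Lt.z, Lt.q, Lt.y, Lt.y] (H9.TCY.hole_at hinv hr 40 1 true (by decide +kernel)) h
  · exact lF_good (T := T) (x := Lt.z) (by decide) [Lt.y, Lt.z, Lt.q, Lt.yi, Lt.z, Lt.q, Lt.y, Lt.z, Lt.yi, Lt.q, Lt.z, Lt.y, Lt.q, Lt.z, Lt.yi] (H9.TCY.hole_at hinv hr 36 8 false (by decide +kernel)) h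
theorem dp_z_170_s (hinv : ∀ x, g (inv x) = (g x)⁻¹) (hr : ∀ r ∈ rels, (r.map g).prod = 1) (hH : ∀ r ∈ subs, (r.map g).prod ∈ H)
    (j u : ℕ) (hu : u < M) (h : dp_z_170 j u = true) : Good (fa g) T MG M (cP g H) Lt.z u := by
  unfold dp_z_170 at h
  rcases brec_true h with h | h
  · exact lS_good (T := T) (x := Lt.z) (by decide) hu [Lt.yi, Lt.z, Lt.y, Lt.z, Lt.q, Lt.y, Lt.y, Lt.q, Lt.z, Lt.y, Lt.z, Lt.yi, Lt.z, Lt.q, Lt.yi, Lt.yi, Lt.q] (H9.TCY.hole_at hinv hr 39 4 false (by decide +kernel)) h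
  · exact dp_z_169_s hinv hr hH j u hu h
theorem dp_z_171_s (hinv : ∀ x, g (inv x) = (g x)⁻¹) (hr : ∀ r ∈ rels, (r.map g).prod = 1) (hH : ∀ r ∈ subs, (r.map g).prod ∈ H)
    (j u : ℕ) (hu : u < M) (h : dp_z_171 j u = true) : Good (fa g) T MG M (cP g H) Lt.z u := by
  unfold dp_z_171 at h
  rcases brec_true h with h | h
  · exact dp_z_168_s hinv hr hH j u hu h
  · exact dp_z_170_s hinv hr hH j u hu h
theorem dp_z_172_s (hinv : ∀ x, g (inv x) = (g x)⁻¹) (hr : ∀ r ∈ rels, (r.map g).prod = 1) (hH : ∀ r ∈ subs, (r.map g).prod ∈ H)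
    (j u : ℕ) (hu : u < M) (h : dp_z_172 j u = true) : Good (fa g) T MG M (cP g H) Lt.z u := by
  unfold dp_z_172 at h
  rcases brec_true h with h | h
  · exact lF_good (T := T) (x := Lt.z) (by decide) [Lt.y, Lt.y, Lt.z, Lt.q, Lt.y, Lt.y, Lt.y, Lt.q, Lt.z, Lt.y, Lt.y, Lt.z, Lt.q, Lt.y, Lt.y, Lt.y, Lt.q, Lt.z, Lt.y, Lt.y, Lt.z, Lt.q, Lt.y, Lt.y, Lt.y, Lt.q] (H9.TCY.hole_at hinv hr 47 2 false (by decide +kernel)) h
  · exact lS_good (T := T) (x := Lt.z) (by decide) hu [Lt.q, Lt.z, Lt.q, Lt.v, Lt.yi, Lt.v, Lt.q, Lt.z, Lt.q, Lt.z, Lt.y] (H9.TCY.hole_at hinv hr 13 8 true (by decide +kernel)) h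
theorem dp_z_173_s (hinv : ∀ x, g (inv x) = (g x)⁻¹) (hr : ∀ r ∈ rels, (r.map g).prod = 1) (hH : ∀ r ∈ subs, (r.map g).prod ∈ H)
    (j u : ℕ) (hu : u < M) (h : dp_z_173 j u = true) : Good (fa g) T MG M (cP g H) Lt.z u := by
  unfold dp_z_173 at h
  rcases brec_true h with h | h
  · exact lS_good (T := T) (x := Lt.z) (by decide) hu [Lt.y, Lt.z, Lt.q, Lt.y, Lt.y, Lt.q, Lt.z, Lt.y, Lt.z, Lt.yi, Lt.z, Lt.q, Lt.yi, Lt.yi, Lt.q, Lt.z, Lt.yi] (H9.TCY.hole_at hinv hr 39 6 false (by decide +kernel)) h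
  · exact dp_z_172_s hinv hr hH j u hu h
theorem dp_z_174_s (hinv : ∀ x, g (inv x) = (g x)⁻¹) (hr : ∀ r ∈ rels, (r.map g).prod = 1) (hH : ∀ r ∈ subs, (r.map g).prod ∈ H)
    (j u : ℕ) (hu : u < M) (h : dp_z_174 j u = true) : Good (fa g) T MG M (cP g H) Lt.z u := by
  unfold dp_z_174 at h
  rcases brec_true h with h | h
  · exact lF_good (T := T) (x := Lt.z) (by decide) [Lt.q, Lt.y, Lt.z, Lt.yi, Lt.q, Lt.z, Lt.y, Lt.q, Lt.z, Lt.yi, Lt.z, Lt.y, Lt.z, Lt.q, Lt.yi] (H9.TCY.hole_at hinv hr 36 13 false (by decide +kernel)) h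
  · exact lF_good (T := T) (x := Lt.z) (by decide) [Lt.yi, Lt.q, Lt.z, Lt.yi, Lt.yi, Lt.q, Lt.z, Lt.yi, Lt.z, Lt.y, Lt.q, Lt.z, Lt.y, Lt.y, Lt.q, Lt.z, Lt.y] (H9.TCY.hole_at hinv hr 40 15 false (by decide +kernel)) h
theorem dp_z_175_s (hinv : ∀ x, g (inv x) = (g x)⁻¹) (hr : ∀ r ∈ rels, (r.map g).prod = 1) (hH : ∀ r ∈ subs, (r.map g).prod ∈ H)
    (j u : ℕ) (hu : u < M) (h : dp_z_175 j u = true) : Good (fa g) T MG M (cP g H) Lt.z u := by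
  unfold dp_z_175 at h
  rcases brec_true h with h | h
  · exact lF_good (T := T) (x := Lt.z) (by decide) [Lt.y, Lt.z, Lt.q, Lt.y, Lt.y, Lt.z, Lt.q, Lt.y, Lt.z, Lt.yi, Lt.z, Lt.q, Lt.yi, Lt.yi, Lt.z, Lt.q, Lt.yi] (H9.TCY.hole_at hinv hr 40 13 true (by decide +kernel)) h
  · exact dp_z_174_s hinv hr hH j u hu h
theorem dp_z_176_s (hinv : ∀ x, g (inv x) = (g x)⁻¹) (hr : ∀ r ∈ rels, (r.map g).prod = 1) (hH : ∀ r ∈ subs, (r.map g).prod ∈ H)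
    (j u : ℕ) (hu : u < M) (h : dp_z_176 j u = true) : Good (fa g) T MG M (cP g H) Lt.z u := by
  unfold dp_z_176 at h
  rcases brec_true h with h | h
  · exact dp_z_173_s hinv hr hH j u hu h
  · exact dp_z_175_s hinv hr hH j u hu h
theorem dp_z_177_s (hinv : ∀ x, g (inv x) = (g x)⁻¹) (hr : ∀ r ∈ rels, (r.map g).prod = 1) (hH : ∀ r ∈ subs, (r.map g).prod ∈ H)
    (j u : ℕ) (hu : u < M) (h : dp_z_177 j u = true) : Good (fa g) T MG M (cP g H) Lt.z u := by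
  unfold dp_z_177 at h
  rcases brec_true h with h | h
  · exact dp_z_171_s hinv hr hH j u hu h
  · exact dp_z_176_s hinv hr hH j u hu h
theorem dp_z_178_s (hinv : ∀ x, g (inv x) = (g x)⁻¹) (hr : ∀ r ∈ rels, (r.map g).prod = 1) (hH : ∀ r ∈ subs, (r.map g).prod ∈ H)
    (j u : ℕ) (hu : u < M) (h : dp_z_178 j u = true) : Good (fa g) T MG M (cP g H) Lt.z u := by
  unfold dp_z_178 at h
  rcases brec_true h with h | h
  · exact dp_z_167_s hinv hr hH j u hu h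
  · exact dp_z_177_s hinv hr hH j u hu h
theorem dp_z_179_s (hinv : ∀ x, g (inv x) = (g x)⁻¹) (hr : ∀ r ∈ rels, (r.map g).prod = 1) (hH : ∀ r ∈ subs, (r.map g).prod ∈ H)
    (j u : ℕ) (hu : u < M) (h : dp_z_179 j u = true) : Good (fa g) T MG M (cP g H) Lt.z u := by
  unfold dp_z_179 at h
  rcases brec_true h with h | h
  · exact lF_good (T := T) (x := Lt.z) (by decide) [Lt.q, Lt.yi, Lt.z, Lt.y, Lt.z, Lt.q, Lt.y, Lt.y, Lt.z, Lt.q, Lt.y, Lt.z, Lt.yi, Lt.z, Lt.q, Lt.yi, Lt.yi] (H9.TCY.hole_at hinv hr 40 10 true (by decide +kernel)) h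
  · exact lS_good (T := T) (x := Lt.z) (by decide) hu [Lt.yi, Lt.z, Lt.q, Lt.yi, Lt.yi, Lt.q, Lt.z, Lt.yi, Lt.z, Lt.y, Lt.z, Lt.q, Lt.y, Lt.y, Lt.q, Lt.z, Lt.y] (H9.TCY.hole_at hinv hr 39 15 false (by decide +kernel)) h
theorem dp_z_180_s (hinv : ∀ x, g (inv x) = (g x)⁻¹) (hr : ∀ r ∈ rels, (r.map g).prod = 1) (hH : ∀ r ∈ subs, (r.map g).prod ∈ H)
    (j u : ℕ) (hu : u < M) (h : dp_z_180 j u = true) : Good (fa g) T MG M (cP g H) Lt.z u := by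
  unfold dp_z_180 at h
  rcases brec_true h with h | h
  · exact lF_good (T := T) (x := Lt.z) (by decide) [Lt.q, Lt.y, Lt.y, Lt.y, Lt.q, Lt.z, Lt.y, Lt.y, Lt.z, Lt.q, Lt.y, Lt.y, Lt.y, Lt.q, Lt.z, Lt.y, Lt.y, Lt.z, Lt.q, Lt.y, Lt.y, Lt.y, Lt.q, Lt.z, Lt.y, Lt.y] (H9.TCY.hole_at hinv hr 47 5 false (by decide +kernel)) h
  · exact dp_z_179_s hinv hr hH j u hu h
theorem dp_z_181_s (hinv : ∀ x, g (inv x) = (g x)⁻¹) (hr : ∀ r ∈ rels, (r.map g).prod = 1) (hH : ∀ r ∈ subs, (r.map g).prod ∈ H)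
    (j u : ℕ) (hu : u < M) (h : dp_z_181 j u = true) : Good (fa g) T MG M (cP g H) Lt.z u := by
  unfold dp_z_181 at h
  rcases brec_true h with h | h
  · exact lS_good (T := T) (x := Lt.z) (by decide) hu [Lt.q, Lt.y, Lt.z, Lt.q, Lt.yi, Lt.z, Lt.y, Lt.q, Lt.z, Lt.yi, Lt.q, Lt.z, Lt.y, Lt.z, Lt.yi] (H9.TCY.hole_at hinv hr 27 7 false (by decide +kernel)) h
  · exact lF_good (T := T) (x := Lt.z) (by decide) [Lt.q, Lt.yi, Lt.z, Lt.q, Lt.y, Lt.z, Lt.yi, Lt.q, Lt.z, Lt.y, Lt.q, Lt.z, Lt.yi, Lt.z, Lt.y] (H9.TCY.hole_at hinv hr 36 10 false (by decide +kernel)) h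
theorem dp_z_182_s (hinv : ∀ x, g (inv x) = (g x)⁻¹) (hr : ∀ r ∈ rels, (r.map g).prod = 1) (hH : ∀ r ∈ subs, (r.map g).prod ∈ H)
    (j u : ℕ) (hu : u < M) (h : dp_z_182 j u = true) : Good (fa g) T MG M (cP g H) Lt.z u := by
  unfold dp_z_182 at h
  rcases brec_true h with h | h
  · exact lS_good (T := T) (x := Lt.z) (by decide) hu [Lt.y, Lt.y, Lt.z, Lt.q, Lt.y, Lt.y, Lt.y, Lt.q, Lt.z, Lt.y, Lt.y, Lt.z, Lt.q, Lt.y, Lt.y, Lt.y, Lt.q, Lt.z, Lt.y, Lt.y, Lt.z, Lt.q, Lt.y, Lt.y, Lt.y, Lt.q] (H9.TCY.hole_at hinv hr 47 2 false (by decide +kernel)) h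
  · exact dp_z_181_s hinv hr hH j u hu h
theorem dp_z_183_s (hinv : ∀ x, g (inv x) = (g x)⁻¹) (hr : ∀ r ∈ rels, (r.map g).prod = 1) (hH : ∀ r ∈ subs, (r.map g).prod ∈ H)
    (j u : ℕ) (hu : u < M) (h : dp_z_183 j u = true) : Good (fa g) T MG M (cP g H) Lt.z u := by
  unfold dp_z_183 at h
  rcases brec_true h with h | h
  · exact dp_z_180_s hinv hr hH j u hu h
  · exact dp_z_182_s hinv hr hH j u hu h
theorem dp_z_184_s (hinv : ∀ x, g (inv x) = (g x)⁻¹) (hr : ∀ r ∈ rels, (r.map g).prod = 1) (hH : ∀ r ∈ subs, (r.map g).prod ∈ H)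
    (j u : ℕ) (hu : u < M) (h : dp_z_184 j u = true) : Good (fa g) T MG M (cP g H) Lt.z u := by
  unfold dp_z_184 at h
  rcases brec_true h with h | h
  · exact lS_good (T := T) (x := Lt.z) (by decide) hu [Lt.q, Lt.yi, Lt.q, Lt.z, Lt.y, Lt.z, Lt.yi, Lt.q, Lt.z, Lt.y, Lt.z, Lt.q, Lt.yi, Lt.z, Lt.y] (H9.TCY.hole_at hinv hr 28 15 false (by decide +kernel)) h
  · exact lS_good (T := T) (x := Lt.z) (by decide) hu [Lt.y, Lt.z, Lt.yi, Lt.yi, Lt.q, Lt.yi, Lt.yi, Lt.z, Lt.y, Lt.z, Lt.yi, Lt.z, Lt.yi, Lt.q, Lt.yi, Lt.z, Lt.yi] (H9.TCY.hole_at hinv hr 41 16 false (by decide +kernel)) h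
theorem dp_z_185_s (hinv : ∀ x, g (inv x) = (g x)⁻¹) (hr : ∀ r ∈ rels, (r.map g).prod = 1) (hH : ∀ r ∈ subs, (r.map g).prod ∈ H)
    (j u : ℕ) (hu : u < M) (h : dp_z_185 j u = true) : Good (fa g) T MG M (cP g H) Lt.z u := by
  unfold dp_z_185 at h
  rcases brec_true h with h | h
  · exact lS_good (T := T) (x := Lt.z) (by decide) hu [Lt.q, Lt.y, Lt.y, Lt.y, Lt.q, Lt.z, Lt.y, Lt.y, Lt.z, Lt.q, Lt.y, Lt.y, Lt.y, Lt.q, Lt.z, Lt.y, Lt.y, Lt.z, Lt.q, Lt.y, Lt.y, Lt.y, Lt.q, Lt.z, Lt.y, Lt.y] (H9.TCY.hole_at hinv hr 47 5 false (by decide +kernel)) h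
  · exact dp_z_184_s hinv hr hH j u hu h
theorem dp_z_186_s (hinv : ∀ x, g (inv x) = (g x)⁻¹) (hr : ∀ r ∈ rels, (r.map g).prod = 1) (hH : ∀ r ∈ subs, (r.map g).prod ∈ H)
    (j u : ℕ) (hu : u < M) (h : dp_z_186 j u = true) : Good (fa g) T MG M (cP g H) Lt.z u := by
  unfold dp_z_186 at h
  rcases brec_true h with h | h
  · exact lF_good (T := T) (x := Lt.z) (by decide) [Lt.q, Lt.z, Lt.y, Lt.q, Lt.y, Lt.q, Lt.y, Lt.z, Lt.q, Lt.z, Lt.y, Lt.q, Lt.y, Lt.q, Lt.y] (H9.TCY.hole_at hinv hr 35 1 true (by decide +kernel)) h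
  · exact lS_good (T := T) (x := Lt.z) (by decide) hu [Lt.q, Lt.v, Lt.z, Lt.q, Lt.v, Lt.q, Lt.z, Lt.v, Lt.z, Lt.q] (H9.TCY.hole_at hinv hr 11 5 true (by decide +kernel)) h
theorem dp_z_187_s (hinv : ∀ x, g (inv x) = (g x)⁻¹) (hr : ∀ r ∈ rels, (r.map g).prod = 1) (hH : ∀ r ∈ subs, (r.map g).prod ∈ H)
    (j u : ℕ) (hu : u < M) (h : dp_z_187 j u = true) : Good (fa g) T MG M (cP g H) Lt.z u := by
  unfold dp_z_187 at h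
  rcases brec_true h with h | h
  · exact lS_good (T := T) (x := Lt.z) (by decide) hu [Lt.q, Lt.z, Lt.q, Lt.v, Lt.y, Lt.v, Lt.q, Lt.z, Lt.q, Lt.z, Lt.yi] (H9.TCY.hole_at hinv hr 13 7 false (by decide +kernel)) h
  · exact lF_good (T := T) (x := Lt.z) (by decide) [Lt.y, Lt.q, Lt.z, Lt.y, Lt.y, Lt.q, Lt.z, Lt.y, Lt.z, Lt.yi, Lt.q, Lt.z, Lt.yi, Lt.yi, Lt.q, Lt.z, Lt.yi] (H9.TCY.hole_at hinv hr 40 6 false (by decide +kernel)) h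
theorem dp_z_188_s (hinv : ∀ x, g (inv x) = (g x)⁻¹) (hr : ∀ r ∈ rels, (r.map g).prod = 1) (hH : ∀ r ∈ subs, (r.map g).prod ∈ H)
    (j u : ℕ) (hu : u < M) (h : dp_z_188 j u = true) : Good (fa g) T MG M (cP g H) Lt.z u := by
  unfold dp_z_188 at h
  rcases brec_true h with h | h
  · exact dp_z_186_s hinv hr hH j u hu h
  · exact dp_z_187_s hinv hr hH j u hu h
theorem dp_z_189_s (hinv : ∀ x, g (inv x) = (g x)⁻¹) (hr : ∀ r ∈ rels, (r.map g).prod = 1) (hH : ∀ r ∈ subs, (r.map g).prod ∈ H)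
    (j u : ℕ) (hu : u < M) (h : dp_z_189 j u = true) : Good (fa g) T MG M (cP g H) Lt.z u := by
  unfold dp_z_189 at h
  rcases brec_true h with h | h
  · exact dp_z_185_s hinv hr hH j u hu h
  · exact dp_z_188_s hinv hr hH j u hu h
theorem dp_z_190_s (hinv : ∀ x, g (inv x) = (g x)⁻¹) (hr : ∀ r ∈ rels, (r.map g).prod = 1) (hH : ∀ r ∈ subs, (r.map g).prod ∈ H)
    (j u : ℕ) (hu : u < M) (h : dp_z_190 j u = true) : Good (fa g) T MG M (cP g H) Lt.z u := by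
  unfold dp_z_190 at h
  rcases brec_true h with h | h
  · exact dp_z_183_s hinv hr hH j u hu h
  · exact dp_z_189_s hinv hr hH j u hu h
theorem dp_z_191_s (hinv : ∀ x, g (inv x) = (g x)⁻¹) (hr : ∀ r ∈ rels, (r.map g).prod = 1) (hH : ∀ r ∈ subs, (r.map g).prod ∈ H)
    (j u : ℕ) (hu : u < M) (h : dp_z_191 j u = true) : Good (fa g) T MG M (cP g H) Lt.z u := by
  unfold dp_z_191 at h
  rcases brec_true h with h | h
  · exact lS_good (T := T) (x := Lt.z) (by decide) hu [Lt.q, Lt.yi, Lt.z, Lt.y, Lt.q, Lt.z, Lt.yi, Lt.q, Lt.z, Lt.y, Lt.z, Lt.yi, Lt.z, Lt.q, Lt.y] (H9.TCY.hole_at hinv hr 27 10 false (by decide +kernel)) h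
  · exact lF_good (T := T) (x := Lt.z) (by decide) [Lt.yi, Lt.z, Lt.q, Lt.yi, Lt.yi, Lt.z, Lt.q, Lt.yi, Lt.z, Lt.y, Lt.z, Lt.q, Lt.y, Lt.y, Lt.z, Lt.q, Lt.y] (H9.TCY.hole_at hinv hr 40 4 true (by decide +kernel)) h
theorem dp_z_192_s (hinv : ∀ x, g (inv x) = (g x)⁻¹) (hr : ∀ r ∈ rels, (r.map g).prod = 1) (hH : ∀ r ∈ subs, (r.map g).prod ∈ H)
    (j u : ℕ) (hu : u < M) (h : dp_z_192 j u = true) : Good (fa g) T MG M (cP g H) Lt.z u := by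
  unfold dp_z_192 at h
  rcases brec_true h with h | h
  · exact lF_good (T := T) (x := Lt.z) (by decide) [Lt.yi, Lt.q, Lt.yi, Lt.q, Lt.yi, Lt.z, Lt.q, Lt.z, Lt.yi, Lt.q, Lt.yi, Lt.q, Lt.yi, Lt.z, Lt.q] (H9.TCY.hole_at hinv hr 35 0 false (by decide +kernel)) h
  · exact dp_z_191_s hinv hr hH j u hu h
theorem dp_z_193_s (hinv : ∀ x, g (inv x) = (g x)⁻¹) (hr : ∀ r ∈ rels, (r.map g).prod = 1) (hH : ∀ r ∈ subs, (r.map g).prod ∈ H)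
    (j u : ℕ) (hu : u < M) (h : dp_z_193 j u = true) : Good (fa g) T MG M (cP g H) Lt.z u := by
  unfold dp_z_193 at h
  rcases brec_true h with h | h
  · exact lF_good (T := T) (x := Lt.z) (by decide) [Lt.yi, Lt.z, Lt.q, Lt.y, Lt.z, Lt.yi, Lt.z, Lt.q, Lt.y, Lt.q, Lt.z, Lt.yi, Lt.z, Lt.y, Lt.q] (H9.TCY.hole_at hinv hr 28 7 true (by decide +kernel)) h
  · exact lF_good (T := T) (x := Lt.z) (by decide) [Lt.y, Lt.q, Lt.y, Lt.q, Lt.y, Lt.z, Lt.q, Lt.z, Lt.y, Lt.q, Lt.y, Lt.q, Lt.y, Lt.z, Lt.q] (H9.TCY.hole_at hinv hr 35 3 true (by decide +kernel)) h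
theorem dp_z_194_s (hinv : ∀ x, g (inv x) = (g x)⁻¹) (hr : ∀ r ∈ rels, (r.map g).prod = 1) (hH : ∀ r ∈ subs, (r.map g).prod ∈ H)
    (j u : ℕ) (hu : u < M) (h : dp_z_194 j u = true) : Good (fa g) T MG M (cP g H) Lt.z u := by
  unfold dp_z_194 at h
  rcases brec_true h with h | h
  · exact lF_good (T := T) (x := Lt.z) (by decide) [Lt.q, Lt.z, Lt.yi, Lt.q, Lt.yi, Lt.q, Lt.yi, Lt.z, Lt.q, Lt.z, Lt.yi, Lt.q, Lt.yi, Lt.q, Lt.yi] (H9.TCY.hole_at hinv hr 35 6 false (by decide +kernel)) h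
  · exact lF_good (T := T) (x := Lt.z) (by decide) [Lt.y, Lt.y, Lt.q, Lt.z, Lt.y, Lt.z, Lt.yi, Lt.q, Lt.z, Lt.yi, Lt.yi, Lt.q, Lt.z, Lt.yi, Lt.z, Lt.y, Lt.q] (H9.TCY.hole_at hinv hr 40 9 false (by decide +kernel)) h
theorem dp_z_195_s (hinv : ∀ x, g (inv x) = (g x)⁻¹) (hr : ∀ r ∈ rels, (r.map g).prod = 1) (hH : ∀ r ∈ subs, (r.map g).prod ∈ H)
    (j u : ℕ) (hu : u < M) (h : dp_z_195 j u = true) : Good (fa g) T MG M (cP g H) Lt.z u := by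
  unfold dp_z_195 at h
  rcases brec_true h with h | h
  · exact dp_z_193_s hinv hr hH j u hu h
  · exact dp_z_194_s hinv hr hH j u hu h
theorem dp_z_196_s (hinv : ∀ x, g (inv x) = (g x)⁻¹) (hr : ∀ r ∈ rels, (r.map g).prod = 1) (hH : ∀ r ∈ subs, (r.map g).prod ∈ H)
    (j u : ℕ) (hu : u < M) (h : dp_z_196 j u = true) : Good (fa g) T MG M (cP g H) Lt.z u := by
  unfold dp_z_196 at h
  rcases brec_true h with h | h
  · exact dp_z_192_s hinv hr hH j u hu h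
  · exact dp_z_195_s hinv hr hH j u hu h
theorem dp_z_197_s (hinv : ∀ x, g (inv x) = (g x)⁻¹) (hr : ∀ r ∈ rels, (r.map g).prod = 1) (hH : ∀ r ∈ subs, (r.map g).prod ∈ H)
    (j u : ℕ) (hu : u < M) (h : dp_z_197 j u = true) : Good (fa g) T MG M (cP g H) Lt.z u := by
  unfold dp_z_197 at h
  rcases brec_true h with h | h
  · exact lF_good (T := T) (x := Lt.z) (by decide) [Lt.q, Lt.yi, Lt.yi, Lt.yi, Lt.q, Lt.z, Lt.yi, Lt.yi, Lt.z, Lt.q, Lt.yi, Lt.yi, Lt.yi, Lt.q, Lt.z, Lt.yi, Lt.yi, Lt.z, Lt.q, Lt.yi, Lt.yi, Lt.yi, Lt.q, Lt.z, Lt.yi, Lt.yi] (H9.TCY.hole_at hinv hr 47 8 true (by decide +kernel)) h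
  · exact lS_good (T := T) (x := Lt.z) (by decide) hu [Lt.yi, Lt.q, Lt.z, Lt.y, Lt.z, Lt.q, Lt.yi, Lt.z, Lt.y, Lt.z, Lt.q, Lt.yi, Lt.q, Lt.z, Lt.y] (H9.TCY.hole_at hinv hr 28 5 false (by decide +kernel)) h
theorem dp_z_198_s (hinv : ∀ x, g (inv x) = (g x)⁻¹) (hr : ∀ r ∈ rels, (r.map g).prod = 1) (hH : ∀ r ∈ subs, (r.map g).prod ∈ H)
    (j u : ℕ) (hu : u < M) (h : dp_z_198 j u = true) : Good (fa g) T MG M (cP g H) Lt.z u := by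
  unfold dp_z_198 at h
  rcases brec_true h with h | h
  · exact lS_good (T := T) (x := Lt.z) (by decide) hu [Lt.y, Lt.q, Lt.z, Lt.yi, Lt.z, Lt.q, Lt.y, Lt.z, Lt.yi, Lt.z, Lt.q, Lt.y, Lt.q, Lt.z, Lt.yi] (H9.TCY.hole_at hinv hr 28 4 true (by decide +kernel)) h
  · exact lF_good (T := T) (x := Lt.z) (by decide) [Lt.y, Lt.q, Lt.z, Lt.yi, Lt.z, Lt.y, Lt.z, Lt.q, Lt.yi, Lt.z, Lt.q, Lt.y, Lt.z, Lt.yi, Lt.q] (H9.TCY.hole_at hinv hr 36 3 false (by decide +kernel)) h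
theorem dp_z_199_s (hinv : ∀ x, g (inv x) = (g x)⁻¹) (hr : ∀ r ∈ rels, (r.map g).prod = 1) (hH : ∀ r ∈ subs, (r.map g).prod ∈ H)
    (j u : ℕ) (hu : u < M) (h : dp_z_199 j u = true) : Good (fa g) T MG M (cP g H) Lt.z u := by
  unfold dp_z_199 at h
  rcases brec_true h with h | h
  · exact dp_z_197_s hinv hr hH j u hu h
  · exact dp_z_198_s hinv hr hH j u hu h
theorem dp_z_200_s (hinv : ∀ x, g (inv x) = (g x)⁻¹) (hr : ∀ r ∈ rels, (r.map g).prod = 1) (hH : ∀ r ∈ subs, (r.map g).prod ∈ H)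
    (j u : ℕ) (hu : u < M) (h : dp_z_200 j u = true) : Good (fa g) T MG M (cP g H) Lt.z u := by
  unfold dp_z_200 at h
  rcases brec_true h with h | h
  · exact lS_good (T := T) (x := Lt.z) (by decide) hu [Lt.yi, Lt.z, Lt.q, Lt.y, Lt.q, Lt.z, Lt.yi, Lt.z, Lt.y, Lt.q, Lt.z, Lt.yi, Lt.z, Lt.q, Lt.y] (H9.TCY.hole_at hinv hr 28 12 true (by decide +kernel)) h
  · exact lF_good (T := T) (x := Lt.z) (by decide) [Lt.yi, Lt.yi, Lt.q, Lt.z, Lt.yi, Lt.z, Lt.y, Lt.q, Lt.z, Lt.y, Lt.y, Lt.q, Lt.z, Lt.y, Lt.z, Lt.yi, Lt.q] (H9.TCY.hole_at hinv hr 40 0 false (by decide +kernel)) h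
theorem dp_z_201_s (hinv : ∀ x, g (inv x) = (g x)⁻¹) (hr : ∀ r ∈ rels, (r.map g).prod = 1) (hH : ∀ r ∈ subs, (r.map g).prod ∈ H)
    (j u : ℕ) (hu : u < M) (h : dp_z_201 j u = true) : Good (fa g) T MG M (cP g H) Lt.z u := by
  unfold dp_z_201 at h
  rcases brec_true h with h | h
  · exact lF_good (T := T) (x := Lt.z) (by decide) [Lt.v, Lt.q, Lt.v, Lt.q, Lt.v, Lt.z, Lt.q, Lt.z, Lt.v, Lt.z, Lt.v, Lt.z, Lt.q] (H9.TCY.hole_at hinv hr 20 13 false (by decide +kernel)) h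
  · exact lS_good (T := T) (x := Lt.z) (by decide) hu [Lt.y, Lt.z, Lt.q, Lt.yi, Lt.q, Lt.z, Lt.y, Lt.z, Lt.yi, Lt.q, Lt.z, Lt.y, Lt.z, Lt.q, Lt.yi] (H9.TCY.hole_at hinv hr 28 13 false (by decide +kernel)) h
theorem dp_z_202_s (hinv : ∀ x, g (inv x) = (g x)⁻¹) (hr : ∀ r ∈ rels, (r.map g).prod = 1) (hH : ∀ r ∈ subs, (r.map g).prod ∈ H)
    (j u : ℕ) (hu : u < M) (h : dp_z_202 j u = true) : Good (fa g) T MG M (cP g H) Lt.z u := by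
  unfold dp_z_202 at h
  rcases brec_true h with h | h
  · exact dp_z_200_s hinv hr hH j u hu h
  · exact dp_z_201_s hinv hr hH j u hu h
theorem dp_z_203_s (hinv : ∀ x, g (inv x) = (g x)⁻¹) (hr : ∀ r ∈ rels, (r.map g).prod = 1) (hH : ∀ r ∈ subs, (r.map g).prod ∈ H)
    (j u : ℕ) (hu : u < M) (h : dp_z_203 j u = true) : Good (fa g) T MG M (cP g H) Lt.z u := by
  unfold dp_z_203 at h
  rcases brec_true h with h | h
  · exact dp_z_199_s hinv hr hH j u hu h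
  · exact dp_z_202_s hinv hr hH j u hu h
theorem dp_z_204_s (hinv : ∀ x, g (inv x) = (g x)⁻¹) (hr : ∀ r ∈ rels, (r.map g).prod = 1) (hH : ∀ r ∈ subs, (r.map g).prod ∈ H)
    (j u : ℕ) (hu : u < M) (h : dp_z_204 j u = true) : Good (fa g) T MG M (cP g H) Lt.z u := by
  unfold dp_z_204 at h
  rcases brec_true h with h | h
  · exact dp_z_196_s hinv hr hH j u hu h
  · exact dp_z_203_s hinv hr hH j u hu h
theorem dp_z_205_s (hinv : ∀ x, g (inv x) = (g x)⁻¹) (hr : ∀ r ∈ rels, (r.map g).prod = 1) (hH : ∀ r ∈ subs, (r.map g).prod ∈ H)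
    (j u : ℕ) (hu : u < M) (h : dp_z_205 j u = true) : Good (fa g) T MG M (cP g H) Lt.z u := by
  unfold dp_z_205 at h
  rcases brec_true h with h | h
  · exact dp_z_190_s hinv hr hH j u hu h
  · exact dp_z_204_s hinv hr hH j u hu h
theorem dp_z_206_s (hinv : ∀ x, g (inv x) = (g x)⁻¹) (hr : ∀ r ∈ rels, (r.map g).prod = 1) (hH : ∀ r ∈ subs, (r.map g).prod ∈ H)
    (j u : ℕ) (hu : u < M) (h : dp_z_206 j u = true) : Good (fa g) T MG M (cP g H) Lt.z u := by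
  unfold dp_z_206 at h
  rcases brec_true h with h | h
  · exact dp_z_178_s hinv hr hH j u hu h
  · exact dp_z_205_s hinv hr hH j u hu h
theorem dp_z_207_s (hinv : ∀ x, g (inv x) = (g x)⁻¹) (hr : ∀ r ∈ rels, (r.map g).prod = 1) (hH : ∀ r ∈ subs, (r.map g).prod ∈ H)
    (j u : ℕ) (hu : u < M) (h : dp_z_207 j u = true) : Good (fa g) T MG M (cP g H) Lt.z u := by
  unfold dp_z_207 at h
  rcases brec_true h with h | h
  · exact lF_good (T := T) (x := Lt.z) (by decide) [Lt.y, Lt.z, Lt.yi, Lt.q, Lt.z, Lt.y, Lt.z, Lt.q, Lt.yi, Lt.z, Lt.y, Lt.z, Lt.q, Lt.yi, Lt.q] (H9.TCY.hole_at hinv hr 28 3 false (by decide +kernel)) h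
  · exact lS_good (T := T) (x := Lt.z) (by decide) hu [Lt.y, Lt.z, Lt.yi, Lt.z, Lt.q, Lt.y, Lt.z, Lt.q, Lt.yi, Lt.z, Lt.y, Lt.q, Lt.z, Lt.yi, Lt.q] (H9.TCY.hole_at hinv hr 27 3 false (by decide +kernel)) h
theorem dp_z_208_s (hinv : ∀ x, g (inv x) = (g x)⁻¹) (hr : ∀ r ∈ rels, (r.map g).prod = 1) (hH : ∀ r ∈ subs, (r.map g).prod ∈ H)
    (j u : ℕ) (hu : u < M) (h : dp_z_208 j u = true) : Good (fa g) T MG M (cP g H) Lt.z u := by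
  unfold dp_z_208 at h
  rcases brec_true h with h | h
  · exact lS_good (T := T) (x := Lt.z) (by decide) hu [Lt.q, Lt.yi, Lt.yi, Lt.yi, Lt.q, Lt.z, Lt.yi, Lt.yi, Lt.z, Lt.q, Lt.yi, Lt.yi, Lt.yi, Lt.q, Lt.z, Lt.yi, Lt.yi, Lt.z, Lt.q, Lt.yi, Lt.yi, Lt.yi, Lt.q, Lt.z, Lt.yi, Lt.yi] (H9.TCY.hole_at hinv hr 47 8 true (by decide +kernel)) h
  · exact lS_good (T := T) (x := Lt.z) (by decide) hu [Lt.yi, Lt.yi, Lt.z, Lt.q, Lt.yi, Lt.yi, Lt.yi, Lt.q, Lt.z, Lt.yi, Lt.yi, Lt.z, Lt.q, Lt.yi, Lt.yi, Lt.yi, Lt.q, Lt.z, Lt.yi, Lt.yi, Lt.z, Lt.q, Lt.yi, Lt.yi, Lt.yi, Lt.q] (H9.TCY.hole_at hinv hr 47 5 true (by decide +kernel)) h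
theorem dp_z_209_s (hinv : ∀ x, g (inv x) = (g x)⁻¹) (hr : ∀ r ∈ rels, (r.map g).prod = 1) (hH : ∀ r ∈ subs, (r.map g).prod ∈ H)
    (j u : ℕ) (hu : u < M) (h : dp_z_209 j u = true) : Good (fa g) T MG M (cP g H) Lt.z u := by
  unfold dp_z_209 at h
  rcases brec_true h with h | h
  · exact dp_z_207_s hinv hr hH j u hu h
  · exact dp_z_208_s hinv hr hH j u hu h
theorem dp_z_210_s (hinv : ∀ x, g (inv x) = (g x)⁻¹) (hr : ∀ r ∈ rels, (r.map g).prod = 1) (hH : ∀ r ∈ subs, (r.map g).prod ∈ H)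
    (j u : ℕ) (hu : u < M) (h : dp_z_210 j u = true) : Good (fa g) T MG M (cP g H) Lt.z u := by
  unfold dp_z_210 at h
  rcases brec_true h with h | h
  · exact lF_good (T := T) (x := Lt.z) (by decide) [Lt.q, Lt.v, Lt.z, Lt.q, Lt.z, Lt.q, Lt.z, Lt.q, Lt.v, Lt.z, Lt.q, Lt.z, Lt.q, Lt.v] (H9.TCY.hole_at hinv hr 22 1 false (by decide +kernel)) h
  · exact lS_good (T := T) (x := Lt.z) (by decide) hu [Lt.yi, Lt.z, Lt.y, Lt.y, Lt.q, Lt.y, Lt.y, Lt.z, Lt.yi, Lt.z, Lt.y, Lt.z, Lt.y, Lt.q, Lt.y, Lt.z, Lt.y] (H9.TCY.hole_at hinv hr 41 11 true (by decide +kernel)) h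
theorem dp_z_211_s (hinv : ∀ x, g (inv x) = (g x)⁻¹) (hr : ∀ r ∈ rels, (r.map g).prod = 1) (hH : ∀ r ∈ subs, (r.map g).prod ∈ H)
    (j u : ℕ) (hu : u < M) (h : dp_z_211 j u = true) : Good (fa g) T MG M (cP g H) Lt.z u := by
  unfold dp_z_211 at h
  rcases brec_true h with h | h
  · exact lF_good (T := T) (x := Lt.z) (by decide) [Lt.q, Lt.y, Lt.y, Lt.z, Lt.q, Lt.y, Lt.z, Lt.yi, Lt.z, Lt.q, Lt.yi, Lt.yi, Lt.z, Lt.q, Lt.yi, Lt.z, Lt.y] (H9.TCY.hole_at hinv hr 40 15 true (by decide +kernel)) h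
  · exact lF_good (T := T) (x := Lt.z) (by decide) [Lt.yi, Lt.z, Lt.y, Lt.z, Lt.q, Lt.yi, Lt.z, Lt.q, Lt.y, Lt.z, Lt.yi, Lt.q, Lt.z, Lt.y, Lt.q] (H9.TCY.hole_at hinv hr 36 6 false (by decide +kernel)) h
theorem dp_z_212_s (hinv : ∀ x, g (inv x) = (g x)⁻¹) (hr : ∀ r ∈ rels, (r.map g).prod = 1) (hH : ∀ r ∈ subs, (r.map g).prod ∈ H)
    (j u : ℕ) (hu : u < M) (h : dp_z_212 j u = true) : Good (fa g) T MG M (cP g H) Lt.z u := by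
  unfold dp_z_212 at h
  rcases brec_true h with h | h
  · exact dp_z_210_s hinv hr hH j u hu h
  · exact dp_z_211_s hinv hr hH j u hu h
theorem dp_z_213_s (hinv : ∀ x, g (inv x) = (g x)⁻¹) (hr : ∀ r ∈ rels, (r.map g).prod = 1) (hH : ∀ r ∈ subs, (r.map g).prod ∈ H)
    (j u : ℕ) (hu : u < M) (h : dp_z_213 j u = true) : Good (fa g) T MG M (cP g H) Lt.z u := by
  unfold dp_z_213 at h
  rcases brec_true h with h | h
  · exact dp_z_209_s hinv hr hH j u hu h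
  · exact dp_z_212_s hinv hr hH j u hu h
theorem dp_z_214_s (hinv : ∀ x, g (inv x) = (g x)⁻¹) (hr : ∀ r ∈ rels, (r.map g).prod = 1) (hH : ∀ r ∈ subs, (r.map g).prod ∈ H)
    (j u : ℕ) (hu : u < M) (h : dp_z_214 j u = true) : Good (fa g) T MG M (cP g H) Lt.z u := by
  unfold dp_z_214 at h
  rcases brec_true h with h | h
  · exact lS_good (T := T) (x := Lt.z) (by decide) hu [Lt.q, Lt.y, Lt.z, Lt.yi, Lt.z, Lt.q, Lt.y, Lt.q, Lt.z, Lt.yi, Lt.z, Lt.y, Lt.q, Lt.z, Lt.yi] (H9.TCY.hole_at hinv hr 28 9 true (by decide +kernel)) h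
  · exact lF_good (T := T) (x := Lt.z) (by decide) [Lt.yi, Lt.q, Lt.z, Lt.yi, Lt.z, Lt.y, Lt.z, Lt.q, Lt.y, Lt.z, Lt.q, Lt.y, Lt.y, Lt.z, Lt.q, Lt.yi, Lt.q, Lt.z, Lt.q, Lt.y, Lt.q, Lt.z, Lt.yi, Lt.yi, Lt.q] (H9.TCY.hole_at hinv hr 46 7 false (by decide +kernel)) h
theorem dp_z_215_s (hinv : ∀ x, g (inv x) = (g x)⁻¹) (hr : ∀ r ∈ rels, (r.map g).prod = 1) (hH : ∀ r ∈ subs, (r.map g).prod ∈ H)
    (j u : ℕ) (hu : u < M) (h : dp_z_215 j u = true) : Good (fa g) T MG M (cP g H) Lt.z u := by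
  unfold dp_z_215 at h
  rcases brec_true h with h | h
  · exact lF_good (T := T) (x := Lt.z) (by decide) [Lt.yi, Lt.q, Lt.z, Lt.yi, Lt.q, Lt.z, Lt.yi, Lt.q, Lt.z, Lt.yi, Lt.q, Lt.z, Lt.yi, Lt.q, Lt.z, Lt.yi, Lt.q, Lt.z, Lt.yi, Lt.q, Lt.z, Lt.yi, Lt.q] (H9.TCY.hole_at hinv hr 44 0 true (by decide +kernel)) h
  · exact lF_good (T := T) (x := Lt.z) (by decide) [Lt.yi, Lt.z, Lt.y, Lt.q, Lt.z, Lt.y, Lt.y, Lt.q, Lt.z, Lt.y, Lt.z, Lt.yi, Lt.q, Lt.z, Lt.yi, Lt.yi, Lt.q] (H9.TCY.hole_at hinv hr 40 4 false (by decide +kernel)) h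
theorem dp_z_216_s (hinv : ∀ x, g (inv x) = (g x)⁻¹) (hr : ∀ r ∈ rels, (r.map g).prod = 1) (hH : ∀ r ∈ subs, (r.map g).prod ∈ H)
    (j u : ℕ) (hu : u < M) (h : dp_z_216 j u = true) : Good (fa g) T MG M (cP g H) Lt.z u := by
  unfold dp_z_216 at h
  rcases brec_true h with h | h
  · exact dp_z_214_s hinv hr hH j u hu h
  · exact dp_z_215_s hinv hr hH j u hu h
theorem dp_z_217_s (hinv : ∀ x, g (inv x) = (g x)⁻¹) (hr : ∀ r ∈ rels, (r.map g).prod = 1) (hH : ∀ r ∈ subs, (r.map g).prod ∈ H)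
    (j u : ℕ) (hu : u < M) (h : dp_z_217 j u = true) : Good (fa g) T MG M (cP g H) Lt.z u := by
  unfold dp_z_217 at h
  rcases brec_true h with h | h
  · exact lF_good (T := T) (x := Lt.z) (by decide) [Lt.y, Lt.z, Lt.yi, Lt.q, Lt.z, Lt.yi, Lt.yi, Lt.q, Lt.z, Lt.yi, Lt.z, Lt.y, Lt.q, Lt.z, Lt.y, Lt.y, Lt.q] (H9.TCY.hole_at hinv hr 40 13 false (by decide +kernel)) h
  · exact lS_good (T := T) (x := Lt.z) (by decide) hu [Lt.q, Lt.z, Lt.q, Lt.yi, Lt.yi, Lt.yi, Lt.z, Lt.q, Lt.z, Lt.q, Lt.yi, Lt.yi, Lt.yi] (H9.TCY.hole_at hinv hr 21 4 false (by decide +kernel)) h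
theorem dp_z_218_s (hinv : ∀ x, g (inv x) = (g x)⁻¹) (hr : ∀ r ∈ rels, (r.map g).prod = 1) (hH : ∀ r ∈ subs, (r.map g).prod ∈ H)
    (j u : ℕ) (hu : u < M) (h : dp_z_218 j u = true) : Good (fa g) T MG M (cP g H) Lt.z u := by
  unfold dp_z_218 at h
  rcases brec_true h with h | h
  · exact lF_good (T := T) (x := Lt.z) (by decide) [Lt.q, Lt.yi, Lt.yi, Lt.z, Lt.q, Lt.yi, Lt.z, Lt.y, Lt.z, Lt.q, Lt.y, Lt.y, Lt.z, Lt.q, Lt.y, Lt.z, Lt.yi] (H9.TCY.hole_at hinv hr 40 6 true (by decide +kernel)) h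
  · exact lS_good (T := T) (x := Lt.z) (by decide) hu [Lt.q, Lt.z, Lt.y, Lt.y, Lt.q, Lt.yi, Lt.yi, Lt.z, Lt.q, Lt.z, Lt.y, Lt.y, Lt.q, Lt.yi, Lt.yi] (H9.TCY.hole_at hinv hr 34 3 false (by decide +kernel)) h
theorem dp_z_219_s (hinv : ∀ x, g (inv x) = (g x)⁻¹) (hr : ∀ r ∈ rels, (r.map g).prod = 1) (hH : ∀ r ∈ subs, (r.map g).prod ∈ H)
    (j u : ℕ) (hu : u < M) (h : dp_z_219 j u = true) : Good (fa g) T MG M (cP g H) Lt.z u := by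
  unfold dp_z_219 at h
  rcases brec_true h with h | h
  · exact lS_good (T := T) (x := Lt.z) (by decide) hu [Lt.q, Lt.z, Lt.yi, Lt.yi, Lt.q, Lt.y, Lt.y, Lt.z, Lt.q, Lt.z, Lt.yi, Lt.yi, Lt.q, Lt.y, Lt.y] (H9.TCY.hole_at hinv hr 33 6 false (by decide +kernel)) h
  · exact dp_z_218_s hinv hr hH j u hu h
theorem dp_z_220_s (hinv : ∀ x, g (inv x) = (g x)⁻¹) (hr : ∀ r ∈ rels, (r.map g).prod = 1) (hH : ∀ r ∈ subs, (r.map g).prod ∈ H)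
    (j u : ℕ) (hu : u < M) (h : dp_z_220 j u = true) : Good (fa g) T MG M (cP g H) Lt.z u := by
  unfold dp_z_220 at h
  rcases brec_true h with h | h
  · exact dp_z_217_s hinv hr hH j u hu h
  · exact dp_z_219_s hinv hr hH j u hu h
theorem dp_z_221_s (hinv : ∀ x, g (inv x) = (g x)⁻¹) (hr : ∀ r ∈ rels, (r.map g).prod = 1) (hH : ∀ r ∈ subs, (r.map g).prod ∈ H)
    (j u : ℕ) (hu : u < M) (h : dp_z_221 j u = true) : Good (fa g) T MG M (cP g H) Lt.z u := by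
  unfold dp_z_221 at h
  rcases brec_true h with h | h
  · exact dp_z_216_s hinv hr hH j u hu h
  · exact dp_z_220_s hinv hr hH j u hu h
theorem dp_z_222_s (hinv : ∀ x, g (inv x) = (g x)⁻¹) (hr : ∀ r ∈ rels, (r.map g).prod = 1) (hH : ∀ r ∈ subs, (r.map g).prod ∈ H)
    (j u : ℕ) (hu : u < M) (h : dp_z_222 j u = true) : Good (fa g) T MG M (cP g H) Lt.z u := by
  unfold dp_z_222 at h
  rcases brec_true h with h | h
  · exact dp_z_213_s hinv hr hH j u hu h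
  · exact dp_z_221_s hinv hr hH j u hu h
theorem dp_z_223_s (hinv : ∀ x, g (inv x) = (g x)⁻¹) (hr : ∀ r ∈ rels, (r.map g).prod = 1) (hH : ∀ r ∈ subs, (r.map g).prod ∈ H)
    (j u : ℕ) (hu : u < M) (h : dp_z_223 j u = true) : Good (fa g) T MG M (cP g H) Lt.z u := by
  unfold dp_z_223 at h
  rcases brec_true h with h | h
  · exact lS_good (T := T) (x := Lt.z) (by decide) hu [Lt.yi, Lt.q, Lt.z, Lt.y, Lt.z, Lt.yi, Lt.z, Lt.q, Lt.y, Lt.z, Lt.q, Lt.yi, Lt.z, Lt.y, Lt.q] (H9.TCY.hole_at hinv hr 27 0 false (by decide +kernel)) h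
  · exact lS_good (T := T) (x := Lt.z) (by decide) hu [Lt.yi, Lt.q, Lt.z, Lt.yi, Lt.z, Lt.y, Lt.z, Lt.q, Lt.y, Lt.z, Lt.q, Lt.y, Lt.y, Lt.z, Lt.q, Lt.yi, Lt.q, Lt.z, Lt.q, Lt.y, Lt.q, Lt.z, Lt.yi, Lt.yi, Lt.q] (H9.TCY.hole_at hinv hr 46 7 false (by decide +kernel)) h
theorem dp_z_224_s (hinv : ∀ x, g (inv x) = (g x)⁻¹) (hr : ∀ r ∈ rels, (r.map g).prod = 1) (hH : ∀ r ∈ subs, (r.map g).prod ∈ H)
    (j u : ℕ) (hu : u < M) (h : dp_z_224 j u = true) : Good (fa g) T MG M (cP g H) Lt.z u := by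
  unfold dp_z_224 at h
  rcases brec_true h with h | h
  · exact lS_good (T := T) (x := Lt.z) (by decide) hu [Lt.q, Lt.y, Lt.q, Lt.z, Lt.yi, Lt.z, Lt.y, Lt.q, Lt.z, Lt.yi, Lt.z, Lt.q, Lt.y, Lt.z, Lt.yi] (H9.TCY.hole_at hinv hr 28 14 true (by decide +kernel)) h
  · exact lS_good (T := T) (x := Lt.z) (by decide) hu [Lt.yi, Lt.z, Lt.q, Lt.z, Lt.q, Lt.v, Lt.y, Lt.v, Lt.q, Lt.z, Lt.q] (H9.TCY.hole_at hinv hr 13 5 false (by decide +kernel)) h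
theorem dp_z_225_s (hinv : ∀ x, g (inv x) = (g x)⁻¹) (hr : ∀ r ∈ rels, (r.map g).prod = 1) (hH : ∀ r ∈ subs, (r.map g).prod ∈ H)
    (j u : ℕ) (hu : u < M) (h : dp_z_225 j u = true) : Good (fa g) T MG M (cP g H) Lt.z u := by
  unfold dp_z_225 at h
  rcases brec_true h with h | h
  · exact lS_good (T := T) (x := Lt.z) (by decide) hu [Lt.y, Lt.z, Lt.q, Lt.yi, Lt.z, Lt.y, Lt.z, Lt.q, Lt.yi, Lt.q, Lt.z, Lt.y, Lt.z, Lt.yi, Lt.q] (H9.TCY.hole_at hinv hr 28 8 false (by decide +kernel)) h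
  · exact dp_z_224_s hinv hr hH j u hu h
theorem dp_z_226_s (hinv : ∀ x, g (inv x) = (g x)⁻¹) (hr : ∀ r ∈ rels, (r.map g).prod = 1) (hH : ∀ r ∈ subs, (r.map g).prod ∈ H)
    (j u : ℕ) (hu : u < M) (h : dp_z_226 j u = true) : Good (fa g) T MG M (cP g H) Lt.z u := by
  unfold dp_z_226 at h
  rcases brec_true h with h | h
  · exact dp_z_223_s hinv hr hH j u hu h
  · exact dp_z_225_s hinv hr hH j u hu h
theorem dp_z_227_s (hinv : ∀ x, g (inv x) = (g x)⁻¹) (hr : ∀ r ∈ rels, (r.map g).prod = 1) (hH : ∀ r ∈ subs, (r.map g).prod ∈ H)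
    (j u : ℕ) (hu : u < M) (h : dp_z_227 j u = true) : Good (fa g) T MG M (cP g H) Lt.z u := by
  unfold dp_z_227 at h
  rcases brec_true h with h | h
  · exact lS_good (T := T) (x := Lt.z) (by decide) hu [Lt.q, Lt.yi, Lt.z, Lt.y, Lt.z, Lt.q, Lt.yi, Lt.q, Lt.z, Lt.y, Lt.z, Lt.yi, Lt.q, Lt.z, Lt.y] (H9.TCY.hole_at hinv hr 28 10 false (by decide +kernel)) h
  · exact lF_good (T := T) (x := Lt.z) (by decide) [Lt.q, Lt.y, Lt.z, Lt.q, Lt.y, Lt.z, Lt.q, Lt.y, Lt.z, Lt.q, Lt.y, Lt.z, Lt.q, Lt.y, Lt.z, Lt.q, Lt.y, Lt.z, Lt.q, Lt.y, Lt.z, Lt.q, Lt.y] (H9.TCY.hole_at hinv hr 44 1 false (by decide +kernel)) h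
theorem dp_z_228_s (hinv : ∀ x, g (inv x) = (g x)⁻¹) (hr : ∀ r ∈ rels, (r.map g).prod = 1) (hH : ∀ r ∈ subs, (r.map g).prod ∈ H)
    (j u : ℕ) (hu : u < M) (h : dp_z_228 j u = true) : Good (fa g) T MG M (cP g H) Lt.z u := by
  unfold dp_z_228 at h
  rcases brec_true h with h | h
  · exact lF_good (T := T) (x := Lt.z) (by decide) [Lt.yi, Lt.yi, Lt.z, Lt.q, Lt.yi, Lt.yi, Lt.yi, Lt.q, Lt.z, Lt.yi, Lt.yi, Lt.z, Lt.q, Lt.yi, Lt.yi, Lt.yi, Lt.q, Lt.z, Lt.yi, Lt.yi, Lt.z, Lt.q, Lt.yi, Lt.yi, Lt.yi, Lt.q] (H9.TCY.hole_at hinv hr 47 5 true (by decide +kernel)) h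
  · exact lS_good (T := T) (x := Lt.z) (by decide) hu [Lt.yi, Lt.q, Lt.z, Lt.yi, Lt.q, Lt.z, Lt.yi, Lt.q, Lt.z, Lt.yi, Lt.q, Lt.z, Lt.yi, Lt.q, Lt.z, Lt.yi, Lt.q, Lt.z, Lt.yi, Lt.q, Lt.z, Lt.yi, Lt.q] (H9.TCY.hole_at hinv hr 44 0 true (by decide +kernel)) h
theorem dp_z_229_s (hinv : ∀ x, g (inv x) = (g x)⁻¹) (hr : ∀ r ∈ rels, (r.map g).prod = 1) (hH : ∀ r ∈ subs, (r.map g).prod ∈ H)
    (j u : ℕ) (hu : u < M) (h : dp_z_229 j u = true) : Good (fa g) T MG M (cP g H) Lt.z u := by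
  unfold dp_z_229 at h
  rcases brec_true h with h | h
  · exact lS_good (T := T) (x := Lt.z) (by decide) hu [Lt.q, Lt.y, Lt.y, Lt.z, Lt.q, Lt.yi, Lt.q, Lt.z, Lt.q, Lt.y, Lt.q, Lt.z, Lt.yi, Lt.yi, Lt.q, Lt.z, Lt.yi, Lt.q, Lt.z, Lt.yi, Lt.z, Lt.y, Lt.z, Lt.q, Lt.y] (H9.TCY.hole_at hinv hr 46 17 false (by decide +kernel)) h
  · exact dp_z_228_s hinv hr hH j u hu h
theorem dp_z_230_s (hinv : ∀ x, g (inv x) = (g x)⁻¹) (hr : ∀ r ∈ rels, (r.map g).prod = 1) (hH : ∀ r ∈ subs, (r.map g).prod ∈ H)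
    (j u : ℕ) (hu : u < M) (h : dp_z_230 j u = true) : Good (fa g) T MG M (cP g H) Lt.z u := by
  unfold dp_z_230 at h
  rcases brec_true h with h | h
  · exact dp_z_227_s hinv hr hH j u hu h
  · exact dp_z_229_s hinv hr hH j u hu h
theorem dp_z_231_s (hinv : ∀ x, g (inv x) = (g x)⁻¹) (hr : ∀ r ∈ rels, (r.map g).prod = 1) (hH : ∀ r ∈ subs, (r.map g).prod ∈ H)
    (j u : ℕ) (hu : u < M) (h : dp_z_231 j u = true) : Good (fa g) T MG M (cP g H) Lt.z u := by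
  unfold dp_z_231 at h
  rcases brec_true h with h | h
  · exact dp_z_226_s hinv hr hH j u hu h
  · exact dp_z_230_s hinv hr hH j u hu h
theorem dp_z_232_s (hinv : ∀ x, g (inv x) = (g x)⁻¹) (hr : ∀ r ∈ rels, (r.map g).prod = 1) (hH : ∀ r ∈ subs, (r.map g).prod ∈ H)
    (j u : ℕ) (hu : u < M) (h : dp_z_232 j u = true) : Good (fa g) T MG M (cP g H) Lt.z u := by
  unfold dp_z_232 at h
  rcases brec_true h with h | h
  · exact lS_good (T := T) (x := Lt.z) (by decide) hu [Lt.q, Lt.yi, Lt.yi, Lt.z, Lt.q, Lt.yi, Lt.z, Lt.y, Lt.z, Lt.q, Lt.y, Lt.y, Lt.z, Lt.q, Lt.y, Lt.z, Lt.yi] (H9.TCY.hole_at hinv hr 40 6 true (by decide +kernel)) h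
  · exact lF_good (T := T) (x := Lt.z) (by decide) [Lt.q, Lt.y, Lt.q, Lt.z, Lt.yi, Lt.z, Lt.q, Lt.y, Lt.q, Lt.z, Lt.yi, Lt.z, Lt.q, Lt.y, Lt.q, Lt.z, Lt.yi] (H9.TCY.hole_at hinv hr 42 4 false (by decide +kernel)) h
theorem dp_z_233_s (hinv : ∀ x, g (inv x) = (g x)⁻¹) (hr : ∀ r ∈ rels, (r.map g).prod = 1) (hH : ∀ r ∈ subs, (r.map g).prod ∈ H)
    (j u : ℕ) (hu : u < M) (h : dp_z_233 j u = true) : Good (fa g) T MG M (cP g H) Lt.z u := by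
  unfold dp_z_233 at h
  rcases brec_true h with h | h
  · exact lS_good (T := T) (x := Lt.z) (by decide) hu [Lt.yi, Lt.z, Lt.y, Lt.q, Lt.z, Lt.yi, Lt.z, Lt.q, Lt.y, Lt.z, Lt.yi, Lt.z, Lt.q, Lt.y, Lt.q] (H9.TCY.hole_at hinv hr 28 2 true (by decide +kernel)) h
  · exact dp_z_232_s hinv hr hH j u hu h
theorem dp_z_234_s (hinv : ∀ x, g (inv x) = (g x)⁻¹) (hr : ∀ r ∈ rels, (r.map g).prod = 1) (hH : ∀ r ∈ subs, (r.map g).prod ∈ H)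
    (j u : ℕ) (hu : u < M) (h : dp_z_234 j u = true) : Good (fa g) T MG M (cP g H) Lt.z u := by
  unfold dp_z_234 at h
  rcases brec_true h with h | h
  · exact lS_good (T := T) (x := Lt.z) (by decide) hu [Lt.y, Lt.z, Lt.q, Lt.z, Lt.q, Lt.v, Lt.yi, Lt.v, Lt.q, Lt.z, Lt.q] (H9.TCY.hole_at hinv hr 13 6 true (by decide +kernel)) h
  · exact lS_good (T := T) (x := Lt.z) (by decide) hu [Lt.q, Lt.y, Lt.z, Lt.yi, Lt.z, Lt.q, Lt.yi, Lt.yi, Lt.z, Lt.q, Lt.yi, Lt.z, Lt.y, Lt.z, Lt.q, Lt.y, Lt.y] (H9.TCY.hole_at hinv hr 40 1 true (by decide +kernel)) h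
theorem dp_z_235_s (hinv : ∀ x, g (inv x) = (g x)⁻¹) (hr : ∀ r ∈ rels, (r.map g).prod = 1) (hH : ∀ r ∈ subs, (r.map g).prod ∈ H)
    (j u : ℕ) (hu : u < M) (h : dp_z_235 j u = true) : Good (fa g) T MG M (cP g H) Lt.z u := by
  unfold dp_z_235 at h
  rcases brec_true h with h | h
  · exact lS_good (T := T) (x := Lt.z) (by decide) hu [Lt.yi, Lt.q, Lt.z, Lt.yi, Lt.yi, Lt.q, Lt.z, Lt.yi, Lt.z, Lt.y, Lt.q, Lt.z, Lt.y, Lt.y, Lt.q, Lt.z, Lt.y] (H9.TCY.hole_at hinv hr 40 15 false (by decide +kernel)) h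
  · exact dp_z_234_s hinv hr hH j u hu h
theorem dp_z_236_s (hinv : ∀ x, g (inv x) = (g x)⁻¹) (hr : ∀ r ∈ rels, (r.map g).prod = 1) (hH : ∀ r ∈ subs, (r.map g).prod ∈ H)
    (j u : ℕ) (hu : u < M) (h : dp_z_236 j u = true) : Good (fa g) T MG M (cP g H) Lt.z u := by
  unfold dp_z_236 at h
  rcases brec_true h with h | h
  · exact dp_z_233_s hinv hr hH j u hu h
  · exact dp_z_235_s hinv hr hH j u hu h
theorem dp_z_237_s (hinv : ∀ x, g (inv x) = (g x)⁻¹) (hr : ∀ r ∈ rels, (r.map g).prod = 1) (hH : ∀ r ∈ subs, (r.map g).prod ∈ H)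
    (j u : ℕ) (hu : u < M) (h : dp_z_237 j u = true) : Good (fa g) T MG M (cP g H) Lt.z u := by
  unfold dp_z_237 at h
  rcases brec_true h with h | h
  · exact lF_good (T := T) (x := Lt.z) (by decide) [Lt.q, Lt.v, Lt.y, Lt.v, Lt.q, Lt.z, Lt.q, Lt.z, Lt.yi, Lt.z, Lt.q] (H9.TCY.hole_at hinv hr 13 9 false (by decide +kernel)) h
  · exact lF_good (T := T) (x := Lt.z) (by decide) [Lt.y, Lt.z, Lt.q, Lt.yi, Lt.q, Lt.z, Lt.y, Lt.z, Lt.q, Lt.yi, Lt.q, Lt.z, Lt.y, Lt.z, Lt.q, Lt.yi, Lt.q] (H9.TCY.hole_at hinv hr 42 3 true (by decide +kernel)) h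
theorem dp_z_238_s (hinv : ∀ x, g (inv x) = (g x)⁻¹) (hr : ∀ r ∈ rels, (r.map g).prod = 1) (hH : ∀ r ∈ subs, (r.map g).prod ∈ H)
    (j u : ℕ) (hu : u < M) (h : dp_z_238 j u = true) : Good (fa g) T MG M (cP g H) Lt.z u := by
  unfold dp_z_238 at h
  rcases brec_true h with h | h
  · exact lS_good (T := T) (x := Lt.z) (by decide) hu [Lt.y, Lt.y, Lt.q, Lt.z, Lt.y, Lt.z, Lt.yi, Lt.q, Lt.z, Lt.yi, Lt.yi, Lt.q, Lt.z, Lt.yi, Lt.z, Lt.y, Lt.q] (H9.TCY.hole_at hinv hr 40 9 false (by decide +kernel)) h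
  · exact dp_z_237_s hinv hr hH j u hu h
theorem dp_z_239_s (hinv : ∀ x, g (inv x) = (g x)⁻¹) (hr : ∀ r ∈ rels, (r.map g).prod = 1) (hH : ∀ r ∈ subs, (r.map g).prod ∈ H)
    (j u : ℕ) (hu : u < M) (h : dp_z_239 j u = true) : Good (fa g) T MG M (cP g H) Lt.z u := by
  unfold dp_z_239 at h
  rcases brec_true h with h | h
  · exact lS_good (T := T) (x := Lt.z) (by decide) hu [Lt.yi, Lt.yi, Lt.q, Lt.z, Lt.yi, Lt.z, Lt.y, Lt.q, Lt.z, Lt.y, Lt.y, Lt.q, Lt.z, Lt.y, Lt.z, Lt.yi, Lt.q] (H9.TCY.hole_at hinv hr 40 0 false (by decide +kernel)) h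
  · exact lF_good (T := T) (x := Lt.z) (by decide) [Lt.yi, Lt.z, Lt.q, Lt.y, Lt.q, Lt.z, Lt.yi, Lt.z, Lt.q, Lt.y, Lt.q, Lt.z, Lt.yi, Lt.z, Lt.q, Lt.y, Lt.q] (H9.TCY.hole_at hinv hr 42 2 false (by decide +kernel)) h
theorem dp_z_240_s (hinv : ∀ x, g (inv x) = (g x)⁻¹) (hr : ∀ r ∈ rels, (r.map g).prod = 1) (hH : ∀ r ∈ subs, (r.map g).prod ∈ H)
    (j u : ℕ) (hu : u < M) (h : dp_z_240 j u = true) : Good (fa g) T MG M (cP g H) Lt.z u := by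
  unfold dp_z_240 at h
  rcases brec_true h with h | h
  · exact lS_good (T := T) (x := Lt.z) (by decide) hu [Lt.y, Lt.z, Lt.q, Lt.yi, Lt.z, Lt.q, Lt.y, Lt.z, Lt.yi, Lt.q, Lt.z, Lt.y, Lt.q, Lt.z, Lt.yi] (H9.TCY.hole_at hinv hr 36 8 false (by decide +kernel)) h
  · exact dp_z_239_s hinv hr hH j u hu h
theorem dp_z_241_s (hinv : ∀ x, g (inv x) = (g x)⁻¹) (hr : ∀ r ∈ rels, (r.map g).prod = 1) (hH : ∀ r ∈ subs, (r.map g).prod ∈ H)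
    (j u : ℕ) (hu : u < M) (h : dp_z_241 j u = true) : Good (fa g) T MG M (cP g H) Lt.z u := by
  unfold dp_z_241 at h
  rcases brec_true h with h | h
  · exact dp_z_238_s hinv hr hH j u hu h
  · exact dp_z_240_s hinv hr hH j u hu h
theorem dp_z_242_s (hinv : ∀ x, g (inv x) = (g x)⁻¹) (hr : ∀ r ∈ rels, (r.map g).prod = 1) (hH : ∀ r ∈ subs, (r.map g).prod ∈ H)
    (j u : ℕ) (hu : u < M) (h : dp_z_242 j u = true) : Good (fa g) T MG M (cP g H) Lt.z u := by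
  unfold dp_z_242 at h
  rcases brec_true h with h | h
  · exact dp_z_236_s hinv hr hH j u hu h
  · exact dp_z_241_s hinv hr hH j u hu h
theorem dp_z_243_s (hinv : ∀ x, g (inv x) = (g x)⁻¹) (hr : ∀ r ∈ rels, (r.map g).prod = 1) (hH : ∀ r ∈ subs, (r.map g).prod ∈ H)
    (j u : ℕ) (hu : u < M) (h : dp_z_243 j u = true) : Good (fa g) T MG M (cP g H) Lt.z u := by
  unfold dp_z_243 at h
  rcases brec_true h with h | h
  · exact dp_z_231_s hinv hr hH j u hu h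
  · exact dp_z_242_s hinv hr hH j u hu h
theorem dp_z_244_s (hinv : ∀ x, g (inv x) = (g x)⁻¹) (hr : ∀ r ∈ rels, (r.map g).prod = 1) (hH : ∀ r ∈ subs, (r.map g).prod ∈ H)
    (j u : ℕ) (hu : u < M) (h : dp_z_244 j u = true) : Good (fa g) T MG M (cP g H) Lt.z u := by
  unfold dp_z_244 at h
  rcases brec_true h with h | h
  · exact dp_z_222_s hinv hr hH j u hu h
  · exact dp_z_243_s hinv hr hH j u hu h
theorem dp_z_245_s (hinv : ∀ x, g (inv x) = (g x)⁻¹) (hr : ∀ r ∈ rels, (r.map g).prod = 1) (hH : ∀ r ∈ subs, (r.map g).prod ∈ H)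
    (j u : ℕ) (hu : u < M) (h : dp_z_245 j u = true) : Good (fa g) T MG M (cP g H) Lt.z u := by
  unfold dp_z_245 at h
  rcases brec_true h with h | h
  · exact lS_good (T := T) (x := Lt.z) (by decide) hu [Lt.yi, Lt.q, Lt.z, Lt.y, Lt.q, Lt.z, Lt.yi, Lt.z, Lt.y, Lt.z, Lt.q, Lt.yi, Lt.z, Lt.q, Lt.y] (H9.TCY.hole_at hinv hr 36 0 false (by decide +kernel)) h
  · exact lF_good (T := T) (x := Lt.z) (by decide) [Lt.q, Lt.y, Lt.y, Lt.z, Lt.q, Lt.yi, Lt.q, Lt.z, Lt.q, Lt.y, Lt.q, Lt.z, Lt.yi, Lt.yi, Lt.q, Lt.z, Lt.yi, Lt.q, Lt.z, Lt.yi, Lt.z, Lt.y, Lt.z, Lt.q, Lt.y] (H9.TCY.hole_at hinv hr 46 17 false (by decide +kernel)) h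
theorem dp_z_246_s (hinv : ∀ x, g (inv x) = (g x)⁻¹) (hr : ∀ r ∈ rels, (r.map g).prod = 1) (hH : ∀ r ∈ subs, (r.map g).prod ∈ H)
    (j u : ℕ) (hu : u < M) (h : dp_z_246 j u = true) : Good (fa g) T MG M (cP g H) Lt.z u := by
  unfold dp_z_246 at h
  rcases brec_true h with h | h
  · exact lS_good (T := T) (x := Lt.z) (by decide) hu [Lt.v, Lt.z, Lt.v, Lt.z, Lt.q, Lt.z, Lt.v, Lt.q, Lt.v, Lt.q, Lt.v, Lt.z, Lt.q] (H9.TCY.hole_at hinv hr 20 7 false (by decide +kernel)) h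
  · exact dp_z_245_s hinv hr hH j u hu h
theorem dp_z_247_s (hinv : ∀ x, g (inv x) = (g x)⁻¹) (hr : ∀ r ∈ rels, (r.map g).prod = 1) (hH : ∀ r ∈ subs, (r.map g).prod ∈ H)
    (j u : ℕ) (hu : u < M) (h : dp_z_247 j u = true) : Good (fa g) T MG M (cP g H) Lt.z u := by
  unfold dp_z_247 at h
  rcases brec_true h with h | h
  · exact lS_good (T := T) (x := Lt.z) (by decide) hu [Lt.q, Lt.y, Lt.z, Lt.q, Lt.y, Lt.z, Lt.q, Lt.y, Lt.z, Lt.q, Lt.y, Lt.z, Lt.q, Lt.y, Lt.z, Lt.q, Lt.y, Lt.z, Lt.q, Lt.y, Lt.z, Lt.q, Lt.y] (H9.TCY.hole_at hinv hr 44 1 false (by decide +kernel)) h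
  · exact lS_good (T := T) (x := Lt.z) (by decide) hu [Lt.q, Lt.y, Lt.z, Lt.yi, Lt.q, Lt.z, Lt.y, Lt.q, Lt.z, Lt.yi, Lt.z, Lt.y, Lt.z, Lt.q, Lt.yi] (H9.TCY.hole_at hinv hr 36 13 false (by decide +kernel)) h
theorem dp_z_248_s (hinv : ∀ x, g (inv x) = (g x)⁻¹) (hr : ∀ r ∈ rels, (r.map g).prod = 1) (hH : ∀ r ∈ subs, (r.map g).prod ∈ H)
    (j u : ℕ) (hu : u < M) (h : dp_z_248 j u = true) : Good (fa g) T MG M (cP g H) Lt.z u := by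
  unfold dp_z_248 at h
  rcases brec_true h with h | h
  · exact lS_good (T := T) (x := Lt.z) (by decide) hu [Lt.yi, Lt.yi, Lt.q, Lt.y, Lt.y, Lt.z, Lt.q, Lt.z, Lt.yi, Lt.yi, Lt.q, Lt.y, Lt.y, Lt.z, Lt.q] (H9.TCY.hole_at hinv hr 33 0 false (by decide +kernel)) h
  · exact dp_z_247_s hinv hr hH j u hu h
theorem dp_z_249_s (hinv : ∀ x, g (inv x) = (g x)⁻¹) (hr : ∀ r ∈ rels, (r.map g).prod = 1) (hH : ∀ r ∈ subs, (r.map g).prod ∈ H)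
    (j u : ℕ) (hu : u < M) (h : dp_z_249 j u = true) : Good (fa g) T MG M (cP g H) Lt.z u := by
  unfold dp_z_249 at h
  rcases brec_true h with h | h
  · exact dp_z_246_s hinv hr hH j u hu h
  · exact dp_z_248_s hinv hr hH j u hu h
theorem dp_z_250_s (hinv : ∀ x, g (inv x) = (g x)⁻¹) (hr : ∀ r ∈ rels, (r.map g).prod = 1) (hH : ∀ r ∈ subs, (r.map g).prod ∈ H)
    (j u : ℕ) (hu : u < M) (h : dp_z_250 j u = true) : Good (fa g) T MG M (cP g H) Lt.z u := by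
  unfold dp_z_250 at h
  rcases brec_true h with h | h
  · exact lS_good (T := T) (x := Lt.z) (by decide) hu [Lt.q, Lt.z, Lt.y, Lt.q, Lt.y, Lt.q, Lt.y, Lt.z, Lt.q, Lt.z, Lt.y, Lt.q, Lt.y, Lt.q, Lt.y] (H9.TCY.hole_at hinv hr 35 1 true (by decide +kernel)) h
  · exact lS_good (T := T) (x := Lt.z) (by decide) hu [Lt.y, Lt.q, Lt.z, Lt.yi, Lt.z, Lt.y, Lt.z, Lt.q, Lt.yi, Lt.z, Lt.q, Lt.y, Lt.z, Lt.yi, Lt.q] (H9.TCY.hole_at hinv hr 36 3 false (by decide +kernel)) h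
theorem dp_z_251_s (hinv : ∀ x, g (inv x) = (g x)⁻¹) (hr : ∀ r ∈ rels, (r.map g).prod = 1) (hH : ∀ r ∈ subs, (r.map g).prod ∈ H)
    (j u : ℕ) (hu : u < M) (h : dp_z_251 j u = true) : Good (fa g) T MG M (cP g H) Lt.z u := by
  unfold dp_z_251 at h
  rcases brec_true h with h | h
  · exact lS_good (T := T) (x := Lt.z) (by decide) hu [Lt.y, Lt.q, Lt.z, Lt.y, Lt.y, Lt.q, Lt.z, Lt.y, Lt.z, Lt.yi, Lt.q, Lt.z, Lt.yi, Lt.yi, Lt.q, Lt.z, Lt.yi] (H9.TCY.hole_at hinv hr 40 6 false (by decide +kernel)) h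
  · exact dp_z_250_s hinv hr hH j u hu h
theorem dp_z_252_s (hinv : ∀ x, g (inv x) = (g x)⁻¹) (hr : ∀ r ∈ rels, (r.map g).prod = 1) (hH : ∀ r ∈ subs, (r.map g).prod ∈ H)
    (j u : ℕ) (hu : u < M) (h : dp_z_252 j u = true) : Good (fa g) T MG M (cP g H) Lt.z u := by
  unfold dp_z_252 at h
  rcases brec_true h with h | h
  · exact lS_good (T := T) (x := Lt.z) (by decide) hu [Lt.y, Lt.y, Lt.y, Lt.q, Lt.z, Lt.q, Lt.z, Lt.y, Lt.y, Lt.y, Lt.q, Lt.z, Lt.q] (H9.TCY.hole_at hinv hr 21 4 true (by decide +kernel)) h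
  · exact lS_good (T := T) (x := Lt.z) (by decide) hu [Lt.yi, Lt.z, Lt.q, Lt.yi, Lt.yi, Lt.z, Lt.q, Lt.yi, Lt.z, Lt.y, Lt.z, Lt.q, Lt.y, Lt.y, Lt.z, Lt.q, Lt.y] (H9.TCY.hole_at hinv hr 40 4 true (by decide +kernel)) h
theorem dp_z_253_s (hinv : ∀ x, g (inv x) = (g x)⁻¹) (hr : ∀ r ∈ rels, (r.map g).prod = 1) (hH : ∀ r ∈ subs, (r.map g).prod ∈ H)
    (j u : ℕ) (hu : u < M) (h : dp_z_253 j u = true) : Good (fa g) T MG M (cP g H) Lt.z u := by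
  unfold dp_z_253 at h
  rcases brec_true h with h | h
  · exact lS_good (T := T) (x := Lt.z) (by decide) hu [Lt.y, Lt.y, Lt.q, Lt.yi, Lt.yi, Lt.z, Lt.q, Lt.z, Lt.y, Lt.y, Lt.q, Lt.yi, Lt.yi, Lt.z, Lt.q] (H9.TCY.hole_at hinv hr 34 5 false (by decide +kernel)) h
  · exact lS_good (T := T) (x := Lt.z) (by decide) hu [Lt.q, Lt.yi, Lt.z, Lt.y, Lt.z, Lt.q, Lt.y, Lt.y, Lt.z, Lt.q, Lt.y, Lt.z, Lt.yi, Lt.z, Lt.q, Lt.yi, Lt.yi] (H9.TCY.hole_at hinv hr 40 10 true (by decide +kernel)) h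
theorem dp_z_254_s (hinv : ∀ x, g (inv x) = (g x)⁻¹) (hr : ∀ r ∈ rels, (r.map g).prod = 1) (hH : ∀ r ∈ subs, (r.map g).prod ∈ H)
    (j u : ℕ) (hu : u < M) (h : dp_z_254 j u = true) : Good (fa g) T MG M (cP g H) Lt.z u := by
  unfold dp_z_254 at h
  rcases brec_true h with h | h
  · exact dp_z_252_s hinv hr hH j u hu h
  · exact dp_z_253_s hinv hr hH j u hu h
theorem dp_z_255_s (hinv : ∀ x, g (inv x) = (g x)⁻¹) (hr : ∀ r ∈ rels, (r.map g).prod = 1) (hH : ∀ r ∈ subs, (r.map g).prod ∈ H)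
    (j u : ℕ) (hu : u < M) (h : dp_z_255 j u = true) : Good (fa g) T MG M (cP g H) Lt.z u := by
  unfold dp_z_255 at h
  rcases brec_true h with h | h
  · exact dp_z_251_s hinv hr hH j u hu h
  · exact dp_z_254_s hinv hr hH j u hu h
theorem dp_z_256_s (hinv : ∀ x, g (inv x) = (g x)⁻¹) (hr : ∀ r ∈ rels, (r.map g).prod = 1) (hH : ∀ r ∈ subs, (r.map g).prod ∈ H)
    (j u : ℕ) (hu : u < M) (h : dp_z_256 j u = true) : Good (fa g) T MG M (cP g H) Lt.z u := by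
  unfold dp_z_256 at h
  rcases brec_true h with h | h
  · exact dp_z_249_s hinv hr hH j u hu h
  · exact dp_z_255_s hinv hr hH j u hu h
theorem dp_z_257_s (hinv : ∀ x, g (inv x) = (g x)⁻¹) (hr : ∀ r ∈ rels, (r.map g).prod = 1) (hH : ∀ r ∈ subs, (r.map g).prod ∈ H)
    (j u : ℕ) (hu : u < M) (h : dp_z_257 j u = true) : Good (fa g) T MG M (cP g H) Lt.z u := by
  unfold dp_z_257 at h
  rcases brec_true h with h | h
  · exact lS_good (T := T) (x := Lt.z) (by decide) hu [Lt.yi, Lt.z, Lt.y, Lt.q, Lt.z, Lt.y, Lt.y, Lt.q, Lt.z, Lt.y, Lt.z, Lt.yi, Lt.q, Lt.z, Lt.yi, Lt.yi, Lt.q] (H9.TCY.hole_at hinv hr 40 4 false (by decide +kernel)) h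
  · exact lF_good (T := T) (x := Lt.z) (by decide) [Lt.q, Lt.yi, Lt.q, Lt.z, Lt.y, Lt.z, Lt.q, Lt.yi, Lt.q, Lt.z, Lt.y, Lt.z, Lt.q, Lt.yi, Lt.q, Lt.z, Lt.y] (H9.TCY.hole_at hinv hr 42 5 true (by decide +kernel)) h
theorem dp_z_258_s (hinv : ∀ x, g (inv x) = (g x)⁻¹) (hr : ∀ r ∈ rels, (r.map g).prod = 1) (hH : ∀ r ∈ subs, (r.map g).prod ∈ H)
    (j u : ℕ) (hu : u < M) (h : dp_z_258 j u = true) : Good (fa g) T MG M (cP g H) Lt.z u := by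
  unfold dp_z_258 at h
  rcases brec_true h with h | h
  · exact lS_good (T := T) (x := Lt.z) (by decide) hu [Lt.yi, Lt.z, Lt.q, Lt.y, Lt.z, Lt.yi, Lt.z, Lt.q, Lt.y, Lt.q, Lt.z, Lt.yi, Lt.z, Lt.y, Lt.q] (H9.TCY.hole_at hinv hr 28 7 true (by decide +kernel)) h
  · exact dp_z_257_s hinv hr hH j u hu h
theorem dp_z_259_s (hinv : ∀ x, g (inv x) = (g x)⁻¹) (hr : ∀ r ∈ rels, (r.map g).prod = 1) (hH : ∀ r ∈ subs, (r.map g).prod ∈ H)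
    (j u : ℕ) (hu : u < M) (h : dp_z_259 j u = true) : Good (fa g) T MG M (cP g H) Lt.z u := by
  unfold dp_z_259 at h
  rcases brec_true h with h | h
  · exact lF_good (T := T) (x := Lt.z) (by decide) [Lt.q, Lt.v, Lt.yi, Lt.v, Lt.q, Lt.z, Lt.q, Lt.z, Lt.y, Lt.z, Lt.q] (H9.TCY.hole_at hinv hr 13 10 true (by decide +kernel)) h
  · exact lS_good (T := T) (x := Lt.z) (by decide) hu [Lt.y, Lt.z, Lt.yi, Lt.q, Lt.z, Lt.yi, Lt.yi, Lt.q, Lt.z, Lt.yi, Lt.z, Lt.y, Lt.q, Lt.z, Lt.y, Lt.y, Lt.q] (H9.TCY.hole_at hinv hr 40 13 false (by decide +kernel)) h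
theorem dp_z_260_s (hinv : ∀ x, g (inv x) = (g x)⁻¹) (hr : ∀ r ∈ rels, (r.map g).prod = 1) (hH : ∀ r ∈ subs, (r.map g).prod ∈ H)
    (j u : ℕ) (hu : u < M) (h : dp_z_260 j u = true) : Good (fa g) T MG M (cP g H) Lt.z u := by
  unfold dp_z_260 at h
  rcases brec_true h with h | h
  · exact lS_good (T := T) (x := Lt.z) (by decide) hu [Lt.y, Lt.q, Lt.y, Lt.q, Lt.y, Lt.z, Lt.q, Lt.z, Lt.y, Lt.q, Lt.y, Lt.q, Lt.y, Lt.z, Lt.q] (H9.TCY.hole_at hinv hr 35 3 true (by decide +kernel)) h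
  · exact lF_good (T := T) (x := Lt.z) (by decide) [Lt.q, Lt.z, Lt.y, Lt.y, Lt.y, Lt.q, Lt.z, Lt.q, Lt.z, Lt.y, Lt.y, Lt.y, Lt.q] (H9.TCY.hole_at hinv hr 21 2 true (by decide +kernel)) h
theorem dp_z_261_s (hinv : ∀ x, g (inv x) = (g x)⁻¹) (hr : ∀ r ∈ rels, (r.map g).prod = 1) (hH : ∀ r ∈ subs, (r.map g).prod ∈ H)
    (j u : ℕ) (hu : u < M) (h : dp_z_261 j u = true) : Good (fa g) T MG M (cP g H) Lt.z u := by
  unfold dp_z_261 at h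
  rcases brec_true h with h | h
  · exact dp_z_259_s hinv hr hH j u hu h
  · exact dp_z_260_s hinv hr hH j u hu h
theorem dp_z_262_s (hinv : ∀ x, g (inv x) = (g x)⁻¹) (hr : ∀ r ∈ rels, (r.map g).prod = 1) (hH : ∀ r ∈ subs, (r.map g).prod ∈ H)
    (j u : ℕ) (hu : u < M) (h : dp_z_262 j u = true) : Good (fa g) T MG M (cP g H) Lt.z u := by
  unfold dp_z_262 at h
  rcases brec_true h with h | h
  · exact dp_z_258_s hinv hr hH j u hu h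
  · exact dp_z_261_s hinv hr hH j u hu h
theorem dp_z_263_s (hinv : ∀ x, g (inv x) = (g x)⁻¹) (hr : ∀ r ∈ rels, (r.map g).prod = 1) (hH : ∀ r ∈ subs, (r.map g).prod ∈ H)
    (j u : ℕ) (hu : u < M) (h : dp_z_263 j u = true) : Good (fa g) T MG M (cP g H) Lt.z u := by
  unfold dp_z_263 at h
  rcases brec_true h with h | h
  · exact lS_good (T := T) (x := Lt.z) (by decide) hu [Lt.q, Lt.z, Lt.v, Lt.z, Lt.v, Lt.z, Lt.q, Lt.z, Lt.v, Lt.q, Lt.v, Lt.q, Lt.v] (H9.TCY.hole_at hinv hr 20 5 false (by decide +kernel)) h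
  · exact lS_good (T := T) (x := Lt.z) (by decide) hu [Lt.y, Lt.z, Lt.q, Lt.y, Lt.y, Lt.z, Lt.q, Lt.y, Lt.z, Lt.yi, Lt.z, Lt.q, Lt.yi, Lt.yi, Lt.z, Lt.q, Lt.yi] (H9.TCY.hole_at hinv hr 40 13 true (by decide +kernel)) h
theorem dp_z_264_s (hinv : ∀ x, g (inv x) = (g x)⁻¹) (hr : ∀ r ∈ rels, (r.map g).prod = 1) (hH : ∀ r ∈ subs, (r.map g).prod ∈ H)
    (j u : ℕ) (hu : u < M) (h : dp_z_264 j u = true) : Good (fa g) T MG M (cP g H) Lt.z u := by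
  unfold dp_z_264 at h
  rcases brec_true h with h | h
  · exact lF_good (T := T) (x := Lt.z) (by decide) [Lt.q, Lt.yi, Lt.yi, Lt.yi, Lt.z, Lt.q, Lt.z, Lt.q, Lt.yi, Lt.yi, Lt.yi, Lt.z, Lt.q] (H9.TCY.hole_at hinv hr 21 6 false (by decide +kernel)) h
  · exact lS_good (T := T) (x := Lt.z) (by decide) hu [Lt.q, Lt.yi, Lt.q, Lt.z, Lt.y, Lt.z, Lt.q, Lt.yi, Lt.q, Lt.z, Lt.y, Lt.z, Lt.q, Lt.yi, Lt.q, Lt.z, Lt.y] (H9.TCY.hole_at hinv hr 42 5 true (by decide +kernel)) h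
theorem dp_z_265_s (hinv : ∀ x, g (inv x) = (g x)⁻¹) (hr : ∀ r ∈ rels, (r.map g).prod = 1) (hH : ∀ r ∈ subs, (r.map g).prod ∈ H)
    (j u : ℕ) (hu : u < M) (h : dp_z_265 j u = true) : Good (fa g) T MG M (cP g H) Lt.z u := by
  unfold dp_z_265 at h
  rcases brec_true h with h | h
  · exact dp_z_263_s hinv hr hH j u hu h
  · exact dp_z_264_s hinv hr hH j u hu h
theorem dp_z_266_s (hinv : ∀ x, g (inv x) = (g x)⁻¹) (hr : ∀ r ∈ rels, (r.map g).prod = 1) (hH : ∀ r ∈ subs, (r.map g).prod ∈ H)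
    (j u : ℕ) (hu : u < M) (h : dp_z_266 j u = true) : Good (fa g) T MG M (cP g H) Lt.z u := by
  unfold dp_z_266 at h
  rcases brec_true h with h | h
  · exact lS_good (T := T) (x := Lt.z) (by decide) hu [Lt.yi, Lt.z, Lt.y, Lt.z, Lt.q, Lt.yi, Lt.z, Lt.q, Lt.y, Lt.z, Lt.yi, Lt.q, Lt.z, Lt.y, Lt.q] (H9.TCY.hole_at hinv hr 36 6 false (by decide +kernel)) h
  · exact lF_good (T := T) (x := Lt.z) (by decide) [Lt.q, Lt.z, Lt.y, Lt.z, Lt.q, Lt.z, Lt.q, Lt.v, Lt.yi, Lt.v, Lt.q] (H9.TCY.hole_at hinv hr 13 4 true (by decide +kernel)) h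
theorem dp_z_267_s (hinv : ∀ x, g (inv x) = (g x)⁻¹) (hr : ∀ r ∈ rels, (r.map g).prod = 1) (hH : ∀ r ∈ subs, (r.map g).prod ∈ H)
    (j u : ℕ) (hu : u < M) (h : dp_z_267 j u = true) : Good (fa g) T MG M (cP g H) Lt.z u := by
  unfold dp_z_267 at h
  rcases brec_true h with h | h
  · exact lS_good (T := T) (x := Lt.z) (by decide) hu [Lt.y, Lt.z, Lt.q, Lt.y, Lt.z, Lt.q, Lt.y, Lt.y, Lt.z, Lt.q, Lt.yi, Lt.q, Lt.z, Lt.q, Lt.y, Lt.q, Lt.z, Lt.yi, Lt.yi, Lt.q, Lt.z, Lt.yi, Lt.q, Lt.z, Lt.yi] (H9.TCY.hole_at hinv hr 46 12 false (by decide +kernel)) h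
  · exact lS_good (T := T) (x := Lt.z) (by decide) hu [Lt.y, Lt.z, Lt.yi, Lt.q, Lt.z, Lt.y, Lt.z, Lt.q, Lt.yi, Lt.z, Lt.y, Lt.z, Lt.q, Lt.yi, Lt.q] (H9.TCY.hole_at hinv hr 28 3 false (by decide +kernel)) h
theorem dp_z_268_s (hinv : ∀ x, g (inv x) = (g x)⁻¹) (hr : ∀ r ∈ rels, (r.map g).prod = 1) (hH : ∀ r ∈ subs, (r.map g).prod ∈ H)
    (j u : ℕ) (hu : u < M) (h : dp_z_268 j u = true) : Good (fa g) T MG M (cP g H) Lt.z u := by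
  unfold dp_z_268 at h
  rcases brec_true h with h | h
  · exact lF_good (T := T) (x := Lt.z) (by decide) [Lt.y, Lt.z, Lt.q, Lt.y, Lt.z, Lt.q, Lt.y, Lt.y, Lt.z, Lt.q, Lt.yi, Lt.q, Lt.z, Lt.q, Lt.y, Lt.q, Lt.z, Lt.yi, Lt.yi, Lt.q, Lt.z, Lt.yi, Lt.q, Lt.z, Lt.yi] (H9.TCY.hole_at hinv hr 46 12 false (by decide +kernel)) h
  · exact dp_z_267_s hinv hr hH j u hu h
theorem dp_z_269_s (hinv : ∀ x, g (inv x) = (g x)⁻¹) (hr : ∀ r ∈ rels, (r.map g).prod = 1) (hH : ∀ r ∈ subs, (r.map g).prod ∈ H)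
    (j u : ℕ) (hu : u < M) (h : dp_z_269 j u = true) : Good (fa g) T MG M (cP g H) Lt.z u := by
  unfold dp_z_269 at h
  rcases brec_true h with h | h
  · exact dp_z_266_s hinv hr hH j u hu h
  · exact dp_z_268_s hinv hr hH j u hu h
theorem dp_z_270_s (hinv : ∀ x, g (inv x) = (g x)⁻¹) (hr : ∀ r ∈ rels, (r.map g).prod = 1) (hH : ∀ r ∈ subs, (r.map g).prod ∈ H)
    (j u : ℕ) (hu : u < M) (h : dp_z_270 j u = true) : Good (fa g) T MG M (cP g H) Lt.z u := by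
  unfold dp_z_270 at h
  rcases brec_true h with h | h
  · exact dp_z_265_s hinv hr hH j u hu h
  · exact dp_z_269_s hinv hr hH j u hu h
theorem dp_z_271_s (hinv : ∀ x, g (inv x) = (g x)⁻¹) (hr : ∀ r ∈ rels, (r.map g).prod = 1) (hH : ∀ r ∈ subs, (r.map g).prod ∈ H)
    (j u : ℕ) (hu : u < M) (h : dp_z_271 j u = true) : Good (fa g) T MG M (cP g H) Lt.z u := by
  unfold dp_z_271 at h
  rcases brec_true h with h | h
  · exact dp_z_262_s hinv hr hH j u hu h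
  · exact dp_z_270_s hinv hr hH j u hu h
theorem dp_z_272_s (hinv : ∀ x, g (inv x) = (g x)⁻¹) (hr : ∀ r ∈ rels, (r.map g).prod = 1) (hH : ∀ r ∈ subs, (r.map g).prod ∈ H)
    (j u : ℕ) (hu : u < M) (h : dp_z_272 j u = true) : Good (fa g) T MG M (cP g H) Lt.z u := by
  unfold dp_z_272 at h
  rcases brec_true h with h | h
  · exact dp_z_256_s hinv hr hH j u hu h
  · exact dp_z_271_s hinv hr hH j u hu h
theorem dp_z_273_s (hinv : ∀ x, g (inv x) = (g x)⁻¹) (hr : ∀ r ∈ rels, (r.map g).prod = 1) (hH : ∀ r ∈ subs, (r.map g).prod ∈ H)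
    (j u : ℕ) (hu : u < M) (h : dp_z_273 j u = true) : Good (fa g) T MG M (cP g H) Lt.z u := by
  unfold dp_z_273 at h
  rcases brec_true h with h | h
  · exact lF_good (T := T) (x := Lt.z) (by decide) [Lt.q, Lt.z, Lt.q, Lt.z, Lt.q, Lt.v, Lt.z, Lt.q, Lt.z, Lt.q, Lt.v, Lt.z, Lt.q, Lt.v] (H9.TCY.hole_at hinv hr 22 4 false (by decide +kernel)) h
  · exact lF_good (T := T) (x := Lt.z) (by decide) [Lt.yi, Lt.yi, Lt.q, Lt.z, Lt.yi, Lt.q, Lt.z, Lt.yi, Lt.z, Lt.y, Lt.z, Lt.q, Lt.y, Lt.z, Lt.q, Lt.y, Lt.y, Lt.z, Lt.q, Lt.yi, Lt.q, Lt.z, Lt.q, Lt.y, Lt.q] (H9.TCY.hole_at hinv hr 46 3 false (by decide +kernel)) h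
theorem dp_z_274_s (hinv : ∀ x, g (inv x) = (g x)⁻¹) (hr : ∀ r ∈ rels, (r.map g).prod = 1) (hH : ∀ r ∈ subs, (r.map g).prod ∈ H)
    (j u : ℕ) (hu : u < M) (h : dp_z_274 j u = true) : Good (fa g) T MG M (cP g H) Lt.z u := by
  unfold dp_z_274 at h
  rcases brec_true h with h | h
  · exact lS_good (T := T) (x := Lt.z) (by decide) hu [Lt.q, Lt.y, Lt.y, Lt.z, Lt.q, Lt.y, Lt.z, Lt.yi, Lt.z, Lt.q, Lt.yi, Lt.yi, Lt.z, Lt.q, Lt.yi, Lt.z, Lt.y] (H9.TCY.hole_at hinv hr 40 15 true (by decide +kernel)) h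
  · exact lS_good (T := T) (x := Lt.z) (by decide) hu [Lt.q, Lt.z, Lt.v, Lt.q, Lt.v, Lt.q, Lt.v, Lt.z, Lt.q, Lt.z, Lt.v, Lt.z, Lt.v] (H9.TCY.hole_at hinv hr 20 11 false (by decide +kernel)) h
theorem dp_z_275_s (hinv : ∀ x, g (inv x) = (g x)⁻¹) (hr : ∀ r ∈ rels, (r.map g).prod = 1) (hH : ∀ r ∈ subs, (r.map g).prod ∈ H)
    (j u : ℕ) (hu : u < M) (h : dp_z_275 j u = true) : Good (fa g) T MG M (cP g H) Lt.z u := by
  unfold dp_z_275 at h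
  rcases brec_true h with h | h
  · exact dp_z_273_s hinv hr hH j u hu h
  · exact dp_z_274_s hinv hr hH j u hu h
theorem dp_z_276_s (hinv : ∀ x, g (inv x) = (g x)⁻¹) (hr : ∀ r ∈ rels, (r.map g).prod = 1) (hH : ∀ r ∈ subs, (r.map g).prod ∈ H)
    (j u : ℕ) (hu : u < M) (h : dp_z_276 j u = true) : Good (fa g) T MG M (cP g H) Lt.z u := by
  unfold dp_z_276 at h
  rcases brec_true h with h | h
  · exact lS_good (T := T) (x := Lt.z) (by decide) hu [Lt.q, Lt.y, Lt.y, Lt.y, Lt.z, Lt.q, Lt.y, Lt.z, Lt.q, Lt.y, Lt.y, Lt.y, Lt.z, Lt.q, Lt.y, Lt.z, Lt.q, Lt.y, Lt.y, Lt.y, Lt.z, Lt.q, Lt.y, Lt.z, Lt.q, Lt.y, Lt.y, Lt.y, Lt.z, Lt.q, Lt.y] (H9.TCY.hole_at hinv hr 48 4 false (by decide +kernel)) h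
  · exact lS_good (T := T) (x := Lt.z) (by decide) hu [Lt.q, Lt.z, Lt.yi, Lt.q, Lt.yi, Lt.q, Lt.yi, Lt.z, Lt.q, Lt.z, Lt.yi, Lt.q, Lt.yi, Lt.q, Lt.yi] (H9.TCY.hole_at hinv hr 35 6 false (by decide +kernel)) h
theorem dp_z_277_s (hinv : ∀ x, g (inv x) = (g x)⁻¹) (hr : ∀ r ∈ rels, (r.map g).prod = 1) (hH : ∀ r ∈ subs, (r.map g).prod ∈ H)
    (j u : ℕ) (hu : u < M) (h : dp_z_277 j u = true) : Good (fa g) T MG M (cP g H) Lt.z u := by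
  unfold dp_z_277 at h
  rcases brec_true h with h | h
  · exact lF_good (T := T) (x := Lt.z) (by decide) [Lt.q, Lt.yi, Lt.z, Lt.y, Lt.q, Lt.yi, Lt.q, Lt.z, Lt.q, Lt.y, Lt.z, Lt.yi, Lt.q, Lt.y, Lt.q] (H9.TCY.hole_at hinv hr 24 5 false (by decide +kernel)) h
  · exact lF_good (T := T) (x := Lt.z) (by decide) [Lt.q, Lt.yi, Lt.q, Lt.z, Lt.q, Lt.y, Lt.q, Lt.z, Lt.yi, Lt.yi, Lt.q, Lt.z, Lt.yi, Lt.q, Lt.z, Lt.yi, Lt.z, Lt.y, Lt.z, Lt.q, Lt.y, Lt.z, Lt.q, Lt.y, Lt.y] (H9.TCY.hole_at hinv hr 46 21 false (by decide +kernel)) h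
theorem dp_z_278_s (hinv : ∀ x, g (inv x) = (g x)⁻¹) (hr : ∀ r ∈ rels, (r.map g).prod = 1) (hH : ∀ r ∈ subs, (r.map g).prod ∈ H)
    (j u : ℕ) (hu : u < M) (h : dp_z_278 j u = true) : Good (fa g) T MG M (cP g H) Lt.z u := by
  unfold dp_z_278 at h
  rcases brec_true h with h | h
  · exact lF_good (T := T) (x := Lt.z) (by decide) [Lt.q, Lt.z, Lt.yi, Lt.z, Lt.q, Lt.z, Lt.q, Lt.v, Lt.y, Lt.v, Lt.q] (H9.TCY.hole_at hinv hr 13 3 false (by decide +kernel)) h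
  · exact dp_z_277_s hinv hr hH j u hu h
theorem dp_z_279_s (hinv : ∀ x, g (inv x) = (g x)⁻¹) (hr : ∀ r ∈ rels, (r.map g).prod = 1) (hH : ∀ r ∈ subs, (r.map g).prod ∈ H)
    (j u : ℕ) (hu : u < M) (h : dp_z_279 j u = true) : Good (fa g) T MG M (cP g H) Lt.z u := by
  unfold dp_z_279 at h
  rcases brec_true h with h | h
  · exact dp_z_276_s hinv hr hH j u hu h
  · exact dp_z_278_s hinv hr hH j u hu h
theorem dp_z_280_s (hinv : ∀ x, g (inv x) = (g x)⁻¹) (hr : ∀ r ∈ rels, (r.map g).prod = 1) (hH : ∀ r ∈ subs, (r.map g).prod ∈ H)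
    (j u : ℕ) (hu : u < M) (h : dp_z_280 j u = true) : Good (fa g) T MG M (cP g H) Lt.z u := by
  unfold dp_z_280 at h
  rcases brec_true h with h | h
  · exact dp_z_275_s hinv hr hH j u hu h
  · exact dp_z_279_s hinv hr hH j u hu h
theorem dp_z_281_s (hinv : ∀ x, g (inv x) = (g x)⁻¹) (hr : ∀ r ∈ rels, (r.map g).prod = 1) (hH : ∀ r ∈ subs, (r.map g).prod ∈ H)
    (j u : ℕ) (hu : u < M) (h : dp_z_281 j u = true) : Good (fa g) T MG M (cP g H) Lt.z u := by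
  unfold dp_z_281 at h
  rcases brec_true h with h | h
  · exact lF_good (T := T) (x := Lt.z) (by decide) [Lt.q, Lt.y, Lt.z, Lt.yi, Lt.q, Lt.y, Lt.q, Lt.z, Lt.q, Lt.yi, Lt.z, Lt.y, Lt.q, Lt.yi, Lt.q] (H9.TCY.hole_at hinv hr 24 13 false (by decide +kernel)) h
  · exact lS_good (T := T) (x := Lt.z) (by decide) hu [Lt.yi, Lt.z, Lt.q, Lt.y, Lt.q, Lt.z, Lt.yi, Lt.z, Lt.q, Lt.y, Lt.q, Lt.z, Lt.yi, Lt.z, Lt.q, Lt.y, Lt.q] (H9.TCY.hole_at hinv hr 42 2 false (by decide +kernel)) h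
theorem dp_z_282_s (hinv : ∀ x, g (inv x) = (g x)⁻¹) (hr : ∀ r ∈ rels, (r.map g).prod = 1) (hH : ∀ r ∈ subs, (r.map g).prod ∈ H)
    (j u : ℕ) (hu : u < M) (h : dp_z_282 j u = true) : Good (fa g) T MG M (cP g H) Lt.z u := by
  unfold dp_z_282 at h
  rcases brec_true h with h | h
  · exact lF_good (T := T) (x := Lt.z) (by decide) [Lt.v, Lt.q, Lt.z, Lt.q, Lt.z, Lt.v, Lt.q, Lt.z, Lt.q, Lt.z, Lt.q, Lt.z, Lt.v, Lt.q] (H9.TCY.hole_at hinv hr 22 0 true (by decide +kernel)) h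
  · exact lF_good (T := T) (x := Lt.z) (by decide) [Lt.y, Lt.z, Lt.q, Lt.z, Lt.yi, Lt.z, Lt.q, Lt.z, Lt.y, Lt.z, Lt.q, Lt.z, Lt.yi, Lt.z, Lt.q] (H9.TCY.hole_at hinv hr 25 4 false (by decide +kernel)) h
theorem dp_z_283_s (hinv : ∀ x, g (inv x) = (g x)⁻¹) (hr : ∀ r ∈ rels, (r.map g).prod = 1) (hH : ∀ r ∈ subs, (r.map g).prod ∈ H)
    (j u : ℕ) (hu : u < M) (h : dp_z_283 j u = true) : Good (fa g) T MG M (cP g H) Lt.z u := by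
  unfold dp_z_283 at h
  rcases brec_true h with h | h
  · exact lS_good (T := T) (x := Lt.z) (by decide) hu [Lt.q, Lt.yi, Lt.z, Lt.q, Lt.y, Lt.z, Lt.yi, Lt.q, Lt.z, Lt.y, Lt.q, Lt.z, Lt.yi, Lt.z, Lt.y] (H9.TCY.hole_at hinv hr 36 10 false (by decide +kernel)) h
  · exact dp_z_282_s hinv hr hH j u hu h
theorem dp_z_284_s (hinv : ∀ x, g (inv x) = (g x)⁻¹) (hr : ∀ r ∈ rels, (r.map g).prod = 1) (hH : ∀ r ∈ subs, (r.map g).prod ∈ H)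
    (j u : ℕ) (hu : u < M) (h : dp_z_284 j u = true) : Good (fa g) T MG M (cP g H) Lt.z u := by
  unfold dp_z_284 at h
  rcases brec_true h with h | h
  · exact dp_z_281_s hinv hr hH j u hu h
  · exact dp_z_283_s hinv hr hH j u hu h
theorem dp_z_285_s (hinv : ∀ x, g (inv x) = (g x)⁻¹) (hr : ∀ r ∈ rels, (r.map g).prod = 1) (hH : ∀ r ∈ subs, (r.map g).prod ∈ H)
    (j u : ℕ) (hu : u < M) (h : dp_z_285 j u = true) : Good (fa g) T MG M (cP g H) Lt.z u := by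
  unfold dp_z_285 at h
  rcases brec_true h with h | h
  · exact lS_good (T := T) (x := Lt.z) (by decide) hu [Lt.v, Lt.q, Lt.v, Lt.q, Lt.v, Lt.z, Lt.q, Lt.z, Lt.v, Lt.z, Lt.v, Lt.z, Lt.q] (H9.TCY.hole_at hinv hr 20 13 false (by decide +kernel)) h
  · exact lS_good (T := T) (x := Lt.z) (by decide) hu [Lt.y, Lt.z, Lt.q, Lt.yi, Lt.q, Lt.z, Lt.y, Lt.z, Lt.q, Lt.yi, Lt.q, Lt.z, Lt.y, Lt.z, Lt.q, Lt.yi, Lt.q] (H9.TCY.hole_at hinv hr 42 3 true (by decide +kernel)) h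
theorem dp_z_286_s (hinv : ∀ x, g (inv x) = (g x)⁻¹) (hr : ∀ r ∈ rels, (r.map g).prod = 1) (hH : ∀ r ∈ subs, (r.map g).prod ∈ H)
    (j u : ℕ) (hu : u < M) (h : dp_z_286 j u = true) : Good (fa g) T MG M (cP g H) Lt.z u := by
  unfold dp_z_286 at h
  rcases brec_true h with h | h
  · exact lS_good (T := T) (x := Lt.z) (by decide) hu [Lt.yi, Lt.q, Lt.yi, Lt.q, Lt.yi, Lt.z, Lt.q, Lt.z, Lt.yi, Lt.q, Lt.yi, Lt.q, Lt.yi, Lt.z, Lt.q] (H9.TCY.hole_at hinv hr 35 0 false (by decide +kernel)) h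
  · exact dp_z_285_s hinv hr hH j u hu h
theorem dp_z_287_s (hinv : ∀ x, g (inv x) = (g x)⁻¹) (hr : ∀ r ∈ rels, (r.map g).prod = 1) (hH : ∀ r ∈ subs, (r.map g).prod ∈ H)
    (j u : ℕ) (hu : u < M) (h : dp_z_287 j u = true) : Good (fa g) T MG M (cP g H) Lt.z u := by
  unfold dp_z_287 at h
  rcases brec_true h with h | h
  · exact lS_good (T := T) (x := Lt.z) (by decide) hu [Lt.yi, Lt.q, Lt.z, Lt.yi, Lt.yi, Lt.yi, Lt.q, Lt.z, Lt.yi, Lt.q, Lt.z, Lt.yi, Lt.yi, Lt.yi, Lt.q, Lt.z, Lt.yi, Lt.q, Lt.z, Lt.yi, Lt.yi, Lt.yi, Lt.q, Lt.z, Lt.yi, Lt.q, Lt.z, Lt.yi, Lt.yi, Lt.yi, Lt.q] (H9.TCY.hole_at hinv hr 48 5 true (by decide +kernel)) h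
  · exact lS_good (T := T) (x := Lt.z) (by decide) hu [Lt.yi, Lt.yi, Lt.yi, Lt.q, Lt.z, Lt.yi, Lt.q, Lt.z, Lt.yi, Lt.yi, Lt.yi, Lt.q, Lt.z, Lt.yi, Lt.q, Lt.z, Lt.yi, Lt.yi, Lt.yi, Lt.q, Lt.z, Lt.yi, Lt.q, Lt.z, Lt.yi, Lt.yi, Lt.yi, Lt.q, Lt.z, Lt.yi, Lt.q] (H9.TCY.hole_at hinv hr 48 0 true (by decide +kernel)) h
theorem dp_z_288_s (hinv : ∀ x, g (inv x) = (g x)⁻¹) (hr : ∀ r ∈ rels, (r.map g).prod = 1) (hH : ∀ r ∈ subs, (r.map g).prod ∈ H)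
    (j u : ℕ) (hu : u < M) (h : dp_z_288 j u = true) : Good (fa g) T MG M (cP g H) Lt.z u := by
  unfold dp_z_288 at h
  rcases brec_true h with h | h
  · exact lF_good (T := T) (x := Lt.z) (by decide) [Lt.q, Lt.z, Lt.yi, Lt.z, Lt.q, Lt.z, Lt.y, Lt.z, Lt.q, Lt.z, Lt.yi, Lt.z, Lt.q, Lt.z, Lt.y] (H9.TCY.hole_at hinv hr 25 6 false (by decide +kernel)) h
  · exact dp_z_287_s hinv hr hH j u hu h
theorem dp_z_289_s (hinv : ∀ x, g (inv x) = (g x)⁻¹) (hr : ∀ r ∈ rels, (r.map g).prod = 1) (hH : ∀ r ∈ subs, (r.map g).prod ∈ H)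
    (j u : ℕ) (hu : u < M) (h : dp_z_289 j u = true) : Good (fa g) T MG M (cP g H) Lt.z u := by
  unfold dp_z_289 at h
  rcases brec_true h with h | h
  · exact dp_z_286_s hinv hr hH j u hu h
  · exact dp_z_288_s hinv hr hH j u hu h
theorem dp_z_290_s (hinv : ∀ x, g (inv x) = (g x)⁻¹) (hr : ∀ r ∈ rels, (r.map g).prod = 1) (hH : ∀ r ∈ subs, (r.map g).prod ∈ H)
    (j u : ℕ) (hu : u < M) (h : dp_z_290 j u = true) : Good (fa g) T MG M (cP g H) Lt.z u := by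
  unfold dp_z_290 at h
  rcases brec_true h with h | h
  · exact dp_z_284_s hinv hr hH j u hu h
  · exact dp_z_289_s hinv hr hH j u hu h
theorem dp_z_291_s (hinv : ∀ x, g (inv x) = (g x)⁻¹) (hr : ∀ r ∈ rels, (r.map g).prod = 1) (hH : ∀ r ∈ subs, (r.map g).prod ∈ H)
    (j u : ℕ) (hu : u < M) (h : dp_z_291 j u = true) : Good (fa g) T MG M (cP g H) Lt.z u := by
  unfold dp_z_291 at h
  rcases brec_true h with h | h
  · exact dp_z_280_s hinv hr hH j u hu h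
  · exact dp_z_290_s hinv hr hH j u hu h
theorem dp_z_292_s (hinv : ∀ x, g (inv x) = (g x)⁻¹) (hr : ∀ r ∈ rels, (r.map g).prod = 1) (hH : ∀ r ∈ subs, (r.map g).prod ∈ H)
    (j u : ℕ) (hu : u < M) (h : dp_z_292 j u = true) : Good (fa g) T MG M (cP g H) Lt.z u := by
  unfold dp_z_292 at h
  rcases brec_true h with h | h
  · exact lS_good (T := T) (x := Lt.z) (by decide) hu [Lt.yi, Lt.yi, Lt.q, Lt.z, Lt.yi, Lt.q, Lt.z, Lt.yi, Lt.z, Lt.y, Lt.z, Lt.q, Lt.y, Lt.z, Lt.q, Lt.y, Lt.y, Lt.z, Lt.q, Lt.yi, Lt.q, Lt.z, Lt.q, Lt.y, Lt.q] (H9.TCY.hole_at hinv hr 46 3 false (by decide +kernel)) h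
  · exact lS_good (T := T) (x := Lt.z) (by decide) hu [Lt.q, Lt.y, Lt.z, Lt.q, Lt.y, Lt.y, Lt.y, Lt.z, Lt.q, Lt.y, Lt.z, Lt.q, Lt.y, Lt.y, Lt.y, Lt.z, Lt.q, Lt.y, Lt.z, Lt.q, Lt.y, Lt.y, Lt.y, Lt.z, Lt.q, Lt.y, Lt.z, Lt.q, Lt.y, Lt.y, Lt.y] (H9.TCY.hole_at hinv hr 48 1 false (by decide +kernel)) h
theorem dp_z_293_s (hinv : ∀ x, g (inv x) = (g x)⁻¹) (hr : ∀ r ∈ rels, (r.map g).prod = 1) (hH : ∀ r ∈ subs, (r.map g).prod ∈ H)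
    (j u : ℕ) (hu : u < M) (h : dp_z_293 j u = true) : Good (fa g) T MG M (cP g H) Lt.z u := by
  unfold dp_z_293 at h
  rcases brec_true h with h | h
  · exact lF_good (T := T) (x := Lt.z) (by decide) [Lt.v, Lt.q, Lt.z, Lt.v, Lt.q, Lt.z, Lt.q, Lt.z, Lt.v, Lt.q, Lt.z, Lt.q, Lt.z, Lt.q] (H9.TCY.hole_at hinv hr 22 12 true (by decide +kernel)) h
  · exact dp_z_292_s hinv hr hH j u hu h
theorem dp_z_294_s (hinv : ∀ x, g (inv x) = (g x)⁻¹) (hr : ∀ r ∈ rels, (r.map g).prod = 1) (hH : ∀ r ∈ subs, (r.map g).prod ∈ H)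
    (j u : ℕ) (hu : u < M) (h : dp_z_294 j u = true) : Good (fa g) T MG M (cP g H) Lt.z u := by
  unfold dp_z_294 at h
  rcases brec_true h with h | h
  · exact lF_good (T := T) (x := Lt.z) (by decide) [Lt.yi, Lt.z, Lt.q, Lt.z, Lt.y, Lt.z, Lt.q, Lt.z, Lt.yi, Lt.z, Lt.q, Lt.z, Lt.y, Lt.z, Lt.q] (H9.TCY.hole_at hinv hr 25 0 false (by decide +kernel)) h
  · exact lF_good (T := T) (x := Lt.z) (by decide) [Lt.q, Lt.y, Lt.y, Lt.y, Lt.z, Lt.q, Lt.y, Lt.z, Lt.q, Lt.y, Lt.y, Lt.y, Lt.z, Lt.q, Lt.y, Lt.z, Lt.q, Lt.y, Lt.y, Lt.y, Lt.z, Lt.q, Lt.y, Lt.z, Lt.q, Lt.y, Lt.y, Lt.y, Lt.z, Lt.q, Lt.y] (H9.TCY.hole_at hinv hr 48 4 false (by decide +kernel)) h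
theorem dp_z_295_s (hinv : ∀ x, g (inv x) = (g x)⁻¹) (hr : ∀ r ∈ rels, (r.map g).prod = 1) (hH : ∀ r ∈ subs, (r.map g).prod ∈ H)
    (j u : ℕ) (hu : u < M) (h : dp_z_295 j u = true) : Good (fa g) T MG M (cP g H) Lt.z u := by
  unfold dp_z_295 at h
  rcases brec_true h with h | h
  · exact lF_good (T := T) (x := Lt.z) (by decide) [Lt.yi, Lt.yi, Lt.yi, Lt.q, Lt.z, Lt.yi, Lt.q, Lt.z, Lt.yi, Lt.yi, Lt.yi, Lt.q, Lt.z, Lt.yi, Lt.q, Lt.z, Lt.yi, Lt.yi, Lt.yi, Lt.q, Lt.z, Lt.yi, Lt.q, Lt.z, Lt.yi, Lt.yi, Lt.yi, Lt.q, Lt.z, Lt.yi, Lt.q] (H9.TCY.hole_at hinv hr 48 0 true (by decide +kernel)) h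
  · exact lF_good (T := T) (x := Lt.z) (by decide) [Lt.q, Lt.y, Lt.z, Lt.q, Lt.y, Lt.y, Lt.z, Lt.q, Lt.yi, Lt.q, Lt.z, Lt.q, Lt.y, Lt.q, Lt.z, Lt.yi, Lt.yi, Lt.q, Lt.z, Lt.yi, Lt.q, Lt.z, Lt.yi, Lt.z, Lt.y] (H9.TCY.hole_at hinv hr 46 14 false (by decide +kernel)) h
theorem dp_z_296_s (hinv : ∀ x, g (inv x) = (g x)⁻¹) (hr : ∀ r ∈ rels, (r.map g).prod = 1) (hH : ∀ r ∈ subs, (r.map g).prod ∈ H)
    (j u : ℕ) (hu : u < M) (h : dp_z_296 j u = true) : Good (fa g) T MG M (cP g H) Lt.z u := by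
  unfold dp_z_296 at h
  rcases brec_true h with h | h
  · exact dp_z_294_s hinv hr hH j u hu h
  · exact dp_z_295_s hinv hr hH j u hu h
theorem dp_z_297_s (hinv : ∀ x, g (inv x) = (g x)⁻¹) (hr : ∀ r ∈ rels, (r.map g).prod = 1) (hH : ∀ r ∈ subs, (r.map g).prod ∈ H)
    (j u : ℕ) (hu : u < M) (h : dp_z_297 j u = true) : Good (fa g) T MG M (cP g H) Lt.z u := by
  unfold dp_z_297 at h
  rcases brec_true h with h | h
  · exact dp_z_293_s hinv hr hH j u hu h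
  · exact dp_z_296_s hinv hr hH j u hu h
theorem dp_z_298_s (hinv : ∀ x, g (inv x) = (g x)⁻¹) (hr : ∀ r ∈ rels, (r.map g).prod = 1) (hH : ∀ r ∈ subs, (r.map g).prod ∈ H)
    (j u : ℕ) (hu : u < M) (h : dp_z_298 j u = true) : Good (fa g) T MG M (cP g H) Lt.z u := by
  unfold dp_z_298 at h
  rcases brec_true h with h | h
  · exact lF_good (T := T) (x := Lt.z) (by decide) [Lt.yi, Lt.z, Lt.y, Lt.z, Lt.q, Lt.y, Lt.z, Lt.q, Lt.y, Lt.y, Lt.z, Lt.q, Lt.yi, Lt.q, Lt.z, Lt.q, Lt.y, Lt.q, Lt.z, Lt.yi, Lt.yi, Lt.q, Lt.z, Lt.yi, Lt.q] (H9.TCY.hole_at hinv hr 46 10 false (by decide +kernel)) h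
  · exact lS_good (T := T) (x := Lt.z) (by decide) hu [Lt.q, Lt.y, Lt.q, Lt.z, Lt.yi, Lt.z, Lt.q, Lt.y, Lt.q, Lt.z, Lt.yi, Lt.z, Lt.q, Lt.y, Lt.q, Lt.z, Lt.yi] (H9.TCY.hole_at hinv hr 42 4 false (by decide +kernel)) h
theorem dp_z_299_s (hinv : ∀ x, g (inv x) = (g x)⁻¹) (hr : ∀ r ∈ rels, (r.map g).prod = 1) (hH : ∀ r ∈ subs, (r.map g).prod ∈ H)
    (j u : ℕ) (hu : u < M) (h : dp_z_299 j u = true) : Good (fa g) T MG M (cP g H) Lt.z u := by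
  unfold dp_z_299 at h
  rcases brec_true h with h | h
  · exact lS_good (T := T) (x := Lt.z) (by decide) hu [Lt.yi, Lt.z, Lt.y, Lt.z, Lt.q, Lt.y, Lt.z, Lt.q, Lt.y, Lt.y, Lt.z, Lt.q, Lt.yi, Lt.q, Lt.z, Lt.q, Lt.y, Lt.q, Lt.z, Lt.yi, Lt.yi, Lt.q, Lt.z, Lt.yi, Lt.q] (H9.TCY.hole_at hinv hr 46 10 false (by decide +kernel)) h
  · exact lF_good (T := T) (x := Lt.z) (by decide) [Lt.q, Lt.yi, Lt.q, Lt.y, Lt.z, Lt.yi, Lt.q, Lt.z, Lt.q, Lt.y, Lt.q, Lt.yi, Lt.z, Lt.y, Lt.q] (H9.TCY.hole_at hinv hr 24 12 true (by decide +kernel)) h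
theorem dp_z_300_s (hinv : ∀ x, g (inv x) = (g x)⁻¹) (hr : ∀ r ∈ rels, (r.map g).prod = 1) (hH : ∀ r ∈ subs, (r.map g).prod ∈ H)
    (j u : ℕ) (hu : u < M) (h : dp_z_300 j u = true) : Good (fa g) T MG M (cP g H) Lt.z u := by
  unfold dp_z_300 at h
  rcases brec_true h with h | h
  · exact dp_z_298_s hinv hr hH j u hu h
  · exact dp_z_299_s hinv hr hH j u hu h
theorem dp_z_301_s (hinv : ∀ x, g (inv x) = (g x)⁻¹) (hr : ∀ r ∈ rels, (r.map g).prod = 1) (hH : ∀ r ∈ subs, (r.map g).prod ∈ H)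
    (j u : ℕ) (hu : u < M) (h : dp_z_301 j u = true) : Good (fa g) T MG M (cP g H) Lt.z u := by
  unfold dp_z_301 at h
  rcases brec_true h with h | h
  · exact lS_good (T := T) (x := Lt.z) (by decide) hu [Lt.v, Lt.q, Lt.z, Lt.q, Lt.z, Lt.v, Lt.q, Lt.z, Lt.q, Lt.z, Lt.q, Lt.z, Lt.v, Lt.q] (H9.TCY.hole_at hinv hr 22 0 true (by decide +kernel)) h
  · exact lF_good (T := T) (x := Lt.z) (by decide) [Lt.yi, Lt.q, Lt.z, Lt.yi, Lt.yi, Lt.yi, Lt.q, Lt.z, Lt.yi, Lt.q, Lt.z, Lt.yi, Lt.yi, Lt.yi, Lt.q, Lt.z, Lt.yi, Lt.q, Lt.z, Lt.yi, Lt.yi, Lt.yi, Lt.q, Lt.z, Lt.yi, Lt.q, Lt.z, Lt.yi, Lt.yi, Lt.yi, Lt.q] (H9.TCY.hole_at hinv hr 48 5 true (by decide +kernel)) h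
theorem dp_z_302_s (hinv : ∀ x, g (inv x) = (g x)⁻¹) (hr : ∀ r ∈ rels, (r.map g).prod = 1) (hH : ∀ r ∈ subs, (r.map g).prod ∈ H)
    (j u : ℕ) (hu : u < M) (h : dp_z_302 j u = true) : Good (fa g) T MG M (cP g H) Lt.z u := by
  unfold dp_z_302 at h
  rcases brec_true h with h | h
  · exact lS_good (T := T) (x := Lt.z) (by decide) hu [Lt.q, Lt.z, Lt.yi, Lt.z, Lt.q, Lt.z, Lt.y, Lt.z, Lt.q, Lt.z, Lt.yi, Lt.z, Lt.q, Lt.z, Lt.y] (H9.TCY.hole_at hinv hr 25 6 false (by decide +kernel)) h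
  · exact lF_good (T := T) (x := Lt.z) (by decide) [Lt.q, Lt.z, Lt.y, Lt.z, Lt.q, Lt.z, Lt.yi, Lt.z, Lt.q, Lt.z, Lt.y, Lt.z, Lt.q, Lt.z, Lt.yi] (H9.TCY.hole_at hinv hr 25 2 false (by decide +kernel)) h
theorem dp_z_303_s (hinv : ∀ x, g (inv x) = (g x)⁻¹) (hr : ∀ r ∈ rels, (r.map g).prod = 1) (hH : ∀ r ∈ subs, (r.map g).prod ∈ H)
    (j u : ℕ) (hu : u < M) (h : dp_z_303 j u = true) : Good (fa g) T MG M (cP g H) Lt.z u := by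
  unfold dp_z_303 at h
  rcases brec_true h with h | h
  · exact dp_z_301_s hinv hr hH j u hu h
  · exact dp_z_302_s hinv hr hH j u hu h
theorem dp_z_304_s (hinv : ∀ x, g (inv x) = (g x)⁻¹) (hr : ∀ r ∈ rels, (r.map g).prod = 1) (hH : ∀ r ∈ subs, (r.map g).prod ∈ H)
    (j u : ℕ) (hu : u < M) (h : dp_z_304 j u = true) : Good (fa g) T MG M (cP g H) Lt.z u := by
  unfold dp_z_304 at h
  rcases brec_true h with h | h
  · exact dp_z_300_s hinv hr hH j u hu h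
  · exact dp_z_303_s hinv hr hH j u hu h
theorem dp_z_305_s (hinv : ∀ x, g (inv x) = (g x)⁻¹) (hr : ∀ r ∈ rels, (r.map g).prod = 1) (hH : ∀ r ∈ subs, (r.map g).prod ∈ H)
    (j u : ℕ) (hu : u < M) (h : dp_z_305 j u = true) : Good (fa g) T MG M (cP g H) Lt.z u := by
  unfold dp_z_305 at h
  rcases brec_true h with h | h
  · exact dp_z_297_s hinv hr hH j u hu h
  · exact dp_z_304_s hinv hr hH j u hu h
theorem dp_z_306_s (hinv : ∀ x, g (inv x) = (g x)⁻¹) (hr : ∀ r ∈ rels, (r.map g).prod = 1) (hH : ∀ r ∈ subs, (r.map g).prod ∈ H)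
    (j u : ℕ) (hu : u < M) (h : dp_z_306 j u = true) : Good (fa g) T MG M (cP g H) Lt.z u := by
  unfold dp_z_306 at h
  rcases brec_true h with h | h
  · exact lS_good (T := T) (x := Lt.z) (by decide) hu [Lt.q, Lt.yi, Lt.q, Lt.z, Lt.q, Lt.y, Lt.q, Lt.z, Lt.yi, Lt.yi, Lt.q, Lt.z, Lt.yi, Lt.q, Lt.z, Lt.yi, Lt.z, Lt.y, Lt.z, Lt.q, Lt.y, Lt.z, Lt.q, Lt.y, Lt.y] (H9.TCY.hole_at hinv hr 46 21 false (by decide +kernel)) h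
  · exact lS_good (T := T) (x := Lt.z) (by decide) hu [Lt.q, Lt.z, Lt.q, Lt.z, Lt.q, Lt.v, Lt.z, Lt.q, Lt.z, Lt.q, Lt.v, Lt.z, Lt.q, Lt.v] (H9.TCY.hole_at hinv hr 22 4 false (by decide +kernel)) h
theorem dp_z_307_s (hinv : ∀ x, g (inv x) = (g x)⁻¹) (hr : ∀ r ∈ rels, (r.map g).prod = 1) (hH : ∀ r ∈ subs, (r.map g).prod ∈ H)
    (j u : ℕ) (hu : u < M) (h : dp_z_307 j u = true) : Good (fa g) T MG M (cP g H) Lt.z u := by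
  unfold dp_z_307 at h
  rcases brec_true h with h | h
  · exact lS_good (T := T) (x := Lt.z) (by decide) hu [Lt.q, Lt.y, Lt.z, Lt.q, Lt.y, Lt.y, Lt.z, Lt.q, Lt.yi, Lt.q, Lt.z, Lt.q, Lt.y, Lt.q, Lt.z, Lt.yi, Lt.yi, Lt.q, Lt.z, Lt.yi, Lt.q, Lt.z, Lt.yi, Lt.z, Lt.y] (H9.TCY.hole_at hinv hr 46 14 false (by decide +kernel)) h
  · exact lS_good (T := T) (x := Lt.z) (by decide) hu [Lt.q, Lt.y, Lt.z, Lt.yi, Lt.q, Lt.y, Lt.q, Lt.z, Lt.q, Lt.yi, Lt.z, Lt.y, Lt.q, Lt.yi, Lt.q] (H9.TCY.hole_at hinv hr 24 13 false (by decide +kernel)) h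
theorem dp_z_308_s (hinv : ∀ x, g (inv x) = (g x)⁻¹) (hr : ∀ r ∈ rels, (r.map g).prod = 1) (hH : ∀ r ∈ subs, (r.map g).prod ∈ H)
    (j u : ℕ) (hu : u < M) (h : dp_z_308 j u = true) : Good (fa g) T MG M (cP g H) Lt.z u := by
  unfold dp_z_308 at h
  rcases brec_true h with h | h
  · exact lF_good (T := T) (x := Lt.z) (by decide) [Lt.q, Lt.y, Lt.q, Lt.yi, Lt.z, Lt.y, Lt.q, Lt.z, Lt.q, Lt.yi, Lt.q, Lt.y, Lt.z, Lt.yi, Lt.q] (H9.TCY.hole_at hinv hr 24 4 true (by decide +kernel)) h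
  · exact dp_z_307_s hinv hr hH j u hu h
theorem dp_z_309_s (hinv : ∀ x, g (inv x) = (g x)⁻¹) (hr : ∀ r ∈ rels, (r.map g).prod = 1) (hH : ∀ r ∈ subs, (r.map g).prod ∈ H)
    (j u : ℕ) (hu : u < M) (h : dp_z_309 j u = true) : Good (fa g) T MG M (cP g H) Lt.z u := by
  unfold dp_z_309 at h
  rcases brec_true h with h | h
  · exact dp_z_306_s hinv hr hH j u hu h
  · exact dp_z_308_s hinv hr hH j u hu h
theorem dp_z_310_s (hinv : ∀ x, g (inv x) = (g x)⁻¹) (hr : ∀ r ∈ rels, (r.map g).prod = 1) (hH : ∀ r ∈ subs, (r.map g).prod ∈ H)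
    (j u : ℕ) (hu : u < M) (h : dp_z_310 j u = true) : Good (fa g) T MG M (cP g H) Lt.z u := by
  unfold dp_z_310 at h
  rcases brec_true h with h | h
  · exact lS_good (T := T) (x := Lt.z) (by decide) hu [Lt.q, Lt.v, Lt.z, Lt.q, Lt.z, Lt.q, Lt.z, Lt.q, Lt.v, Lt.z, Lt.q, Lt.z, Lt.q, Lt.v] (H9.TCY.hole_at hinv hr 22 1 false (by decide +kernel)) h
  · exact lS_good (T := T) (x := Lt.z) (by decide) hu [Lt.q, Lt.z, Lt.y, Lt.y, Lt.y, Lt.q, Lt.z, Lt.q, Lt.z, Lt.y, Lt.y, Lt.y, Lt.q] (H9.TCY.hole_at hinv hr 21 2 true (by decide +kernel)) h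
theorem dp_z_311_s (hinv : ∀ x, g (inv x) = (g x)⁻¹) (hr : ∀ r ∈ rels, (r.map g).prod = 1) (hH : ∀ r ∈ subs, (r.map g).prod ∈ H)
    (j u : ℕ) (hu : u < M) (h : dp_z_311 j u = true) : Good (fa g) T MG M (cP g H) Lt.z u := by
  unfold dp_z_311 at h
  rcases brec_true h with h | h
  · exact lF_good (T := T) (x := Lt.z) (by decide) [Lt.q, Lt.y, Lt.z, Lt.q, Lt.y, Lt.y, Lt.y, Lt.z, Lt.q, Lt.y, Lt.z, Lt.q, Lt.y, Lt.y, Lt.y, Lt.z, Lt.q, Lt.y, Lt.z, Lt.q, Lt.y, Lt.y, Lt.y, Lt.z, Lt.q, Lt.y, Lt.z, Lt.q, Lt.y, Lt.y, Lt.y] (H9.TCY.hole_at hinv hr 48 1 false (by decide +kernel)) h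
  · exact dp_z_310_s hinv hr hH j u hu h
theorem dp_z_312_s (hinv : ∀ x, g (inv x) = (g x)⁻¹) (hr : ∀ r ∈ rels, (r.map g).prod = 1) (hH : ∀ r ∈ subs, (r.map g).prod ∈ H)
    (j u : ℕ) (hu : u < M) (h : dp_z_312 j u = true) : Good (fa g) T MG M (cP g H) Lt.z u := by
  unfold dp_z_312 at h
  rcases brec_true h with h | h
  · exact lS_good (T := T) (x := Lt.z) (by decide) hu [Lt.q, Lt.z, Lt.y, Lt.z, Lt.q, Lt.z, Lt.yi, Lt.z, Lt.q, Lt.z, Lt.y, Lt.z, Lt.q, Lt.z, Lt.yi] (H9.TCY.hole_at hinv hr 25 2 false (by decide +kernel)) h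
  · exact lS_good (T := T) (x := Lt.z) (by decide) hu [Lt.q, Lt.yi, Lt.yi, Lt.yi, Lt.z, Lt.q, Lt.z, Lt.q, Lt.yi, Lt.yi, Lt.yi, Lt.z, Lt.q] (H9.TCY.hole_at hinv hr 21 6 false (by decide +kernel)) h
theorem dp_z_313_s (hinv : ∀ x, g (inv x) = (g x)⁻¹) (hr : ∀ r ∈ rels, (r.map g).prod = 1) (hH : ∀ r ∈ subs, (r.map g).prod ∈ H)
    (j u : ℕ) (hu : u < M) (h : dp_z_313 j u = true) : Good (fa g) T MG M (cP g H) Lt.z u := by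
  unfold dp_z_313 at h
  rcases brec_true h with h | h
  · exact lS_good (T := T) (x := Lt.z) (by decide) hu [Lt.q, Lt.v, Lt.y, Lt.v, Lt.q, Lt.z, Lt.q, Lt.z, Lt.yi, Lt.z, Lt.q] (H9.TCY.hole_at hinv hr 13 9 false (by decide +kernel)) h
  · exact dp_z_312_s hinv hr hH j u hu h
theorem dp_z_314_s (hinv : ∀ x, g (inv x) = (g x)⁻¹) (hr : ∀ r ∈ rels, (r.map g).prod = 1) (hH : ∀ r ∈ subs, (r.map g).prod ∈ H)
    (j u : ℕ) (hu : u < M) (h : dp_z_314 j u = true) : Good (fa g) T MG M (cP g H) Lt.z u := by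
  unfold dp_z_314 at h
  rcases brec_true h with h | h
  · exact dp_z_311_s hinv hr hH j u hu h
  · exact dp_z_313_s hinv hr hH j u hu h
theorem dp_z_315_s (hinv : ∀ x, g (inv x) = (g x)⁻¹) (hr : ∀ r ∈ rels, (r.map g).prod = 1) (hH : ∀ r ∈ subs, (r.map g).prod ∈ H)
    (j u : ℕ) (hu : u < M) (h : dp_z_315 j u = true) : Good (fa g) T MG M (cP g H) Lt.z u := by
  unfold dp_z_315 at h
  rcases brec_true h with h | h
  · exact dp_z_309_s hinv hr hH j u hu h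
  · exact dp_z_314_s hinv hr hH j u hu h
theorem dp_z_316_s (hinv : ∀ x, g (inv x) = (g x)⁻¹) (hr : ∀ r ∈ rels, (r.map g).prod = 1) (hH : ∀ r ∈ subs, (r.map g).prod ∈ H)
    (j u : ℕ) (hu : u < M) (h : dp_z_316 j u = true) : Good (fa g) T MG M (cP g H) Lt.z u := by
  unfold dp_z_316 at h
  rcases brec_true h with h | h
  · exact lS_good (T := T) (x := Lt.z) (by decide) hu [Lt.q, Lt.yi, Lt.z, Lt.y, Lt.q, Lt.yi, Lt.q, Lt.z, Lt.q, Lt.y, Lt.z, Lt.yi, Lt.q, Lt.y, Lt.q] (H9.TCY.hole_at hinv hr 24 5 false (by decide +kernel)) h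
  · exact lS_good (T := T) (x := Lt.z) (by decide) hu [Lt.q, Lt.z, Lt.yi, Lt.z, Lt.q, Lt.z, Lt.q, Lt.v, Lt.y, Lt.v, Lt.q] (H9.TCY.hole_at hinv hr 13 3 false (by decide +kernel)) h
theorem dp_z_317_s (hinv : ∀ x, g (inv x) = (g x)⁻¹) (hr : ∀ r ∈ rels, (r.map g).prod = 1) (hH : ∀ r ∈ subs, (r.map g).prod ∈ H)
    (j u : ℕ) (hu : u < M) (h : dp_z_317 j u = true) : Good (fa g) T MG M (cP g H) Lt.z u := by
  unfold dp_z_317 at h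
  rcases brec_true h with h | h
  · exact lS_good (T := T) (x := Lt.z) (by decide) hu [Lt.q, Lt.v, Lt.yi, Lt.v, Lt.q, Lt.z, Lt.q, Lt.z, Lt.y, Lt.z, Lt.q] (H9.TCY.hole_at hinv hr 13 10 true (by decide +kernel)) h
  · exact lS_good (T := T) (x := Lt.z) (by decide) hu [Lt.y, Lt.y, Lt.y, Lt.z, Lt.q, Lt.y, Lt.z, Lt.q, Lt.y, Lt.q, Lt.z, Lt.yi, Lt.q, Lt.z, Lt.yi, Lt.q, Lt.z, Lt.yi, Lt.yi, Lt.yi, Lt.z, Lt.y, Lt.y, Lt.y, Lt.z, Lt.q, Lt.y, Lt.z, Lt.q, Lt.y, Lt.z, Lt.q, Lt.z, Lt.yi, Lt.q, Lt.z, Lt.yi, Lt.q, Lt.z, Lt.yi, Lt.yi, Lt.yi, Lt.z, Lt.y, Lt.y, Lt.y, Lt.z, Lt.q, Lt.y, Lt.z, Lt.q, Lt.y, Lt.q, Lt.z, Lt.yi, Lt.q, Lt.z, Lt.yi, Lt.q, Lt.z, Lt.yi, Lt.yi, Lt.yi] (H9.TCY.hole_at hinv hr 49 33 true (by decide +kernel)) h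
theorem dp_z_318_s (hinv : ∀ x, g (inv x) = (g x)⁻¹) (hr : ∀ r ∈ rels, (r.map g).prod = 1) (hH : ∀ r ∈ subs, (r.map g).prod ∈ H)
    (j u : ℕ) (hu : u < M) (h : dp_z_318 j u = true) : Good (fa g) T MG M (cP g H) Lt.z u := by
  unfold dp_z_318 at h
  rcases brec_true h with h | h
  · exact dp_z_316_s hinv hr hH j u hu h
  · exact dp_z_317_s hinv hr hH j u hu h
theorem dp_z_319_s (hinv : ∀ x, g (inv x) = (g x)⁻¹) (hr : ∀ r ∈ rels, (r.map g).prod = 1) (hH : ∀ r ∈ subs, (r.map g).prod ∈ H)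
    (j u : ℕ) (hu : u < M) (h : dp_z_319 j u = true) : Good (fa g) T MG M (cP g H) Lt.z u := by
  unfold dp_z_319 at h
  rcases brec_true h with h | h
  · exact lS_good (T := T) (x := Lt.z) (by decide) hu [Lt.y, Lt.y, Lt.y, Lt.z, Lt.q, Lt.y, Lt.z, Lt.q, Lt.y, Lt.z, Lt.q, Lt.yi, Lt.q, Lt.z, Lt.yi, Lt.q, Lt.z, Lt.yi, Lt.yi, Lt.yi, Lt.z, Lt.y, Lt.y, Lt.y, Lt.z, Lt.q, Lt.y, Lt.z, Lt.q, Lt.y, Lt.z, Lt.q, Lt.yi, Lt.q, Lt.z, Lt.yi, Lt.q, Lt.z, Lt.yi, Lt.yi, Lt.yi, Lt.z, Lt.y, Lt.y, Lt.y, Lt.z, Lt.q, Lt.y, Lt.z, Lt.q, Lt.y, Lt.z, Lt.q, Lt.z, Lt.yi, Lt.q, Lt.z, Lt.yi, Lt.q, Lt.z, Lt.yi, Lt.yi, Lt.yi] (H9.TCY.hole_at hinv hr 49 11 false (by decide +kernel)) h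
  · exact lS_good (T := T) (x := Lt.z) (by decide) hu [Lt.q, Lt.yi, Lt.q, Lt.y, Lt.z, Lt.yi, Lt.q, Lt.z, Lt.q, Lt.y, Lt.q, Lt.yi, Lt.z, Lt.y, Lt.q] (H9.TCY.hole_at hinv hr 24 12 true (by decide +kernel)) h
theorem dp_z_320_s (hinv : ∀ x, g (inv x) = (g x)⁻¹) (hr : ∀ r ∈ rels, (r.map g).prod = 1) (hH : ∀ r ∈ subs, (r.map g).prod ∈ H)
    (j u : ℕ) (hu : u < M) (h : dp_z_320 j u = true) : Good (fa g) T MG M (cP g H) Lt.z u := by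
  unfold dp_z_320 at h
  rcases brec_true h with h | h
  · exact lS_good (T := T) (x := Lt.z) (by decide) hu [Lt.v, Lt.q, Lt.z, Lt.v, Lt.q, Lt.z, Lt.q, Lt.z, Lt.v, Lt.q, Lt.z, Lt.q, Lt.z, Lt.q] (H9.TCY.hole_at hinv hr 22 12 true (by decide +kernel)) h
  · exact lS_good (T := T) (x := Lt.z) (by decide) hu [Lt.q, Lt.y, Lt.q, Lt.yi, Lt.z, Lt.y, Lt.q, Lt.z, Lt.q, Lt.yi, Lt.q, Lt.y, Lt.z, Lt.yi, Lt.q] (H9.TCY.hole_at hinv hr 24 4 true (by decide +kernel)) h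
theorem dp_z_321_s (hinv : ∀ x, g (inv x) = (g x)⁻¹) (hr : ∀ r ∈ rels, (r.map g).prod = 1) (hH : ∀ r ∈ subs, (r.map g).prod ∈ H)
    (j u : ℕ) (hu : u < M) (h : dp_z_321 j u = true) : Good (fa g) T MG M (cP g H) Lt.z u := by
  unfold dp_z_321 at h
  rcases brec_true h with h | h
  · exact lS_good (T := T) (x := Lt.z) (by decide) hu [Lt.y, Lt.z, Lt.q, Lt.z, Lt.yi, Lt.z, Lt.q, Lt.z, Lt.y, Lt.z, Lt.q, Lt.z, Lt.yi, Lt.z, Lt.q] (H9.TCY.hole_at hinv hr 25 4 false (by decide +kernel)) h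
  · exact dp_z_320_s hinv hr hH j u hu h
theorem dp_z_322_s (hinv : ∀ x, g (inv x) = (g x)⁻¹) (hr : ∀ r ∈ rels, (r.map g).prod = 1) (hH : ∀ r ∈ subs, (r.map g).prod ∈ H)
    (j u : ℕ) (hu : u < M) (h : dp_z_322 j u = true) : Good (fa g) T MG M (cP g H) Lt.z u := by
  unfold dp_z_322 at h
  rcases brec_true h with h | h
  · exact dp_z_319_s hinv hr hH j u hu h
  · exact dp_z_321_s hinv hr hH j u hu h
theorem dp_z_323_s (hinv : ∀ x, g (inv x) = (g x)⁻¹) (hr : ∀ r ∈ rels, (r.map g).prod = 1) (hH : ∀ r ∈ subs, (r.map g).prod ∈ H)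
    (j u : ℕ) (hu : u < M) (h : dp_z_323 j u = true) : Good (fa g) T MG M (cP g H) Lt.z u := by
  unfold dp_z_323 at h
  rcases brec_true h with h | h
  · exact dp_z_318_s hinv hr hH j u hu h
  · exact dp_z_322_s hinv hr hH j u hu h
theorem dp_z_324_s (hinv : ∀ x, g (inv x) = (g x)⁻¹) (hr : ∀ r ∈ rels, (r.map g).prod = 1) (hH : ∀ r ∈ subs, (r.map g).prod ∈ H)
    (j u : ℕ) (hu : u < M) (h : dp_z_324 j u = true) : Good (fa g) T MG M (cP g H) Lt.z u := by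
  unfold dp_z_324 at h
  rcases brec_true h with h | h
  · exact lS_good (T := T) (x := Lt.z) (by decide) hu [Lt.yi, Lt.z, Lt.q, Lt.z, Lt.y, Lt.z, Lt.q, Lt.z, Lt.yi, Lt.z, Lt.q, Lt.z, Lt.y, Lt.z, Lt.q] (H9.TCY.hole_at hinv hr 25 0 false (by decide +kernel)) h
  · exact lS_good (T := T) (x := Lt.z) (by decide) hu [Lt.y, Lt.y, Lt.y, Lt.z, Lt.q, Lt.y, Lt.z, Lt.q, Lt.y, Lt.z, Lt.q, Lt.z, Lt.yi, Lt.q, Lt.z, Lt.yi, Lt.q, Lt.z, Lt.yi, Lt.yi, Lt.yi, Lt.z, Lt.y, Lt.y, Lt.y, Lt.z, Lt.q, Lt.y, Lt.z, Lt.q, Lt.y, Lt.z, Lt.q, Lt.yi, Lt.q, Lt.z, Lt.yi, Lt.q, Lt.z, Lt.yi, Lt.yi, Lt.yi, Lt.z, Lt.y, Lt.y, Lt.y, Lt.z, Lt.q, Lt.y, Lt.z, Lt.q, Lt.y, Lt.z, Lt.q, Lt.yi, Lt.q, Lt.z, Lt.yi, Lt.q, Lt.z, Lt.yi, Lt.yi, Lt.yi] (H9.TCY.hole_at hinv hr 49 53 false (by decide +kernel)) h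
theorem dp_z_325_s (hinv : ∀ x, g (inv x) = (g x)⁻¹) (hr : ∀ r ∈ rels, (r.map g).prod = 1) (hH : ∀ r ∈ subs, (r.map g).prod ∈ H)
    (j u : ℕ) (hu : u < M) (h : dp_z_325 j u = true) : Good (fa g) T MG M (cP g H) Lt.z u := by
  unfold dp_z_325 at h
  rcases brec_true h with h | h
  · exact lS_good (T := T) (x := Lt.z) (by decide) hu [Lt.y, Lt.y, Lt.y, Lt.z, Lt.q, Lt.y, Lt.z, Lt.q, Lt.y, Lt.z, Lt.q, Lt.yi, Lt.q, Lt.z, Lt.yi, Lt.q, Lt.z, Lt.yi, Lt.yi, Lt.yi, Lt.z, Lt.y, Lt.y, Lt.y, Lt.z, Lt.q, Lt.y, Lt.z, Lt.q, Lt.y, Lt.z, Lt.q, Lt.z, Lt.yi, Lt.q, Lt.z, Lt.yi, Lt.q, Lt.z, Lt.yi, Lt.yi, Lt.yi, Lt.z, Lt.y, Lt.y, Lt.y, Lt.z, Lt.q, Lt.y, Lt.z, Lt.q, Lt.y, Lt.z, Lt.q, Lt.yi, Lt.q, Lt.z, Lt.yi, Lt.q, Lt.z, Lt.yi, Lt.yi, Lt.yi] (H9.TCY.hole_at hinv hr 49 32 false (by decide +kernel)) h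
  · exact dp_z_324_s hinv hr hH j u hu h
theorem dp_z_326_s (hinv : ∀ x, g (inv x) = (g x)⁻¹) (hr : ∀ r ∈ rels, (r.map g).prod = 1) (hH : ∀ r ∈ subs, (r.map g).prod ∈ H)
    (j u : ℕ) (hu : u < M) (h : dp_z_326 j u = true) : Good (fa g) T MG M (cP g H) Lt.z u := by
  unfold dp_z_326 at h
  rcases brec_true h with h | h
  · exact lS_good (T := T) (x := Lt.z) (by decide) hu [Lt.q, Lt.z, Lt.y, Lt.z, Lt.q, Lt.z, Lt.q, Lt.v, Lt.yi, Lt.v, Lt.q] (H9.TCY.hole_at hinv hr 13 4 true (by decide +kernel)) h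
  · exact lF_good (T := T) (x := Lt.z) (by decide) [Lt.y, Lt.y, Lt.y, Lt.z, Lt.q, Lt.y, Lt.z, Lt.q, Lt.y, Lt.q, Lt.z, Lt.yi, Lt.q, Lt.z, Lt.yi, Lt.q, Lt.z, Lt.yi, Lt.yi, Lt.yi, Lt.z, Lt.y, Lt.y, Lt.y, Lt.z, Lt.q, Lt.y, Lt.z, Lt.q, Lt.y, Lt.z, Lt.q, Lt.z, Lt.yi, Lt.q, Lt.z, Lt.yi, Lt.q, Lt.z, Lt.yi, Lt.yi, Lt.yi, Lt.z, Lt.y, Lt.y, Lt.y, Lt.z, Lt.q, Lt.y, Lt.z, Lt.q, Lt.y, Lt.q, Lt.z, Lt.yi, Lt.q, Lt.z, Lt.yi, Lt.q, Lt.z, Lt.yi, Lt.yi, Lt.yi] (H9.TCY.hole_at hinv hr 49 33 true (by decide +kernel)) h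
theorem dp_z_327_s (hinv : ∀ x, g (inv x) = (g x)⁻¹) (hr : ∀ r ∈ rels, (r.map g).prod = 1) (hH : ∀ r ∈ subs, (r.map g).prod ∈ H)
    (j u : ℕ) (hu : u < M) (h : dp_z_327 j u = true) : Good (fa g) T MG M (cP g H) Lt.z u := by
  unfold dp_z_327 at h
  rcases brec_true h with h | h
  · exact lS_good (T := T) (x := Lt.z) (by decide) hu [Lt.q, Lt.y, Lt.q, Lt.z, Lt.yi, Lt.yi, Lt.q, Lt.z, Lt.yi, Lt.q, Lt.z, Lt.yi, Lt.z, Lt.y, Lt.z, Lt.q, Lt.y, Lt.z, Lt.q, Lt.y, Lt.y, Lt.z, Lt.q, Lt.yi, Lt.q] (H9.TCY.hole_at hinv hr 46 25 false (by decide +kernel)) h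
  · exact lS_good (T := T) (x := Lt.z) (by decide) hu [Lt.y, Lt.y, Lt.y, Lt.z, Lt.q, Lt.y, Lt.z, Lt.q, Lt.y, Lt.q, Lt.z, Lt.yi, Lt.q, Lt.z, Lt.yi, Lt.q, Lt.z, Lt.yi, Lt.yi, Lt.yi, Lt.z, Lt.y, Lt.y, Lt.y, Lt.z, Lt.q, Lt.y, Lt.z, Lt.q, Lt.y, Lt.q, Lt.z, Lt.yi, Lt.q, Lt.z, Lt.yi, Lt.q, Lt.z, Lt.yi, Lt.yi, Lt.yi, Lt.z, Lt.y, Lt.y, Lt.y, Lt.z, Lt.q, Lt.y, Lt.z, Lt.q, Lt.y, Lt.z, Lt.q, Lt.z, Lt.yi, Lt.q, Lt.z, Lt.yi, Lt.q, Lt.z, Lt.yi, Lt.yi, Lt.yi] (H9.TCY.hole_at hinv hr 49 12 true (by decide +kernel)) h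
theorem dp_z_328_s (hinv : ∀ x, g (inv x) = (g x)⁻¹) (hr : ∀ r ∈ rels, (r.map g).prod = 1) (hH : ∀ r ∈ subs, (r.map g).prod ∈ H)
    (j u : ℕ) (hu : u < M) (h : dp_z_328 j u = true) : Good (fa g) T MG M (cP g H) Lt.z u := by
  unfold dp_z_328 at h
  rcases brec_true h with h | h
  · exact dp_z_326_s hinv hr hH j u hu h
  · exact dp_z_327_s hinv hr hH j u hu h
theorem dp_z_329_s (hinv : ∀ x, g (inv x) = (g x)⁻¹) (hr : ∀ r ∈ rels, (r.map g).prod = 1) (hH : ∀ r ∈ subs, (r.map g).prod ∈ H)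
    (j u : ℕ) (hu : u < M) (h : dp_z_329 j u = true) : Good (fa g) T MG M (cP g H) Lt.z u := by
  unfold dp_z_329 at h
  rcases brec_true h with h | h
  · exact dp_z_325_s hinv hr hH j u hu h
  · exact dp_z_328_s hinv hr hH j u hu h
theorem dp_z_330_s (hinv : ∀ x, g (inv x) = (g x)⁻¹) (hr : ∀ r ∈ rels, (r.map g).prod = 1) (hH : ∀ r ∈ subs, (r.map g).prod ∈ H)
    (j u : ℕ) (hu : u < M) (h : dp_z_330 j u = true) : Good (fa g) T MG M (cP g H) Lt.z u := by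
  unfold dp_z_330 at h
  rcases brec_true h with h | h
  · exact lS_good (T := T) (x := Lt.z) (by decide) hu [Lt.yi, Lt.q, Lt.z, Lt.yi, Lt.yi, Lt.yi, Lt.z, Lt.y, Lt.y, Lt.y, Lt.z, Lt.q, Lt.y, Lt.z, Lt.q, Lt.y, Lt.z, Lt.q, Lt.yi, Lt.q, Lt.z, Lt.yi, Lt.q, Lt.z, Lt.yi, Lt.yi, Lt.yi, Lt.z, Lt.y, Lt.y, Lt.y, Lt.z, Lt.q, Lt.y, Lt.z, Lt.q, Lt.y, Lt.z, Lt.q, Lt.z, Lt.yi, Lt.q, Lt.z, Lt.yi, Lt.q, Lt.z, Lt.yi, Lt.yi, Lt.yi, Lt.z, Lt.y, Lt.y, Lt.y, Lt.z, Lt.q, Lt.y, Lt.z, Lt.q, Lt.y, Lt.z, Lt.q, Lt.yi, Lt.q] (H9.TCY.hole_at hinv hr 49 25 false (by decide +kernel)) h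
  · exact lF_good (T := T) (x := Lt.z) (by decide) [Lt.q, Lt.z, Lt.v, Lt.q, Lt.z, Lt.v, Lt.q, Lt.z, Lt.q, Lt.z, Lt.v, Lt.q, Lt.z, Lt.q] (H9.TCY.hole_at hinv hr 22 10 true (by decide +kernel)) h
theorem dp_z_331_s (hinv : ∀ x, g (inv x) = (g x)⁻¹) (hr : ∀ r ∈ rels, (r.map g).prod = 1) (hH : ∀ r ∈ subs, (r.map g).prod ∈ H)
    (j u : ℕ) (hu : u < M) (h : dp_z_331 j u = true) : Good (fa g) T MG M (cP g H) Lt.z u := by
  unfold dp_z_331 at h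
  rcases brec_true h with h | h
  · exact lS_good (T := T) (x := Lt.z) (by decide) hu [Lt.yi, Lt.q, Lt.z, Lt.yi, Lt.q, Lt.z, Lt.yi, Lt.yi, Lt.yi, Lt.z, Lt.y, Lt.y, Lt.y, Lt.z, Lt.q, Lt.y, Lt.z, Lt.q, Lt.y, Lt.q, Lt.z, Lt.yi, Lt.q, Lt.z, Lt.yi, Lt.q, Lt.z, Lt.yi, Lt.yi, Lt.yi, Lt.z, Lt.y, Lt.y, Lt.y, Lt.z, Lt.q, Lt.y, Lt.z, Lt.q, Lt.y, Lt.z, Lt.q, Lt.z, Lt.yi, Lt.q, Lt.z, Lt.yi, Lt.q, Lt.z, Lt.yi, Lt.yi, Lt.yi, Lt.z, Lt.y, Lt.y, Lt.y, Lt.z, Lt.q, Lt.y, Lt.z, Lt.q, Lt.y, Lt.q] (H9.TCY.hole_at hinv hr 49 23 true (by decide +kernel)) h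
  · exact dp_z_330_s hinv hr hH j u hu h
theorem dp_z_332_s (hinv : ∀ x, g (inv x) = (g x)⁻¹) (hr : ∀ r ∈ rels, (r.map g).prod = 1) (hH : ∀ r ∈ subs, (r.map g).prod ∈ H)
    (j u : ℕ) (hu : u < M) (h : dp_z_332 j u = true) : Good (fa g) T MG M (cP g H) Lt.z u := by
  unfold dp_z_332 at h
  rcases brec_true h with h | h
  · exact lF_good (T := T) (x := Lt.z) (by decide) [Lt.q, Lt.y, Lt.q, Lt.z, Lt.yi, Lt.yi, Lt.q, Lt.z, Lt.yi, Lt.q, Lt.z, Lt.yi, Lt.z, Lt.y, Lt.z, Lt.q, Lt.y, Lt.z, Lt.q, Lt.y, Lt.y, Lt.z, Lt.q, Lt.yi, Lt.q] (H9.TCY.hole_at hinv hr 46 25 false (by decide +kernel)) h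
  · exact dp_z_331_s hinv hr hH j u hu h
theorem dp_z_333_s (hinv : ∀ x, g (inv x) = (g x)⁻¹) (hr : ∀ r ∈ rels, (r.map g).prod = 1) (hH : ∀ r ∈ subs, (r.map g).prod ∈ H)
    (j u : ℕ) (hu : u < M) (h : dp_z_333 j u = true) : Good (fa g) T MG M (cP g H) Lt.z u := by
  unfold dp_z_333 at h
  rcases brec_true h with h | h
  · exact lS_good (T := T) (x := Lt.z) (by decide) hu [Lt.yi, Lt.q, Lt.z, Lt.yi, Lt.yi, Lt.yi, Lt.z, Lt.y, Lt.y, Lt.y, Lt.z, Lt.q, Lt.y, Lt.z, Lt.q, Lt.y, Lt.z, Lt.q, Lt.z, Lt.yi, Lt.q, Lt.z, Lt.yi, Lt.q, Lt.z, Lt.yi, Lt.yi, Lt.yi, Lt.z, Lt.y, Lt.y, Lt.y, Lt.z, Lt.q, Lt.y, Lt.z, Lt.q, Lt.y, Lt.z, Lt.q, Lt.yi, Lt.q, Lt.z, Lt.yi, Lt.q, Lt.z, Lt.yi, Lt.yi, Lt.yi, Lt.z, Lt.y, Lt.y, Lt.y, Lt.z, Lt.q, Lt.y, Lt.z, Lt.q, Lt.y, Lt.z, Lt.q, Lt.yi, Lt.q] (H9.TCY.hole_at hinv hr 49 46 false (by decide +kernel)) h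
  · exact lS_good (T := T) (x := Lt.z) (by decide) hu [Lt.y, Lt.y, Lt.y, Lt.z, Lt.q, Lt.y, Lt.z, Lt.q, Lt.y, Lt.z, Lt.q, Lt.z, Lt.yi, Lt.q, Lt.z, Lt.yi, Lt.q, Lt.z, Lt.yi, Lt.yi, Lt.yi, Lt.z, Lt.y, Lt.y, Lt.y, Lt.z, Lt.q, Lt.y, Lt.z, Lt.q, Lt.y, Lt.q, Lt.z, Lt.yi, Lt.q, Lt.z, Lt.yi, Lt.q, Lt.z, Lt.yi, Lt.yi, Lt.yi, Lt.z, Lt.y, Lt.y, Lt.y, Lt.z, Lt.q, Lt.y, Lt.z, Lt.q, Lt.y, Lt.q, Lt.z, Lt.yi, Lt.q, Lt.z, Lt.yi, Lt.q, Lt.z, Lt.yi, Lt.yi, Lt.yi] (H9.TCY.hole_at hinv hr 49 54 true (by decide +kernel)) h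
theorem dp_z_334_s (hinv : ∀ x, g (inv x) = (g x)⁻¹) (hr : ∀ r ∈ rels, (r.map g).prod = 1) (hH : ∀ r ∈ subs, (r.map g).prod ∈ H)
    (j u : ℕ) (hu : u < M) (h : dp_z_334 j u = true) : Good (fa g) T MG M (cP g H) Lt.z u := by
  unfold dp_z_334 at h
  rcases brec_true h with h | h
  · exact lS_good (T := T) (x := Lt.z) (by decide) hu [Lt.yi, Lt.q, Lt.z, Lt.yi, Lt.q, Lt.z, Lt.yi, Lt.yi, Lt.yi, Lt.z, Lt.y, Lt.y, Lt.y, Lt.z, Lt.q, Lt.y, Lt.z, Lt.q, Lt.y, Lt.z, Lt.q, Lt.yi, Lt.q, Lt.z, Lt.yi, Lt.q, Lt.z, Lt.yi, Lt.yi, Lt.yi, Lt.z, Lt.y, Lt.y, Lt.y, Lt.z, Lt.q, Lt.y, Lt.z, Lt.q, Lt.y, Lt.z, Lt.q, Lt.yi, Lt.q, Lt.z, Lt.yi, Lt.q, Lt.z, Lt.yi, Lt.yi, Lt.yi, Lt.z, Lt.y, Lt.y, Lt.y, Lt.z, Lt.q, Lt.y, Lt.z, Lt.q, Lt.y, Lt.z, Lt.q] (H9.TCY.hole_at hinv hr 49 1 false (by decide +kernel)) h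
  · exact lS_good (T := T) (x := Lt.z) (by decide) hu [Lt.q, Lt.y, Lt.z, Lt.q, Lt.yi, Lt.q, Lt.z, Lt.yi, Lt.q, Lt.z, Lt.yi, Lt.yi, Lt.yi, Lt.z, Lt.y, Lt.y, Lt.y, Lt.z, Lt.q, Lt.y, Lt.z, Lt.q, Lt.y, Lt.z, Lt.q, Lt.yi, Lt.q, Lt.z, Lt.yi, Lt.q, Lt.z, Lt.yi, Lt.yi, Lt.yi, Lt.z, Lt.y, Lt.y, Lt.y, Lt.z, Lt.q, Lt.y, Lt.z, Lt.q, Lt.y, Lt.z, Lt.q, Lt.z, Lt.yi, Lt.q, Lt.z, Lt.yi, Lt.q, Lt.z, Lt.yi, Lt.yi, Lt.yi, Lt.z, Lt.y, Lt.y, Lt.y, Lt.z, Lt.q, Lt.y] (H9.TCY.hole_at hinv hr 49 18 false (by decide +kernel)) h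
theorem dp_z_335_s (hinv : ∀ x, g (inv x) = (g x)⁻¹) (hr : ∀ r ∈ rels, (r.map g).prod = 1) (hH : ∀ r ∈ subs, (r.map g).prod ∈ H)
    (j u : ℕ) (hu : u < M) (h : dp_z_335 j u = true) : Good (fa g) T MG M (cP g H) Lt.z u := by
  unfold dp_z_335 at h
  rcases brec_true h with h | h
  · exact lF_good (T := T) (x := Lt.z) (by decide) [Lt.y, Lt.y, Lt.y, Lt.z, Lt.q, Lt.y, Lt.z, Lt.q, Lt.y, Lt.z, Lt.q, Lt.yi, Lt.q, Lt.z, Lt.yi, Lt.q, Lt.z, Lt.yi, Lt.yi, Lt.yi, Lt.z, Lt.y, Lt.y, Lt.y, Lt.z, Lt.q, Lt.y, Lt.z, Lt.q, Lt.y, Lt.z, Lt.q, Lt.z, Lt.yi, Lt.q, Lt.z, Lt.yi, Lt.q, Lt.z, Lt.yi, Lt.yi, Lt.yi, Lt.z, Lt.y, Lt.y, Lt.y, Lt.z, Lt.q, Lt.y, Lt.z, Lt.q, Lt.y, Lt.z, Lt.q, Lt.yi, Lt.q, Lt.z, Lt.yi, Lt.q, Lt.z, Lt.yi, Lt.yi, Lt.yi] (H9.TCY.hole_at hinv hr 49 32 false (by decide +kernel)) h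
  · exact dp_z_334_s hinv hr hH j u hu h
theorem dp_z_336_s (hinv : ∀ x, g (inv x) = (g x)⁻¹) (hr : ∀ r ∈ rels, (r.map g).prod = 1) (hH : ∀ r ∈ subs, (r.map g).prod ∈ H)
    (j u : ℕ) (hu : u < M) (h : dp_z_336 j u = true) : Good (fa g) T MG M (cP g H) Lt.z u := by
  unfold dp_z_336 at h
  rcases brec_true h with h | h
  · exact dp_z_333_s hinv hr hH j u hu h
  · exact dp_z_335_s hinv hr hH j u hu h
theorem dp_z_337_s (hinv : ∀ x, g (inv x) = (g x)⁻¹) (hr : ∀ r ∈ rels, (r.map g).prod = 1) (hH : ∀ r ∈ subs, (r.map g).prod ∈ H)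
    (j u : ℕ) (hu : u < M) (h : dp_z_337 j u = true) : Good (fa g) T MG M (cP g H) Lt.z u := by
  unfold dp_z_337 at h
  rcases brec_true h with h | h
  · exact dp_z_332_s hinv hr hH j u hu h
  · exact dp_z_336_s hinv hr hH j u hu h
theorem dp_z_338_s (hinv : ∀ x, g (inv x) = (g x)⁻¹) (hr : ∀ r ∈ rels, (r.map g).prod = 1) (hH : ∀ r ∈ subs, (r.map g).prod ∈ H)
    (j u : ℕ) (hu : u < M) (h : dp_z_338 j u = true) : Good (fa g) T MG M (cP g H) Lt.z u := by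
  unfold dp_z_338 at h
  rcases brec_true h with h | h
  · exact lS_good (T := T) (x := Lt.z) (by decide) hu [Lt.yi, Lt.q, Lt.z, Lt.yi, Lt.yi, Lt.yi, Lt.z, Lt.y, Lt.y, Lt.y, Lt.z, Lt.q, Lt.y, Lt.z, Lt.q, Lt.y, Lt.q, Lt.z, Lt.yi, Lt.q, Lt.z, Lt.yi, Lt.q, Lt.z, Lt.yi, Lt.yi, Lt.yi, Lt.z, Lt.y, Lt.y, Lt.y, Lt.z, Lt.q, Lt.y, Lt.z, Lt.q, Lt.y, Lt.q, Lt.z, Lt.yi, Lt.q, Lt.z, Lt.yi, Lt.q, Lt.z, Lt.yi, Lt.yi, Lt.yi, Lt.z, Lt.y, Lt.y, Lt.y, Lt.z, Lt.q, Lt.y, Lt.z, Lt.q, Lt.y, Lt.z, Lt.q, Lt.z, Lt.yi, Lt.q] (H9.TCY.hole_at hinv hr 49 5 true (by decide +kernel)) h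
  · exact lS_good (T := T) (x := Lt.z) (by decide) hu [Lt.q, Lt.yi, Lt.q, Lt.z, Lt.yi, Lt.q, Lt.z, Lt.yi, Lt.yi, Lt.yi, Lt.z, Lt.y, Lt.y, Lt.y, Lt.z, Lt.q, Lt.y, Lt.z, Lt.q, Lt.y, Lt.z, Lt.q, Lt.yi, Lt.q, Lt.z, Lt.yi, Lt.q, Lt.z, Lt.yi, Lt.yi, Lt.yi, Lt.z, Lt.y, Lt.y, Lt.y, Lt.z, Lt.q, Lt.y, Lt.z, Lt.q, Lt.y, Lt.z, Lt.q, Lt.z, Lt.yi, Lt.q, Lt.z, Lt.yi, Lt.q, Lt.z, Lt.yi, Lt.yi, Lt.yi, Lt.z, Lt.y, Lt.y, Lt.y, Lt.z, Lt.q, Lt.y, Lt.z, Lt.q, Lt.y] (H9.TCY.hole_at hinv hr 49 21 false (by decide +kernel)) h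
theorem dp_z_339_s (hinv : ∀ x, g (inv x) = (g x)⁻¹) (hr : ∀ r ∈ rels, (r.map g).prod = 1) (hH : ∀ r ∈ subs, (r.map g).prod ∈ H)
    (j u : ℕ) (hu : u < M) (h : dp_z_339 j u = true) : Good (fa g) T MG M (cP g H) Lt.z u := by
  unfold dp_z_339 at h
  rcases brec_true h with h | h
  · exact lF_good (T := T) (x := Lt.z) (by decide) [Lt.y, Lt.y, Lt.y, Lt.z, Lt.q, Lt.y, Lt.z, Lt.q, Lt.y, Lt.z, Lt.q, Lt.yi, Lt.q, Lt.z, Lt.yi, Lt.q, Lt.z, Lt.yi, Lt.yi, Lt.yi, Lt.z, Lt.y, Lt.y, Lt.y, Lt.z, Lt.q, Lt.y, Lt.z, Lt.q, Lt.y, Lt.z, Lt.q, Lt.yi, Lt.q, Lt.z, Lt.yi, Lt.q, Lt.z, Lt.yi, Lt.yi, Lt.yi, Lt.z, Lt.y, Lt.y, Lt.y, Lt.z, Lt.q, Lt.y, Lt.z, Lt.q, Lt.y, Lt.z, Lt.q, Lt.z, Lt.yi, Lt.q, Lt.z, Lt.yi, Lt.q, Lt.z, Lt.yi, Lt.yi, Lt.yi] (H9.TCY.hole_at hinv hr 49 11 false (by decide +kernel)) h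
  · exact dp_z_338_s hinv hr hH j u hu h
theorem dp_z_340_s (hinv : ∀ x, g (inv x) = (g x)⁻¹) (hr : ∀ r ∈ rels, (r.map g).prod = 1) (hH : ∀ r ∈ subs, (r.map g).prod ∈ H)
    (j u : ℕ) (hu : u < M) (h : dp_z_340 j u = true) : Good (fa g) T MG M (cP g H) Lt.z u := by
  unfold dp_z_340 at h
  rcases brec_true h with h | h
  · exact lH_good (T := T) (x := Lt.z) (by decide) [] [] (by rw [show cP g H 0 = _ from cc_zero]; exact sub_rel hinv (hH _ (by decide))) h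
  · exact lS_good (T := T) (x := Lt.z) (by decide) hu [Lt.yi, Lt.q, Lt.z, Lt.yi, Lt.q, Lt.z, Lt.yi, Lt.yi, Lt.yi, Lt.z, Lt.y, Lt.y, Lt.y, Lt.z, Lt.q, Lt.y, Lt.z, Lt.q, Lt.y, Lt.z, Lt.q, Lt.z, Lt.yi, Lt.q, Lt.z, Lt.yi, Lt.q, Lt.z, Lt.yi, Lt.yi, Lt.yi, Lt.z, Lt.y, Lt.y, Lt.y, Lt.z, Lt.q, Lt.y, Lt.z, Lt.q, Lt.y, Lt.q, Lt.z, Lt.yi, Lt.q, Lt.z, Lt.yi, Lt.q, Lt.z, Lt.yi, Lt.yi, Lt.yi, Lt.z, Lt.y, Lt.y, Lt.y, Lt.z, Lt.q, Lt.y, Lt.z, Lt.q, Lt.y, Lt.q] (H9.TCY.hole_at hinv hr 49 44 true (by decide +kernel)) h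
theorem dp_z_341_s (hinv : ∀ x, g (inv x) = (g x)⁻¹) (hr : ∀ r ∈ rels, (r.map g).prod = 1) (hH : ∀ r ∈ subs, (r.map g).prod ∈ H)
    (j u : ℕ) (hu : u < M) (h : dp_z_341 j u = true) : Good (fa g) T MG M (cP g H) Lt.z u := by
  unfold dp_z_341 at h
  rcases brec_true h with h | h
  · exact lS_good (T := T) (x := Lt.z) (by decide) hu [Lt.yi, Lt.yi, Lt.yi, Lt.z, Lt.y, Lt.y, Lt.y, Lt.z, Lt.q, Lt.y, Lt.z, Lt.q, Lt.y, Lt.z, Lt.q, Lt.z, Lt.yi, Lt.q, Lt.z, Lt.yi, Lt.q, Lt.z, Lt.yi, Lt.yi, Lt.yi, Lt.z, Lt.y, Lt.y, Lt.y, Lt.z, Lt.q, Lt.y, Lt.z, Lt.q, Lt.y, Lt.z, Lt.q, Lt.yi, Lt.q, Lt.z, Lt.yi, Lt.q, Lt.z, Lt.yi, Lt.yi, Lt.yi, Lt.z, Lt.y, Lt.y, Lt.y, Lt.z, Lt.q, Lt.y, Lt.z, Lt.q, Lt.y, Lt.z, Lt.q, Lt.yi, Lt.q, Lt.z, Lt.yi, Lt.q] (H9.TCY.hole_at hinv hr 49 49 false (by decide +kernel)) h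
  · exact lS_good (T := T) (x := Lt.z) (by decide) hu [Lt.q, Lt.y, Lt.z, Lt.q, Lt.y, Lt.z, Lt.q, Lt.yi, Lt.q, Lt.z, Lt.yi, Lt.q, Lt.z, Lt.yi, Lt.yi, Lt.yi, Lt.z, Lt.y, Lt.y, Lt.y, Lt.z, Lt.q, Lt.y, Lt.z, Lt.q, Lt.y, Lt.z, Lt.q, Lt.z, Lt.yi, Lt.q, Lt.z, Lt.yi, Lt.q, Lt.z, Lt.yi, Lt.yi, Lt.yi, Lt.z, Lt.y, Lt.y, Lt.y, Lt.z, Lt.q, Lt.y, Lt.z, Lt.q, Lt.y, Lt.z, Lt.q, Lt.yi, Lt.q, Lt.z, Lt.yi, Lt.q, Lt.z, Lt.yi, Lt.yi, Lt.yi, Lt.z, Lt.y, Lt.y, Lt.y] (H9.TCY.hole_at hinv hr 49 36 false (by decide +kernel)) h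
theorem dp_z_342_s (hinv : ∀ x, g (inv x) = (g x)⁻¹) (hr : ∀ r ∈ rels, (r.map g).prod = 1) (hH : ∀ r ∈ subs, (r.map g).prod ∈ H)
    (j u : ℕ) (hu : u < M) (h : dp_z_342 j u = true) : Good (fa g) T MG M (cP g H) Lt.z u := by
  unfold dp_z_342 at h
  rcases brec_true h with h | h
  · exact lF_good (T := T) (x := Lt.z) (by decide) [Lt.y, Lt.y, Lt.y, Lt.z, Lt.q, Lt.y, Lt.z, Lt.q, Lt.y, Lt.q, Lt.z, Lt.yi, Lt.q, Lt.z, Lt.yi, Lt.q, Lt.z, Lt.yi, Lt.yi, Lt.yi, Lt.z, Lt.y, Lt.y, Lt.y, Lt.z, Lt.q, Lt.y, Lt.z, Lt.q, Lt.y, Lt.q, Lt.z, Lt.yi, Lt.q, Lt.z, Lt.yi, Lt.q, Lt.z, Lt.yi, Lt.yi, Lt.yi, Lt.z, Lt.y, Lt.y, Lt.y, Lt.z, Lt.q, Lt.y, Lt.z, Lt.q, Lt.y, Lt.z, Lt.q, Lt.z, Lt.yi, Lt.q, Lt.z, Lt.yi, Lt.q, Lt.z, Lt.yi, Lt.yi, Lt.yi] (H9.TCY.hole_at hinv hr 49 12 true (by decide +kernel)) h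
  · exact dp_z_341_s hinv hr hH j u hu h
theorem dp_z_343_s (hinv : ∀ x, g (inv x) = (g x)⁻¹) (hr : ∀ r ∈ rels, (r.map g).prod = 1) (hH : ∀ r ∈ subs, (r.map g).prod ∈ H)
    (j u : ℕ) (hu : u < M) (h : dp_z_343 j u = true) : Good (fa g) T MG M (cP g H) Lt.z u := by
  unfold dp_z_343 at h
  rcases brec_true h with h | h
  · exact dp_z_340_s hinv hr hH j u hu h
  · exact dp_z_342_s hinv hr hH j u hu h
theorem dp_z_344_s (hinv : ∀ x, g (inv x) = (g x)⁻¹) (hr : ∀ r ∈ rels, (r.map g).prod = 1) (hH : ∀ r ∈ subs, (r.map g).prod ∈ H)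
    (j u : ℕ) (hu : u < M) (h : dp_z_344 j u = true) : Good (fa g) T MG M (cP g H) Lt.z u := by
  unfold dp_z_344 at h
  rcases brec_true h with h | h
  · exact dp_z_339_s hinv hr hH j u hu h
  · exact dp_z_343_s hinv hr hH j u hu h
theorem dp_z_345_s (hinv : ∀ x, g (inv x) = (g x)⁻¹) (hr : ∀ r ∈ rels, (r.map g).prod = 1) (hH : ∀ r ∈ subs, (r.map g).prod ∈ H)
    (j u : ℕ) (hu : u < M) (h : dp_z_345 j u = true) : Good (fa g) T MG M (cP g H) Lt.z u := by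
  unfold dp_z_345 at h
  rcases brec_true h with h | h
  · exact lF_good (T := T) (x := Lt.z) (by decide) [Lt.yi, Lt.q, Lt.z, Lt.yi, Lt.q, Lt.z, Lt.yi, Lt.yi, Lt.yi, Lt.z, Lt.y, Lt.y, Lt.y, Lt.z, Lt.q, Lt.y, Lt.z, Lt.q, Lt.y, Lt.q, Lt.z, Lt.yi, Lt.q, Lt.z, Lt.yi, Lt.q, Lt.z, Lt.yi, Lt.yi, Lt.yi, Lt.z, Lt.y, Lt.y, Lt.y, Lt.z, Lt.q, Lt.y, Lt.z, Lt.q, Lt.y, Lt.z, Lt.q, Lt.z, Lt.yi, Lt.q, Lt.z, Lt.yi, Lt.q, Lt.z, Lt.yi, Lt.yi, Lt.yi, Lt.z, Lt.y, Lt.y, Lt.y, Lt.z, Lt.q, Lt.y, Lt.z, Lt.q, Lt.y, Lt.q] (H9.TCY.hole_at hinv hr 49 23 true (by decide +kernel)) h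
  · exact lF_good (T := T) (x := Lt.z) (by decide) [Lt.q, Lt.yi, Lt.q, Lt.z, Lt.yi, Lt.q, Lt.z, Lt.yi, Lt.yi, Lt.yi, Lt.z, Lt.y, Lt.y, Lt.y, Lt.z, Lt.q, Lt.y, Lt.z, Lt.q, Lt.y, Lt.z, Lt.q, Lt.z, Lt.yi, Lt.q, Lt.z, Lt.yi, Lt.q, Lt.z, Lt.yi, Lt.yi, Lt.yi, Lt.z, Lt.y, Lt.y, Lt.y, Lt.z, Lt.q, Lt.y, Lt.z, Lt.q, Lt.y, Lt.z, Lt.q, Lt.yi, Lt.q, Lt.z, Lt.yi, Lt.q, Lt.z, Lt.yi, Lt.yi, Lt.yi, Lt.z, Lt.y, Lt.y, Lt.y, Lt.z, Lt.q, Lt.y, Lt.z, Lt.q, Lt.y] (H9.TCY.hole_at hinv hr 49 42 false (by decide +kernel)) h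
theorem dp_z_346_s (hinv : ∀ x, g (inv x) = (g x)⁻¹) (hr : ∀ r ∈ rels, (r.map g).prod = 1) (hH : ∀ r ∈ subs, (r.map g).prod ∈ H)
    (j u : ℕ) (hu : u < M) (h : dp_z_346 j u = true) : Good (fa g) T MG M (cP g H) Lt.z u := by
  unfold dp_z_346 at h
  rcases brec_true h with h | h
  · exact lF_good (T := T) (x := Lt.z) (by decide) [Lt.q, Lt.v, Lt.z, Lt.q, Lt.z, Lt.q, Lt.v, Lt.z, Lt.q, Lt.v, Lt.z, Lt.q, Lt.z, Lt.q] (H9.TCY.hole_at hinv hr 22 8 false (by decide +kernel)) h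
  · exact lS_good (T := T) (x := Lt.z) (by decide) hu [Lt.q, Lt.y, Lt.z, Lt.q, Lt.y, Lt.q, Lt.z, Lt.yi, Lt.q, Lt.z, Lt.yi, Lt.q, Lt.z, Lt.yi, Lt.yi, Lt.yi, Lt.z, Lt.y, Lt.y, Lt.y, Lt.z, Lt.q, Lt.y, Lt.z, Lt.q, Lt.y, Lt.z, Lt.q, Lt.z, Lt.yi, Lt.q, Lt.z, Lt.yi, Lt.q, Lt.z, Lt.yi, Lt.yi, Lt.yi, Lt.z, Lt.y, Lt.y, Lt.y, Lt.z, Lt.q, Lt.y, Lt.z, Lt.q, Lt.y, Lt.q, Lt.z, Lt.yi, Lt.q, Lt.z, Lt.yi, Lt.q, Lt.z, Lt.yi, Lt.yi, Lt.yi, Lt.z, Lt.y, Lt.y, Lt.y] (H9.TCY.hole_at hinv hr 49 37 true (by decide +kernel)) h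
theorem dp_z_347_s (hinv : ∀ x, g (inv x) = (g x)⁻¹) (hr : ∀ r ∈ rels, (r.map g).prod = 1) (hH : ∀ r ∈ subs, (r.map g).prod ∈ H)
    (j u : ℕ) (hu : u < M) (h : dp_z_347 j u = true) : Good (fa g) T MG M (cP g H) Lt.z u := by
  unfold dp_z_347 at h
  rcases brec_true h with h | h
  · exact lS_good (T := T) (x := Lt.z) (by decide) hu [Lt.q, Lt.z, Lt.q, Lt.z, Lt.q, Lt.v, Lt.z, Lt.q, Lt.z, Lt.q, Lt.z, Lt.q, Lt.z, Lt.q, Lt.v, Lt.z, Lt.q] (H9.TCY.hole_at hinv hr 43 3 false (by decide +kernel)) h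
  · exact dp_z_346_s hinv hr hH j u hu h
theorem dp_z_348_s (hinv : ∀ x, g (inv x) = (g x)⁻¹) (hr : ∀ r ∈ rels, (r.map g).prod = 1) (hH : ∀ r ∈ subs, (r.map g).prod ∈ H)
    (j u : ℕ) (hu : u < M) (h : dp_z_348 j u = true) : Good (fa g) T MG M (cP g H) Lt.z u := by
  unfold dp_z_348 at h
  rcases brec_true h with h | h
  · exact dp_z_345_s hinv hr hH j u hu h
  · exact dp_z_347_s hinv hr hH j u hu h
theorem dp_z_349_s (hinv : ∀ x, g (inv x) = (g x)⁻¹) (hr : ∀ r ∈ rels, (r.map g).prod = 1) (hH : ∀ r ∈ subs, (r.map g).prod ∈ H)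
    (j u : ℕ) (hu : u < M) (h : dp_z_349 j u = true) : Good (fa g) T MG M (cP g H) Lt.z u := by
  unfold dp_z_349 at h
  rcases brec_true h with h | h
  · exact lF_good (T := T) (x := Lt.z) (by decide) [Lt.yi, Lt.yi, Lt.yi, Lt.z, Lt.y, Lt.y, Lt.y, Lt.z, Lt.q, Lt.y, Lt.z, Lt.q, Lt.y, Lt.z, Lt.q, Lt.z, Lt.yi, Lt.q, Lt.z, Lt.yi, Lt.q, Lt.z, Lt.yi, Lt.yi, Lt.yi, Lt.z, Lt.y, Lt.y, Lt.y, Lt.z, Lt.q, Lt.y, Lt.z, Lt.q, Lt.y, Lt.z, Lt.q, Lt.yi, Lt.q, Lt.z, Lt.yi, Lt.q, Lt.z, Lt.yi, Lt.yi, Lt.yi, Lt.z, Lt.y, Lt.y, Lt.y, Lt.z, Lt.q, Lt.y, Lt.z, Lt.q, Lt.y, Lt.z, Lt.q, Lt.yi, Lt.q, Lt.z, Lt.yi, Lt.q] (H9.TCY.hole_at hinv hr 49 49 false (by decide +kernel)) h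
  · exact lS_good (T := T) (x := Lt.z) (by decide) hu [Lt.yi, Lt.yi, Lt.yi, Lt.z, Lt.y, Lt.y, Lt.y, Lt.z, Lt.q, Lt.y, Lt.z, Lt.q, Lt.y, Lt.q, Lt.z, Lt.yi, Lt.q, Lt.z, Lt.yi, Lt.q, Lt.z, Lt.yi, Lt.yi, Lt.yi, Lt.z, Lt.y, Lt.y, Lt.y, Lt.z, Lt.q, Lt.y, Lt.z, Lt.q, Lt.y, Lt.z, Lt.q, Lt.z, Lt.yi, Lt.q, Lt.z, Lt.yi, Lt.q, Lt.z, Lt.yi, Lt.yi, Lt.yi, Lt.z, Lt.y, Lt.y, Lt.y, Lt.z, Lt.q, Lt.y, Lt.z, Lt.q, Lt.y, Lt.q, Lt.z, Lt.yi, Lt.q, Lt.z, Lt.yi, Lt.q] (H9.TCY.hole_at hinv hr 49 29 true (by decide +kernel)) h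
theorem dp_z_350_s (hinv : ∀ x, g (inv x) = (g x)⁻¹) (hr : ∀ r ∈ rels, (r.map g).prod = 1) (hH : ∀ r ∈ subs, (r.map g).prod ∈ H)
    (j u : ℕ) (hu : u < M) (h : dp_z_350 j u = true) : Good (fa g) T MG M (cP g H) Lt.z u := by
  unfold dp_z_350 at h
  rcases brec_true h with h | h
  · exact lF_good (T := T) (x := Lt.z) (by decide) [Lt.q, Lt.z, Lt.q, Lt.v, Lt.z, Lt.q, Lt.v, Lt.z, Lt.q, Lt.z, Lt.q, Lt.z, Lt.q, Lt.v] (H9.TCY.hole_at hinv hr 22 11 false (by decide +kernel)) h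
  · exact dp_z_349_s hinv hr hH j u hu h
theorem dp_z_351_s (hinv : ∀ x, g (inv x) = (g x)⁻¹) (hr : ∀ r ∈ rels, (r.map g).prod = 1) (hH : ∀ r ∈ subs, (r.map g).prod ∈ H)
    (j u : ℕ) (hu : u < M) (h : dp_z_351 j u = true) : Good (fa g) T MG M (cP g H) Lt.z u := by
  unfold dp_z_351 at h
  rcases brec_true h with h | h
  · exact lS_good (T := T) (x := Lt.z) (by decide) hu [Lt.yi, Lt.yi, Lt.yi, Lt.z, Lt.y, Lt.y, Lt.y, Lt.z, Lt.q, Lt.y, Lt.z, Lt.q, Lt.y, Lt.z, Lt.q, Lt.yi, Lt.q, Lt.z, Lt.yi, Lt.q, Lt.z, Lt.yi, Lt.yi, Lt.yi, Lt.z, Lt.y, Lt.y, Lt.y, Lt.z, Lt.q, Lt.y, Lt.z, Lt.q, Lt.y, Lt.z, Lt.q, Lt.yi, Lt.q, Lt.z, Lt.yi, Lt.q, Lt.z, Lt.yi, Lt.yi, Lt.yi, Lt.z, Lt.y, Lt.y, Lt.y, Lt.z, Lt.q, Lt.y, Lt.z, Lt.q, Lt.y, Lt.z, Lt.q, Lt.z, Lt.yi, Lt.q, Lt.z, Lt.yi, Lt.q] (H9.TCY.hole_at hinv hr 49 7 false (by decide +kernel)) h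
  · exact lF_good (T := T) (x := Lt.z) (by decide) [Lt.y, Lt.y, Lt.y, Lt.z, Lt.q, Lt.y, Lt.z, Lt.q, Lt.y, Lt.z, Lt.q, Lt.z, Lt.yi, Lt.q, Lt.z, Lt.yi, Lt.q, Lt.z, Lt.yi, Lt.yi, Lt.yi, Lt.z, Lt.y, Lt.y, Lt.y, Lt.z, Lt.q, Lt.y, Lt.z, Lt.q, Lt.y, Lt.z, Lt.q, Lt.yi, Lt.q, Lt.z, Lt.yi, Lt.q, Lt.z, Lt.yi, Lt.yi, Lt.yi, Lt.z, Lt.y, Lt.y, Lt.y, Lt.z, Lt.q, Lt.y, Lt.z, Lt.q, Lt.y, Lt.z, Lt.q, Lt.yi, Lt.q, Lt.z, Lt.yi, Lt.q, Lt.z, Lt.yi, Lt.yi, Lt.yi] (H9.TCY.hole_at hinv hr 49 53 false (by decide +kernel)) h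
theorem dp_z_352_s (hinv : ∀ x, g (inv x) = (g x)⁻¹) (hr : ∀ r ∈ rels, (r.map g).prod = 1) (hH : ∀ r ∈ subs, (r.map g).prod ∈ H)
    (j u : ℕ) (hu : u < M) (h : dp_z_352 j u = true) : Good (fa g) T MG M (cP g H) Lt.z u := by
  unfold dp_z_352 at h
  rcases brec_true h with h | h
  · exact lS_good (T := T) (x := Lt.z) (by decide) hu [Lt.q, Lt.v, Lt.z, Lt.q, Lt.z, Lt.q, Lt.v, Lt.z, Lt.q, Lt.v, Lt.z, Lt.q, Lt.z, Lt.q] (H9.TCY.hole_at hinv hr 22 8 false (by decide +kernel)) h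
  · exact dp_z_351_s hinv hr hH j u hu h
theorem dp_z_353_s (hinv : ∀ x, g (inv x) = (g x)⁻¹) (hr : ∀ r ∈ rels, (r.map g).prod = 1) (hH : ∀ r ∈ subs, (r.map g).prod ∈ H)
    (j u : ℕ) (hu : u < M) (h : dp_z_353 j u = true) : Good (fa g) T MG M (cP g H) Lt.z u := by
  unfold dp_z_353 at h
  rcases brec_true h with h | h
  · exact dp_z_350_s hinv hr hH j u hu h
  · exact dp_z_352_s hinv hr hH j u hu h
theorem dp_z_354_s (hinv : ∀ x, g (inv x) = (g x)⁻¹) (hr : ∀ r ∈ rels, (r.map g).prod = 1) (hH : ∀ r ∈ subs, (r.map g).prod ∈ H)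
    (j u : ℕ) (hu : u < M) (h : dp_z_354 j u = true) : Good (fa g) T MG M (cP g H) Lt.z u := by
  unfold dp_z_354 at h
  rcases brec_true h with h | h
  · exact dp_z_348_s hinv hr hH j u hu h
  · exact dp_z_353_s hinv hr hH j u hu h
theorem dp_z_355_s (hinv : ∀ x, g (inv x) = (g x)⁻¹) (hr : ∀ r ∈ rels, (r.map g).prod = 1) (hH : ∀ r ∈ subs, (r.map g).prod ∈ H)
    (j u : ℕ) (hu : u < M) (h : dp_z_355 j u = true) : Good (fa g) T MG M (cP g H) Lt.z u := by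
  unfold dp_z_355 at h
  rcases brec_true h with h | h
  · exact dp_z_344_s hinv hr hH j u hu h
  · exact dp_z_354_s hinv hr hH j u hu h
theorem dp_z_356_s (hinv : ∀ x, g (inv x) = (g x)⁻¹) (hr : ∀ r ∈ rels, (r.map g).prod = 1) (hH : ∀ r ∈ subs, (r.map g).prod ∈ H)
    (j u : ℕ) (hu : u < M) (h : dp_z_356 j u = true) : Good (fa g) T MG M (cP g H) Lt.z u := by
  unfold dp_z_356 at h
  rcases brec_true h with h | h
  · exact dp_z_337_s hinv hr hH j u hu h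
  · exact dp_z_355_s hinv hr hH j u hu h
theorem dp_z_357_s (hinv : ∀ x, g (inv x) = (g x)⁻¹) (hr : ∀ r ∈ rels, (r.map g).prod = 1) (hH : ∀ r ∈ subs, (r.map g).prod ∈ H)
    (j u : ℕ) (hu : u < M) (h : dp_z_357 j u = true) : Good (fa g) T MG M (cP g H) Lt.z u := by
  unfold dp_z_357 at h
  rcases brec_true h with h | h
  · exact dp_z_329_s hinv hr hH j u hu h
  · exact dp_z_356_s hinv hr hH j u hu h
theorem dp_z_358_s (hinv : ∀ x, g (inv x) = (g x)⁻¹) (hr : ∀ r ∈ rels, (r.map g).prod = 1) (hH : ∀ r ∈ subs, (r.map g).prod ∈ H)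
    (j u : ℕ) (hu : u < M) (h : dp_z_358 j u = true) : Good (fa g) T MG M (cP g H) Lt.z u := by
  unfold dp_z_358 at h
  rcases brec_true h with h | h
  · exact dp_z_323_s hinv hr hH j u hu h
  · exact dp_z_357_s hinv hr hH j u hu h
theorem dp_z_359_s (hinv : ∀ x, g (inv x) = (g x)⁻¹) (hr : ∀ r ∈ rels, (r.map g).prod = 1) (hH : ∀ r ∈ subs, (r.map g).prod ∈ H)
    (j u : ℕ) (hu : u < M) (h : dp_z_359 j u = true) : Good (fa g) T MG M (cP g H) Lt.z u := by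
  unfold dp_z_359 at h
  rcases brec_true h with h | h
  · exact dp_z_315_s hinv hr hH j u hu h
  · exact dp_z_358_s hinv hr hH j u hu h
theorem dp_z_360_s (hinv : ∀ x, g (inv x) = (g x)⁻¹) (hr : ∀ r ∈ rels, (r.map g).prod = 1) (hH : ∀ r ∈ subs, (r.map g).prod ∈ H)
    (j u : ℕ) (hu : u < M) (h : dp_z_360 j u = true) : Good (fa g) T MG M (cP g H) Lt.z u := by
  unfold dp_z_360 at h
  rcases brec_true h with h | h
  · exact dp_z_305_s hinv hr hH j u hu h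
  · exact dp_z_359_s hinv hr hH j u hu h
theorem dp_z_361_s (hinv : ∀ x, g (inv x) = (g x)⁻¹) (hr : ∀ r ∈ rels, (r.map g).prod = 1) (hH : ∀ r ∈ subs, (r.map g).prod ∈ H)
    (j u : ℕ) (hu : u < M) (h : dp_z_361 j u = true) : Good (fa g) T MG M (cP g H) Lt.z u := by
  unfold dp_z_361 at h
  rcases brec_true h with h | h
  · exact dp_z_291_s hinv hr hH j u hu h
  · exact dp_z_360_s hinv hr hH j u hu h
theorem dp_z_362_s (hinv : ∀ x, g (inv x) = (g x)⁻¹) (hr : ∀ r ∈ rels, (r.map g).prod = 1) (hH : ∀ r ∈ subs, (r.map g).prod ∈ H)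
    (j u : ℕ) (hu : u < M) (h : dp_z_362 j u = true) : Good (fa g) T MG M (cP g H) Lt.z u := by
  unfold dp_z_362 at h
  rcases brec_true h with h | h
  · exact dp_z_272_s hinv hr hH j u hu h
  · exact dp_z_361_s hinv hr hH j u hu h
theorem dp_z_363_s (hinv : ∀ x, g (inv x) = (g x)⁻¹) (hr : ∀ r ∈ rels, (r.map g).prod = 1) (hH : ∀ r ∈ subs, (r.map g).prod ∈ H)
    (j u : ℕ) (hu : u < M) (h : dp_z_363 j u = true) : Good (fa g) T MG M (cP g H) Lt.z u := by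
  unfold dp_z_363 at h
  rcases brec_true h with h | h
  · exact dp_z_244_s hinv hr hH j u hu h
  · exact dp_z_362_s hinv hr hH j u hu h
theorem dp_z_364_s (hinv : ∀ x, g (inv x) = (g x)⁻¹) (hr : ∀ r ∈ rels, (r.map g).prod = 1) (hH : ∀ r ∈ subs, (r.map g).prod ∈ H)
    (j u : ℕ) (hu : u < M) (h : dp_z_364 j u = true) : Good (fa g) T MG M (cP g H) Lt.z u := by
  unfold dp_z_364 at h
  rcases brec_true h with h | h
  · exact dp_z_206_s hinv hr hH j u hu h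
  · exact dp_z_363_s hinv hr hH j u hu h
theorem dp_z_365_s (hinv : ∀ x, g (inv x) = (g x)⁻¹) (hr : ∀ r ∈ rels, (r.map g).prod = 1) (hH : ∀ r ∈ subs, (r.map g).prod ∈ H)
    (j u : ℕ) (hu : u < M) (h : dp_z_365 j u = true) : Good (fa g) T MG M (cP g H) Lt.z u := by
  unfold dp_z_365 at h
  rcases brec_true h with h | h
  · exact dp_z_158_s hinv hr hH j u hu h
  · exact dp_z_364_s hinv hr hH j u hu h
theorem dp_z_366_s (hinv : ∀ x, g (inv x) = (g x)⁻¹) (hr : ∀ r ∈ rels, (r.map g).prod = 1) (hH : ∀ r ∈ subs, (r.map g).prod ∈ H)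
    (j u : ℕ) (hu : u < M) (h : dp_z_366 j u = true) : Good (fa g) T MG M (cP g H) Lt.z u := by
  unfold dp_z_366 at h
  rcases brec_true h with h | h
  · exact dp_z_100_s hinv hr hH j u hu h
  · exact dp_z_365_s hinv hr hH j u hu h
theorem dp_z_367_s (hinv : ∀ x, g (inv x) = (g x)⁻¹) (hr : ∀ r ∈ rels, (r.map g).prod = 1) (hH : ∀ r ∈ subs, (r.map g).prod ∈ H)
    (j u : ℕ) (hu : u < M) (h : dp_z_367 j u = true) : Good (fa g) T MG M (cP g H) Lt.z u := by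
  unfold dp_z_367 at h
  rcases brec_true h with h | h
  · exact dp_z_47_s hinv hr hH j u hu h
  · exact dp_z_366_s hinv hr hH j u hu h
theorem dp_z_368_s (hinv : ∀ x, g (inv x) = (g x)⁻¹) (hr : ∀ r ∈ rels, (r.map g).prod = 1) (hH : ∀ r ∈ subs, (r.map g).prod ∈ H)
    (j u : ℕ) (hu : u < M) (h : dp_z_368 j u = true) : Good (fa g) T MG M (cP g H) Lt.z u := by
  unfold dp_z_368 at h
  rcases brec_true h with h | h
  · exact dp_z_17_s hinv hr hH j u hu h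
  · exact dp_z_367_s hinv hr hH j u hu h
theorem dp_z_369_s (hinv : ∀ x, g (inv x) = (g x)⁻¹) (hr : ∀ r ∈ rels, (r.map g).prod = 1) (hH : ∀ r ∈ subs, (r.map g).prod ∈ H)
    (j u : ℕ) (hu : u < M) (h : dp_z_369 j u = true) : Good (fa g) T MG M (cP g H) Lt.z u := by
  unfold dp_z_369 at h
  rcases brec_true h with h | h
  · exact dp_z_5_s hinv hr hH j u hu h
  · exact dp_z_368_s hinv hr hH j u hu h
theorem snd_z (hinv : ∀ x, g (inv x) = (g x)⁻¹) (hr : ∀ r ∈ rels, (r.map g).prod = 1) (hH : ∀ r ∈ subs, (r.map g).prod ∈ H)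
    (j u : ℕ) (hu : u < M) (h : disp_z j u = true) : Good (fa g) T MG M (cP g H) Lt.z u := by
  unfold disp_z at h
  rcases brec_true h with h | h
  · rcases brec_true h with h | h
    · exact lF1_good (T := T) (x := Lt.z) (by decide) .z (H9.TCY.hole_at hinv hr 3 0 false (by decide +kernel)) h
    · exact lDef_good (T := T) (x := Lt.z) (by decide) rfl h
  · rcases brec_true h with h | h
    · rcases brec_true h with h | h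
      · exact lPar_good (T := T) (x := Lt.z) (x' := Lt.z) (by decide) rfl (inv_rel hinv _ _ rfl) h
      · exact lF_good (T := T) (x := Lt.z) (by decide) [Lt.v, Lt.q, Lt.v, Lt.z, Lt.v, Lt.q, Lt.v] (H9.TCY.hole_at hinv hr 9 3 false (by decide +kernel)) h
    · exact dp_z_369_s hinv hr hH j u hu h
theorem snc_z (hinv : ∀ x, g (inv x) = (g x)⁻¹) (hr : ∀ r ∈ rels, (r.map g).prod = 1) (hH : ∀ r ∈ subs, (r.map g).prod ∈ H)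
    (j u : ℕ) (hu : u < M) (h : chk_z j u = true) : (T Lt.z u < A ∧ Good (fa g) T MG M (cP g H) Lt.z u) ∨ (A ≤ T Lt.z u ∧ MG u < A) := by
  unfold chk_z at h
  cases hb : Nat.ble A (T_z u) with
  | true => rw [hb] at h; exact Or.inr ⟨le_of_ble hb, le_of_ble h⟩
  | false => rw [hb] at h; exact Or.inl ⟨lt_of_ble_false hb, snd_z hinv hr hH j u hu h⟩
end
end H9.HN.TCHN
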