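import Cfsg.Agent.Lib.H9.HN.TCHN.Snd0
import Cfsg.Agent.Lib.H9.HN.TCY
set_option autoImplicit false
set_option maxRecDepth 100000
set_option linter.all false
namespace H9.HN.TCHN
open H35.TC
section
variable {G : Type} [Group G] {g : Lt → G} {H : Subgroup G}
theorem dp_y_0_s (hinv : ∀ x, g (inv x) = (g x)⁻¹) (hr : ∀ r ∈ rels, (r.map g).prod = 1) (hH : ∀ r ∈ subs, (r.map g).prod ∈ H)
    (j u : ℕ) (hu : u < M) (h : dp_y_0 j u = true) : Good (fa g) T MG M (cP g H) Lt.y u := by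
  unfold dp_y_0 at h
  rcases brec_true h with h | h
  · exact lF_good (T := T) (x := Lt.y) (by decide) [Lt.q, Lt.yi, Lt.q, Lt.y, Lt.q, Lt.yi, Lt.q] (H9.TCY.hole_at hinv hr 8 3 false (by decide +kernel)) h
  · exact lF_good (T := T) (x := Lt.y) (by decide) [Lt.y, Lt.y, Lt.y, Lt.y, Lt.y] (H9.TCY.hole_at hinv hr 7 0 false (by decide +kernel)) h
theorem dp_y_1_s (hinv : ∀ x, g (inv x) = (g x)⁻¹) (hr : ∀ r ∈ rels, (r.map g).prod = 1) (hH : ∀ r ∈ subs, (r.map g).prod ∈ H)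
    (j u : ℕ) (hu : u < M) (h : dp_y_1 j u = true) : Good (fa g) T MG M (cP g H) Lt.y u := by
  unfold dp_y_1 at h
  rcases brec_true h with h | h
  · exact lS_good (T := T) (x := Lt.y) (by decide) hu [Lt.yi] (H9.TCY.hole_at hinv hr 50 1 false (by decide +kernel)) h
  · exact lF_good (T := T) (x := Lt.y) (by decide) [Lt.z, Lt.yi, Lt.z, Lt.y, Lt.z, Lt.yi, Lt.z, Lt.y, Lt.z, Lt.yi, Lt.z] (H9.TCY.hole_at hinv hr 12 3 false (by decide +kernel)) h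
theorem dp_y_2_s (hinv : ∀ x, g (inv x) = (g x)⁻¹) (hr : ∀ r ∈ rels, (r.map g).prod = 1) (hH : ∀ r ∈ subs, (r.map g).prod ∈ H)
    (j u : ℕ) (hu : u < M) (h : dp_y_2 j u = true) : Good (fa g) T MG M (cP g H) Lt.y u := by
  unfold dp_y_2 at h
  rcases brec_true h with h | h
  · exact lF_good (T := T) (x := Lt.y) (by decide) [Lt.q, Lt.z, Lt.q, Lt.z, Lt.yi, Lt.q, Lt.z, Lt.q, Lt.z] (H9.TCY.hole_at hinv hr 10 6 false (by decide +kernel)) h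
  · exact dp_y_1_s hinv hr hH j u hu h
theorem dp_y_3_s (hinv : ∀ x, g (inv x) = (g x)⁻¹) (hr : ∀ r ∈ rels, (r.map g).prod = 1) (hH : ∀ r ∈ subs, (r.map g).prod ∈ H)
    (j u : ℕ) (hu : u < M) (h : dp_y_3 j u = true) : Good (fa g) T MG M (cP g H) Lt.y u := by
  unfold dp_y_3 at h
  rcases brec_true h with h | h
  · exact lF_good (T := T) (x := Lt.y) (by decide) [Lt.z, Lt.q, Lt.z, Lt.q, Lt.yi, Lt.z, Lt.q, Lt.z, Lt.q] (H9.TCY.hole_at hinv hr 10 0 true (by decide +kernel)) h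
  · exact lS_good (T := T) (x := Lt.y) (by decide) hu [Lt.q, Lt.yi, Lt.q, Lt.y, Lt.q, Lt.yi, Lt.q] (H9.TCY.hole_at hinv hr 8 3 false (by decide +kernel)) h
theorem dp_y_4_s (hinv : ∀ x, g (inv x) = (g x)⁻¹) (hr : ∀ r ∈ rels, (r.map g).prod = 1) (hH : ∀ r ∈ subs, (r.map g).prod ∈ H)
    (j u : ℕ) (hu : u < M) (h : dp_y_4 j u = true) : Good (fa g) T MG M (cP g H) Lt.y u := by
  unfold dp_y_4 at h
  rcases brec_true h with h | h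
  · exact lS_good (T := T) (x := Lt.y) (by decide) hu [Lt.v, Lt.yi, Lt.v] (H9.TCY.hole_at hinv hr 6 3 false (by decide +kernel)) h
  · exact lF_good (T := T) (x := Lt.y) (by decide) [Lt.q, Lt.yi, Lt.yi, Lt.q, Lt.y, Lt.y, Lt.q, Lt.yi, Lt.yi, Lt.q, Lt.y] (H9.TCY.hole_at hinv hr 19 5 false (by decide +kernel)) h
theorem dp_y_5_s (hinv : ∀ x, g (inv x) = (g x)⁻¹) (hr : ∀ r ∈ rels, (r.map g).prod = 1) (hH : ∀ r ∈ subs, (r.map g).prod ∈ H)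
    (j u : ℕ) (hu : u < M) (h : dp_y_5 j u = true) : Good (fa g) T MG M (cP g H) Lt.y u := by
  unfold dp_y_5 at h
  rcases brec_true h with h | h
  · exact lF_good (T := T) (x := Lt.y) (by decide) [Lt.z, Lt.yi, Lt.q, Lt.y, Lt.z, Lt.yi, Lt.z, Lt.y, Lt.q, Lt.yi, Lt.z] (H9.TCY.hole_at hinv hr 17 11 false (by decide +kernel)) h
  · exact lS_good (T := T) (x := Lt.y) (by decide) hu [Lt.y, Lt.y, Lt.y, Lt.y, Lt.y] (H9.TCY.hole_at hinv hr 7 0 false (by decide +kernel)) h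
theorem dp_y_6_s (hinv : ∀ x, g (inv x) = (g x)⁻¹) (hr : ∀ r ∈ rels, (r.map g).prod = 1) (hH : ∀ r ∈ subs, (r.map g).prod ∈ H)
    (j u : ℕ) (hu : u < M) (h : dp_y_6 j u = true) : Good (fa g) T MG M (cP g H) Lt.y u := by
  unfold dp_y_6 at h
  rcases brec_true h with h | h
  · exact dp_y_4_s hinv hr hH j u hu h
  · exact dp_y_5_s hinv hr hH j u hu h
theorem dp_y_7_s (hinv : ∀ x, g (inv x) = (g x)⁻¹) (hr : ∀ r ∈ rels, (r.map g).prod = 1) (hH : ∀ r ∈ subs, (r.map g).prod ∈ H)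
    (j u : ℕ) (hu : u < M) (h : dp_y_7 j u = true) : Good (fa g) T MG M (cP g H) Lt.y u := by
  unfold dp_y_7 at h
  rcases brec_true h with h | h
  · exact dp_y_3_s hinv hr hH j u hu h
  · exact dp_y_6_s hinv hr hH j u hu h
theorem dp_y_8_s (hinv : ∀ x, g (inv x) = (g x)⁻¹) (hr : ∀ r ∈ rels, (r.map g).prod = 1) (hH : ∀ r ∈ subs, (r.map g).prod ∈ H)
    (j u : ℕ) (hu : u < M) (h : dp_y_8 j u = true) : Good (fa g) T MG M (cP g H) Lt.y u := by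
  unfold dp_y_8 at h
  rcases brec_true h with h | h
  · exact dp_y_2_s hinv hr hH j u hu h
  · exact dp_y_7_s hinv hr hH j u hu h
theorem dp_y_9_s (hinv : ∀ x, g (inv x) = (g x)⁻¹) (hr : ∀ r ∈ rels, (r.map g).prod = 1) (hH : ∀ r ∈ subs, (r.map g).prod ∈ H)
    (j u : ℕ) (hu : u < M) (h : dp_y_9 j u = true) : Good (fa g) T MG M (cP g H) Lt.y u := by
  unfold dp_y_9 at h
  rcases brec_true h with h | h
  · exact lF_good (T := T) (x := Lt.y) (by decide) [Lt.q, Lt.yi, Lt.z, Lt.y, Lt.z, Lt.yi, Lt.q, Lt.y, Lt.z, Lt.yi, Lt.z] (H9.TCY.hole_at hinv hr 17 7 false (by decide +kernel)) h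
  · exact lF_good (T := T) (x := Lt.y) (by decide) [Lt.y, Lt.q, Lt.yi, Lt.yi, Lt.q, Lt.y, Lt.y, Lt.q, Lt.yi, Lt.yi, Lt.q] (H9.TCY.hole_at hinv hr 19 4 false (by decide +kernel)) h
theorem dp_y_10_s (hinv : ∀ x, g (inv x) = (g x)⁻¹) (hr : ∀ r ∈ rels, (r.map g).prod = 1) (hH : ∀ r ∈ subs, (r.map g).prod ∈ H)
    (j u : ℕ) (hu : u < M) (h : dp_y_10 j u = true) : Good (fa g) T MG M (cP g H) Lt.y u := by
  unfold dp_y_10 at h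
  rcases brec_true h with h | h
  · exact lF_good (T := T) (x := Lt.y) (by decide) [Lt.q, Lt.y, Lt.q, Lt.y, Lt.q, Lt.y, Lt.q, Lt.y, Lt.q, Lt.y, Lt.q] (H9.TCY.hole_at hinv hr 18 0 true (by decide +kernel)) h
  · exact dp_y_9_s hinv hr hH j u hu h
theorem dp_y_11_s (hinv : ∀ x, g (inv x) = (g x)⁻¹) (hr : ∀ r ∈ rels, (r.map g).prod = 1) (hH : ∀ r ∈ subs, (r.map g).prod ∈ H)
    (j u : ℕ) (hu : u < M) (h : dp_y_11 j u = true) : Good (fa g) T MG M (cP g H) Lt.y u := by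
  unfold dp_y_11 at h
  rcases brec_true h with h | h
  · exact lS_good (T := T) (x := Lt.y) (by decide) hu [Lt.z, Lt.yi, Lt.z, Lt.y, Lt.z, Lt.yi, Lt.z, Lt.y, Lt.z, Lt.yi, Lt.z] (H9.TCY.hole_at hinv hr 12 3 false (by decide +kernel)) h
  · exact lS_good (T := T) (x := Lt.y) (by decide) hu [Lt.q, Lt.z, Lt.q, Lt.z, Lt.yi, Lt.q, Lt.z, Lt.q, Lt.z] (H9.TCY.hole_at hinv hr 10 6 false (by decide +kernel)) h
theorem dp_y_12_s (hinv : ∀ x, g (inv x) = (g x)⁻¹) (hr : ∀ r ∈ rels, (r.map g).prod = 1) (hH : ∀ r ∈ subs, (r.map g).prod ∈ H)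
    (j u : ℕ) (hu : u < M) (h : dp_y_12 j u = true) : Good (fa g) T MG M (cP g H) Lt.y u := by
  unfold dp_y_12 at h
  rcases brec_true h with h | h
  · exact lF_good (T := T) (x := Lt.y) (by decide) [Lt.z, Lt.yi, Lt.z, Lt.y, Lt.q, Lt.yi, Lt.z, Lt.y, Lt.z, Lt.yi, Lt.q] (H9.TCY.hole_at hinv hr 17 3 false (by decide +kernel)) h
  · exact dp_y_11_s hinv hr hH j u hu h
theorem dp_y_13_s (hinv : ∀ x, g (inv x) = (g x)⁻¹) (hr : ∀ r ∈ rels, (r.map g).prod = 1) (hH : ∀ r ∈ subs, (r.map g).prod ∈ H)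
    (j u : ℕ) (hu : u < M) (h : dp_y_13 j u = true) : Good (fa g) T MG M (cP g H) Lt.y u := by
  unfold dp_y_13 at h
  rcases brec_true h with h | h
  · exact dp_y_10_s hinv hr hH j u hu h
  · exact dp_y_12_s hinv hr hH j u hu h
theorem dp_y_14_s (hinv : ∀ x, g (inv x) = (g x)⁻¹) (hr : ∀ r ∈ rels, (r.map g).prod = 1) (hH : ∀ r ∈ subs, (r.map g).prod ∈ H)
    (j u : ℕ) (hu : u < M) (h : dp_y_14 j u = true) : Good (fa g) T MG M (cP g H) Lt.y u := by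
  unfold dp_y_14 at h
  rcases brec_true h with h | h
  · exact lS_good (T := T) (x := Lt.y) (by decide) hu [Lt.z, Lt.q, Lt.z, Lt.q, Lt.yi, Lt.z, Lt.q, Lt.z, Lt.q] (H9.TCY.hole_at hinv hr 10 0 true (by decide +kernel)) h
  · exact lS_good (T := T) (x := Lt.y) (by decide) hu [Lt.q, Lt.yi, Lt.yi, Lt.q, Lt.y, Lt.y, Lt.q, Lt.yi, Lt.yi, Lt.q, Lt.y] (H9.TCY.hole_at hinv hr 19 5 false (by decide +kernel)) h
theorem dp_y_15_s (hinv : ∀ x, g (inv x) = (g x)⁻¹) (hr : ∀ r ∈ rels, (r.map g).prod = 1) (hH : ∀ r ∈ subs, (r.map g).prod ∈ H)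
    (j u : ℕ) (hu : u < M) (h : dp_y_15 j u = true) : Good (fa g) T MG M (cP g H) Lt.y u := by
  unfold dp_y_15 at h
  rcases brec_true h with h | h
  · exact lF_good (T := T) (x := Lt.y) (by decide) [Lt.z, Lt.q, Lt.z, Lt.yi, Lt.q, Lt.y, Lt.z, Lt.q, Lt.z, Lt.yi, Lt.q] (H9.TCY.hole_at hinv hr 16 3 false (by decide +kernel)) h
  · exact dp_y_14_s hinv hr hH j u hu h
theorem dp_y_16_s (hinv : ∀ x, g (inv x) = (g x)⁻¹) (hr : ∀ r ∈ rels, (r.map g).prod = 1) (hH : ∀ r ∈ subs, (r.map g).prod ∈ H)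
    (j u : ℕ) (hu : u < M) (h : dp_y_16 j u = true) : Good (fa g) T MG M (cP g H) Lt.y u := by
  unfold dp_y_16 at h
  rcases brec_true h with h | h
  · exact lF_good (T := T) (x := Lt.y) (by decide) [Lt.q, Lt.yi, Lt.z, Lt.q, Lt.z, Lt.y, Lt.q, Lt.yi, Lt.z, Lt.q, Lt.z] (H9.TCY.hole_at hinv hr 15 5 false (by decide +kernel)) h
  · exact lS_good (T := T) (x := Lt.y) (by decide) hu [Lt.z, Lt.yi, Lt.q, Lt.y, Lt.z, Lt.yi, Lt.z, Lt.y, Lt.q, Lt.yi, Lt.z] (H9.TCY.hole_at hinv hr 17 11 false (by decide +kernel)) h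
theorem dp_y_17_s (hinv : ∀ x, g (inv x) = (g x)⁻¹) (hr : ∀ r ∈ rels, (r.map g).prod = 1) (hH : ∀ r ∈ subs, (r.map g).prod ∈ H)
    (j u : ℕ) (hu : u < M) (h : dp_y_17 j u = true) : Good (fa g) T MG M (cP g H) Lt.y u := by
  unfold dp_y_17 at h
  rcases brec_true h with h | h
  · exact lS_good (T := T) (x := Lt.y) (by decide) hu [Lt.q, Lt.y, Lt.q, Lt.y, Lt.q, Lt.y, Lt.q, Lt.y, Lt.q, Lt.y, Lt.q] (H9.TCY.hole_at hinv hr 18 0 true (by decide +kernel)) h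
  · exact dp_y_16_s hinv hr hH j u hu h
theorem dp_y_18_s (hinv : ∀ x, g (inv x) = (g x)⁻¹) (hr : ∀ r ∈ rels, (r.map g).prod = 1) (hH : ∀ r ∈ subs, (r.map g).prod ∈ H)
    (j u : ℕ) (hu : u < M) (h : dp_y_18 j u = true) : Good (fa g) T MG M (cP g H) Lt.y u := by
  unfold dp_y_18 at h
  rcases brec_true h with h | h
  · exact dp_y_15_s hinv hr hH j u hu h
  · exact dp_y_17_s hinv hr hH j u hu h
theorem dp_y_19_s (hinv : ∀ x, g (inv x) = (g x)⁻¹) (hr : ∀ r ∈ rels, (r.map g).prod = 1) (hH : ∀ r ∈ subs, (r.map g).prod ∈ H)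
    (j u : ℕ) (hu : u < M) (h : dp_y_19 j u = true) : Good (fa g) T MG M (cP g H) Lt.y u := by
  unfold dp_y_19 at h
  rcases brec_true h with h | h
  · exact lF_good (T := T) (x := Lt.y) (by decide) [Lt.z, Lt.q, Lt.z, Lt.q, Lt.v, Lt.yi, Lt.v, Lt.q, Lt.z, Lt.q, Lt.z] (H9.TCY.hole_at hinv hr 13 7 true (by decide +kernel)) h
  · exact lF_good (T := T) (x := Lt.y) (by decide) [Lt.z, Lt.y, Lt.q, Lt.yi, Lt.z, Lt.yi, Lt.z, Lt.y, Lt.z, Lt.y, Lt.q, Lt.yi, Lt.z, Lt.yi, Lt.z] (H9.TCY.hole_at hinv hr 26 5 false (by decide +kernel)) h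
theorem dp_y_20_s (hinv : ∀ x, g (inv x) = (g x)⁻¹) (hr : ∀ r ∈ rels, (r.map g).prod = 1) (hH : ∀ r ∈ subs, (r.map g).prod ∈ H)
    (j u : ℕ) (hu : u < M) (h : dp_y_20 j u = true) : Good (fa g) T MG M (cP g H) Lt.y u := by
  unfold dp_y_20 at h
  rcases brec_true h with h | h
  · exact lF_good (T := T) (x := Lt.y) (by decide) [Lt.y, Lt.q, Lt.z, Lt.q, Lt.z, Lt.y, Lt.y, Lt.y, Lt.q, Lt.z, Lt.q, Lt.z, Lt.y] (H9.TCY.hole_at hinv hr 21 6 true (by decide +kernel)) h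
  · exact dp_y_19_s hinv hr hH j u hu h
theorem dp_y_21_s (hinv : ∀ x, g (inv x) = (g x)⁻¹) (hr : ∀ r ∈ rels, (r.map g).prod = 1) (hH : ∀ r ∈ subs, (r.map g).prod ∈ H)
    (j u : ℕ) (hu : u < M) (h : dp_y_21 j u = true) : Good (fa g) T MG M (cP g H) Lt.y u := by
  unfold dp_y_21 at h
  rcases brec_true h with h | h
  · exact lS_good (T := T) (x := Lt.y) (by decide) hu [Lt.y, Lt.q, Lt.yi, Lt.yi, Lt.q, Lt.y, Lt.y, Lt.q, Lt.yi, Lt.yi, Lt.q] (H9.TCY.hole_at hinv hr 19 4 false (by decide +kernel)) h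
  · exact lS_good (T := T) (x := Lt.y) (by decide) hu [Lt.q, Lt.yi, Lt.z, Lt.y, Lt.z, Lt.yi, Lt.q, Lt.y, Lt.z, Lt.yi, Lt.z] (H9.TCY.hole_at hinv hr 17 7 false (by decide +kernel)) h
theorem dp_y_22_s (hinv : ∀ x, g (inv x) = (g x)⁻¹) (hr : ∀ r ∈ rels, (r.map g).prod = 1) (hH : ∀ r ∈ subs, (r.map g).prod ∈ H)
    (j u : ℕ) (hu : u < M) (h : dp_y_22 j u = true) : Good (fa g) T MG M (cP g H) Lt.y u := by
  unfold dp_y_22 at h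
  rcases brec_true h with h | h
  · exact lF_good (T := T) (x := Lt.y) (by decide) [Lt.q, Lt.z, Lt.q, Lt.z, Lt.y, Lt.y, Lt.y, Lt.q, Lt.z, Lt.q, Lt.z, Lt.y, Lt.y] (H9.TCY.hole_at hinv hr 21 0 true (by decide +kernel)) h
  · exact lF_good (T := T) (x := Lt.y) (by decide) [Lt.z, Lt.yi, Lt.z, Lt.yi, Lt.q, Lt.y, Lt.z, Lt.y, Lt.z, Lt.yi, Lt.z, Lt.yi, Lt.q, Lt.y, Lt.z] (H9.TCY.hole_at hinv hr 29 5 false (by decide +kernel)) h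
theorem dp_y_23_s (hinv : ∀ x, g (inv x) = (g x)⁻¹) (hr : ∀ r ∈ rels, (r.map g).prod = 1) (hH : ∀ r ∈ subs, (r.map g).prod ∈ H)
    (j u : ℕ) (hu : u < M) (h : dp_y_23 j u = true) : Good (fa g) T MG M (cP g H) Lt.y u := by
  unfold dp_y_23 at h
  rcases brec_true h with h | h
  · exact lS_good (T := T) (x := Lt.y) (by decide) hu [Lt.z, Lt.yi, Lt.z, Lt.y, Lt.q, Lt.yi, Lt.z, Lt.y, Lt.z, Lt.yi, Lt.q] (H9.TCY.hole_at hinv hr 17 3 false (by decide +kernel)) h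
  · exact dp_y_22_s hinv hr hH j u hu h
theorem dp_y_24_s (hinv : ∀ x, g (inv x) = (g x)⁻¹) (hr : ∀ r ∈ rels, (r.map g).prod = 1) (hH : ∀ r ∈ subs, (r.map g).prod ∈ H)
    (j u : ℕ) (hu : u < M) (h : dp_y_24 j u = true) : Good (fa g) T MG M (cP g H) Lt.y u := by
  unfold dp_y_24 at h
  rcases brec_true h with h | h
  · exact dp_y_21_s hinv hr hH j u hu h
  · exact dp_y_23_s hinv hr hH j u hu h
theorem dp_y_25_s (hinv : ∀ x, g (inv x) = (g x)⁻¹) (hr : ∀ r ∈ rels, (r.map g).prod = 1) (hH : ∀ r ∈ subs, (r.map g).prod ∈ H)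
    (j u : ℕ) (hu : u < M) (h : dp_y_25 j u = true) : Good (fa g) T MG M (cP g H) Lt.y u := by
  unfold dp_y_25 at h
  rcases brec_true h with h | h
  · exact dp_y_20_s hinv hr hH j u hu h
  · exact dp_y_24_s hinv hr hH j u hu h
theorem dp_y_26_s (hinv : ∀ x, g (inv x) = (g x)⁻¹) (hr : ∀ r ∈ rels, (r.map g).prod = 1) (hH : ∀ r ∈ subs, (r.map g).prod ∈ H)
    (j u : ℕ) (hu : u < M) (h : dp_y_26 j u = true) : Good (fa g) T MG M (cP g H) Lt.y u := by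
  unfold dp_y_26 at h
  rcases brec_true h with h | h
  · exact dp_y_18_s hinv hr hH j u hu h
  · exact dp_y_25_s hinv hr hH j u hu h
theorem dp_y_27_s (hinv : ∀ x, g (inv x) = (g x)⁻¹) (hr : ∀ r ∈ rels, (r.map g).prod = 1) (hH : ∀ r ∈ subs, (r.map g).prod ∈ H)
    (j u : ℕ) (hu : u < M) (h : dp_y_27 j u = true) : Good (fa g) T MG M (cP g H) Lt.y u := by
  unfold dp_y_27 at h
  rcases brec_true h with h | h
  · exact dp_y_13_s hinv hr hH j u hu h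
  · exact dp_y_26_s hinv hr hH j u hu h
theorem dp_y_28_s (hinv : ∀ x, g (inv x) = (g x)⁻¹) (hr : ∀ r ∈ rels, (r.map g).prod = 1) (hH : ∀ r ∈ subs, (r.map g).prod ∈ H)
    (j u : ℕ) (hu : u < M) (h : dp_y_28 j u = true) : Good (fa g) T MG M (cP g H) Lt.y u := by
  unfold dp_y_28 at h
  rcases brec_true h with h | h
  · exact lF_good (T := T) (x := Lt.y) (by decide) [Lt.q, Lt.yi, Lt.z, Lt.yi, Lt.z, Lt.y, Lt.z, Lt.y, Lt.q, Lt.yi, Lt.z, Lt.yi, Lt.z, Lt.y, Lt.z] (H9.TCY.hole_at hinv hr 26 7 false (by decide +kernel)) h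
  · exact lF_good (T := T) (x := Lt.y) (by decide) [Lt.z, Lt.yi, Lt.yi, Lt.z, Lt.y, Lt.y, Lt.z, Lt.yi, Lt.yi, Lt.z, Lt.y, Lt.y, Lt.z, Lt.yi, Lt.yi, Lt.z, Lt.y] (H9.TCY.hole_at hinv hr 38 5 false (by decide +kernel)) h
theorem dp_y_29_s (hinv : ∀ x, g (inv x) = (g x)⁻¹) (hr : ∀ r ∈ rels, (r.map g).prod = 1) (hH : ∀ r ∈ subs, (r.map g).prod ∈ H)
    (j u : ℕ) (hu : u < M) (h : dp_y_29 j u = true) : Good (fa g) T MG M (cP g H) Lt.y u := by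
  unfold dp_y_29 at h
  rcases brec_true h with h | h
  · exact lF_good (T := T) (x := Lt.y) (by decide) [Lt.y, Lt.z, Lt.yi, Lt.yi, Lt.z, Lt.y, Lt.y, Lt.z, Lt.yi, Lt.yi, Lt.z, Lt.y, Lt.y, Lt.z, Lt.yi, Lt.yi, Lt.z] (H9.TCY.hole_at hinv hr 38 4 false (by decide +kernel)) h
  · exact dp_y_28_s hinv hr hH j u hu h
theorem dp_y_30_s (hinv : ∀ x, g (inv x) = (g x)⁻¹) (hr : ∀ r ∈ rels, (r.map g).prod = 1) (hH : ∀ r ∈ subs, (r.map g).prod ∈ H)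
    (j u : ℕ) (hu : u < M) (h : dp_y_30 j u = true) : Good (fa g) T MG M (cP g H) Lt.y u := by
  unfold dp_y_30 at h
  rcases brec_true h with h | h
  · exact lS_good (T := T) (x := Lt.y) (by decide) hu [Lt.z, Lt.y, Lt.q, Lt.yi, Lt.z, Lt.yi, Lt.z, Lt.y, Lt.z, Lt.y, Lt.q, Lt.yi, Lt.z, Lt.yi, Lt.z] (H9.TCY.hole_at hinv hr 26 5 false (by decide +kernel)) h
  · exact lF_good (T := T) (x := Lt.y) (by decide) [Lt.y, Lt.y, Lt.q, Lt.z, Lt.q, Lt.z, Lt.y, Lt.y, Lt.y, Lt.q, Lt.z, Lt.q, Lt.z] (H9.TCY.hole_at hinv hr 21 5 true (by decide +kernel)) h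
theorem dp_y_31_s (hinv : ∀ x, g (inv x) = (g x)⁻¹) (hr : ∀ r ∈ rels, (r.map g).prod = 1) (hH : ∀ r ∈ subs, (r.map g).prod ∈ H)
    (j u : ℕ) (hu : u < M) (h : dp_y_31 j u = true) : Good (fa g) T MG M (cP g H) Lt.y u := by
  unfold dp_y_31 at h
  rcases brec_true h with h | h
  · exact lF_good (T := T) (x := Lt.y) (by decide) [Lt.z, Lt.q, Lt.y, Lt.z, Lt.yi, Lt.q, Lt.z, Lt.yi, Lt.yi, Lt.z, Lt.q, Lt.yi, Lt.z, Lt.y, Lt.q, Lt.z, Lt.y] (H9.TCY.hole_at hinv hr 37 11 false (by decide +kernel)) h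
  · exact lF_good (T := T) (x := Lt.y) (by decide) [Lt.y, Lt.q, Lt.yi, Lt.yi, Lt.yi, Lt.q, Lt.yi, Lt.yi, Lt.yi, Lt.q, Lt.yi, Lt.yi, Lt.yi, Lt.q, Lt.y] (H9.TCY.hole_at hinv hr 30 14 false (by decide +kernel)) h
theorem dp_y_32_s (hinv : ∀ x, g (inv x) = (g x)⁻¹) (hr : ∀ r ∈ rels, (r.map g).prod = 1) (hH : ∀ r ∈ subs, (r.map g).prod ∈ H)
    (j u : ℕ) (hu : u < M) (h : dp_y_32 j u = true) : Good (fa g) T MG M (cP g H) Lt.y u := by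
  unfold dp_y_32 at h
  rcases brec_true h with h | h
  · exact dp_y_30_s hinv hr hH j u hu h
  · exact dp_y_31_s hinv hr hH j u hu h
theorem dp_y_33_s (hinv : ∀ x, g (inv x) = (g x)⁻¹) (hr : ∀ r ∈ rels, (r.map g).prod = 1) (hH : ∀ r ∈ subs, (r.map g).prod ∈ H)
    (j u : ℕ) (hu : u < M) (h : dp_y_33 j u = true) : Good (fa g) T MG M (cP g H) Lt.y u := by
  unfold dp_y_33 at h
  rcases brec_true h with h | h
  · exact dp_y_29_s hinv hr hH j u hu h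
  · exact dp_y_32_s hinv hr hH j u hu h
theorem dp_y_34_s (hinv : ∀ x, g (inv x) = (g x)⁻¹) (hr : ∀ r ∈ rels, (r.map g).prod = 1) (hH : ∀ r ∈ subs, (r.map g).prod ∈ H)
    (j u : ℕ) (hu : u < M) (h : dp_y_34 j u = true) : Good (fa g) T MG M (cP g H) Lt.y u := by
  unfold dp_y_34 at h
  rcases brec_true h with h | h
  · exact lF_good (T := T) (x := Lt.y) (by decide) [Lt.q, Lt.yi, Lt.yi, Lt.yi, Lt.q, Lt.yi, Lt.yi, Lt.yi, Lt.q, Lt.yi, Lt.yi, Lt.yi, Lt.q, Lt.y, Lt.y] (H9.TCY.hole_at hinv hr 30 15 false (by decide +kernel)) h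
  · exact lF_good (T := T) (x := Lt.y) (by decide) [Lt.z, Lt.y, Lt.z, Lt.yi, Lt.z, Lt.yi, Lt.q, Lt.y, Lt.z, Lt.y, Lt.z, Lt.yi, Lt.z, Lt.yi, Lt.q] (H9.TCY.hole_at hinv hr 29 3 false (by decide +kernel)) h
theorem dp_y_35_s (hinv : ∀ x, g (inv x) = (g x)⁻¹) (hr : ∀ r ∈ rels, (r.map g).prod = 1) (hH : ∀ r ∈ subs, (r.map g).prod ∈ H)
    (j u : ℕ) (hu : u < M) (h : dp_y_35 j u = true) : Good (fa g) T MG M (cP g H) Lt.y u := by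
  unfold dp_y_35 at h
  rcases brec_true h with h | h
  · exact lS_good (T := T) (x := Lt.y) (by decide) hu [Lt.z, Lt.yi, Lt.z, Lt.yi, Lt.q, Lt.y, Lt.z, Lt.y, Lt.z, Lt.yi, Lt.z, Lt.yi, Lt.q, Lt.y, Lt.z] (H9.TCY.hole_at hinv hr 29 5 false (by decide +kernel)) h
  · exact lF_good (T := T) (x := Lt.y) (by decide) [Lt.y, Lt.y, Lt.q, Lt.yi, Lt.yi, Lt.yi, Lt.q, Lt.yi, Lt.yi, Lt.yi, Lt.q, Lt.yi, Lt.yi, Lt.yi, Lt.q] (H9.TCY.hole_at hinv hr 30 13 false (by decide +kernel)) h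
theorem dp_y_36_s (hinv : ∀ x, g (inv x) = (g x)⁻¹) (hr : ∀ r ∈ rels, (r.map g).prod = 1) (hH : ∀ r ∈ subs, (r.map g).prod ∈ H)
    (j u : ℕ) (hu : u < M) (h : dp_y_36 j u = true) : Good (fa g) T MG M (cP g H) Lt.y u := by
  unfold dp_y_36 at h
  rcases brec_true h with h | h
  · exact lS_good (T := T) (x := Lt.y) (by decide) hu [Lt.z, Lt.yi, Lt.yi, Lt.z, Lt.y, Lt.y, Lt.z, Lt.yi, Lt.yi, Lt.z, Lt.y, Lt.y, Lt.z, Lt.yi, Lt.yi, Lt.z, Lt.y] (H9.TCY.hole_at hinv hr 38 5 false (by decide +kernel)) h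
  · exact dp_y_35_s hinv hr hH j u hu h
theorem dp_y_37_s (hinv : ∀ x, g (inv x) = (g x)⁻¹) (hr : ∀ r ∈ rels, (r.map g).prod = 1) (hH : ∀ r ∈ subs, (r.map g).prod ∈ H)
    (j u : ℕ) (hu : u < M) (h : dp_y_37 j u = true) : Good (fa g) T MG M (cP g H) Lt.y u := by
  unfold dp_y_37 at h
  rcases brec_true h with h | h
  · exact dp_y_34_s hinv hr hH j u hu h
  · exact dp_y_36_s hinv hr hH j u hu h
theorem dp_y_38_s (hinv : ∀ x, g (inv x) = (g x)⁻¹) (hr : ∀ r ∈ rels, (r.map g).prod = 1) (hH : ∀ r ∈ subs, (r.map g).prod ∈ H)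
    (j u : ℕ) (hu : u < M) (h : dp_y_38 j u = true) : Good (fa g) T MG M (cP g H) Lt.y u := by
  unfold dp_y_38 at h
  rcases brec_true h with h | h
  · exact lF_good (T := T) (x := Lt.y) (by decide) [Lt.z, Lt.q, Lt.z, Lt.yi, Lt.yi, Lt.q, Lt.y, Lt.y, Lt.z, Lt.q, Lt.z, Lt.yi, Lt.yi, Lt.q, Lt.y] (H9.TCY.hole_at hinv hr 33 5 false (by decide +kernel)) h
  · exact lS_good (T := T) (x := Lt.y) (by decide) hu [Lt.q, Lt.yi, Lt.z, Lt.yi, Lt.z, Lt.y, Lt.z, Lt.y, Lt.q, Lt.yi, Lt.z, Lt.yi, Lt.z, Lt.y, Lt.z] (H9.TCY.hole_at hinv hr 26 7 false (by decide +kernel)) h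
theorem dp_y_39_s (hinv : ∀ x, g (inv x) = (g x)⁻¹) (hr : ∀ r ∈ rels, (r.map g).prod = 1) (hH : ∀ r ∈ subs, (r.map g).prod ∈ H)
    (j u : ℕ) (hu : u < M) (h : dp_y_39 j u = true) : Good (fa g) T MG M (cP g H) Lt.y u := by
  unfold dp_y_39 at h
  rcases brec_true h with h | h
  · exact lS_good (T := T) (x := Lt.y) (by decide) hu [Lt.y, Lt.z, Lt.yi, Lt.yi, Lt.z, Lt.y, Lt.y, Lt.z, Lt.yi, Lt.yi, Lt.z, Lt.y, Lt.y, Lt.z, Lt.yi, Lt.yi, Lt.z] (H9.TCY.hole_at hinv hr 38 4 false (by decide +kernel)) h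
  · exact dp_y_38_s hinv hr hH j u hu h
theorem dp_y_40_s (hinv : ∀ x, g (inv x) = (g x)⁻¹) (hr : ∀ r ∈ rels, (r.map g).prod = 1) (hH : ∀ r ∈ subs, (r.map g).prod ∈ H)
    (j u : ℕ) (hu : u < M) (h : dp_y_40 j u = true) : Good (fa g) T MG M (cP g H) Lt.y u := by
  unfold dp_y_40 at h
  rcases brec_true h with h | h
  · exact lF_good (T := T) (x := Lt.y) (by decide) [Lt.q, Lt.y, Lt.q, Lt.y, Lt.q, Lt.yi, Lt.yi, Lt.yi, Lt.q, Lt.yi, Lt.yi, Lt.q, Lt.y, Lt.q, Lt.y] (H9.TCY.hole_at hinv hr 31 11 false (by decide +kernel)) h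
  · exact lF_good (T := T) (x := Lt.y) (by decide) [Lt.y, Lt.z, Lt.q, Lt.y, Lt.z, Lt.yi, Lt.q, Lt.z, Lt.yi, Lt.yi, Lt.z, Lt.q, Lt.yi, Lt.z, Lt.y, Lt.q, Lt.z] (H9.TCY.hole_at hinv hr 37 10 false (by decide +kernel)) h
theorem dp_y_41_s (hinv : ∀ x, g (inv x) = (g x)⁻¹) (hr : ∀ r ∈ rels, (r.map g).prod = 1) (hH : ∀ r ∈ subs, (r.map g).prod ∈ H)
    (j u : ℕ) (hu : u < M) (h : dp_y_41 j u = true) : Good (fa g) T MG M (cP g H) Lt.y u := by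
  unfold dp_y_41 at h
  rcases brec_true h with h | h
  · exact lS_good (T := T) (x := Lt.y) (by decide) hu [Lt.z, Lt.q, Lt.z, Lt.yi, Lt.q, Lt.y, Lt.z, Lt.q, Lt.z, Lt.yi, Lt.q] (H9.TCY.hole_at hinv hr 16 3 false (by decide +kernel)) h
  · exact dp_y_40_s hinv hr hH j u hu h
theorem dp_y_42_s (hinv : ∀ x, g (inv x) = (g x)⁻¹) (hr : ∀ r ∈ rels, (r.map g).prod = 1) (hH : ∀ r ∈ subs, (r.map g).prod ∈ H)
    (j u : ℕ) (hu : u < M) (h : dp_y_42 j u = true) : Good (fa g) T MG M (cP g H) Lt.y u := by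
  unfold dp_y_42 at h
  rcases brec_true h with h | h
  · exact dp_y_39_s hinv hr hH j u hu h
  · exact dp_y_41_s hinv hr hH j u hu h
theorem dp_y_43_s (hinv : ∀ x, g (inv x) = (g x)⁻¹) (hr : ∀ r ∈ rels, (r.map g).prod = 1) (hH : ∀ r ∈ subs, (r.map g).prod ∈ H)
    (j u : ℕ) (hu : u < M) (h : dp_y_43 j u = true) : Good (fa g) T MG M (cP g H) Lt.y u := by
  unfold dp_y_43 at h
  rcases brec_true h with h | h
  · exact dp_y_37_s hinv hr hH j u hu h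
  · exact dp_y_42_s hinv hr hH j u hu h
theorem dp_y_44_s (hinv : ∀ x, g (inv x) = (g x)⁻¹) (hr : ∀ r ∈ rels, (r.map g).prod = 1) (hH : ∀ r ∈ subs, (r.map g).prod ∈ H)
    (j u : ℕ) (hu : u < M) (h : dp_y_44 j u = true) : Good (fa g) T MG M (cP g H) Lt.y u := by
  unfold dp_y_44 at h
  rcases brec_true h with h | h
  · exact dp_y_33_s hinv hr hH j u hu h
  · exact dp_y_43_s hinv hr hH j u hu h
theorem dp_y_45_s (hinv : ∀ x, g (inv x) = (g x)⁻¹) (hr : ∀ r ∈ rels, (r.map g).prod = 1) (hH : ∀ r ∈ subs, (r.map g).prod ∈ H)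
    (j u : ℕ) (hu : u < M) (h : dp_y_45 j u = true) : Good (fa g) T MG M (cP g H) Lt.y u := by
  unfold dp_y_45 at h
  rcases brec_true h with h | h
  · exact lF_good (T := T) (x := Lt.y) (by decide) [Lt.q, Lt.yi, Lt.q, Lt.z, Lt.q, Lt.y, Lt.z, Lt.yi, Lt.q, Lt.y, Lt.q, Lt.z, Lt.q, Lt.yi, Lt.z] (H9.TCY.hole_at hinv hr 24 9 false (by decide +kernel)) h
  · exact lF_good (T := T) (x := Lt.y) (by decide) [Lt.q, Lt.z, Lt.yi, Lt.q, Lt.z, Lt.y, Lt.z, Lt.yi, Lt.z, Lt.q, Lt.y, Lt.z, Lt.q, Lt.yi, Lt.z] (H9.TCY.hole_at hinv hr 27 14 false (by decide +kernel)) h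
theorem dp_y_46_s (hinv : ∀ x, g (inv x) = (g x)⁻¹) (hr : ∀ r ∈ rels, (r.map g).prod = 1) (hH : ∀ r ∈ subs, (r.map g).prod ∈ H)
    (j u : ℕ) (hu : u < M) (h : dp_y_46 j u = true) : Good (fa g) T MG M (cP g H) Lt.y u := by
  unfold dp_y_46 at h
  rcases brec_true h with h | h
  · exact lF_good (T := T) (x := Lt.y) (by decide) [Lt.q, Lt.z, Lt.y, Lt.y, Lt.z, Lt.q, Lt.y, Lt.z, Lt.yi, Lt.q, Lt.z, Lt.yi, Lt.yi, Lt.z, Lt.q, Lt.yi, Lt.z] (H9.TCY.hole_at hinv hr 37 7 false (by decide +kernel)) h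
  · exact dp_y_45_s hinv hr hH j u hu h
theorem dp_y_47_s (hinv : ∀ x, g (inv x) = (g x)⁻¹) (hr : ∀ r ∈ rels, (r.map g).prod = 1) (hH : ∀ r ∈ subs, (r.map g).prod ∈ H)
    (j u : ℕ) (hu : u < M) (h : dp_y_47 j u = true) : Good (fa g) T MG M (cP g H) Lt.y u := by
  unfold dp_y_47 at h
  rcases brec_true h with h | h
  · exact lF_good (T := T) (x := Lt.y) (by decide) [Lt.q, Lt.z, Lt.q, Lt.yi, Lt.q, Lt.y, Lt.z, Lt.yi, Lt.q, Lt.z, Lt.q, Lt.y, Lt.q, Lt.yi, Lt.z] (H9.TCY.hole_at hinv hr 24 10 true (by decide +kernel)) h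
  · exact lS_good (T := T) (x := Lt.y) (by decide) hu [Lt.z, Lt.q, Lt.y, Lt.z, Lt.yi, Lt.q, Lt.z, Lt.yi, Lt.yi, Lt.z, Lt.q, Lt.yi, Lt.z, Lt.y, Lt.q, Lt.z, Lt.y] (H9.TCY.hole_at hinv hr 37 11 false (by decide +kernel)) h
theorem dp_y_48_s (hinv : ∀ x, g (inv x) = (g x)⁻¹) (hr : ∀ r ∈ rels, (r.map g).prod = 1) (hH : ∀ r ∈ subs, (r.map g).prod ∈ H)
    (j u : ℕ) (hu : u < M) (h : dp_y_48 j u = true) : Good (fa g) T MG M (cP g H) Lt.y u := by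
  unfold dp_y_48 at h
  rcases brec_true h with h | h
  · exact lF_good (T := T) (x := Lt.y) (by decide) [Lt.y, Lt.q, Lt.yi, Lt.yi, Lt.z, Lt.q, Lt.z, Lt.y, Lt.y, Lt.q, Lt.yi, Lt.yi, Lt.z, Lt.q, Lt.z] (H9.TCY.hole_at hinv hr 34 6 false (by decide +kernel)) h
  · exact lF_good (T := T) (x := Lt.y) (by decide) [Lt.z, Lt.q, Lt.yi, Lt.q, Lt.y, Lt.z, Lt.q, Lt.yi, Lt.q, Lt.z, Lt.y, Lt.q, Lt.yi, Lt.q, Lt.z] (H9.TCY.hole_at hinv hr 23 11 true (by decide +kernel)) h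
theorem dp_y_49_s (hinv : ∀ x, g (inv x) = (g x)⁻¹) (hr : ∀ r ∈ rels, (r.map g).prod = 1) (hH : ∀ r ∈ subs, (r.map g).prod ∈ H)
    (j u : ℕ) (hu : u < M) (h : dp_y_49 j u = true) : Good (fa g) T MG M (cP g H) Lt.y u := by
  unfold dp_y_49 at h
  rcases brec_true h with h | h
  · exact dp_y_47_s hinv hr hH j u hu h
  · exact dp_y_48_s hinv hr hH j u hu h
theorem dp_y_50_s (hinv : ∀ x, g (inv x) = (g x)⁻¹) (hr : ∀ r ∈ rels, (r.map g).prod = 1) (hH : ∀ r ∈ subs, (r.map g).prod ∈ H)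
    (j u : ℕ) (hu : u < M) (h : dp_y_50 j u = true) : Good (fa g) T MG M (cP g H) Lt.y u := by
  unfold dp_y_50 at h
  rcases brec_true h with h | h
  · exact dp_y_46_s hinv hr hH j u hu h
  · exact dp_y_49_s hinv hr hH j u hu h
theorem dp_y_51_s (hinv : ∀ x, g (inv x) = (g x)⁻¹) (hr : ∀ r ∈ rels, (r.map g).prod = 1) (hH : ∀ r ∈ subs, (r.map g).prod ∈ H)
    (j u : ℕ) (hu : u < M) (h : dp_y_51 j u = true) : Good (fa g) T MG M (cP g H) Lt.y u := by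
  unfold dp_y_51 at h
  rcases brec_true h with h | h
  · exact lF_good (T := T) (x := Lt.y) (by decide) [Lt.q, Lt.z, Lt.yi, Lt.q, Lt.y, Lt.q, Lt.z, Lt.yi, Lt.z, Lt.q, Lt.y, Lt.q, Lt.yi, Lt.z, Lt.q] (H9.TCY.hole_at hinv hr 23 14 false (by decide +kernel)) h
  · exact lS_good (T := T) (x := Lt.y) (by decide) hu [Lt.z, Lt.q, Lt.z, Lt.q, Lt.v, Lt.yi, Lt.v, Lt.q, Lt.z, Lt.q, Lt.z] (H9.TCY.hole_at hinv hr 13 7 true (by decide +kernel)) h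
theorem dp_y_52_s (hinv : ∀ x, g (inv x) = (g x)⁻¹) (hr : ∀ r ∈ rels, (r.map g).prod = 1) (hH : ∀ r ∈ subs, (r.map g).prod ∈ H)
    (j u : ℕ) (hu : u < M) (h : dp_y_52 j u = true) : Good (fa g) T MG M (cP g H) Lt.y u := by
  unfold dp_y_52 at h
  rcases brec_true h with h | h
  · exact lF_good (T := T) (x := Lt.y) (by decide) [Lt.q, Lt.y, Lt.z, Lt.y, Lt.z, Lt.yi, Lt.z, Lt.y, Lt.y, Lt.q, Lt.y, Lt.y, Lt.z, Lt.yi, Lt.z, Lt.y, Lt.z] (H9.TCY.hole_at hinv hr 41 6 true (by decide +kernel)) h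
  · exact dp_y_51_s hinv hr hH j u hu h
theorem dp_y_53_s (hinv : ∀ x, g (inv x) = (g x)⁻¹) (hr : ∀ r ∈ rels, (r.map g).prod = 1) (hH : ∀ r ∈ subs, (r.map g).prod ∈ H)
    (j u : ℕ) (hu : u < M) (h : dp_y_53 j u = true) : Good (fa g) T MG M (cP g H) Lt.y u := by
  unfold dp_y_53 at h
  rcases brec_true h with h | h
  · exact lS_good (T := T) (x := Lt.y) (by decide) hu [Lt.y, Lt.q, Lt.z, Lt.q, Lt.z, Lt.y, Lt.y, Lt.y, Lt.q, Lt.z, Lt.q, Lt.z, Lt.y] (H9.TCY.hole_at hinv hr 21 6 true (by decide +kernel)) h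
  · exact lS_good (T := T) (x := Lt.y) (by decide) hu [Lt.q, Lt.yi, Lt.z, Lt.q, Lt.z, Lt.y, Lt.q, Lt.yi, Lt.z, Lt.q, Lt.z] (H9.TCY.hole_at hinv hr 15 5 false (by decide +kernel)) h
theorem dp_y_54_s (hinv : ∀ x, g (inv x) = (g x)⁻¹) (hr : ∀ r ∈ rels, (r.map g).prod = 1) (hH : ∀ r ∈ subs, (r.map g).prod ∈ H)
    (j u : ℕ) (hu : u < M) (h : dp_y_54 j u = true) : Good (fa g) T MG M (cP g H) Lt.y u := by
  unfold dp_y_54 at h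
  rcases brec_true h with h | h
  · exact lS_good (T := T) (x := Lt.y) (by decide) hu [Lt.q, Lt.y, Lt.z, Lt.y, Lt.z, Lt.yi, Lt.z, Lt.y, Lt.y, Lt.q, Lt.y, Lt.y, Lt.z, Lt.yi, Lt.z, Lt.y, Lt.z] (H9.TCY.hole_at hinv hr 41 6 true (by decide +kernel)) h
  · exact lF_good (T := T) (x := Lt.y) (by decide) [Lt.q, Lt.yi, Lt.q, Lt.z, Lt.y, Lt.z, Lt.q, Lt.yi, Lt.q, Lt.y, Lt.z, Lt.q, Lt.yi, Lt.q, Lt.z] (H9.TCY.hole_at hinv hr 23 6 true (by decide +kernel)) h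
theorem dp_y_55_s (hinv : ∀ x, g (inv x) = (g x)⁻¹) (hr : ∀ r ∈ rels, (r.map g).prod = 1) (hH : ∀ r ∈ subs, (r.map g).prod ∈ H)
    (j u : ℕ) (hu : u < M) (h : dp_y_55 j u = true) : Good (fa g) T MG M (cP g H) Lt.y u := by
  unfold dp_y_55 at h
  rcases brec_true h with h | h
  · exact dp_y_53_s hinv hr hH j u hu h
  · exact dp_y_54_s hinv hr hH j u hu h
theorem dp_y_56_s (hinv : ∀ x, g (inv x) = (g x)⁻¹) (hr : ∀ r ∈ rels, (r.map g).prod = 1) (hH : ∀ r ∈ subs, (r.map g).prod ∈ H)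
    (j u : ℕ) (hu : u < M) (h : dp_y_56 j u = true) : Good (fa g) T MG M (cP g H) Lt.y u := by
  unfold dp_y_56 at h
  rcases brec_true h with h | h
  · exact dp_y_52_s hinv hr hH j u hu h
  · exact dp_y_55_s hinv hr hH j u hu h
theorem dp_y_57_s (hinv : ∀ x, g (inv x) = (g x)⁻¹) (hr : ∀ r ∈ rels, (r.map g).prod = 1) (hH : ∀ r ∈ subs, (r.map g).prod ∈ H)
    (j u : ℕ) (hu : u < M) (h : dp_y_57 j u = true) : Good (fa g) T MG M (cP g H) Lt.y u := by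
  unfold dp_y_57 at h
  rcases brec_true h with h | h
  · exact dp_y_50_s hinv hr hH j u hu h
  · exact dp_y_56_s hinv hr hH j u hu h
theorem dp_y_58_s (hinv : ∀ x, g (inv x) = (g x)⁻¹) (hr : ∀ r ∈ rels, (r.map g).prod = 1) (hH : ∀ r ∈ subs, (r.map g).prod ∈ H)
    (j u : ℕ) (hu : u < M) (h : dp_y_58 j u = true) : Good (fa g) T MG M (cP g H) Lt.y u := by
  unfold dp_y_58 at h
  rcases brec_true h with h | h
  · exact lF_good (T := T) (x := Lt.y) (by decide) [Lt.z, Lt.yi, Lt.z, Lt.y, Lt.z, Lt.y, Lt.q, Lt.y, Lt.z, Lt.y, Lt.z, Lt.yi, Lt.z, Lt.y, Lt.y, Lt.q, Lt.y] (H9.TCY.hole_at hinv hr 41 0 true (by decide +kernel)) h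
  · exact lF_good (T := T) (x := Lt.y) (by decide) [Lt.y, Lt.q, Lt.y, Lt.y, Lt.z, Lt.yi, Lt.z, Lt.y, Lt.z, Lt.y, Lt.q, Lt.y, Lt.z, Lt.y, Lt.z, Lt.yi, Lt.z] (H9.TCY.hole_at hinv hr 41 14 true (by decide +kernel)) h
theorem dp_y_59_s (hinv : ∀ x, g (inv x) = (g x)⁻¹) (hr : ∀ r ∈ rels, (r.map g).prod = 1) (hH : ∀ r ∈ subs, (r.map g).prod ∈ H)
    (j u : ℕ) (hu : u < M) (h : dp_y_59 j u = true) : Good (fa g) T MG M (cP g H) Lt.y u := by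
  unfold dp_y_59 at h
  rcases brec_true h with h | h
  · exact lF_good (T := T) (x := Lt.y) (by decide) [Lt.z, Lt.yi, Lt.q, Lt.z, Lt.yi, Lt.yi, Lt.z, Lt.q, Lt.yi, Lt.z, Lt.y, Lt.q, Lt.z, Lt.y, Lt.y, Lt.z, Lt.q] (H9.TCY.hole_at hinv hr 37 14 false (by decide +kernel)) h
  · exact lF_good (T := T) (x := Lt.y) (by decide) [Lt.z, Lt.y, Lt.z, Lt.yi, Lt.z, Lt.y, Lt.y, Lt.q, Lt.y, Lt.y, Lt.z, Lt.yi, Lt.z, Lt.y, Lt.z, Lt.y, Lt.q] (H9.TCY.hole_at hinv hr 41 8 true (by decide +kernel)) h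
theorem dp_y_60_s (hinv : ∀ x, g (inv x) = (g x)⁻¹) (hr : ∀ r ∈ rels, (r.map g).prod = 1) (hH : ∀ r ∈ subs, (r.map g).prod ∈ H)
    (j u : ℕ) (hu : u < M) (h : dp_y_60 j u = true) : Good (fa g) T MG M (cP g H) Lt.y u := by
  unfold dp_y_60 at h
  rcases brec_true h with h | h
  · exact dp_y_58_s hinv hr hH j u hu h
  · exact dp_y_59_s hinv hr hH j u hu h
theorem dp_y_61_s (hinv : ∀ x, g (inv x) = (g x)⁻¹) (hr : ∀ r ∈ rels, (r.map g).prod = 1) (hH : ∀ r ∈ subs, (r.map g).prod ∈ H)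
    (j u : ℕ) (hu : u < M) (h : dp_y_61 j u = true) : Good (fa g) T MG M (cP g H) Lt.y u := by
  unfold dp_y_61 at h
  rcases brec_true h with h | h
  · exact lS_good (T := T) (x := Lt.y) (by decide) hu [Lt.z, Lt.y, Lt.z, Lt.yi, Lt.z, Lt.yi, Lt.q, Lt.y, Lt.z, Lt.y, Lt.z, Lt.yi, Lt.z, Lt.yi, Lt.q] (H9.TCY.hole_at hinv hr 29 3 false (by decide +kernel)) h
  · exact lF_good (T := T) (x := Lt.y) (by decide) [Lt.y, Lt.q, Lt.y, Lt.q, Lt.y, Lt.q, Lt.yi, Lt.yi, Lt.yi, Lt.q, Lt.yi, Lt.yi, Lt.q, Lt.y, Lt.q] (H9.TCY.hole_at hinv hr 31 10 false (by decide +kernel)) h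
theorem dp_y_62_s (hinv : ∀ x, g (inv x) = (g x)⁻¹) (hr : ∀ r ∈ rels, (r.map g).prod = 1) (hH : ∀ r ∈ subs, (r.map g).prod ∈ H)
    (j u : ℕ) (hu : u < M) (h : dp_y_62 j u = true) : Good (fa g) T MG M (cP g H) Lt.y u := by
  unfold dp_y_62 at h
  rcases brec_true h with h | h
  · exact lS_good (T := T) (x := Lt.y) (by decide) hu [Lt.y, Lt.z, Lt.q, Lt.y, Lt.z, Lt.yi, Lt.q, Lt.z, Lt.yi, Lt.yi, Lt.z, Lt.q, Lt.yi, Lt.z, Lt.y, Lt.q, Lt.z] (H9.TCY.hole_at hinv hr 37 10 false (by decide +kernel)) h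
  · exact lS_good (T := T) (x := Lt.y) (by decide) hu [Lt.y, Lt.q, Lt.yi, Lt.yi, Lt.yi, Lt.q, Lt.yi, Lt.yi, Lt.yi, Lt.q, Lt.yi, Lt.yi, Lt.yi, Lt.q, Lt.y] (H9.TCY.hole_at hinv hr 30 14 false (by decide +kernel)) h
theorem dp_y_63_s (hinv : ∀ x, g (inv x) = (g x)⁻¹) (hr : ∀ r ∈ rels, (r.map g).prod = 1) (hH : ∀ r ∈ subs, (r.map g).prod ∈ H)
    (j u : ℕ) (hu : u < M) (h : dp_y_63 j u = true) : Good (fa g) T MG M (cP g H) Lt.y u := by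
  unfold dp_y_63 at h
  rcases brec_true h with h | h
  · exact dp_y_61_s hinv hr hH j u hu h
  · exact dp_y_62_s hinv hr hH j u hu h
theorem dp_y_64_s (hinv : ∀ x, g (inv x) = (g x)⁻¹) (hr : ∀ r ∈ rels, (r.map g).prod = 1) (hH : ∀ r ∈ subs, (r.map g).prod ∈ H)
    (j u : ℕ) (hu : u < M) (h : dp_y_64 j u = true) : Good (fa g) T MG M (cP g H) Lt.y u := by
  unfold dp_y_64 at h
  rcases brec_true h with h | h
  · exact dp_y_60_s hinv hr hH j u hu h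
  · exact dp_y_63_s hinv hr hH j u hu h
theorem dp_y_65_s (hinv : ∀ x, g (inv x) = (g x)⁻¹) (hr : ∀ r ∈ rels, (r.map g).prod = 1) (hH : ∀ r ∈ subs, (r.map g).prod ∈ H)
    (j u : ℕ) (hu : u < M) (h : dp_y_65 j u = true) : Good (fa g) T MG M (cP g H) Lt.y u := by
  unfold dp_y_65 at h
  rcases brec_true h with h | h
  · exact lF_good (T := T) (x := Lt.y) (by decide) [Lt.z, Lt.q, Lt.yi, Lt.q, Lt.z, Lt.y, Lt.q, Lt.yi, Lt.q, Lt.z, Lt.y, Lt.z, Lt.q, Lt.yi, Lt.q] (H9.TCY.hole_at hinv hr 23 0 true (by decide +kernel)) h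
  · exact lS_good (T := T) (x := Lt.y) (by decide) hu [Lt.q, Lt.z, Lt.q, Lt.z, Lt.y, Lt.y, Lt.y, Lt.q, Lt.z, Lt.q, Lt.z, Lt.y, Lt.y] (H9.TCY.hole_at hinv hr 21 0 true (by decide +kernel)) h
theorem dp_y_66_s (hinv : ∀ x, g (inv x) = (g x)⁻¹) (hr : ∀ r ∈ rels, (r.map g).prod = 1) (hH : ∀ r ∈ subs, (r.map g).prod ∈ H)
    (j u : ℕ) (hu : u < M) (h : dp_y_66 j u = true) : Good (fa g) T MG M (cP g H) Lt.y u := by
  unfold dp_y_66 at h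
  rcases brec_true h with h | h
  · exact lF_good (T := T) (x := Lt.y) (by decide) [Lt.q, Lt.yi, Lt.yi, Lt.z, Lt.q, Lt.z, Lt.y, Lt.y, Lt.q, Lt.yi, Lt.yi, Lt.z, Lt.q, Lt.z, Lt.y] (H9.TCY.hole_at hinv hr 34 7 false (by decide +kernel)) h
  · exact lF_good (T := T) (x := Lt.y) (by decide) [Lt.z, Lt.yi, Lt.z, Lt.yi, Lt.q, Lt.yi, Lt.z, Lt.yi, Lt.z, Lt.y, Lt.z, Lt.yi, Lt.yi, Lt.q, Lt.yi, Lt.yi, Lt.z] (H9.TCY.hole_at hinv hr 41 7 false (by decide +kernel)) h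
theorem dp_y_67_s (hinv : ∀ x, g (inv x) = (g x)⁻¹) (hr : ∀ r ∈ rels, (r.map g).prod = 1) (hH : ∀ r ∈ subs, (r.map g).prod ∈ H)
    (j u : ℕ) (hu : u < M) (h : dp_y_67 j u = true) : Good (fa g) T MG M (cP g H) Lt.y u := by
  unfold dp_y_67 at h
  rcases brec_true h with h | h
  · exact lS_good (T := T) (x := Lt.y) (by decide) hu [Lt.q, Lt.yi, Lt.yi, Lt.yi, Lt.q, Lt.yi, Lt.yi, Lt.yi, Lt.q, Lt.yi, Lt.yi, Lt.yi, Lt.q, Lt.y, Lt.y] (H9.TCY.hole_at hinv hr 30 15 false (by decide +kernel)) h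
  · exact dp_y_66_s hinv hr hH j u hu h
theorem dp_y_68_s (hinv : ∀ x, g (inv x) = (g x)⁻¹) (hr : ∀ r ∈ rels, (r.map g).prod = 1) (hH : ∀ r ∈ subs, (r.map g).prod ∈ H)
    (j u : ℕ) (hu : u < M) (h : dp_y_68 j u = true) : Good (fa g) T MG M (cP g H) Lt.y u := by
  unfold dp_y_68 at h
  rcases brec_true h with h | h
  · exact dp_y_65_s hinv hr hH j u hu h
  · exact dp_y_67_s hinv hr hH j u hu h
theorem dp_y_69_s (hinv : ∀ x, g (inv x) = (g x)⁻¹) (hr : ∀ r ∈ rels, (r.map g).prod = 1) (hH : ∀ r ∈ subs, (r.map g).prod ∈ H)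
    (j u : ℕ) (hu : u < M) (h : dp_y_69 j u = true) : Good (fa g) T MG M (cP g H) Lt.y u := by
  unfold dp_y_69 at h
  rcases brec_true h with h | h
  · exact lF_good (T := T) (x := Lt.y) (by decide) [Lt.q, Lt.y, Lt.y, Lt.y, Lt.q, Lt.yi, Lt.q, Lt.yi, Lt.q, Lt.yi, Lt.yi, Lt.q, Lt.yi, Lt.q, Lt.y] (H9.TCY.hole_at hinv hr 31 12 true (by decide +kernel)) h
  · exact lF_good (T := T) (x := Lt.y) (by decide) [Lt.y, Lt.q, Lt.z, Lt.y, Lt.z, Lt.yi, Lt.z, Lt.q, Lt.yi, Lt.yi, Lt.q, Lt.z, Lt.yi, Lt.z, Lt.y, Lt.z, Lt.q] (H9.TCY.hole_at hinv hr 39 10 false (by decide +kernel)) h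
theorem dp_y_70_s (hinv : ∀ x, g (inv x) = (g x)⁻¹) (hr : ∀ r ∈ rels, (r.map g).prod = 1) (hH : ∀ r ∈ subs, (r.map g).prod ∈ H)
    (j u : ℕ) (hu : u < M) (h : dp_y_70 j u = true) : Good (fa g) T MG M (cP g H) Lt.y u := by
  unfold dp_y_70 at h
  rcases brec_true h with h | h
  · exact lS_good (T := T) (x := Lt.y) (by decide) hu [Lt.z, Lt.y, Lt.z, Lt.yi, Lt.z, Lt.y, Lt.y, Lt.q, Lt.y, Lt.y, Lt.z, Lt.yi, Lt.z, Lt.y, Lt.z, Lt.y, Lt.q] (H9.TCY.hole_at hinv hr 41 8 true (by decide +kernel)) h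
  · exact lF_good (T := T) (x := Lt.y) (by decide) [Lt.q, Lt.y, Lt.y, Lt.z, Lt.yi, Lt.z, Lt.y, Lt.z, Lt.y, Lt.q, Lt.y, Lt.z, Lt.y, Lt.z, Lt.yi, Lt.z, Lt.y] (H9.TCY.hole_at hinv hr 41 15 true (by decide +kernel)) h
theorem dp_y_71_s (hinv : ∀ x, g (inv x) = (g x)⁻¹) (hr : ∀ r ∈ rels, (r.map g).prod = 1) (hH : ∀ r ∈ subs, (r.map g).prod ∈ H)
    (j u : ℕ) (hu : u < M) (h : dp_y_71 j u = true) : Good (fa g) T MG M (cP g H) Lt.y u := by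
  unfold dp_y_71 at h
  rcases brec_true h with h | h
  · exact lF_good (T := T) (x := Lt.y) (by decide) [Lt.z, Lt.yi, Lt.z, Lt.q, Lt.y, Lt.z, Lt.q, Lt.yi, Lt.z, Lt.y, Lt.q, Lt.z, Lt.yi, Lt.q, Lt.z] (H9.TCY.hole_at hinv hr 27 4 false (by decide +kernel)) h
  · exact dp_y_70_s hinv hr hH j u hu h
theorem dp_y_72_s (hinv : ∀ x, g (inv x) = (g x)⁻¹) (hr : ∀ r ∈ rels, (r.map g).prod = 1) (hH : ∀ r ∈ subs, (r.map g).prod ∈ H)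
    (j u : ℕ) (hu : u < M) (h : dp_y_72 j u = true) : Good (fa g) T MG M (cP g H) Lt.y u := by
  unfold dp_y_72 at h
  rcases brec_true h with h | h
  · exact dp_y_69_s hinv hr hH j u hu h
  · exact dp_y_71_s hinv hr hH j u hu h
theorem dp_y_73_s (hinv : ∀ x, g (inv x) = (g x)⁻¹) (hr : ∀ r ∈ rels, (r.map g).prod = 1) (hH : ∀ r ∈ subs, (r.map g).prod ∈ H)
    (j u : ℕ) (hu : u < M) (h : dp_y_73 j u = true) : Good (fa g) T MG M (cP g H) Lt.y u := by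
  unfold dp_y_73 at h
  rcases brec_true h with h | h
  · exact dp_y_68_s hinv hr hH j u hu h
  · exact dp_y_72_s hinv hr hH j u hu h
theorem dp_y_74_s (hinv : ∀ x, g (inv x) = (g x)⁻¹) (hr : ∀ r ∈ rels, (r.map g).prod = 1) (hH : ∀ r ∈ subs, (r.map g).prod ∈ H)
    (j u : ℕ) (hu : u < M) (h : dp_y_74 j u = true) : Good (fa g) T MG M (cP g H) Lt.y u := by
  unfold dp_y_74 at h
  rcases brec_true h with h | h
  · exact dp_y_64_s hinv hr hH j u hu h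
  · exact dp_y_73_s hinv hr hH j u hu h
theorem dp_y_75_s (hinv : ∀ x, g (inv x) = (g x)⁻¹) (hr : ∀ r ∈ rels, (r.map g).prod = 1) (hH : ∀ r ∈ subs, (r.map g).prod ∈ H)
    (j u : ℕ) (hu : u < M) (h : dp_y_75 j u = true) : Good (fa g) T MG M (cP g H) Lt.y u := by
  unfold dp_y_75 at h
  rcases brec_true h with h | h
  · exact dp_y_57_s hinv hr hH j u hu h
  · exact dp_y_74_s hinv hr hH j u hu h
theorem dp_y_76_s (hinv : ∀ x, g (inv x) = (g x)⁻¹) (hr : ∀ r ∈ rels, (r.map g).prod = 1) (hH : ∀ r ∈ subs, (r.map g).prod ∈ H)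
    (j u : ℕ) (hu : u < M) (h : dp_y_76 j u = true) : Good (fa g) T MG M (cP g H) Lt.y u := by
  unfold dp_y_76 at h
  rcases brec_true h with h | h
  · exact dp_y_44_s hinv hr hH j u hu h
  · exact dp_y_75_s hinv hr hH j u hu h
theorem dp_y_77_s (hinv : ∀ x, g (inv x) = (g x)⁻¹) (hr : ∀ r ∈ rels, (r.map g).prod = 1) (hH : ∀ r ∈ subs, (r.map g).prod ∈ H)
    (j u : ℕ) (hu : u < M) (h : dp_y_77 j u = true) : Good (fa g) T MG M (cP g H) Lt.y u := by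
  unfold dp_y_77 at h
  rcases brec_true h with h | h
  · exact lF_good (T := T) (x := Lt.y) (by decide) [Lt.z, Lt.y, Lt.q, Lt.y, Lt.z, Lt.y, Lt.z, Lt.yi, Lt.z, Lt.y, Lt.y, Lt.q, Lt.y, Lt.y, Lt.z, Lt.yi, Lt.z] (H9.TCY.hole_at hinv hr 41 4 true (by decide +kernel)) h
  · exact lF_good (T := T) (x := Lt.y) (by decide) [Lt.z, Lt.q, Lt.y, Lt.y, Lt.q, Lt.z, Lt.y, Lt.z, Lt.yi, Lt.z, Lt.q, Lt.yi, Lt.yi, Lt.q, Lt.z, Lt.yi, Lt.z] (H9.TCY.hole_at hinv hr 39 7 false (by decide +kernel)) h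
theorem dp_y_78_s (hinv : ∀ x, g (inv x) = (g x)⁻¹) (hr : ∀ r ∈ rels, (r.map g).prod = 1) (hH : ∀ r ∈ subs, (r.map g).prod ∈ H)
    (j u : ℕ) (hu : u < M) (h : dp_y_78 j u = true) : Good (fa g) T MG M (cP g H) Lt.y u := by
  unfold dp_y_78 at h
  rcases brec_true h with h | h
  · exact lS_good (T := T) (x := Lt.y) (by decide) hu [Lt.q, Lt.z, Lt.yi, Lt.q, Lt.y, Lt.q, Lt.z, Lt.yi, Lt.z, Lt.q, Lt.y, Lt.q, Lt.yi, Lt.z, Lt.q] (H9.TCY.hole_at hinv hr 23 14 false (by decide +kernel)) h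
  · exact lF_good (T := T) (x := Lt.y) (by decide) [Lt.z, Lt.yi, Lt.q, Lt.y, Lt.q, Lt.z, Lt.q, Lt.yi, Lt.z, Lt.y, Lt.q, Lt.yi, Lt.q, Lt.z, Lt.q] (H9.TCY.hole_at hinv hr 24 15 false (by decide +kernel)) h
theorem dp_y_79_s (hinv : ∀ x, g (inv x) = (g x)⁻¹) (hr : ∀ r ∈ rels, (r.map g).prod = 1) (hH : ∀ r ∈ subs, (r.map g).prod ∈ H)
    (j u : ℕ) (hu : u < M) (h : dp_y_79 j u = true) : Good (fa g) T MG M (cP g H) Lt.y u := by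
  unfold dp_y_79 at h
  rcases brec_true h with h | h
  · exact lF_good (T := T) (x := Lt.y) (by decide) [Lt.z, Lt.yi, Lt.z, Lt.q, Lt.yi, Lt.yi, Lt.q, Lt.z, Lt.yi, Lt.z, Lt.y, Lt.z, Lt.q, Lt.y, Lt.y, Lt.q, Lt.z] (H9.TCY.hole_at hinv hr 39 14 false (by decide +kernel)) h
  · exact dp_y_78_s hinv hr hH j u hu h
theorem dp_y_80_s (hinv : ∀ x, g (inv x) = (g x)⁻¹) (hr : ∀ r ∈ rels, (r.map g).prod = 1) (hH : ∀ r ∈ subs, (r.map g).prod ∈ H)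
    (j u : ℕ) (hu : u < M) (h : dp_y_80 j u = true) : Good (fa g) T MG M (cP g H) Lt.y u := by
  unfold dp_y_80 at h
  rcases brec_true h with h | h
  · exact dp_y_77_s hinv hr hH j u hu h
  · exact dp_y_79_s hinv hr hH j u hu h
theorem dp_y_81_s (hinv : ∀ x, g (inv x) = (g x)⁻¹) (hr : ∀ r ∈ rels, (r.map g).prod = 1) (hH : ∀ r ∈ subs, (r.map g).prod ∈ H)
    (j u : ℕ) (hu : u < M) (h : dp_y_81 j u = true) : Good (fa g) T MG M (cP g H) Lt.y u := by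
  unfold dp_y_81 at h
  rcases brec_true h with h | h
  · exact lS_good (T := T) (x := Lt.y) (by decide) hu [Lt.y, Lt.q, Lt.y, Lt.y, Lt.z, Lt.yi, Lt.z, Lt.y, Lt.z, Lt.y, Lt.q, Lt.y, Lt.z, Lt.y, Lt.z, Lt.yi, Lt.z] (H9.TCY.hole_at hinv hr 41 14 true (by decide +kernel)) h
  · exact lS_good (T := T) (x := Lt.y) (by decide) hu [Lt.y, Lt.q, Lt.z, Lt.y, Lt.z, Lt.yi, Lt.z, Lt.q, Lt.yi, Lt.yi, Lt.q, Lt.z, Lt.yi, Lt.z, Lt.y, Lt.z, Lt.q] (H9.TCY.hole_at hinv hr 39 10 false (by decide +kernel)) h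
theorem dp_y_82_s (hinv : ∀ x, g (inv x) = (g x)⁻¹) (hr : ∀ r ∈ rels, (r.map g).prod = 1) (hH : ∀ r ∈ subs, (r.map g).prod ∈ H)
    (j u : ℕ) (hu : u < M) (h : dp_y_82 j u = true) : Good (fa g) T MG M (cP g H) Lt.y u := by
  unfold dp_y_82 at h
  rcases brec_true h with h | h
  · exact lF_good (T := T) (x := Lt.y) (by decide) [Lt.z, Lt.q, Lt.yi, Lt.q, Lt.z, Lt.y, Lt.z, Lt.yi, Lt.q, Lt.z, Lt.y, Lt.z, Lt.q, Lt.yi, Lt.z] (H9.TCY.hole_at hinv hr 28 14 false (by decide +kernel)) h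
  · exact dp_y_81_s hinv hr hH j u hu h
theorem dp_y_83_s (hinv : ∀ x, g (inv x) = (g x)⁻¹) (hr : ∀ r ∈ rels, (r.map g).prod = 1) (hH : ∀ r ∈ subs, (r.map g).prod ∈ H)
    (j u : ℕ) (hu : u < M) (h : dp_y_83 j u = true) : Good (fa g) T MG M (cP g H) Lt.y u := by
  unfold dp_y_83 at h
  rcases brec_true h with h | h
  · exact lS_good (T := T) (x := Lt.y) (by decide) hu [Lt.q, Lt.z, Lt.y, Lt.y, Lt.z, Lt.q, Lt.y, Lt.z, Lt.yi, Lt.q, Lt.z, Lt.yi, Lt.yi, Lt.z, Lt.q, Lt.yi, Lt.z] (H9.TCY.hole_at hinv hr 37 7 false (by decide +kernel)) h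
  · exact lF_good (T := T) (x := Lt.y) (by decide) [Lt.z, Lt.yi, Lt.z, Lt.y, Lt.y, Lt.q, Lt.y, Lt.y, Lt.z, Lt.yi, Lt.z, Lt.y, Lt.z, Lt.y, Lt.q, Lt.y, Lt.z] (H9.TCY.hole_at hinv hr 41 10 true (by decide +kernel)) h
theorem dp_y_84_s (hinv : ∀ x, g (inv x) = (g x)⁻¹) (hr : ∀ r ∈ rels, (r.map g).prod = 1) (hH : ∀ r ∈ subs, (r.map g).prod ∈ H)
    (j u : ℕ) (hu : u < M) (h : dp_y_84 j u = true) : Good (fa g) T MG M (cP g H) Lt.y u := by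
  unfold dp_y_84 at h
  rcases brec_true h with h | h
  · exact lS_good (T := T) (x := Lt.y) (by decide) hu [Lt.z, Lt.yi, Lt.q, Lt.z, Lt.yi, Lt.yi, Lt.z, Lt.q, Lt.yi, Lt.z, Lt.y, Lt.q, Lt.z, Lt.y, Lt.y, Lt.z, Lt.q] (H9.TCY.hole_at hinv hr 37 14 false (by decide +kernel)) h
  · exact dp_y_83_s hinv hr hH j u hu h
theorem dp_y_85_s (hinv : ∀ x, g (inv x) = (g x)⁻¹) (hr : ∀ r ∈ rels, (r.map g).prod = 1) (hH : ∀ r ∈ subs, (r.map g).prod ∈ H)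
    (j u : ℕ) (hu : u < M) (h : dp_y_85 j u = true) : Good (fa g) T MG M (cP g H) Lt.y u := by
  unfold dp_y_85 at h
  rcases brec_true h with h | h
  · exact dp_y_82_s hinv hr hH j u hu h
  · exact dp_y_84_s hinv hr hH j u hu h
theorem dp_y_86_s (hinv : ∀ x, g (inv x) = (g x)⁻¹) (hr : ∀ r ∈ rels, (r.map g).prod = 1) (hH : ∀ r ∈ subs, (r.map g).prod ∈ H)
    (j u : ℕ) (hu : u < M) (h : dp_y_86 j u = true) : Good (fa g) T MG M (cP g H) Lt.y u := by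
  unfold dp_y_86 at h
  rcases brec_true h with h | h
  · exact dp_y_80_s hinv hr hH j u hu h
  · exact dp_y_85_s hinv hr hH j u hu h
theorem dp_y_87_s (hinv : ∀ x, g (inv x) = (g x)⁻¹) (hr : ∀ r ∈ rels, (r.map g).prod = 1) (hH : ∀ r ∈ subs, (r.map g).prod ∈ H)
    (j u : ℕ) (hu : u < M) (h : dp_y_87 j u = true) : Good (fa g) T MG M (cP g H) Lt.y u := by
  unfold dp_y_87 at h
  rcases brec_true h with h | h
  · exact lS_good (T := T) (x := Lt.y) (by decide) hu [Lt.y, Lt.y, Lt.q, Lt.yi, Lt.yi, Lt.yi, Lt.q, Lt.yi, Lt.yi, Lt.yi, Lt.q, Lt.yi, Lt.yi, Lt.yi, Lt.q] (H9.TCY.hole_at hinv hr 30 13 false (by decide +kernel)) h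
  · exact lS_good (T := T) (x := Lt.y) (by decide) hu [Lt.q, Lt.y, Lt.q, Lt.y, Lt.q, Lt.yi, Lt.yi, Lt.yi, Lt.q, Lt.yi, Lt.yi, Lt.q, Lt.y, Lt.q, Lt.y] (H9.TCY.hole_at hinv hr 31 11 false (by decide +kernel)) h
theorem dp_y_88_s (hinv : ∀ x, g (inv x) = (g x)⁻¹) (hr : ∀ r ∈ rels, (r.map g).prod = 1) (hH : ∀ r ∈ subs, (r.map g).prod ∈ H)
    (j u : ℕ) (hu : u < M) (h : dp_y_88 j u = true) : Good (fa g) T MG M (cP g H) Lt.y u := by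
  unfold dp_y_88 at h
  rcases brec_true h with h | h
  · exact lF_good (T := T) (x := Lt.y) (by decide) [Lt.z, Lt.q, Lt.yi, Lt.z, Lt.y, Lt.q, Lt.z, Lt.yi, Lt.q, Lt.z, Lt.y, Lt.z, Lt.yi, Lt.z, Lt.q] (H9.TCY.hole_at hinv hr 27 9 false (by decide +kernel)) h
  · exact dp_y_87_s hinv hr hH j u hu h
theorem dp_y_89_s (hinv : ∀ x, g (inv x) = (g x)⁻¹) (hr : ∀ r ∈ rels, (r.map g).prod = 1) (hH : ∀ r ∈ subs, (r.map g).prod ∈ H)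
    (j u : ℕ) (hu : u < M) (h : dp_y_89 j u = true) : Good (fa g) T MG M (cP g H) Lt.y u := by
  unfold dp_y_89 at h
  rcases brec_true h with h | h
  · exact lF_good (T := T) (x := Lt.y) (by decide) [Lt.q, Lt.y, Lt.q, Lt.yi, Lt.yi, Lt.q, Lt.yi, Lt.yi, Lt.yi, Lt.q, Lt.y, Lt.q, Lt.y, Lt.q, Lt.y] (H9.TCY.hole_at hinv hr 32 10 false (by decide +kernel)) h
  · exact lF_good (T := T) (x := Lt.y) (by decide) [Lt.q, Lt.y, Lt.q, Lt.y, Lt.z, Lt.q, Lt.z, Lt.y, Lt.q, Lt.y, Lt.q, Lt.y, Lt.z, Lt.q, Lt.z] (H9.TCY.hole_at hinv hr 35 4 true (by decide +kernel)) h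
theorem dp_y_90_s (hinv : ∀ x, g (inv x) = (g x)⁻¹) (hr : ∀ r ∈ rels, (r.map g).prod = 1) (hH : ∀ r ∈ subs, (r.map g).prod ∈ H)
    (j u : ℕ) (hu : u < M) (h : dp_y_90 j u = true) : Good (fa g) T MG M (cP g H) Lt.y u := by
  unfold dp_y_90 at h
  rcases brec_true h with h | h
  · exact lF_good (T := T) (x := Lt.y) (by decide) [Lt.z, Lt.q, Lt.y, Lt.y, Lt.y, Lt.q, Lt.z, Lt.y, Lt.y, Lt.z, Lt.q, Lt.y, Lt.y, Lt.y, Lt.q, Lt.z, Lt.y, Lt.y, Lt.z, Lt.q, Lt.y, Lt.y, Lt.y, Lt.q, Lt.z, Lt.y] (H9.TCY.hole_at hinv hr 47 4 false (by decide +kernel)) h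
  · exact dp_y_89_s hinv hr hH j u hu h
theorem dp_y_91_s (hinv : ∀ x, g (inv x) = (g x)⁻¹) (hr : ∀ r ∈ rels, (r.map g).prod = 1) (hH : ∀ r ∈ subs, (r.map g).prod ∈ H)
    (j u : ℕ) (hu : u < M) (h : dp_y_91 j u = true) : Good (fa g) T MG M (cP g H) Lt.y u := by
  unfold dp_y_91 at h
  rcases brec_true h with h | h
  · exact dp_y_88_s hinv hr hH j u hu h
  · exact dp_y_90_s hinv hr hH j u hu h
theorem dp_y_92_s (hinv : ∀ x, g (inv x) = (g x)⁻¹) (hr : ∀ r ∈ rels, (r.map g).prod = 1) (hH : ∀ r ∈ subs, (r.map g).prod ∈ H)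
    (j u : ℕ) (hu : u < M) (h : dp_y_92 j u = true) : Good (fa g) T MG M (cP g H) Lt.y u := by
  unfold dp_y_92 at h
  rcases brec_true h with h | h
  · exact lF_good (T := T) (x := Lt.y) (by decide) [Lt.z, Lt.yi, Lt.z, Lt.q, Lt.y, Lt.q, Lt.z, Lt.yi, Lt.z, Lt.y, Lt.q, Lt.z, Lt.yi, Lt.z, Lt.q] (H9.TCY.hole_at hinv hr 28 11 true (by decide +kernel)) h
  · exact lF_good (T := T) (x := Lt.y) (by decide) [Lt.z, Lt.q, Lt.z, Lt.y, Lt.q, Lt.y, Lt.q, Lt.y, Lt.z, Lt.q, Lt.z, Lt.y, Lt.q, Lt.y, Lt.q] (H9.TCY.hole_at hinv hr 35 0 true (by decide +kernel)) h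
theorem dp_y_93_s (hinv : ∀ x, g (inv x) = (g x)⁻¹) (hr : ∀ r ∈ rels, (r.map g).prod = 1) (hH : ∀ r ∈ subs, (r.map g).prod ∈ H)
    (j u : ℕ) (hu : u < M) (h : dp_y_93 j u = true) : Good (fa g) T MG M (cP g H) Lt.y u := by
  unfold dp_y_93 at h
  rcases brec_true h with h | h
  · exact lF_good (T := T) (x := Lt.y) (by decide) [Lt.z, Lt.q, Lt.y, Lt.z, Lt.yi, Lt.z, Lt.q, Lt.yi, Lt.yi, Lt.z, Lt.q, Lt.yi, Lt.z, Lt.y, Lt.z, Lt.q, Lt.y] (H9.TCY.hole_at hinv hr 40 0 true (by decide +kernel)) h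
  · exact dp_y_92_s hinv hr hH j u hu h
theorem dp_y_94_s (hinv : ∀ x, g (inv x) = (g x)⁻¹) (hr : ∀ r ∈ rels, (r.map g).prod = 1) (hH : ∀ r ∈ subs, (r.map g).prod ∈ H)
    (j u : ℕ) (hu : u < M) (h : dp_y_94 j u = true) : Good (fa g) T MG M (cP g H) Lt.y u := by
  unfold dp_y_94 at h
  rcases brec_true h with h | h
  · exact lF_good (T := T) (x := Lt.y) (by decide) [Lt.z, Lt.yi, Lt.yi, Lt.q, Lt.yi, Lt.yi, Lt.z, Lt.y, Lt.z, Lt.yi, Lt.z, Lt.yi, Lt.q, Lt.yi, Lt.z, Lt.yi, Lt.z] (H9.TCY.hole_at hinv hr 41 17 false (by decide +kernel)) h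
  · exact lS_good (T := T) (x := Lt.y) (by decide) hu [Lt.y, Lt.y, Lt.q, Lt.z, Lt.q, Lt.z, Lt.y, Lt.y, Lt.y, Lt.q, Lt.z, Lt.q, Lt.z] (H9.TCY.hole_at hinv hr 21 5 true (by decide +kernel)) h
theorem dp_y_95_s (hinv : ∀ x, g (inv x) = (g x)⁻¹) (hr : ∀ r ∈ rels, (r.map g).prod = 1) (hH : ∀ r ∈ subs, (r.map g).prod ∈ H)
    (j u : ℕ) (hu : u < M) (h : dp_y_95 j u = true) : Good (fa g) T MG M (cP g H) Lt.y u := by
  unfold dp_y_95 at h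
  rcases brec_true h with h | h
  · exact lF_good (T := T) (x := Lt.y) (by decide) [Lt.q, Lt.y, Lt.y, Lt.y, Lt.q, Lt.y, Lt.y, Lt.y, Lt.q, Lt.yi, Lt.yi, Lt.yi, Lt.q, Lt.y, Lt.y] (H9.TCY.hole_at hinv hr 30 8 true (by decide +kernel)) h
  · exact dp_y_94_s hinv hr hH j u hu h
theorem dp_y_96_s (hinv : ∀ x, g (inv x) = (g x)⁻¹) (hr : ∀ r ∈ rels, (r.map g).prod = 1) (hH : ∀ r ∈ subs, (r.map g).prod ∈ H)
    (j u : ℕ) (hu : u < M) (h : dp_y_96 j u = true) : Good (fa g) T MG M (cP g H) Lt.y u := by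
  unfold dp_y_96 at h
  rcases brec_true h with h | h
  · exact dp_y_93_s hinv hr hH j u hu h
  · exact dp_y_95_s hinv hr hH j u hu h
theorem dp_y_97_s (hinv : ∀ x, g (inv x) = (g x)⁻¹) (hr : ∀ r ∈ rels, (r.map g).prod = 1) (hH : ∀ r ∈ subs, (r.map g).prod ∈ H)
    (j u : ℕ) (hu : u < M) (h : dp_y_97 j u = true) : Good (fa g) T MG M (cP g H) Lt.y u := by
  unfold dp_y_97 at h
  rcases brec_true h with h | h
  · exact dp_y_91_s hinv hr hH j u hu h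
  · exact dp_y_96_s hinv hr hH j u hu h
theorem dp_y_98_s (hinv : ∀ x, g (inv x) = (g x)⁻¹) (hr : ∀ r ∈ rels, (r.map g).prod = 1) (hH : ∀ r ∈ subs, (r.map g).prod ∈ H)
    (j u : ℕ) (hu : u < M) (h : dp_y_98 j u = true) : Good (fa g) T MG M (cP g H) Lt.y u := by
  unfold dp_y_98 at h
  rcases brec_true h with h | h
  · exact dp_y_86_s hinv hr hH j u hu h
  · exact dp_y_97_s hinv hr hH j u hu h
theorem dp_y_99_s (hinv : ∀ x, g (inv x) = (g x)⁻¹) (hr : ∀ r ∈ rels, (r.map g).prod = 1) (hH : ∀ r ∈ subs, (r.map g).prod ∈ H)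
    (j u : ℕ) (hu : u < M) (h : dp_y_99 j u = true) : Good (fa g) T MG M (cP g H) Lt.y u := by
  unfold dp_y_99 at h
  rcases brec_true h with h | h
  · exact lF_good (T := T) (x := Lt.y) (by decide) [Lt.q, Lt.z, Lt.y, Lt.z, Lt.yi, Lt.z, Lt.q, Lt.yi, Lt.yi, Lt.q, Lt.z, Lt.yi, Lt.z, Lt.y, Lt.z, Lt.q, Lt.y] (H9.TCY.hole_at hinv hr 39 11 false (by decide +kernel)) h
  · exact lS_good (T := T) (x := Lt.y) (by decide) hu [Lt.z, Lt.q, Lt.z, Lt.yi, Lt.yi, Lt.q, Lt.y, Lt.y, Lt.z, Lt.q, Lt.z, Lt.yi, Lt.yi, Lt.q, Lt.y] (H9.TCY.hole_at hinv hr 33 5 false (by decide +kernel)) h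
theorem dp_y_100_s (hinv : ∀ x, g (inv x) = (g x)⁻¹) (hr : ∀ r ∈ rels, (r.map g).prod = 1) (hH : ∀ r ∈ subs, (r.map g).prod ∈ H)
    (j u : ℕ) (hu : u < M) (h : dp_y_100 j u = true) : Good (fa g) T MG M (cP g H) Lt.y u := by
  unfold dp_y_100 at h
  rcases brec_true h with h | h
  · exact lS_good (T := T) (x := Lt.y) (by decide) hu [Lt.z, Lt.yi, Lt.z, Lt.y, Lt.z, Lt.y, Lt.q, Lt.y, Lt.z, Lt.y, Lt.z, Lt.yi, Lt.z, Lt.y, Lt.y, Lt.q, Lt.y] (H9.TCY.hole_at hinv hr 41 0 true (by decide +kernel)) h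
  · exact dp_y_99_s hinv hr hH j u hu h
theorem dp_y_101_s (hinv : ∀ x, g (inv x) = (g x)⁻¹) (hr : ∀ r ∈ rels, (r.map g).prod = 1) (hH : ∀ r ∈ subs, (r.map g).prod ∈ H)
    (j u : ℕ) (hu : u < M) (h : dp_y_101 j u = true) : Good (fa g) T MG M (cP g H) Lt.y u := by
  unfold dp_y_101 at h
  rcases brec_true h with h | h
  · exact lS_good (T := T) (x := Lt.y) (by decide) hu [Lt.z, Lt.yi, Lt.z, Lt.yi, Lt.q, Lt.yi, Lt.z, Lt.yi, Lt.z, Lt.y, Lt.z, Lt.yi, Lt.yi, Lt.q, Lt.yi, Lt.yi, Lt.z] (H9.TCY.hole_at hinv hr 41 7 false (by decide +kernel)) h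
  · exact lF_good (T := T) (x := Lt.y) (by decide) [Lt.y, Lt.q, Lt.y, Lt.y, Lt.y, Lt.q, Lt.yi, Lt.q, Lt.yi, Lt.q, Lt.yi, Lt.yi, Lt.q, Lt.yi, Lt.q] (H9.TCY.hole_at hinv hr 31 11 true (by decide +kernel)) h
theorem dp_y_102_s (hinv : ∀ x, g (inv x) = (g x)⁻¹) (hr : ∀ r ∈ rels, (r.map g).prod = 1) (hH : ∀ r ∈ subs, (r.map g).prod ∈ H)
    (j u : ℕ) (hu : u < M) (h : dp_y_102 j u = true) : Good (fa g) T MG M (cP g H) Lt.y u := by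
  unfold dp_y_102 at h
  rcases brec_true h with h | h
  · exact lS_good (T := T) (x := Lt.y) (by decide) hu [Lt.q, Lt.y, Lt.y, Lt.z, Lt.yi, Lt.z, Lt.y, Lt.z, Lt.y, Lt.q, Lt.y, Lt.z, Lt.y, Lt.z, Lt.yi, Lt.z, Lt.y] (H9.TCY.hole_at hinv hr 41 15 true (by decide +kernel)) h
  · exact dp_y_101_s hinv hr hH j u hu h
theorem dp_y_103_s (hinv : ∀ x, g (inv x) = (g x)⁻¹) (hr : ∀ r ∈ rels, (r.map g).prod = 1) (hH : ∀ r ∈ subs, (r.map g).prod ∈ H)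
    (j u : ℕ) (hu : u < M) (h : dp_y_103 j u = true) : Good (fa g) T MG M (cP g H) Lt.y u := by
  unfold dp_y_103 at h
  rcases brec_true h with h | h
  · exact dp_y_100_s hinv hr hH j u hu h
  · exact dp_y_102_s hinv hr hH j u hu h
theorem dp_y_104_s (hinv : ∀ x, g (inv x) = (g x)⁻¹) (hr : ∀ r ∈ rels, (r.map g).prod = 1) (hH : ∀ r ∈ subs, (r.map g).prod ∈ H)
    (j u : ℕ) (hu : u < M) (h : dp_y_104 j u = true) : Good (fa g) T MG M (cP g H) Lt.y u := by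
  unfold dp_y_104 at h
  rcases brec_true h with h | h
  · exact lF_good (T := T) (x := Lt.y) (by decide) [Lt.y, Lt.z, Lt.q, Lt.z, Lt.yi, Lt.yi, Lt.q, Lt.y, Lt.y, Lt.z, Lt.q, Lt.z, Lt.yi, Lt.yi, Lt.q] (H9.TCY.hole_at hinv hr 33 4 false (by decide +kernel)) h
  · exact lF_good (T := T) (x := Lt.y) (by decide) [Lt.y, Lt.q, Lt.z, Lt.y, Lt.z, Lt.yi, Lt.q, Lt.z, Lt.yi, Lt.yi, Lt.q, Lt.z, Lt.yi, Lt.z, Lt.y, Lt.q, Lt.z] (H9.TCY.hole_at hinv hr 40 10 false (by decide +kernel)) h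
theorem dp_y_105_s (hinv : ∀ x, g (inv x) = (g x)⁻¹) (hr : ∀ r ∈ rels, (r.map g).prod = 1) (hH : ∀ r ∈ subs, (r.map g).prod ∈ H)
    (j u : ℕ) (hu : u < M) (h : dp_y_105 j u = true) : Good (fa g) T MG M (cP g H) Lt.y u := by
  unfold dp_y_105 at h
  rcases brec_true h with h | h
  · exact lF_good (T := T) (x := Lt.y) (by decide) [Lt.y, Lt.z, Lt.q, Lt.y, Lt.y, Lt.y, Lt.q, Lt.z, Lt.y, Lt.y, Lt.z, Lt.q, Lt.y, Lt.y, Lt.y, Lt.q, Lt.z, Lt.y, Lt.y, Lt.z, Lt.q, Lt.y, Lt.y, Lt.y, Lt.q, Lt.z] (H9.TCY.hole_at hinv hr 47 3 false (by decide +kernel)) h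
  · exact dp_y_104_s hinv hr hH j u hu h
theorem dp_y_106_s (hinv : ∀ x, g (inv x) = (g x)⁻¹) (hr : ∀ r ∈ rels, (r.map g).prod = 1) (hH : ∀ r ∈ subs, (r.map g).prod ∈ H)
    (j u : ℕ) (hu : u < M) (h : dp_y_106 j u = true) : Good (fa g) T MG M (cP g H) Lt.y u := by
  unfold dp_y_106 at h
  rcases brec_true h with h | h
  · exact lF_good (T := T) (x := Lt.y) (by decide) [Lt.q, Lt.z, Lt.yi, Lt.z, Lt.q, Lt.y, Lt.q, Lt.yi, Lt.z, Lt.q, Lt.y, Lt.q, Lt.z, Lt.yi, Lt.q] (H9.TCY.hole_at hinv hr 23 3 false (by decide +kernel)) h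
  · exact lF_good (T := T) (x := Lt.y) (by decide) [Lt.q, Lt.yi, Lt.z, Lt.q, Lt.y, Lt.q, Lt.z, Lt.yi, Lt.q, Lt.y, Lt.q, Lt.z, Lt.yi, Lt.z, Lt.q] (H9.TCY.hole_at hinv hr 23 9 false (by decide +kernel)) h
theorem dp_y_107_s (hinv : ∀ x, g (inv x) = (g x)⁻¹) (hr : ∀ r ∈ rels, (r.map g).prod = 1) (hH : ∀ r ∈ subs, (r.map g).prod ∈ H)
    (j u : ℕ) (hu : u < M) (h : dp_y_107 j u = true) : Good (fa g) T MG M (cP g H) Lt.y u := by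
  unfold dp_y_107 at h
  rcases brec_true h with h | h
  · exact lS_good (T := T) (x := Lt.y) (by decide) hu [Lt.z, Lt.y, Lt.q, Lt.y, Lt.z, Lt.y, Lt.z, Lt.yi, Lt.z, Lt.y, Lt.y, Lt.q, Lt.y, Lt.y, Lt.z, Lt.yi, Lt.z] (H9.TCY.hole_at hinv hr 41 4 true (by decide +kernel)) h
  · exact lF_good (T := T) (x := Lt.y) (by decide) [Lt.q, Lt.yi, Lt.q, Lt.yi, Lt.yi, Lt.q, Lt.yi, Lt.q, Lt.yi, Lt.q, Lt.y, Lt.y, Lt.y, Lt.q, Lt.y] (H9.TCY.hole_at hinv hr 32 3 true (by decide +kernel)) h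
theorem dp_y_108_s (hinv : ∀ x, g (inv x) = (g x)⁻¹) (hr : ∀ r ∈ rels, (r.map g).prod = 1) (hH : ∀ r ∈ subs, (r.map g).prod ∈ H)
    (j u : ℕ) (hu : u < M) (h : dp_y_108 j u = true) : Good (fa g) T MG M (cP g H) Lt.y u := by
  unfold dp_y_108 at h
  rcases brec_true h with h | h
  · exact dp_y_106_s hinv hr hH j u hu h
  · exact dp_y_107_s hinv hr hH j u hu h
theorem dp_y_109_s (hinv : ∀ x, g (inv x) = (g x)⁻¹) (hr : ∀ r ∈ rels, (r.map g).prod = 1) (hH : ∀ r ∈ subs, (r.map g).prod ∈ H)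
    (j u : ℕ) (hu : u < M) (h : dp_y_109 j u = true) : Good (fa g) T MG M (cP g H) Lt.y u := by
  unfold dp_y_109 at h
  rcases brec_true h with h | h
  · exact dp_y_105_s hinv hr hH j u hu h
  · exact dp_y_108_s hinv hr hH j u hu h
theorem dp_y_110_s (hinv : ∀ x, g (inv x) = (g x)⁻¹) (hr : ∀ r ∈ rels, (r.map g).prod = 1) (hH : ∀ r ∈ subs, (r.map g).prod ∈ H)
    (j u : ℕ) (hu : u < M) (h : dp_y_110 j u = true) : Good (fa g) T MG M (cP g H) Lt.y u := by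
  unfold dp_y_110 at h
  rcases brec_true h with h | h
  · exact dp_y_103_s hinv hr hH j u hu h
  · exact dp_y_109_s hinv hr hH j u hu h
theorem dp_y_111_s (hinv : ∀ x, g (inv x) = (g x)⁻¹) (hr : ∀ r ∈ rels, (r.map g).prod = 1) (hH : ∀ r ∈ subs, (r.map g).prod ∈ H)
    (j u : ℕ) (hu : u < M) (h : dp_y_111 j u = true) : Good (fa g) T MG M (cP g H) Lt.y u := by
  unfold dp_y_111 at h
  rcases brec_true h with h | h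
  · exact lS_good (T := T) (x := Lt.y) (by decide) hu [Lt.z, Lt.yi, Lt.z, Lt.y, Lt.y, Lt.q, Lt.y, Lt.y, Lt.z, Lt.yi, Lt.z, Lt.y, Lt.z, Lt.y, Lt.q, Lt.y, Lt.z] (H9.TCY.hole_at hinv hr 41 10 true (by decide +kernel)) h
  · exact lF_good (T := T) (x := Lt.y) (by decide) [Lt.y, Lt.q, Lt.yi, Lt.q, Lt.yi, Lt.q, Lt.yi, Lt.yi, Lt.q, Lt.yi, Lt.q, Lt.y, Lt.y, Lt.q, Lt.y] (H9.TCY.hole_at hinv hr 31 15 true (by decide +kernel)) h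
theorem dp_y_112_s (hinv : ∀ x, g (inv x) = (g x)⁻¹) (hr : ∀ r ∈ rels, (r.map g).prod = 1) (hH : ∀ r ∈ subs, (r.map g).prod ∈ H)
    (j u : ℕ) (hu : u < M) (h : dp_y_112 j u = true) : Good (fa g) T MG M (cP g H) Lt.y u := by
  unfold dp_y_112 at h
  rcases brec_true h with h | h
  · exact lF_good (T := T) (x := Lt.y) (by decide) [Lt.q, Lt.y, Lt.y, Lt.q, Lt.y, Lt.q, Lt.y, Lt.q, Lt.yi, Lt.yi, Lt.yi, Lt.q, Lt.yi, Lt.yi, Lt.q] (H9.TCY.hole_at hinv hr 31 8 false (by decide +kernel)) h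
  · exact dp_y_111_s hinv hr hH j u hu h
theorem dp_y_113_s (hinv : ∀ x, g (inv x) = (g x)⁻¹) (hr : ∀ r ∈ rels, (r.map g).prod = 1) (hH : ∀ r ∈ subs, (r.map g).prod ∈ H)
    (j u : ℕ) (hu : u < M) (h : dp_y_113 j u = true) : Good (fa g) T MG M (cP g H) Lt.y u := by
  unfold dp_y_113 at h
  rcases brec_true h with h | h
  · exact lS_good (T := T) (x := Lt.y) (by decide) hu [Lt.q, Lt.z, Lt.y, Lt.z, Lt.yi, Lt.z, Lt.q, Lt.yi, Lt.yi, Lt.q, Lt.z, Lt.yi, Lt.z, Lt.y, Lt.z, Lt.q, Lt.y] (H9.TCY.hole_at hinv hr 39 11 false (by decide +kernel)) h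
  · exact lS_good (T := T) (x := Lt.y) (by decide) hu [Lt.q, Lt.z, Lt.yi, Lt.q, Lt.z, Lt.y, Lt.z, Lt.yi, Lt.z, Lt.q, Lt.y, Lt.z, Lt.q, Lt.yi, Lt.z] (H9.TCY.hole_at hinv hr 27 14 false (by decide +kernel)) h
theorem dp_y_114_s (hinv : ∀ x, g (inv x) = (g x)⁻¹) (hr : ∀ r ∈ rels, (r.map g).prod = 1) (hH : ∀ r ∈ subs, (r.map g).prod ∈ H)
    (j u : ℕ) (hu : u < M) (h : dp_y_114 j u = true) : Good (fa g) T MG M (cP g H) Lt.y u := by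
  unfold dp_y_114 at h
  rcases brec_true h with h | h
  · exact lF_good (T := T) (x := Lt.y) (by decide) [Lt.z, Lt.q, Lt.yi, Lt.z, Lt.y, Lt.z, Lt.q, Lt.yi, Lt.q, Lt.z, Lt.y, Lt.z, Lt.yi, Lt.q, Lt.z] (H9.TCY.hole_at hinv hr 28 9 false (by decide +kernel)) h
  · exact lF_good (T := T) (x := Lt.y) (by decide) [Lt.y, Lt.y, Lt.q, Lt.yi, Lt.q, Lt.yi, Lt.q, Lt.yi, Lt.yi, Lt.q, Lt.yi, Lt.q, Lt.y, Lt.y, Lt.q] (H9.TCY.hole_at hinv hr 31 14 true (by decide +kernel)) h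
theorem dp_y_115_s (hinv : ∀ x, g (inv x) = (g x)⁻¹) (hr : ∀ r ∈ rels, (r.map g).prod = 1) (hH : ∀ r ∈ subs, (r.map g).prod ∈ H)
    (j u : ℕ) (hu : u < M) (h : dp_y_115 j u = true) : Good (fa g) T MG M (cP g H) Lt.y u := by
  unfold dp_y_115 at h
  rcases brec_true h with h | h
  · exact dp_y_113_s hinv hr hH j u hu h
  · exact dp_y_114_s hinv hr hH j u hu h
theorem dp_y_116_s (hinv : ∀ x, g (inv x) = (g x)⁻¹) (hr : ∀ r ∈ rels, (r.map g).prod = 1) (hH : ∀ r ∈ subs, (r.map g).prod ∈ H)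
    (j u : ℕ) (hu : u < M) (h : dp_y_116 j u = true) : Good (fa g) T MG M (cP g H) Lt.y u := by
  unfold dp_y_116 at h
  rcases brec_true h with h | h
  · exact dp_y_112_s hinv hr hH j u hu h
  · exact dp_y_115_s hinv hr hH j u hu h
theorem dp_y_117_s (hinv : ∀ x, g (inv x) = (g x)⁻¹) (hr : ∀ r ∈ rels, (r.map g).prod = 1) (hH : ∀ r ∈ subs, (r.map g).prod ∈ H)
    (j u : ℕ) (hu : u < M) (h : dp_y_117 j u = true) : Good (fa g) T MG M (cP g H) Lt.y u := by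
  unfold dp_y_117 at h
  rcases brec_true h with h | h
  · exact lS_good (T := T) (x := Lt.y) (by decide) hu [Lt.y, Lt.z, Lt.yi, Lt.z, Lt.y, Lt.z, Lt.y, Lt.q, Lt.y, Lt.z, Lt.y, Lt.z, Lt.yi, Lt.z, Lt.y, Lt.y, Lt.q] (H9.TCY.hole_at hinv hr 41 17 true (by decide +kernel)) h
  · exact lF_good (T := T) (x := Lt.y) (by decide) [Lt.y, Lt.z, Lt.yi, Lt.z, Lt.y, Lt.z, Lt.y, Lt.q, Lt.y, Lt.z, Lt.y, Lt.z, Lt.yi, Lt.z, Lt.y, Lt.y, Lt.q] (H9.TCY.hole_at hinv hr 41 17 true (by decide +kernel)) h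
theorem dp_y_118_s (hinv : ∀ x, g (inv x) = (g x)⁻¹) (hr : ∀ r ∈ rels, (r.map g).prod = 1) (hH : ∀ r ∈ subs, (r.map g).prod ∈ H)
    (j u : ℕ) (hu : u < M) (h : dp_y_118 j u = true) : Good (fa g) T MG M (cP g H) Lt.y u := by
  unfold dp_y_118 at h
  rcases brec_true h with h | h
  · exact lF_good (T := T) (x := Lt.y) (by decide) [Lt.q, Lt.z, Lt.yi, Lt.z, Lt.q, Lt.y, Lt.z, Lt.yi, Lt.z, Lt.q, Lt.y, Lt.q, Lt.z, Lt.yi, Lt.z] (H9.TCY.hole_at hinv hr 28 5 true (by decide +kernel)) h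
  · exact lS_good (T := T) (x := Lt.y) (by decide) hu [Lt.z, Lt.q, Lt.yi, Lt.q, Lt.y, Lt.z, Lt.q, Lt.yi, Lt.q, Lt.z, Lt.y, Lt.q, Lt.yi, Lt.q, Lt.z] (H9.TCY.hole_at hinv hr 23 11 true (by decide +kernel)) h
theorem dp_y_119_s (hinv : ∀ x, g (inv x) = (g x)⁻¹) (hr : ∀ r ∈ rels, (r.map g).prod = 1) (hH : ∀ r ∈ subs, (r.map g).prod ∈ H)
    (j u : ℕ) (hu : u < M) (h : dp_y_119 j u = true) : Good (fa g) T MG M (cP g H) Lt.y u := by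
  unfold dp_y_119 at h
  rcases brec_true h with h | h
  · exact dp_y_117_s hinv hr hH j u hu h
  · exact dp_y_118_s hinv hr hH j u hu h
theorem dp_y_120_s (hinv : ∀ x, g (inv x) = (g x)⁻¹) (hr : ∀ r ∈ rels, (r.map g).prod = 1) (hH : ∀ r ∈ subs, (r.map g).prod ∈ H)
    (j u : ℕ) (hu : u < M) (h : dp_y_120 j u = true) : Good (fa g) T MG M (cP g H) Lt.y u := by
  unfold dp_y_120 at h
  rcases brec_true h with h | h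
  · exact lS_good (T := T) (x := Lt.y) (by decide) hu [Lt.y, Lt.q, Lt.y, Lt.q, Lt.y, Lt.q, Lt.yi, Lt.yi, Lt.yi, Lt.q, Lt.yi, Lt.yi, Lt.q, Lt.y, Lt.q] (H9.TCY.hole_at hinv hr 31 10 false (by decide +kernel)) h
  · exact lF_good (T := T) (x := Lt.y) (by decide) [Lt.z, Lt.yi, Lt.q, Lt.z, Lt.y, Lt.z, Lt.q, Lt.yi, Lt.z, Lt.y, Lt.z, Lt.q, Lt.yi, Lt.q, Lt.z] (H9.TCY.hole_at hinv hr 28 4 false (by decide +kernel)) h
theorem dp_y_121_s (hinv : ∀ x, g (inv x) = (g x)⁻¹) (hr : ∀ r ∈ rels, (r.map g).prod = 1) (hH : ∀ r ∈ subs, (r.map g).prod ∈ H)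
    (j u : ℕ) (hu : u < M) (h : dp_y_121 j u = true) : Good (fa g) T MG M (cP g H) Lt.y u := by
  unfold dp_y_121 at h
  rcases brec_true h with h | h
  · exact lF_good (T := T) (x := Lt.y) (by decide) [Lt.y, Lt.q, Lt.y, Lt.q, Lt.yi, Lt.yi, Lt.q, Lt.yi, Lt.yi, Lt.yi, Lt.q, Lt.y, Lt.q, Lt.y, Lt.q] (H9.TCY.hole_at hinv hr 32 9 false (by decide +kernel)) h
  · exact lF_good (T := T) (x := Lt.y) (by decide) [Lt.z, Lt.yi, Lt.q, Lt.z, Lt.q, Lt.y, Lt.q, Lt.yi, Lt.z, Lt.y, Lt.q, Lt.z, Lt.q, Lt.yi, Lt.q] (H9.TCY.hole_at hinv hr 24 0 true (by decide +kernel)) h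
theorem dp_y_122_s (hinv : ∀ x, g (inv x) = (g x)⁻¹) (hr : ∀ r ∈ rels, (r.map g).prod = 1) (hH : ∀ r ∈ subs, (r.map g).prod ∈ H)
    (j u : ℕ) (hu : u < M) (h : dp_y_122 j u = true) : Good (fa g) T MG M (cP g H) Lt.y u := by
  unfold dp_y_122 at h
  rcases brec_true h with h | h
  · exact dp_y_120_s hinv hr hH j u hu h
  · exact dp_y_121_s hinv hr hH j u hu h
theorem dp_y_123_s (hinv : ∀ x, g (inv x) = (g x)⁻¹) (hr : ∀ r ∈ rels, (r.map g).prod = 1) (hH : ∀ r ∈ subs, (r.map g).prod ∈ H)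
    (j u : ℕ) (hu : u < M) (h : dp_y_123 j u = true) : Good (fa g) T MG M (cP g H) Lt.y u := by
  unfold dp_y_123 at h
  rcases brec_true h with h | h
  · exact dp_y_119_s hinv hr hH j u hu h
  · exact dp_y_122_s hinv hr hH j u hu h
theorem dp_y_124_s (hinv : ∀ x, g (inv x) = (g x)⁻¹) (hr : ∀ r ∈ rels, (r.map g).prod = 1) (hH : ∀ r ∈ subs, (r.map g).prod ∈ H)
    (j u : ℕ) (hu : u < M) (h : dp_y_124 j u = true) : Good (fa g) T MG M (cP g H) Lt.y u := by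
  unfold dp_y_124 at h
  rcases brec_true h with h | h
  · exact dp_y_116_s hinv hr hH j u hu h
  · exact dp_y_123_s hinv hr hH j u hu h
theorem dp_y_125_s (hinv : ∀ x, g (inv x) = (g x)⁻¹) (hr : ∀ r ∈ rels, (r.map g).prod = 1) (hH : ∀ r ∈ subs, (r.map g).prod ∈ H)
    (j u : ℕ) (hu : u < M) (h : dp_y_125 j u = true) : Good (fa g) T MG M (cP g H) Lt.y u := by
  unfold dp_y_125 at h
  rcases brec_true h with h | h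
  · exact dp_y_110_s hinv hr hH j u hu h
  · exact dp_y_124_s hinv hr hH j u hu h
theorem dp_y_126_s (hinv : ∀ x, g (inv x) = (g x)⁻¹) (hr : ∀ r ∈ rels, (r.map g).prod = 1) (hH : ∀ r ∈ subs, (r.map g).prod ∈ H)
    (j u : ℕ) (hu : u < M) (h : dp_y_126 j u = true) : Good (fa g) T MG M (cP g H) Lt.y u := by
  unfold dp_y_126 at h
  rcases brec_true h with h | h
  · exact dp_y_98_s hinv hr hH j u hu h
  · exact dp_y_125_s hinv hr hH j u hu h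
theorem dp_y_127_s (hinv : ∀ x, g (inv x) = (g x)⁻¹) (hr : ∀ r ∈ rels, (r.map g).prod = 1) (hH : ∀ r ∈ subs, (r.map g).prod ∈ H)
    (j u : ℕ) (hu : u < M) (h : dp_y_127 j u = true) : Good (fa g) T MG M (cP g H) Lt.y u := by
  unfold dp_y_127 at h
  rcases brec_true h with h | h
  · exact lS_good (T := T) (x := Lt.y) (by decide) hu [Lt.y, Lt.q, Lt.yi, Lt.yi, Lt.z, Lt.q, Lt.z, Lt.y, Lt.y, Lt.q, Lt.yi, Lt.yi, Lt.z, Lt.q, Lt.z] (H9.TCY.hole_at hinv hr 34 6 false (by decide +kernel)) h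
  · exact lS_good (T := T) (x := Lt.y) (by decide) hu [Lt.q, Lt.z, Lt.q, Lt.yi, Lt.q, Lt.y, Lt.z, Lt.yi, Lt.q, Lt.z, Lt.q, Lt.y, Lt.q, Lt.yi, Lt.z] (H9.TCY.hole_at hinv hr 24 10 true (by decide +kernel)) h
theorem dp_y_128_s (hinv : ∀ x, g (inv x) = (g x)⁻¹) (hr : ∀ r ∈ rels, (r.map g).prod = 1) (hH : ∀ r ∈ subs, (r.map g).prod ∈ H)
    (j u : ℕ) (hu : u < M) (h : dp_y_128 j u = true) : Good (fa g) T MG M (cP g H) Lt.y u := by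
  unfold dp_y_128 at h
  rcases brec_true h with h | h
  · exact lS_good (T := T) (x := Lt.y) (by decide) hu [Lt.z, Lt.q, Lt.y, Lt.y, Lt.y, Lt.q, Lt.z, Lt.y, Lt.y, Lt.z, Lt.q, Lt.y, Lt.y, Lt.y, Lt.q, Lt.z, Lt.y, Lt.y, Lt.z, Lt.q, Lt.y, Lt.y, Lt.y, Lt.q, Lt.z, Lt.y] (H9.TCY.hole_at hinv hr 47 4 false (by decide +kernel)) h
  · exact lS_good (T := T) (x := Lt.y) (by decide) hu [Lt.y, Lt.z, Lt.q, Lt.y, Lt.y, Lt.y, Lt.q, Lt.z, Lt.y, Lt.y, Lt.z, Lt.q, Lt.y, Lt.y, Lt.y, Lt.q, Lt.z, Lt.y, Lt.y, Lt.z, Lt.q, Lt.y, Lt.y, Lt.y, Lt.q, Lt.z] (H9.TCY.hole_at hinv hr 47 3 false (by decide +kernel)) h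
theorem dp_y_129_s (hinv : ∀ x, g (inv x) = (g x)⁻¹) (hr : ∀ r ∈ rels, (r.map g).prod = 1) (hH : ∀ r ∈ subs, (r.map g).prod ∈ H)
    (j u : ℕ) (hu : u < M) (h : dp_y_129 j u = true) : Good (fa g) T MG M (cP g H) Lt.y u := by
  unfold dp_y_129 at h
  rcases brec_true h with h | h
  · exact dp_y_127_s hinv hr hH j u hu h
  · exact dp_y_128_s hinv hr hH j u hu h
theorem dp_y_130_s (hinv : ∀ x, g (inv x) = (g x)⁻¹) (hr : ∀ r ∈ rels, (r.map g).prod = 1) (hH : ∀ r ∈ subs, (r.map g).prod ∈ H)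
    (j u : ℕ) (hu : u < M) (h : dp_y_130 j u = true) : Good (fa g) T MG M (cP g H) Lt.y u := by
  unfold dp_y_130 at h
  rcases brec_true h with h | h
  · exact lS_good (T := T) (x := Lt.y) (by decide) hu [Lt.z, Lt.yi, Lt.yi, Lt.q, Lt.yi, Lt.yi, Lt.z, Lt.y, Lt.z, Lt.yi, Lt.z, Lt.yi, Lt.q, Lt.yi, Lt.z, Lt.yi, Lt.z] (H9.TCY.hole_at hinv hr 41 17 false (by decide +kernel)) h
  · exact lS_good (T := T) (x := Lt.y) (by decide) hu [Lt.z, Lt.q, Lt.y, Lt.y, Lt.q, Lt.z, Lt.y, Lt.z, Lt.yi, Lt.z, Lt.q, Lt.yi, Lt.yi, Lt.q, Lt.z, Lt.yi, Lt.z] (H9.TCY.hole_at hinv hr 39 7 false (by decide +kernel)) h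
theorem dp_y_131_s (hinv : ∀ x, g (inv x) = (g x)⁻¹) (hr : ∀ r ∈ rels, (r.map g).prod = 1) (hH : ∀ r ∈ subs, (r.map g).prod ∈ H)
    (j u : ℕ) (hu : u < M) (h : dp_y_131 j u = true) : Good (fa g) T MG M (cP g H) Lt.y u := by
  unfold dp_y_131 at h
  rcases brec_true h with h | h
  · exact lF_good (T := T) (x := Lt.y) (by decide) [Lt.y, Lt.q, Lt.yi, Lt.q, Lt.yi, Lt.yi, Lt.q, Lt.yi, Lt.q, Lt.yi, Lt.q, Lt.y, Lt.y, Lt.y, Lt.q] (H9.TCY.hole_at hinv hr 32 2 true (by decide +kernel)) h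
  · exact lF_good (T := T) (x := Lt.y) (by decide) [Lt.y, Lt.z, Lt.q, Lt.y, Lt.z, Lt.yi, Lt.z, Lt.q, Lt.yi, Lt.yi, Lt.z, Lt.q, Lt.yi, Lt.z, Lt.y, Lt.z, Lt.q] (H9.TCY.hole_at hinv hr 40 17 true (by decide +kernel)) h
theorem dp_y_132_s (hinv : ∀ x, g (inv x) = (g x)⁻¹) (hr : ∀ r ∈ rels, (r.map g).prod = 1) (hH : ∀ r ∈ subs, (r.map g).prod ∈ H)
    (j u : ℕ) (hu : u < M) (h : dp_y_132 j u = true) : Good (fa g) T MG M (cP g H) Lt.y u := by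
  unfold dp_y_132 at h
  rcases brec_true h with h | h
  · exact lS_good (T := T) (x := Lt.y) (by decide) hu [Lt.z, Lt.yi, Lt.z, Lt.q, Lt.yi, Lt.yi, Lt.q, Lt.z, Lt.yi, Lt.z, Lt.y, Lt.z, Lt.q, Lt.y, Lt.y, Lt.q, Lt.z] (H9.TCY.hole_at hinv hr 39 14 false (by decide +kernel)) h
  · exact dp_y_131_s hinv hr hH j u hu h
theorem dp_y_133_s (hinv : ∀ x, g (inv x) = (g x)⁻¹) (hr : ∀ r ∈ rels, (r.map g).prod = 1) (hH : ∀ r ∈ subs, (r.map g).prod ∈ H)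
    (j u : ℕ) (hu : u < M) (h : dp_y_133 j u = true) : Good (fa g) T MG M (cP g H) Lt.y u := by
  unfold dp_y_133 at h
  rcases brec_true h with h | h
  · exact dp_y_130_s hinv hr hH j u hu h
  · exact dp_y_132_s hinv hr hH j u hu h
theorem dp_y_134_s (hinv : ∀ x, g (inv x) = (g x)⁻¹) (hr : ∀ r ∈ rels, (r.map g).prod = 1) (hH : ∀ r ∈ subs, (r.map g).prod ∈ H)
    (j u : ℕ) (hu : u < M) (h : dp_y_134 j u = true) : Good (fa g) T MG M (cP g H) Lt.y u := by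
  unfold dp_y_134 at h
  rcases brec_true h with h | h
  · exact dp_y_129_s hinv hr hH j u hu h
  · exact dp_y_133_s hinv hr hH j u hu h
theorem dp_y_135_s (hinv : ∀ x, g (inv x) = (g x)⁻¹) (hr : ∀ r ∈ rels, (r.map g).prod = 1) (hH : ∀ r ∈ subs, (r.map g).prod ∈ H)
    (j u : ℕ) (hu : u < M) (h : dp_y_135 j u = true) : Good (fa g) T MG M (cP g H) Lt.y u := by
  unfold dp_y_135 at h
  rcases brec_true h with h | h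
  · exact lF_good (T := T) (x := Lt.y) (by decide) [Lt.q, Lt.yi, Lt.q, Lt.yi, Lt.q, Lt.yi, Lt.yi, Lt.q, Lt.yi, Lt.q, Lt.y, Lt.y, Lt.q, Lt.y, Lt.y] (H9.TCY.hole_at hinv hr 31 0 true (by decide +kernel)) h
  · exact lF_good (T := T) (x := Lt.y) (by decide) [Lt.z, Lt.q, Lt.y, Lt.y, Lt.z, Lt.q, Lt.y, Lt.z, Lt.yi, Lt.z, Lt.q, Lt.yi, Lt.yi, Lt.z, Lt.q, Lt.yi, Lt.z] (H9.TCY.hole_at hinv hr 40 14 true (by decide +kernel)) h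
theorem dp_y_136_s (hinv : ∀ x, g (inv x) = (g x)⁻¹) (hr : ∀ r ∈ rels, (r.map g).prod = 1) (hH : ∀ r ∈ subs, (r.map g).prod ∈ H)
    (j u : ℕ) (hu : u < M) (h : dp_y_136 j u = true) : Good (fa g) T MG M (cP g H) Lt.y u := by
  unfold dp_y_136 at h
  rcases brec_true h with h | h
  · exact lS_good (T := T) (x := Lt.y) (by decide) hu [Lt.q, Lt.yi, Lt.q, Lt.z, Lt.q, Lt.y, Lt.z, Lt.yi, Lt.q, Lt.y, Lt.q, Lt.z, Lt.q, Lt.yi, Lt.z] (H9.TCY.hole_at hinv hr 24 9 false (by decide +kernel)) h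
  · exact lS_good (T := T) (x := Lt.y) (by decide) hu [Lt.z, Lt.q, Lt.y, Lt.z, Lt.q, Lt.y, Lt.z, Lt.q, Lt.y, Lt.z, Lt.q, Lt.y, Lt.z, Lt.q, Lt.y, Lt.z, Lt.q, Lt.y, Lt.z, Lt.q, Lt.y, Lt.z, Lt.q] (H9.TCY.hole_at hinv hr 44 0 false (by decide +kernel)) h
theorem dp_y_137_s (hinv : ∀ x, g (inv x) = (g x)⁻¹) (hr : ∀ r ∈ rels, (r.map g).prod = 1) (hH : ∀ r ∈ subs, (r.map g).prod ∈ H)
    (j u : ℕ) (hu : u < M) (h : dp_y_137 j u = true) : Good (fa g) T MG M (cP g H) Lt.y u := by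
  unfold dp_y_137 at h
  rcases brec_true h with h | h
  · exact lF_good (T := T) (x := Lt.y) (by decide) [Lt.q, Lt.y, Lt.q, Lt.yi, Lt.yi, Lt.yi, Lt.q, Lt.yi, Lt.yi, Lt.q, Lt.y, Lt.q, Lt.y, Lt.y, Lt.q] (H9.TCY.hole_at hinv hr 31 13 false (by decide +kernel)) h
  · exact dp_y_136_s hinv hr hH j u hu h
theorem dp_y_138_s (hinv : ∀ x, g (inv x) = (g x)⁻¹) (hr : ∀ r ∈ rels, (r.map g).prod = 1) (hH : ∀ r ∈ subs, (r.map g).prod ∈ H)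
    (j u : ℕ) (hu : u < M) (h : dp_y_138 j u = true) : Good (fa g) T MG M (cP g H) Lt.y u := by
  unfold dp_y_138 at h
  rcases brec_true h with h | h
  · exact dp_y_135_s hinv hr hH j u hu h
  · exact dp_y_137_s hinv hr hH j u hu h
theorem dp_y_139_s (hinv : ∀ x, g (inv x) = (g x)⁻¹) (hr : ∀ r ∈ rels, (r.map g).prod = 1) (hH : ∀ r ∈ subs, (r.map g).prod ∈ H)
    (j u : ℕ) (hu : u < M) (h : dp_y_139 j u = true) : Good (fa g) T MG M (cP g H) Lt.y u := by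
  unfold dp_y_139 at h
  rcases brec_true h with h | h
  · exact lF_good (T := T) (x := Lt.y) (by decide) [Lt.y, Lt.q, Lt.y, Lt.y, Lt.q, Lt.yi, Lt.q, Lt.yi, Lt.yi, Lt.q, Lt.yi, Lt.q, Lt.yi, Lt.q, Lt.y] (H9.TCY.hole_at hinv hr 32 15 true (by decide +kernel)) h
  · exact lF_good (T := T) (x := Lt.y) (by decide) [Lt.q, Lt.z, Lt.y, Lt.z, Lt.yi, Lt.q, Lt.z, Lt.yi, Lt.yi, Lt.q, Lt.z, Lt.yi, Lt.z, Lt.y, Lt.q, Lt.z, Lt.y] (H9.TCY.hole_at hinv hr 40 11 false (by decide +kernel)) h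
theorem dp_y_140_s (hinv : ∀ x, g (inv x) = (g x)⁻¹) (hr : ∀ r ∈ rels, (r.map g).prod = 1) (hH : ∀ r ∈ subs, (r.map g).prod ∈ H)
    (j u : ℕ) (hu : u < M) (h : dp_y_140 j u = true) : Good (fa g) T MG M (cP g H) Lt.y u := by
  unfold dp_y_140 at h
  rcases brec_true h with h | h
  · exact lF_good (T := T) (x := Lt.y) (by decide) [Lt.y, Lt.q, Lt.y, Lt.y, Lt.y, Lt.q, Lt.y, Lt.y, Lt.y, Lt.q, Lt.yi, Lt.yi, Lt.yi, Lt.q, Lt.y] (H9.TCY.hole_at hinv hr 30 7 true (by decide +kernel)) h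
  · exact lF_good (T := T) (x := Lt.y) (by decide) [Lt.q, Lt.y, Lt.y, Lt.q, Lt.yi, Lt.q, Lt.yi, Lt.yi, Lt.q, Lt.yi, Lt.q, Lt.yi, Lt.q, Lt.y, Lt.y] (H9.TCY.hole_at hinv hr 32 0 true (by decide +kernel)) h
theorem dp_y_141_s (hinv : ∀ x, g (inv x) = (g x)⁻¹) (hr : ∀ r ∈ rels, (r.map g).prod = 1) (hH : ∀ r ∈ subs, (r.map g).prod ∈ H)
    (j u : ℕ) (hu : u < M) (h : dp_y_141 j u = true) : Good (fa g) T MG M (cP g H) Lt.y u := by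
  unfold dp_y_141 at h
  rcases brec_true h with h | h
  · exact lF_good (T := T) (x := Lt.y) (by decide) [Lt.q, Lt.y, Lt.z, Lt.q, Lt.z, Lt.y, Lt.q, Lt.y, Lt.q, Lt.y, Lt.z, Lt.q, Lt.z, Lt.y, Lt.q] (H9.TCY.hole_at hinv hr 35 6 true (by decide +kernel)) h
  · exact dp_y_140_s hinv hr hH j u hu h
theorem dp_y_142_s (hinv : ∀ x, g (inv x) = (g x)⁻¹) (hr : ∀ r ∈ rels, (r.map g).prod = 1) (hH : ∀ r ∈ subs, (r.map g).prod ∈ H)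
    (j u : ℕ) (hu : u < M) (h : dp_y_142 j u = true) : Good (fa g) T MG M (cP g H) Lt.y u := by
  unfold dp_y_142 at h
  rcases brec_true h with h | h
  · exact dp_y_139_s hinv hr hH j u hu h
  · exact dp_y_141_s hinv hr hH j u hu h
theorem dp_y_143_s (hinv : ∀ x, g (inv x) = (g x)⁻¹) (hr : ∀ r ∈ rels, (r.map g).prod = 1) (hH : ∀ r ∈ subs, (r.map g).prod ∈ H)
    (j u : ℕ) (hu : u < M) (h : dp_y_143 j u = true) : Good (fa g) T MG M (cP g H) Lt.y u := by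
  unfold dp_y_143 at h
  rcases brec_true h with h | h
  · exact dp_y_138_s hinv hr hH j u hu h
  · exact dp_y_142_s hinv hr hH j u hu h
theorem dp_y_144_s (hinv : ∀ x, g (inv x) = (g x)⁻¹) (hr : ∀ r ∈ rels, (r.map g).prod = 1) (hH : ∀ r ∈ subs, (r.map g).prod ∈ H)
    (j u : ℕ) (hu : u < M) (h : dp_y_144 j u = true) : Good (fa g) T MG M (cP g H) Lt.y u := by
  unfold dp_y_144 at h
  rcases brec_true h with h | h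
  · exact dp_y_134_s hinv hr hH j u hu h
  · exact dp_y_143_s hinv hr hH j u hu h
theorem dp_y_145_s (hinv : ∀ x, g (inv x) = (g x)⁻¹) (hr : ∀ r ∈ rels, (r.map g).prod = 1) (hH : ∀ r ∈ subs, (r.map g).prod ∈ H)
    (j u : ℕ) (hu : u < M) (h : dp_y_145 j u = true) : Good (fa g) T MG M (cP g H) Lt.y u := by
  unfold dp_y_145 at h
  rcases brec_true h with h | h
  · exact lS_good (T := T) (x := Lt.y) (by decide) hu [Lt.z, Lt.q, Lt.yi, Lt.q, Lt.z, Lt.y, Lt.z, Lt.yi, Lt.q, Lt.z, Lt.y, Lt.z, Lt.q, Lt.yi, Lt.z] (H9.TCY.hole_at hinv hr 28 14 false (by decide +kernel)) h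
  · exact lS_good (T := T) (x := Lt.y) (by decide) hu [Lt.q, Lt.yi, Lt.yi, Lt.z, Lt.q, Lt.z, Lt.y, Lt.y, Lt.q, Lt.yi, Lt.yi, Lt.z, Lt.q, Lt.z, Lt.y] (H9.TCY.hole_at hinv hr 34 7 false (by decide +kernel)) h
theorem dp_y_146_s (hinv : ∀ x, g (inv x) = (g x)⁻¹) (hr : ∀ r ∈ rels, (r.map g).prod = 1) (hH : ∀ r ∈ subs, (r.map g).prod ∈ H)
    (j u : ℕ) (hu : u < M) (h : dp_y_146 j u = true) : Good (fa g) T MG M (cP g H) Lt.y u := by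
  unfold dp_y_146 at h
  rcases brec_true h with h | h
  · exact lS_good (T := T) (x := Lt.y) (by decide) hu [Lt.q, Lt.yi, Lt.q, Lt.z, Lt.y, Lt.z, Lt.q, Lt.yi, Lt.q, Lt.y, Lt.z, Lt.q, Lt.yi, Lt.q, Lt.z] (H9.TCY.hole_at hinv hr 23 6 true (by decide +kernel)) h
  · exact lS_good (T := T) (x := Lt.y) (by decide) hu [Lt.z, Lt.q, Lt.yi, Lt.z, Lt.y, Lt.q, Lt.z, Lt.yi, Lt.q, Lt.z, Lt.y, Lt.z, Lt.yi, Lt.z, Lt.q] (H9.TCY.hole_at hinv hr 27 9 false (by decide +kernel)) h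
theorem dp_y_147_s (hinv : ∀ x, g (inv x) = (g x)⁻¹) (hr : ∀ r ∈ rels, (r.map g).prod = 1) (hH : ∀ r ∈ subs, (r.map g).prod ∈ H)
    (j u : ℕ) (hu : u < M) (h : dp_y_147 j u = true) : Good (fa g) T MG M (cP g H) Lt.y u := by
  unfold dp_y_147 at h
  rcases brec_true h with h | h
  · exact lF_good (T := T) (x := Lt.y) (by decide) [Lt.z, Lt.yi, Lt.q, Lt.z, Lt.y, Lt.q, Lt.z, Lt.yi, Lt.z, Lt.y, Lt.z, Lt.q, Lt.yi, Lt.z, Lt.q] (H9.TCY.hole_at hinv hr 36 15 false (by decide +kernel)) h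
  · exact dp_y_146_s hinv hr hH j u hu h
theorem dp_y_148_s (hinv : ∀ x, g (inv x) = (g x)⁻¹) (hr : ∀ r ∈ rels, (r.map g).prod = 1) (hH : ∀ r ∈ subs, (r.map g).prod ∈ H)
    (j u : ℕ) (hu : u < M) (h : dp_y_148 j u = true) : Good (fa g) T MG M (cP g H) Lt.y u := by
  unfold dp_y_148 at h
  rcases brec_true h with h | h
  · exact dp_y_145_s hinv hr hH j u hu h
  · exact dp_y_147_s hinv hr hH j u hu h
theorem dp_y_149_s (hinv : ∀ x, g (inv x) = (g x)⁻¹) (hr : ∀ r ∈ rels, (r.map g).prod = 1) (hH : ∀ r ∈ subs, (r.map g).prod ∈ H)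
    (j u : ℕ) (hu : u < M) (h : dp_y_149 j u = true) : Good (fa g) T MG M (cP g H) Lt.y u := by
  unfold dp_y_149 at h
  rcases brec_true h with h | h
  · exact lF_good (T := T) (x := Lt.y) (by decide) [Lt.v, Lt.q, Lt.z, Lt.q, Lt.z, Lt.yi, Lt.z, Lt.q, Lt.z, Lt.q, Lt.v] (H9.TCY.hole_at hinv hr 13 0 false (by decide +kernel)) h
  · exact lS_good (T := T) (x := Lt.y) (by decide) hu [Lt.q, Lt.z, Lt.yi, Lt.z, Lt.q, Lt.y, Lt.q, Lt.yi, Lt.z, Lt.q, Lt.y, Lt.q, Lt.z, Lt.yi, Lt.q] (H9.TCY.hole_at hinv hr 23 3 false (by decide +kernel)) h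
theorem dp_y_150_s (hinv : ∀ x, g (inv x) = (g x)⁻¹) (hr : ∀ r ∈ rels, (r.map g).prod = 1) (hH : ∀ r ∈ subs, (r.map g).prod ∈ H)
    (j u : ℕ) (hu : u < M) (h : dp_y_150 j u = true) : Good (fa g) T MG M (cP g H) Lt.y u := by
  unfold dp_y_150 at h
  rcases brec_true h with h | h
  · exact lF_good (T := T) (x := Lt.y) (by decide) [Lt.y, Lt.y, Lt.q, Lt.y, Lt.y, Lt.y, Lt.q, Lt.yi, Lt.yi, Lt.yi, Lt.q, Lt.y, Lt.y, Lt.y, Lt.q] (H9.TCY.hole_at hinv hr 30 10 true (by decide +kernel)) h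
  · exact dp_y_149_s hinv hr hH j u hu h
theorem dp_y_151_s (hinv : ∀ x, g (inv x) = (g x)⁻¹) (hr : ∀ r ∈ rels, (r.map g).prod = 1) (hH : ∀ r ∈ subs, (r.map g).prod ∈ H)
    (j u : ℕ) (hu : u < M) (h : dp_y_151 j u = true) : Good (fa g) T MG M (cP g H) Lt.y u := by
  unfold dp_y_151 at h
  rcases brec_true h with h | h
  · exact lF_good (T := T) (x := Lt.y) (by decide) [Lt.q, Lt.z, Lt.yi, Lt.z, Lt.y, Lt.z, Lt.q, Lt.yi, Lt.z, Lt.q, Lt.y, Lt.z, Lt.yi, Lt.q, Lt.z] (H9.TCY.hole_at hinv hr 36 4 false (by decide +kernel)) h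
  · exact lS_good (T := T) (x := Lt.y) (by decide) hu [Lt.z, Lt.q, Lt.y, Lt.z, Lt.yi, Lt.z, Lt.q, Lt.yi, Lt.yi, Lt.z, Lt.q, Lt.yi, Lt.z, Lt.y, Lt.z, Lt.q, Lt.y] (H9.TCY.hole_at hinv hr 40 0 true (by decide +kernel)) h
theorem dp_y_152_s (hinv : ∀ x, g (inv x) = (g x)⁻¹) (hr : ∀ r ∈ rels, (r.map g).prod = 1) (hH : ∀ r ∈ subs, (r.map g).prod ∈ H)
    (j u : ℕ) (hu : u < M) (h : dp_y_152 j u = true) : Good (fa g) T MG M (cP g H) Lt.y u := by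
  unfold dp_y_152 at h
  rcases brec_true h with h | h
  · exact lS_good (T := T) (x := Lt.y) (by decide) hu [Lt.z, Lt.yi, Lt.z, Lt.q, Lt.y, Lt.z, Lt.q, Lt.yi, Lt.z, Lt.y, Lt.q, Lt.z, Lt.yi, Lt.q, Lt.z] (H9.TCY.hole_at hinv hr 27 4 false (by decide +kernel)) h
  · exact dp_y_151_s hinv hr hH j u hu h
theorem dp_y_153_s (hinv : ∀ x, g (inv x) = (g x)⁻¹) (hr : ∀ r ∈ rels, (r.map g).prod = 1) (hH : ∀ r ∈ subs, (r.map g).prod ∈ H)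
    (j u : ℕ) (hu : u < M) (h : dp_y_153 j u = true) : Good (fa g) T MG M (cP g H) Lt.y u := by
  unfold dp_y_153 at h
  rcases brec_true h with h | h
  · exact dp_y_150_s hinv hr hH j u hu h
  · exact dp_y_152_s hinv hr hH j u hu h
theorem dp_y_154_s (hinv : ∀ x, g (inv x) = (g x)⁻¹) (hr : ∀ r ∈ rels, (r.map g).prod = 1) (hH : ∀ r ∈ subs, (r.map g).prod ∈ H)
    (j u : ℕ) (hu : u < M) (h : dp_y_154 j u = true) : Good (fa g) T MG M (cP g H) Lt.y u := by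
  unfold dp_y_154 at h
  rcases brec_true h with h | h
  · exact dp_y_148_s hinv hr hH j u hu h
  · exact dp_y_153_s hinv hr hH j u hu h
theorem dp_y_155_s (hinv : ∀ x, g (inv x) = (g x)⁻¹) (hr : ∀ r ∈ rels, (r.map g).prod = 1) (hH : ∀ r ∈ subs, (r.map g).prod ∈ H)
    (j u : ℕ) (hu : u < M) (h : dp_y_155 j u = true) : Good (fa g) T MG M (cP g H) Lt.y u := by
  unfold dp_y_155 at h
  rcases brec_true h with h | h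
  · exact lF_good (T := T) (x := Lt.y) (by decide) [Lt.q, Lt.z, Lt.y, Lt.y, Lt.q, Lt.z, Lt.y, Lt.z, Lt.yi, Lt.q, Lt.z, Lt.yi, Lt.yi, Lt.q, Lt.z, Lt.yi, Lt.z] (H9.TCY.hole_at hinv hr 40 7 false (by decide +kernel)) h
  · exact lS_good (T := T) (x := Lt.y) (by decide) hu [Lt.z, Lt.q, Lt.yi, Lt.q, Lt.z, Lt.y, Lt.q, Lt.yi, Lt.q, Lt.z, Lt.y, Lt.z, Lt.q, Lt.yi, Lt.q] (H9.TCY.hole_at hinv hr 23 0 true (by decide +kernel)) h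
theorem dp_y_156_s (hinv : ∀ x, g (inv x) = (g x)⁻¹) (hr : ∀ r ∈ rels, (r.map g).prod = 1) (hH : ∀ r ∈ subs, (r.map g).prod ∈ H)
    (j u : ℕ) (hu : u < M) (h : dp_y_156 j u = true) : Good (fa g) T MG M (cP g H) Lt.y u := by
  unfold dp_y_156 at h
  rcases brec_true h with h | h
  · exact lF_good (T := T) (x := Lt.y) (by decide) [Lt.z, Lt.q, Lt.yi, Lt.z, Lt.q, Lt.y, Lt.z, Lt.yi, Lt.q, Lt.z, Lt.y, Lt.q, Lt.z, Lt.yi, Lt.z] (H9.TCY.hole_at hinv hr 36 9 false (by decide +kernel)) h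
  · exact dp_y_155_s hinv hr hH j u hu h
theorem dp_y_157_s (hinv : ∀ x, g (inv x) = (g x)⁻¹) (hr : ∀ r ∈ rels, (r.map g).prod = 1) (hH : ∀ r ∈ subs, (r.map g).prod ∈ H)
    (j u : ℕ) (hu : u < M) (h : dp_y_157 j u = true) : Good (fa g) T MG M (cP g H) Lt.y u := by
  unfold dp_y_157 at h
  rcases brec_true h with h | h
  · exact lF_good (T := T) (x := Lt.y) (by decide) [Lt.z, Lt.q, Lt.y, Lt.z, Lt.q, Lt.y, Lt.z, Lt.q, Lt.y, Lt.z, Lt.q, Lt.y, Lt.z, Lt.q, Lt.y, Lt.z, Lt.q, Lt.y, Lt.z, Lt.q, Lt.y, Lt.z, Lt.q] (H9.TCY.hole_at hinv hr 44 0 false (by decide +kernel)) h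
  · exact lS_good (T := T) (x := Lt.y) (by decide) hu [Lt.q, Lt.y, Lt.y, Lt.q, Lt.y, Lt.q, Lt.y, Lt.q, Lt.yi, Lt.yi, Lt.yi, Lt.q, Lt.yi, Lt.yi, Lt.q] (H9.TCY.hole_at hinv hr 31 8 false (by decide +kernel)) h
theorem dp_y_158_s (hinv : ∀ x, g (inv x) = (g x)⁻¹) (hr : ∀ r ∈ rels, (r.map g).prod = 1) (hH : ∀ r ∈ subs, (r.map g).prod ∈ H)
    (j u : ℕ) (hu : u < M) (h : dp_y_158 j u = true) : Good (fa g) T MG M (cP g H) Lt.y u := by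
  unfold dp_y_158 at h
  rcases brec_true h with h | h
  · exact lS_good (T := T) (x := Lt.y) (by decide) hu [Lt.q, Lt.y, Lt.y, Lt.y, Lt.q, Lt.yi, Lt.q, Lt.yi, Lt.q, Lt.yi, Lt.yi, Lt.q, Lt.yi, Lt.q, Lt.y] (H9.TCY.hole_at hinv hr 31 12 true (by decide +kernel)) h
  · exact dp_y_157_s hinv hr hH j u hu h
theorem dp_y_159_s (hinv : ∀ x, g (inv x) = (g x)⁻¹) (hr : ∀ r ∈ rels, (r.map g).prod = 1) (hH : ∀ r ∈ subs, (r.map g).prod ∈ H)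
    (j u : ℕ) (hu : u < M) (h : dp_y_159 j u = true) : Good (fa g) T MG M (cP g H) Lt.y u := by
  unfold dp_y_159 at h
  rcases brec_true h with h | h
  · exact dp_y_156_s hinv hr hH j u hu h
  · exact dp_y_158_s hinv hr hH j u hu h
theorem dp_y_160_s (hinv : ∀ x, g (inv x) = (g x)⁻¹) (hr : ∀ r ∈ rels, (r.map g).prod = 1) (hH : ∀ r ∈ subs, (r.map g).prod ∈ H)
    (j u : ℕ) (hu : u < M) (h : dp_y_160 j u = true) : Good (fa g) T MG M (cP g H) Lt.y u := by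
  unfold dp_y_160 at h
  rcases brec_true h with h | h
  · exact lF_good (T := T) (x := Lt.y) (by decide) [Lt.y, Lt.y, Lt.q, Lt.y, Lt.y, Lt.y, Lt.q, Lt.y, Lt.y, Lt.y, Lt.q, Lt.yi, Lt.yi, Lt.yi, Lt.q] (H9.TCY.hole_at hinv hr 30 6 true (by decide +kernel)) h
  · exact lS_good (T := T) (x := Lt.y) (by decide) hu [Lt.y, Lt.q, Lt.yi, Lt.q, Lt.yi, Lt.q, Lt.yi, Lt.yi, Lt.q, Lt.yi, Lt.q, Lt.y, Lt.y, Lt.q, Lt.y] (H9.TCY.hole_at hinv hr 31 15 true (by decide +kernel)) h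
theorem dp_y_161_s (hinv : ∀ x, g (inv x) = (g x)⁻¹) (hr : ∀ r ∈ rels, (r.map g).prod = 1) (hH : ∀ r ∈ subs, (r.map g).prod ∈ H)
    (j u : ℕ) (hu : u < M) (h : dp_y_161 j u = true) : Good (fa g) T MG M (cP g H) Lt.y u := by
  unfold dp_y_161 at h
  rcases brec_true h with h | h
  · exact lS_good (T := T) (x := Lt.y) (by decide) hu [Lt.y, Lt.q, Lt.z, Lt.y, Lt.z, Lt.yi, Lt.q, Lt.z, Lt.yi, Lt.yi, Lt.q, Lt.z, Lt.yi, Lt.z, Lt.y, Lt.q, Lt.z] (H9.TCY.hole_at hinv hr 40 10 false (by decide +kernel)) h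
  · exact dp_y_160_s hinv hr hH j u hu h
theorem dp_y_162_s (hinv : ∀ x, g (inv x) = (g x)⁻¹) (hr : ∀ r ∈ rels, (r.map g).prod = 1) (hH : ∀ r ∈ subs, (r.map g).prod ∈ H)
    (j u : ℕ) (hu : u < M) (h : dp_y_162 j u = true) : Good (fa g) T MG M (cP g H) Lt.y u := by
  unfold dp_y_162 at h
  rcases brec_true h with h | h
  · exact lS_good (T := T) (x := Lt.y) (by decide) hu [Lt.z, Lt.q, Lt.z, Lt.y, Lt.q, Lt.y, Lt.q, Lt.y, Lt.z, Lt.q, Lt.z, Lt.y, Lt.q, Lt.y, Lt.q] (H9.TCY.hole_at hinv hr 35 0 true (by decide +kernel)) h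
  · exact lS_good (T := T) (x := Lt.y) (by decide) hu [Lt.y, Lt.y, Lt.q, Lt.yi, Lt.q, Lt.yi, Lt.q, Lt.yi, Lt.yi, Lt.q, Lt.yi, Lt.q, Lt.y, Lt.y, Lt.q] (H9.TCY.hole_at hinv hr 31 14 true (by decide +kernel)) h
theorem dp_y_163_s (hinv : ∀ x, g (inv x) = (g x)⁻¹) (hr : ∀ r ∈ rels, (r.map g).prod = 1) (hH : ∀ r ∈ subs, (r.map g).prod ∈ H)
    (j u : ℕ) (hu : u < M) (h : dp_y_163 j u = true) : Good (fa g) T MG M (cP g H) Lt.y u := by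
  unfold dp_y_163 at h
  rcases brec_true h with h | h
  · exact lF_good (T := T) (x := Lt.y) (by decide) [Lt.z, Lt.yi, Lt.q, Lt.z, Lt.yi, Lt.yi, Lt.q, Lt.z, Lt.yi, Lt.z, Lt.y, Lt.q, Lt.z, Lt.y, Lt.y, Lt.q, Lt.z] (H9.TCY.hole_at hinv hr 40 14 false (by decide +kernel)) h
  · exact dp_y_162_s hinv hr hH j u hu h
theorem dp_y_164_s (hinv : ∀ x, g (inv x) = (g x)⁻¹) (hr : ∀ r ∈ rels, (r.map g).prod = 1) (hH : ∀ r ∈ subs, (r.map g).prod ∈ H)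
    (j u : ℕ) (hu : u < M) (h : dp_y_164 j u = true) : Good (fa g) T MG M (cP g H) Lt.y u := by
  unfold dp_y_164 at h
  rcases brec_true h with h | h
  · exact dp_y_161_s hinv hr hH j u hu h
  · exact dp_y_163_s hinv hr hH j u hu h
theorem dp_y_165_s (hinv : ∀ x, g (inv x) = (g x)⁻¹) (hr : ∀ r ∈ rels, (r.map g).prod = 1) (hH : ∀ r ∈ subs, (r.map g).prod ∈ H)
    (j u : ℕ) (hu : u < M) (h : dp_y_165 j u = true) : Good (fa g) T MG M (cP g H) Lt.y u := by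
  unfold dp_y_165 at h
  rcases brec_true h with h | h
  · exact dp_y_159_s hinv hr hH j u hu h
  · exact dp_y_164_s hinv hr hH j u hu h
theorem dp_y_166_s (hinv : ∀ x, g (inv x) = (g x)⁻¹) (hr : ∀ r ∈ rels, (r.map g).prod = 1) (hH : ∀ r ∈ subs, (r.map g).prod ∈ H)
    (j u : ℕ) (hu : u < M) (h : dp_y_166 j u = true) : Good (fa g) T MG M (cP g H) Lt.y u := by
  unfold dp_y_166 at h
  rcases brec_true h with h | h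
  · exact dp_y_154_s hinv hr hH j u hu h
  · exact dp_y_165_s hinv hr hH j u hu h
theorem dp_y_167_s (hinv : ∀ x, g (inv x) = (g x)⁻¹) (hr : ∀ r ∈ rels, (r.map g).prod = 1) (hH : ∀ r ∈ subs, (r.map g).prod ∈ H)
    (j u : ℕ) (hu : u < M) (h : dp_y_167 j u = true) : Good (fa g) T MG M (cP g H) Lt.y u := by
  unfold dp_y_167 at h
  rcases brec_true h with h | h
  · exact dp_y_144_s hinv hr hH j u hu h
  · exact dp_y_166_s hinv hr hH j u hu h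
theorem dp_y_168_s (hinv : ∀ x, g (inv x) = (g x)⁻¹) (hr : ∀ r ∈ rels, (r.map g).prod = 1) (hH : ∀ r ∈ subs, (r.map g).prod ∈ H)
    (j u : ℕ) (hu : u < M) (h : dp_y_168 j u = true) : Good (fa g) T MG M (cP g H) Lt.y u := by
  unfold dp_y_168 at h
  rcases brec_true h with h | h
  · exact lF_good (T := T) (x := Lt.y) (by decide) [Lt.z, Lt.yi, Lt.z, Lt.q, Lt.yi, Lt.yi, Lt.z, Lt.q, Lt.yi, Lt.z, Lt.y, Lt.z, Lt.q, Lt.y, Lt.y, Lt.z, Lt.q] (H9.TCY.hole_at hinv hr 40 3 true (by decide +kernel)) h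
  · exact lS_good (T := T) (x := Lt.y) (by decide) hu [Lt.q, Lt.yi, Lt.z, Lt.q, Lt.y, Lt.q, Lt.z, Lt.yi, Lt.q, Lt.y, Lt.q, Lt.z, Lt.yi, Lt.z, Lt.q] (H9.TCY.hole_at hinv hr 23 9 false (by decide +kernel)) h
theorem dp_y_169_s (hinv : ∀ x, g (inv x) = (g x)⁻¹) (hr : ∀ r ∈ rels, (r.map g).prod = 1) (hH : ∀ r ∈ subs, (r.map g).prod ∈ H)
    (j u : ℕ) (hu : u < M) (h : dp_y_169 j u = true) : Good (fa g) T MG M (cP g H) Lt.y u := by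
  unfold dp_y_169 at h
  rcases brec_true h with h | h
  · exact lS_good (T := T) (x := Lt.y) (by decide) hu [Lt.y, Lt.z, Lt.q, Lt.z, Lt.yi, Lt.yi, Lt.q, Lt.y, Lt.y, Lt.z, Lt.q, Lt.z, Lt.yi, Lt.yi, Lt.q] (H9.TCY.hole_at hinv hr 33 4 false (by decide +kernel)) h
  · exact dp_y_168_s hinv hr hH j u hu h
theorem dp_y_170_s (hinv : ∀ x, g (inv x) = (g x)⁻¹) (hr : ∀ r ∈ rels, (r.map g).prod = 1) (hH : ∀ r ∈ subs, (r.map g).prod ∈ H)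
    (j u : ℕ) (hu : u < M) (h : dp_y_170 j u = true) : Good (fa g) T MG M (cP g H) Lt.y u := by
  unfold dp_y_170 at h
  rcases brec_true h with h | h
  · exact lS_good (T := T) (x := Lt.y) (by decide) hu [Lt.q, Lt.z, Lt.yi, Lt.z, Lt.q, Lt.y, Lt.z, Lt.yi, Lt.z, Lt.q, Lt.y, Lt.q, Lt.z, Lt.yi, Lt.z] (H9.TCY.hole_at hinv hr 28 5 true (by decide +kernel)) h
  · exact lF_good (T := T) (x := Lt.y) (by decide) [Lt.q, Lt.z, Lt.yi, Lt.z, Lt.y, Lt.q, Lt.z, Lt.yi, Lt.z, Lt.q, Lt.y, Lt.z, Lt.yi, Lt.z, Lt.q] (H9.TCY.hole_at hinv hr 28 0 true (by decide +kernel)) h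
theorem dp_y_171_s (hinv : ∀ x, g (inv x) = (g x)⁻¹) (hr : ∀ r ∈ rels, (r.map g).prod = 1) (hH : ∀ r ∈ subs, (r.map g).prod ∈ H)
    (j u : ℕ) (hu : u < M) (h : dp_y_171 j u = true) : Good (fa g) T MG M (cP g H) Lt.y u := by
  unfold dp_y_171 at h
  rcases brec_true h with h | h
  · exact lS_good (T := T) (x := Lt.y) (by decide) hu [Lt.z, Lt.yi, Lt.q, Lt.y, Lt.q, Lt.z, Lt.q, Lt.yi, Lt.z, Lt.y, Lt.q, Lt.yi, Lt.q, Lt.z, Lt.q] (H9.TCY.hole_at hinv hr 24 15 false (by decide +kernel)) h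
  · exact lS_good (T := T) (x := Lt.y) (by decide) hu [Lt.q, Lt.y, Lt.q, Lt.yi, Lt.yi, Lt.q, Lt.yi, Lt.yi, Lt.yi, Lt.q, Lt.y, Lt.q, Lt.y, Lt.q, Lt.y] (H9.TCY.hole_at hinv hr 32 10 false (by decide +kernel)) h
theorem dp_y_172_s (hinv : ∀ x, g (inv x) = (g x)⁻¹) (hr : ∀ r ∈ rels, (r.map g).prod = 1) (hH : ∀ r ∈ subs, (r.map g).prod ∈ H)
    (j u : ℕ) (hu : u < M) (h : dp_y_172 j u = true) : Good (fa g) T MG M (cP g H) Lt.y u := by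
  unfold dp_y_172 at h
  rcases brec_true h with h | h
  · exact dp_y_170_s hinv hr hH j u hu h
  · exact dp_y_171_s hinv hr hH j u hu h
theorem dp_y_173_s (hinv : ∀ x, g (inv x) = (g x)⁻¹) (hr : ∀ r ∈ rels, (r.map g).prod = 1) (hH : ∀ r ∈ subs, (r.map g).prod ∈ H)
    (j u : ℕ) (hu : u < M) (h : dp_y_173 j u = true) : Good (fa g) T MG M (cP g H) Lt.y u := by
  unfold dp_y_173 at h
  rcases brec_true h with h | h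
  · exact dp_y_169_s hinv hr hH j u hu h
  · exact dp_y_172_s hinv hr hH j u hu h
theorem dp_y_174_s (hinv : ∀ x, g (inv x) = (g x)⁻¹) (hr : ∀ r ∈ rels, (r.map g).prod = 1) (hH : ∀ r ∈ subs, (r.map g).prod ∈ H)
    (j u : ℕ) (hu : u < M) (h : dp_y_174 j u = true) : Good (fa g) T MG M (cP g H) Lt.y u := by
  unfold dp_y_174 at h
  rcases brec_true h with h | h
  · exact lS_good (T := T) (x := Lt.y) (by decide) hu [Lt.y, Lt.q, Lt.y, Lt.y, Lt.y, Lt.q, Lt.yi, Lt.q, Lt.yi, Lt.q, Lt.yi, Lt.yi, Lt.q, Lt.yi, Lt.q] (H9.TCY.hole_at hinv hr 31 11 true (by decide +kernel)) h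
  · exact lF_good (T := T) (x := Lt.y) (by decide) [Lt.q, Lt.y, Lt.y, Lt.y, Lt.q, Lt.yi, Lt.yi, Lt.yi, Lt.q, Lt.y, Lt.y, Lt.y, Lt.q, Lt.y, Lt.y] (H9.TCY.hole_at hinv hr 30 12 true (by decide +kernel)) h
theorem dp_y_175_s (hinv : ∀ x, g (inv x) = (g x)⁻¹) (hr : ∀ r ∈ rels, (r.map g).prod = 1) (hH : ∀ r ∈ subs, (r.map g).prod ∈ H)
    (j u : ℕ) (hu : u < M) (h : dp_y_175 j u = true) : Good (fa g) T MG M (cP g H) Lt.y u := by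
  unfold dp_y_175 at h
  rcases brec_true h with h | h
  · exact lF_good (T := T) (x := Lt.y) (by decide) [Lt.z, Lt.q, Lt.yi, Lt.q, Lt.z, Lt.y, Lt.z, Lt.q, Lt.yi, Lt.q, Lt.z, Lt.y, Lt.z, Lt.q, Lt.yi, Lt.q, Lt.z] (H9.TCY.hole_at hinv hr 42 4 true (by decide +kernel)) h
  · exact dp_y_174_s hinv hr hH j u hu h
theorem dp_y_176_s (hinv : ∀ x, g (inv x) = (g x)⁻¹) (hr : ∀ r ∈ rels, (r.map g).prod = 1) (hH : ∀ r ∈ subs, (r.map g).prod ∈ H)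
    (j u : ℕ) (hu : u < M) (h : dp_y_176 j u = true) : Good (fa g) T MG M (cP g H) Lt.y u := by
  unfold dp_y_176 at h
  rcases brec_true h with h | h
  · exact lS_good (T := T) (x := Lt.y) (by decide) hu [Lt.z, Lt.yi, Lt.z, Lt.q, Lt.y, Lt.q, Lt.z, Lt.yi, Lt.z, Lt.y, Lt.q, Lt.z, Lt.yi, Lt.z, Lt.q] (H9.TCY.hole_at hinv hr 28 11 true (by decide +kernel)) h
  · exact lF_good (T := T) (x := Lt.y) (by decide) [Lt.q, Lt.y, Lt.y, Lt.q, Lt.y, Lt.q, Lt.yi, Lt.yi, Lt.q, Lt.yi, Lt.yi, Lt.yi, Lt.q, Lt.y, Lt.q] (H9.TCY.hole_at hinv hr 32 7 false (by decide +kernel)) h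
theorem dp_y_177_s (hinv : ∀ x, g (inv x) = (g x)⁻¹) (hr : ∀ r ∈ rels, (r.map g).prod = 1) (hH : ∀ r ∈ subs, (r.map g).prod ∈ H)
    (j u : ℕ) (hu : u < M) (h : dp_y_177 j u = true) : Good (fa g) T MG M (cP g H) Lt.y u := by
  unfold dp_y_177 at h
  rcases brec_true h with h | h
  · exact lS_good (T := T) (x := Lt.y) (by decide) hu [Lt.z, Lt.yi, Lt.q, Lt.z, Lt.q, Lt.y, Lt.q, Lt.yi, Lt.z, Lt.y, Lt.q, Lt.z, Lt.q, Lt.yi, Lt.q] (H9.TCY.hole_at hinv hr 24 0 true (by decide +kernel)) h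
  · exact lF_good (T := T) (x := Lt.y) (by decide) [Lt.q, Lt.yi, Lt.yi, Lt.q, Lt.yi, Lt.yi, Lt.yi, Lt.q, Lt.y, Lt.q, Lt.y, Lt.q, Lt.y, Lt.y, Lt.q] (H9.TCY.hole_at hinv hr 32 12 false (by decide +kernel)) h
theorem dp_y_178_s (hinv : ∀ x, g (inv x) = (g x)⁻¹) (hr : ∀ r ∈ rels, (r.map g).prod = 1) (hH : ∀ r ∈ subs, (r.map g).prod ∈ H)
    (j u : ℕ) (hu : u < M) (h : dp_y_178 j u = true) : Good (fa g) T MG M (cP g H) Lt.y u := by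
  unfold dp_y_178 at h
  rcases brec_true h with h | h
  · exact dp_y_176_s hinv hr hH j u hu h
  · exact dp_y_177_s hinv hr hH j u hu h
theorem dp_y_179_s (hinv : ∀ x, g (inv x) = (g x)⁻¹) (hr : ∀ r ∈ rels, (r.map g).prod = 1) (hH : ∀ r ∈ subs, (r.map g).prod ∈ H)
    (j u : ℕ) (hu : u < M) (h : dp_y_179 j u = true) : Good (fa g) T MG M (cP g H) Lt.y u := by
  unfold dp_y_179 at h
  rcases brec_true h with h | h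
  · exact dp_y_175_s hinv hr hH j u hu h
  · exact dp_y_178_s hinv hr hH j u hu h
theorem dp_y_180_s (hinv : ∀ x, g (inv x) = (g x)⁻¹) (hr : ∀ r ∈ rels, (r.map g).prod = 1) (hH : ∀ r ∈ subs, (r.map g).prod ∈ H)
    (j u : ℕ) (hu : u < M) (h : dp_y_180 j u = true) : Good (fa g) T MG M (cP g H) Lt.y u := by
  unfold dp_y_180 at h
  rcases brec_true h with h | h
  · exact dp_y_173_s hinv hr hH j u hu h
  · exact dp_y_179_s hinv hr hH j u hu h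
theorem dp_y_181_s (hinv : ∀ x, g (inv x) = (g x)⁻¹) (hr : ∀ r ∈ rels, (r.map g).prod = 1) (hH : ∀ r ∈ subs, (r.map g).prod ∈ H)
    (j u : ℕ) (hu : u < M) (h : dp_y_181 j u = true) : Good (fa g) T MG M (cP g H) Lt.y u := by
  unfold dp_y_181 at h
  rcases brec_true h with h | h
  · exact lF_good (T := T) (x := Lt.y) (by decide) [Lt.q, Lt.yi, Lt.z, Lt.y, Lt.q, Lt.z, Lt.q, Lt.yi, Lt.q, Lt.y, Lt.z, Lt.yi, Lt.q, Lt.z, Lt.q] (H9.TCY.hole_at hinv hr 24 6 true (by decide +kernel)) h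
  · exact lS_good (T := T) (x := Lt.y) (by decide) hu [Lt.q, Lt.y, Lt.y, Lt.y, Lt.q, Lt.y, Lt.y, Lt.y, Lt.q, Lt.yi, Lt.yi, Lt.yi, Lt.q, Lt.y, Lt.y] (H9.TCY.hole_at hinv hr 30 8 true (by decide +kernel)) h
theorem dp_y_182_s (hinv : ∀ x, g (inv x) = (g x)⁻¹) (hr : ∀ r ∈ rels, (r.map g).prod = 1) (hH : ∀ r ∈ subs, (r.map g).prod ∈ H)
    (j u : ℕ) (hu : u < M) (h : dp_y_182 j u = true) : Good (fa g) T MG M (cP g H) Lt.y u := by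
  unfold dp_y_182 at h
  rcases brec_true h with h | h
  · exact lF_good (T := T) (x := Lt.y) (by decide) [Lt.q, Lt.z, Lt.q, Lt.yi, Lt.z, Lt.y, Lt.q, Lt.yi, Lt.q, Lt.z, Lt.q, Lt.y, Lt.z, Lt.yi, Lt.q] (H9.TCY.hole_at hinv hr 24 3 false (by decide +kernel)) h
  · exact lS_good (T := T) (x := Lt.y) (by decide) hu [Lt.q, Lt.y, Lt.q, Lt.y, Lt.z, Lt.q, Lt.z, Lt.y, Lt.q, Lt.y, Lt.q, Lt.y, Lt.z, Lt.q, Lt.z] (H9.TCY.hole_at hinv hr 35 4 true (by decide +kernel)) h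
theorem dp_y_183_s (hinv : ∀ x, g (inv x) = (g x)⁻¹) (hr : ∀ r ∈ rels, (r.map g).prod = 1) (hH : ∀ r ∈ subs, (r.map g).prod ∈ H)
    (j u : ℕ) (hu : u < M) (h : dp_y_183 j u = true) : Good (fa g) T MG M (cP g H) Lt.y u := by
  unfold dp_y_183 at h
  rcases brec_true h with h | h
  · exact dp_y_181_s hinv hr hH j u hu h
  · exact dp_y_182_s hinv hr hH j u hu h
theorem dp_y_184_s (hinv : ∀ x, g (inv x) = (g x)⁻¹) (hr : ∀ r ∈ rels, (r.map g).prod = 1) (hH : ∀ r ∈ subs, (r.map g).prod ∈ H)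
    (j u : ℕ) (hu : u < M) (h : dp_y_184 j u = true) : Good (fa g) T MG M (cP g H) Lt.y u := by
  unfold dp_y_184 at h
  rcases brec_true h with h | h
  · exact lF_good (T := T) (x := Lt.y) (by decide) [Lt.q, Lt.yi, Lt.yi, Lt.yi, Lt.q, Lt.yi, Lt.yi, Lt.q, Lt.y, Lt.q, Lt.y, Lt.y, Lt.q, Lt.y, Lt.q] (H9.TCY.hole_at hinv hr 31 15 false (by decide +kernel)) h
  · exact lF_good (T := T) (x := Lt.y) (by decide) [Lt.z, Lt.q, Lt.yi, Lt.q, Lt.z, Lt.q, Lt.y, Lt.q, Lt.z, Lt.yi, Lt.yi, Lt.q, Lt.z, Lt.yi, Lt.q, Lt.z, Lt.yi, Lt.z, Lt.y, Lt.z, Lt.q, Lt.y, Lt.z, Lt.q, Lt.y] (H9.TCY.hole_at hinv hr 46 20 false (by decide +kernel)) h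
theorem dp_y_185_s (hinv : ∀ x, g (inv x) = (g x)⁻¹) (hr : ∀ r ∈ rels, (r.map g).prod = 1) (hH : ∀ r ∈ subs, (r.map g).prod ∈ H)
    (j u : ℕ) (hu : u < M) (h : dp_y_185 j u = true) : Good (fa g) T MG M (cP g H) Lt.y u := by
  unfold dp_y_185 at h
  rcases brec_true h with h | h
  · exact lF_good (T := T) (x := Lt.y) (by decide) [Lt.y, Lt.q, Lt.y, Lt.y, Lt.y, Lt.q, Lt.yi, Lt.yi, Lt.yi, Lt.q, Lt.y, Lt.y, Lt.y, Lt.q, Lt.y] (H9.TCY.hole_at hinv hr 30 11 true (by decide +kernel)) h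
  · exact lF_good (T := T) (x := Lt.y) (by decide) [Lt.z, Lt.q, Lt.z, Lt.yi, Lt.z, Lt.q, Lt.z, Lt.y, Lt.z, Lt.q, Lt.z, Lt.yi, Lt.z, Lt.q, Lt.z] (H9.TCY.hole_at hinv hr 25 5 false (by decide +kernel)) h
theorem dp_y_186_s (hinv : ∀ x, g (inv x) = (g x)⁻¹) (hr : ∀ r ∈ rels, (r.map g).prod = 1) (hH : ∀ r ∈ subs, (r.map g).prod ∈ H)
    (j u : ℕ) (hu : u < M) (h : dp_y_186 j u = true) : Good (fa g) T MG M (cP g H) Lt.y u := by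
  unfold dp_y_186 at h
  rcases brec_true h with h | h
  · exact dp_y_184_s hinv hr hH j u hu h
  · exact dp_y_185_s hinv hr hH j u hu h
theorem dp_y_187_s (hinv : ∀ x, g (inv x) = (g x)⁻¹) (hr : ∀ r ∈ rels, (r.map g).prod = 1) (hH : ∀ r ∈ subs, (r.map g).prod ∈ H)
    (j u : ℕ) (hu : u < M) (h : dp_y_187 j u = true) : Good (fa g) T MG M (cP g H) Lt.y u := by
  unfold dp_y_187 at h
  rcases brec_true h with h | h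
  · exact dp_y_183_s hinv hr hH j u hu h
  · exact dp_y_186_s hinv hr hH j u hu h
theorem dp_y_188_s (hinv : ∀ x, g (inv x) = (g x)⁻¹) (hr : ∀ r ∈ rels, (r.map g).prod = 1) (hH : ∀ r ∈ subs, (r.map g).prod ∈ H)
    (j u : ℕ) (hu : u < M) (h : dp_y_188 j u = true) : Good (fa g) T MG M (cP g H) Lt.y u := by
  unfold dp_y_188 at h
  rcases brec_true h with h | h
  · exact lS_good (T := T) (x := Lt.y) (by decide) hu [Lt.z, Lt.yi, Lt.q, Lt.z, Lt.y, Lt.z, Lt.q, Lt.yi, Lt.z, Lt.y, Lt.z, Lt.q, Lt.yi, Lt.q, Lt.z] (H9.TCY.hole_at hinv hr 28 4 false (by decide +kernel)) h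
  · exact lS_good (T := T) (x := Lt.y) (by decide) hu [Lt.y, Lt.z, Lt.q, Lt.yi, Lt.q, Lt.z, Lt.q, Lt.y, Lt.q, Lt.z, Lt.yi, Lt.yi, Lt.q, Lt.z, Lt.yi, Lt.q, Lt.z, Lt.yi, Lt.z, Lt.y, Lt.z, Lt.q, Lt.y, Lt.z, Lt.q] (H9.TCY.hole_at hinv hr 46 19 false (by decide +kernel)) h
theorem dp_y_189_s (hinv : ∀ x, g (inv x) = (g x)⁻¹) (hr : ∀ r ∈ rels, (r.map g).prod = 1) (hH : ∀ r ∈ subs, (r.map g).prod ∈ H)
    (j u : ℕ) (hu : u < M) (h : dp_y_189 j u = true) : Good (fa g) T MG M (cP g H) Lt.y u := by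
  unfold dp_y_189 at h
  rcases brec_true h with h | h
  · exact lF_good (T := T) (x := Lt.y) (by decide) [Lt.z, Lt.q, Lt.y, Lt.y, Lt.z, Lt.q, Lt.yi, Lt.q, Lt.z, Lt.q, Lt.y, Lt.q, Lt.z, Lt.yi, Lt.yi, Lt.q, Lt.z, Lt.yi, Lt.q, Lt.z, Lt.yi, Lt.z, Lt.y, Lt.z, Lt.q] (H9.TCY.hole_at hinv hr 46 16 false (by decide +kernel)) h
  · exact lS_good (T := T) (x := Lt.y) (by decide) hu [Lt.q, Lt.z, Lt.yi, Lt.z, Lt.y, Lt.z, Lt.q, Lt.yi, Lt.z, Lt.q, Lt.y, Lt.z, Lt.yi, Lt.q, Lt.z] (H9.TCY.hole_at hinv hr 36 4 false (by decide +kernel)) h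
theorem dp_y_190_s (hinv : ∀ x, g (inv x) = (g x)⁻¹) (hr : ∀ r ∈ rels, (r.map g).prod = 1) (hH : ∀ r ∈ subs, (r.map g).prod ∈ H)
    (j u : ℕ) (hu : u < M) (h : dp_y_190 j u = true) : Good (fa g) T MG M (cP g H) Lt.y u := by
  unfold dp_y_190 at h
  rcases brec_true h with h | h
  · exact dp_y_188_s hinv hr hH j u hu h
  · exact dp_y_189_s hinv hr hH j u hu h
theorem dp_y_191_s (hinv : ∀ x, g (inv x) = (g x)⁻¹) (hr : ∀ r ∈ rels, (r.map g).prod = 1) (hH : ∀ r ∈ subs, (r.map g).prod ∈ H)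
    (j u : ℕ) (hu : u < M) (h : dp_y_191 j u = true) : Good (fa g) T MG M (cP g H) Lt.y u := by
  unfold dp_y_191 at h
  rcases brec_true h with h | h
  · exact lS_good (T := T) (x := Lt.y) (by decide) hu [Lt.z, Lt.q, Lt.yi, Lt.z, Lt.y, Lt.z, Lt.q, Lt.yi, Lt.q, Lt.z, Lt.y, Lt.z, Lt.yi, Lt.q, Lt.z] (H9.TCY.hole_at hinv hr 28 9 false (by decide +kernel)) h
  · exact lS_good (T := T) (x := Lt.y) (by decide) hu [Lt.q, Lt.yi, Lt.q, Lt.yi, Lt.yi, Lt.q, Lt.yi, Lt.q, Lt.yi, Lt.q, Lt.y, Lt.y, Lt.y, Lt.q, Lt.y] (H9.TCY.hole_at hinv hr 32 3 true (by decide +kernel)) h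
theorem dp_y_192_s (hinv : ∀ x, g (inv x) = (g x)⁻¹) (hr : ∀ r ∈ rels, (r.map g).prod = 1) (hH : ∀ r ∈ subs, (r.map g).prod ∈ H)
    (j u : ℕ) (hu : u < M) (h : dp_y_192 j u = true) : Good (fa g) T MG M (cP g H) Lt.y u := by
  unfold dp_y_192 at h
  rcases brec_true h with h | h
  · exact lS_good (T := T) (x := Lt.y) (by decide) hu [Lt.q, Lt.z, Lt.y, Lt.z, Lt.yi, Lt.q, Lt.z, Lt.yi, Lt.yi, Lt.q, Lt.z, Lt.yi, Lt.z, Lt.y, Lt.q, Lt.z, Lt.y] (H9.TCY.hole_at hinv hr 40 11 false (by decide +kernel)) h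
  · exact lF_good (T := T) (x := Lt.y) (by decide) [Lt.q, Lt.z, Lt.yi, Lt.z, Lt.q, Lt.y, Lt.q, Lt.z, Lt.yi, Lt.z, Lt.q, Lt.y, Lt.q, Lt.z, Lt.yi, Lt.z, Lt.q] (H9.TCY.hole_at hinv hr 42 0 false (by decide +kernel)) h
theorem dp_y_193_s (hinv : ∀ x, g (inv x) = (g x)⁻¹) (hr : ∀ r ∈ rels, (r.map g).prod = 1) (hH : ∀ r ∈ subs, (r.map g).prod ∈ H)
    (j u : ℕ) (hu : u < M) (h : dp_y_193 j u = true) : Good (fa g) T MG M (cP g H) Lt.y u := by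
  unfold dp_y_193 at h
  rcases brec_true h with h | h
  · exact lS_good (T := T) (x := Lt.y) (by decide) hu [Lt.y, Lt.z, Lt.q, Lt.y, Lt.z, Lt.yi, Lt.z, Lt.q, Lt.yi, Lt.yi, Lt.z, Lt.q, Lt.yi, Lt.z, Lt.y, Lt.z, Lt.q] (H9.TCY.hole_at hinv hr 40 17 true (by decide +kernel)) h
  · exact dp_y_192_s hinv hr hH j u hu h
theorem dp_y_194_s (hinv : ∀ x, g (inv x) = (g x)⁻¹) (hr : ∀ r ∈ rels, (r.map g).prod = 1) (hH : ∀ r ∈ subs, (r.map g).prod ∈ H)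
    (j u : ℕ) (hu : u < M) (h : dp_y_194 j u = true) : Good (fa g) T MG M (cP g H) Lt.y u := by
  unfold dp_y_194 at h
  rcases brec_true h with h | h
  · exact dp_y_191_s hinv hr hH j u hu h
  · exact dp_y_193_s hinv hr hH j u hu h
theorem dp_y_195_s (hinv : ∀ x, g (inv x) = (g x)⁻¹) (hr : ∀ r ∈ rels, (r.map g).prod = 1) (hH : ∀ r ∈ subs, (r.map g).prod ∈ H)
    (j u : ℕ) (hu : u < M) (h : dp_y_195 j u = true) : Good (fa g) T MG M (cP g H) Lt.y u := by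
  unfold dp_y_195 at h
  rcases brec_true h with h | h
  · exact dp_y_190_s hinv hr hH j u hu h
  · exact dp_y_194_s hinv hr hH j u hu h
theorem dp_y_196_s (hinv : ∀ x, g (inv x) = (g x)⁻¹) (hr : ∀ r ∈ rels, (r.map g).prod = 1) (hH : ∀ r ∈ subs, (r.map g).prod ∈ H)
    (j u : ℕ) (hu : u < M) (h : dp_y_196 j u = true) : Good (fa g) T MG M (cP g H) Lt.y u := by
  unfold dp_y_196 at h
  rcases brec_true h with h | h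
  · exact dp_y_187_s hinv hr hH j u hu h
  · exact dp_y_195_s hinv hr hH j u hu h
theorem dp_y_197_s (hinv : ∀ x, g (inv x) = (g x)⁻¹) (hr : ∀ r ∈ rels, (r.map g).prod = 1) (hH : ∀ r ∈ subs, (r.map g).prod ∈ H)
    (j u : ℕ) (hu : u < M) (h : dp_y_197 j u = true) : Good (fa g) T MG M (cP g H) Lt.y u := by
  unfold dp_y_197 at h
  rcases brec_true h with h | h
  · exact dp_y_180_s hinv hr hH j u hu h
  · exact dp_y_196_s hinv hr hH j u hu h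
theorem dp_y_198_s (hinv : ∀ x, g (inv x) = (g x)⁻¹) (hr : ∀ r ∈ rels, (r.map g).prod = 1) (hH : ∀ r ∈ subs, (r.map g).prod ∈ H)
    (j u : ℕ) (hu : u < M) (h : dp_y_198 j u = true) : Good (fa g) T MG M (cP g H) Lt.y u := by
  unfold dp_y_198 at h
  rcases brec_true h with h | h
  · exact lS_good (T := T) (x := Lt.y) (by decide) hu [Lt.y, Lt.q, Lt.yi, Lt.q, Lt.yi, Lt.yi, Lt.q, Lt.yi, Lt.q, Lt.yi, Lt.q, Lt.y, Lt.y, Lt.y, Lt.q] (H9.TCY.hole_at hinv hr 32 2 true (by decide +kernel)) h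
  · exact lS_good (T := T) (x := Lt.y) (by decide) hu [Lt.z, Lt.q, Lt.y, Lt.y, Lt.z, Lt.q, Lt.yi, Lt.q, Lt.z, Lt.q, Lt.y, Lt.q, Lt.z, Lt.yi, Lt.yi, Lt.q, Lt.z, Lt.yi, Lt.q, Lt.z, Lt.yi, Lt.z, Lt.y, Lt.z, Lt.q] (H9.TCY.hole_at hinv hr 46 16 false (by decide +kernel)) h
theorem dp_y_199_s (hinv : ∀ x, g (inv x) = (g x)⁻¹) (hr : ∀ r ∈ rels, (r.map g).prod = 1) (hH : ∀ r ∈ subs, (r.map g).prod ∈ H)
    (j u : ℕ) (hu : u < M) (h : dp_y_199 j u = true) : Good (fa g) T MG M (cP g H) Lt.y u := by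
  unfold dp_y_199 at h
  rcases brec_true h with h | h
  · exact lF_good (T := T) (x := Lt.y) (by decide) [Lt.y, Lt.y, Lt.q, Lt.y, Lt.y, Lt.q, Lt.yi, Lt.q, Lt.yi, Lt.yi, Lt.q, Lt.yi, Lt.q, Lt.yi, Lt.q] (H9.TCY.hole_at hinv hr 32 14 true (by decide +kernel)) h
  · exact lS_good (T := T) (x := Lt.y) (by decide) hu [Lt.z, Lt.q, Lt.yi, Lt.q, Lt.z, Lt.y, Lt.z, Lt.q, Lt.yi, Lt.q, Lt.z, Lt.y, Lt.z, Lt.q, Lt.yi, Lt.q, Lt.z] (H9.TCY.hole_at hinv hr 42 4 true (by decide +kernel)) h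
theorem dp_y_200_s (hinv : ∀ x, g (inv x) = (g x)⁻¹) (hr : ∀ r ∈ rels, (r.map g).prod = 1) (hH : ∀ r ∈ subs, (r.map g).prod ∈ H)
    (j u : ℕ) (hu : u < M) (h : dp_y_200 j u = true) : Good (fa g) T MG M (cP g H) Lt.y u := by
  unfold dp_y_200 at h
  rcases brec_true h with h | h
  · exact lS_good (T := T) (x := Lt.y) (by decide) hu [Lt.y, Lt.q, Lt.y, Lt.q, Lt.yi, Lt.yi, Lt.q, Lt.yi, Lt.yi, Lt.yi, Lt.q, Lt.y, Lt.q, Lt.y, Lt.q] (H9.TCY.hole_at hinv hr 32 9 false (by decide +kernel)) h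
  · exact dp_y_199_s hinv hr hH j u hu h
theorem dp_y_201_s (hinv : ∀ x, g (inv x) = (g x)⁻¹) (hr : ∀ r ∈ rels, (r.map g).prod = 1) (hH : ∀ r ∈ subs, (r.map g).prod ∈ H)
    (j u : ℕ) (hu : u < M) (h : dp_y_201 j u = true) : Good (fa g) T MG M (cP g H) Lt.y u := by
  unfold dp_y_201 at h
  rcases brec_true h with h | h
  · exact dp_y_198_s hinv hr hH j u hu h
  · exact dp_y_200_s hinv hr hH j u hu h
theorem dp_y_202_s (hinv : ∀ x, g (inv x) = (g x)⁻¹) (hr : ∀ r ∈ rels, (r.map g).prod = 1) (hH : ∀ r ∈ subs, (r.map g).prod ∈ H)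
    (j u : ℕ) (hu : u < M) (h : dp_y_202 j u = true) : Good (fa g) T MG M (cP g H) Lt.y u := by
  unfold dp_y_202 at h
  rcases brec_true h with h | h
  · exact lS_good (T := T) (x := Lt.y) (by decide) hu [Lt.q, Lt.yi, Lt.q, Lt.yi, Lt.q, Lt.yi, Lt.yi, Lt.q, Lt.yi, Lt.q, Lt.y, Lt.y, Lt.q, Lt.y, Lt.y] (H9.TCY.hole_at hinv hr 31 0 true (by decide +kernel)) h
  · exact lF_good (T := T) (x := Lt.y) (by decide) [Lt.y, Lt.q, Lt.z, Lt.y, Lt.y, Lt.z, Lt.q, Lt.y, Lt.y, Lt.y, Lt.q, Lt.z, Lt.y, Lt.y, Lt.z, Lt.q, Lt.y, Lt.y, Lt.y, Lt.q, Lt.z, Lt.y, Lt.y, Lt.z, Lt.q, Lt.y] (H9.TCY.hole_at hinv hr 47 8 false (by decide +kernel)) h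
theorem dp_y_203_s (hinv : ∀ x, g (inv x) = (g x)⁻¹) (hr : ∀ r ∈ rels, (r.map g).prod = 1) (hH : ∀ r ∈ subs, (r.map g).prod ∈ H)
    (j u : ℕ) (hu : u < M) (h : dp_y_203 j u = true) : Good (fa g) T MG M (cP g H) Lt.y u := by
  unfold dp_y_203 at h
  rcases brec_true h with h | h
  · exact lS_good (T := T) (x := Lt.y) (by decide) hu [Lt.z, Lt.yi, Lt.z, Lt.q, Lt.yi, Lt.yi, Lt.z, Lt.q, Lt.yi, Lt.z, Lt.y, Lt.z, Lt.q, Lt.y, Lt.y, Lt.z, Lt.q] (H9.TCY.hole_at hinv hr 40 3 true (by decide +kernel)) h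
  · exact lF_good (T := T) (x := Lt.y) (by decide) [Lt.q, Lt.y, Lt.q, Lt.y, Lt.y, Lt.q, Lt.y, Lt.q, Lt.yi, Lt.yi, Lt.q, Lt.yi, Lt.yi, Lt.yi, Lt.q] (H9.TCY.hole_at hinv hr 32 5 false (by decide +kernel)) h
theorem dp_y_204_s (hinv : ∀ x, g (inv x) = (g x)⁻¹) (hr : ∀ r ∈ rels, (r.map g).prod = 1) (hH : ∀ r ∈ subs, (r.map g).prod ∈ H)
    (j u : ℕ) (hu : u < M) (h : dp_y_204 j u = true) : Good (fa g) T MG M (cP g H) Lt.y u := by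
  unfold dp_y_204 at h
  rcases brec_true h with h | h
  · exact lS_good (T := T) (x := Lt.y) (by decide) hu [Lt.q, Lt.z, Lt.y, Lt.y, Lt.q, Lt.z, Lt.y, Lt.z, Lt.yi, Lt.q, Lt.z, Lt.yi, Lt.yi, Lt.q, Lt.z, Lt.yi, Lt.z] (H9.TCY.hole_at hinv hr 40 7 false (by decide +kernel)) h
  · exact dp_y_203_s hinv hr hH j u hu h
theorem dp_y_205_s (hinv : ∀ x, g (inv x) = (g x)⁻¹) (hr : ∀ r ∈ rels, (r.map g).prod = 1) (hH : ∀ r ∈ subs, (r.map g).prod ∈ H)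
    (j u : ℕ) (hu : u < M) (h : dp_y_205 j u = true) : Good (fa g) T MG M (cP g H) Lt.y u := by
  unfold dp_y_205 at h
  rcases brec_true h with h | h
  · exact dp_y_202_s hinv hr hH j u hu h
  · exact dp_y_204_s hinv hr hH j u hu h
theorem dp_y_206_s (hinv : ∀ x, g (inv x) = (g x)⁻¹) (hr : ∀ r ∈ rels, (r.map g).prod = 1) (hH : ∀ r ∈ subs, (r.map g).prod ∈ H)
    (j u : ℕ) (hu : u < M) (h : dp_y_206 j u = true) : Good (fa g) T MG M (cP g H) Lt.y u := by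
  unfold dp_y_206 at h
  rcases brec_true h with h | h
  · exact dp_y_201_s hinv hr hH j u hu h
  · exact dp_y_205_s hinv hr hH j u hu h
theorem dp_y_207_s (hinv : ∀ x, g (inv x) = (g x)⁻¹) (hr : ∀ r ∈ rels, (r.map g).prod = 1) (hH : ∀ r ∈ subs, (r.map g).prod ∈ H)
    (j u : ℕ) (hu : u < M) (h : dp_y_207 j u = true) : Good (fa g) T MG M (cP g H) Lt.y u := by
  unfold dp_y_207 at h
  rcases brec_true h with h | h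
  · exact lS_good (T := T) (x := Lt.y) (by decide) hu [Lt.q, Lt.y, Lt.q, Lt.yi, Lt.yi, Lt.yi, Lt.q, Lt.yi, Lt.yi, Lt.q, Lt.y, Lt.q, Lt.y, Lt.y, Lt.q] (H9.TCY.hole_at hinv hr 31 13 false (by decide +kernel)) h
  · exact lS_good (T := T) (x := Lt.y) (by decide) hu [Lt.q, Lt.z, Lt.yi, Lt.z, Lt.q, Lt.y, Lt.q, Lt.z, Lt.yi, Lt.z, Lt.q, Lt.y, Lt.q, Lt.z, Lt.yi, Lt.z, Lt.q] (H9.TCY.hole_at hinv hr 42 0 false (by decide +kernel)) h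
theorem dp_y_208_s (hinv : ∀ x, g (inv x) = (g x)⁻¹) (hr : ∀ r ∈ rels, (r.map g).prod = 1) (hH : ∀ r ∈ subs, (r.map g).prod ∈ H)
    (j u : ℕ) (hu : u < M) (h : dp_y_208 j u = true) : Good (fa g) T MG M (cP g H) Lt.y u := by
  unfold dp_y_208 at h
  rcases brec_true h with h | h
  · exact lF_good (T := T) (x := Lt.y) (by decide) [Lt.y, Lt.y, Lt.q, Lt.yi, Lt.yi, Lt.yi, Lt.q, Lt.y, Lt.y, Lt.y, Lt.q, Lt.y, Lt.y, Lt.y, Lt.q] (H9.TCY.hole_at hinv hr 30 14 true (by decide +kernel)) h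
  · exact dp_y_207_s hinv hr hH j u hu h
theorem dp_y_209_s (hinv : ∀ x, g (inv x) = (g x)⁻¹) (hr : ∀ r ∈ rels, (r.map g).prod = 1) (hH : ∀ r ∈ subs, (r.map g).prod ∈ H)
    (j u : ℕ) (hu : u < M) (h : dp_y_209 j u = true) : Good (fa g) T MG M (cP g H) Lt.y u := by
  unfold dp_y_209 at h
  rcases brec_true h with h | h
  · exact lS_good (T := T) (x := Lt.y) (by decide) hu [Lt.z, Lt.yi, Lt.q, Lt.z, Lt.yi, Lt.yi, Lt.q, Lt.z, Lt.yi, Lt.z, Lt.y, Lt.q, Lt.z, Lt.y, Lt.y, Lt.q, Lt.z] (H9.TCY.hole_at hinv hr 40 14 false (by decide +kernel)) h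
  · exact lS_good (T := T) (x := Lt.y) (by decide) hu [Lt.z, Lt.yi, Lt.q, Lt.z, Lt.y, Lt.q, Lt.z, Lt.yi, Lt.z, Lt.y, Lt.z, Lt.q, Lt.yi, Lt.z, Lt.q] (H9.TCY.hole_at hinv hr 36 15 false (by decide +kernel)) h
theorem dp_y_210_s (hinv : ∀ x, g (inv x) = (g x)⁻¹) (hr : ∀ r ∈ rels, (r.map g).prod = 1) (hH : ∀ r ∈ subs, (r.map g).prod ∈ H)
    (j u : ℕ) (hu : u < M) (h : dp_y_210 j u = true) : Good (fa g) T MG M (cP g H) Lt.y u := by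
  unfold dp_y_210 at h
  rcases brec_true h with h | h
  · exact lS_good (T := T) (x := Lt.y) (by decide) hu [Lt.z, Lt.q, Lt.y, Lt.y, Lt.z, Lt.q, Lt.y, Lt.z, Lt.yi, Lt.z, Lt.q, Lt.yi, Lt.yi, Lt.z, Lt.q, Lt.yi, Lt.z] (H9.TCY.hole_at hinv hr 40 14 true (by decide +kernel)) h
  · exact dp_y_209_s hinv hr hH j u hu h
theorem dp_y_211_s (hinv : ∀ x, g (inv x) = (g x)⁻¹) (hr : ∀ r ∈ rels, (r.map g).prod = 1) (hH : ∀ r ∈ subs, (r.map g).prod ∈ H)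
    (j u : ℕ) (hu : u < M) (h : dp_y_211 j u = true) : Good (fa g) T MG M (cP g H) Lt.y u := by
  unfold dp_y_211 at h
  rcases brec_true h with h | h
  · exact dp_y_208_s hinv hr hH j u hu h
  · exact dp_y_210_s hinv hr hH j u hu h
theorem dp_y_212_s (hinv : ∀ x, g (inv x) = (g x)⁻¹) (hr : ∀ r ∈ rels, (r.map g).prod = 1) (hH : ∀ r ∈ subs, (r.map g).prod ∈ H)
    (j u : ℕ) (hu : u < M) (h : dp_y_212 j u = true) : Good (fa g) T MG M (cP g H) Lt.y u := by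
  unfold dp_y_212 at h
  rcases brec_true h with h | h
  · exact lS_good (T := T) (x := Lt.y) (by decide) hu [Lt.q, Lt.y, Lt.z, Lt.q, Lt.z, Lt.y, Lt.q, Lt.y, Lt.q, Lt.y, Lt.z, Lt.q, Lt.z, Lt.y, Lt.q] (H9.TCY.hole_at hinv hr 35 6 true (by decide +kernel)) h
  · exact lS_good (T := T) (x := Lt.y) (by decide) hu [Lt.y, Lt.q, Lt.y, Lt.y, Lt.q, Lt.yi, Lt.q, Lt.yi, Lt.yi, Lt.q, Lt.yi, Lt.q, Lt.yi, Lt.q, Lt.y] (H9.TCY.hole_at hinv hr 32 15 true (by decide +kernel)) h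
theorem dp_y_213_s (hinv : ∀ x, g (inv x) = (g x)⁻¹) (hr : ∀ r ∈ rels, (r.map g).prod = 1) (hH : ∀ r ∈ subs, (r.map g).prod ∈ H)
    (j u : ℕ) (hu : u < M) (h : dp_y_213 j u = true) : Good (fa g) T MG M (cP g H) Lt.y u := by
  unfold dp_y_213 at h
  rcases brec_true h with h | h
  · exact lS_good (T := T) (x := Lt.y) (by decide) hu [Lt.z, Lt.q, Lt.yi, Lt.z, Lt.q, Lt.y, Lt.z, Lt.yi, Lt.q, Lt.z, Lt.y, Lt.q, Lt.z, Lt.yi, Lt.z] (H9.TCY.hole_at hinv hr 36 9 false (by decide +kernel)) h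
  · exact dp_y_212_s hinv hr hH j u hu h
theorem dp_y_214_s (hinv : ∀ x, g (inv x) = (g x)⁻¹) (hr : ∀ r ∈ rels, (r.map g).prod = 1) (hH : ∀ r ∈ subs, (r.map g).prod ∈ H)
    (j u : ℕ) (hu : u < M) (h : dp_y_214 j u = true) : Good (fa g) T MG M (cP g H) Lt.y u := by
  unfold dp_y_214 at h
  rcases brec_true h with h | h
  · exact lF_good (T := T) (x := Lt.y) (by decide) [Lt.q, Lt.yi, Lt.yi, Lt.yi, Lt.q, Lt.y, Lt.y, Lt.y, Lt.q, Lt.y, Lt.y, Lt.y, Lt.q, Lt.y, Lt.y] (H9.TCY.hole_at hinv hr 30 0 true (by decide +kernel)) h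
  · exact lS_good (T := T) (x := Lt.y) (by decide) hu [Lt.q, Lt.y, Lt.y, Lt.q, Lt.yi, Lt.q, Lt.yi, Lt.yi, Lt.q, Lt.yi, Lt.q, Lt.yi, Lt.q, Lt.y, Lt.y] (H9.TCY.hole_at hinv hr 32 0 true (by decide +kernel)) h
theorem dp_y_215_s (hinv : ∀ x, g (inv x) = (g x)⁻¹) (hr : ∀ r ∈ rels, (r.map g).prod = 1) (hH : ∀ r ∈ subs, (r.map g).prod ∈ H)
    (j u : ℕ) (hu : u < M) (h : dp_y_215 j u = true) : Good (fa g) T MG M (cP g H) Lt.y u := by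
  unfold dp_y_215 at h
  rcases brec_true h with h | h
  · exact lS_good (T := T) (x := Lt.y) (by decide) hu [Lt.q, Lt.z, Lt.yi, Lt.z, Lt.y, Lt.q, Lt.z, Lt.yi, Lt.z, Lt.q, Lt.y, Lt.z, Lt.yi, Lt.z, Lt.q] (H9.TCY.hole_at hinv hr 28 0 true (by decide +kernel)) h
  · exact dp_y_214_s hinv hr hH j u hu h
theorem dp_y_216_s (hinv : ∀ x, g (inv x) = (g x)⁻¹) (hr : ∀ r ∈ rels, (r.map g).prod = 1) (hH : ∀ r ∈ subs, (r.map g).prod ∈ H)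
    (j u : ℕ) (hu : u < M) (h : dp_y_216 j u = true) : Good (fa g) T MG M (cP g H) Lt.y u := by
  unfold dp_y_216 at h
  rcases brec_true h with h | h
  · exact dp_y_213_s hinv hr hH j u hu h
  · exact dp_y_215_s hinv hr hH j u hu h
theorem dp_y_217_s (hinv : ∀ x, g (inv x) = (g x)⁻¹) (hr : ∀ r ∈ rels, (r.map g).prod = 1) (hH : ∀ r ∈ subs, (r.map g).prod ∈ H)
    (j u : ℕ) (hu : u < M) (h : dp_y_217 j u = true) : Good (fa g) T MG M (cP g H) Lt.y u := by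
  unfold dp_y_217 at h
  rcases brec_true h with h | h
  · exact dp_y_211_s hinv hr hH j u hu h
  · exact dp_y_216_s hinv hr hH j u hu h
theorem dp_y_218_s (hinv : ∀ x, g (inv x) = (g x)⁻¹) (hr : ∀ r ∈ rels, (r.map g).prod = 1) (hH : ∀ r ∈ subs, (r.map g).prod ∈ H)
    (j u : ℕ) (hu : u < M) (h : dp_y_218 j u = true) : Good (fa g) T MG M (cP g H) Lt.y u := by
  unfold dp_y_218 at h
  rcases brec_true h with h | h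
  · exact dp_y_206_s hinv hr hH j u hu h
  · exact dp_y_217_s hinv hr hH j u hu h
theorem dp_y_219_s (hinv : ∀ x, g (inv x) = (g x)⁻¹) (hr : ∀ r ∈ rels, (r.map g).prod = 1) (hH : ∀ r ∈ subs, (r.map g).prod ∈ H)
    (j u : ℕ) (hu : u < M) (h : dp_y_219 j u = true) : Good (fa g) T MG M (cP g H) Lt.y u := by
  unfold dp_y_219 at h
  rcases brec_true h with h | h
  · exact lS_good (T := T) (x := Lt.y) (by decide) hu [Lt.q, Lt.z, Lt.y, Lt.y, Lt.z, Lt.q, Lt.y, Lt.y, Lt.y, Lt.q, Lt.z, Lt.y, Lt.y, Lt.z, Lt.q, Lt.y, Lt.y, Lt.y, Lt.q, Lt.z, Lt.y, Lt.y, Lt.z, Lt.q, Lt.y, Lt.y] (H9.TCY.hole_at hinv hr 47 0 false (by decide +kernel)) h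
  · exact lF_good (T := T) (x := Lt.y) (by decide) [Lt.y, Lt.z, Lt.q, Lt.yi, Lt.q, Lt.z, Lt.q, Lt.y, Lt.q, Lt.z, Lt.yi, Lt.yi, Lt.q, Lt.z, Lt.yi, Lt.q, Lt.z, Lt.yi, Lt.z, Lt.y, Lt.z, Lt.q, Lt.y, Lt.z, Lt.q] (H9.TCY.hole_at hinv hr 46 19 false (by decide +kernel)) h
theorem dp_y_220_s (hinv : ∀ x, g (inv x) = (g x)⁻¹) (hr : ∀ r ∈ rels, (r.map g).prod = 1) (hH : ∀ r ∈ subs, (r.map g).prod ∈ H)
    (j u : ℕ) (hu : u < M) (h : dp_y_220 j u = true) : Good (fa g) T MG M (cP g H) Lt.y u := by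
  unfold dp_y_220 at h
  rcases brec_true h with h | h
  · exact lS_good (T := T) (x := Lt.y) (by decide) hu [Lt.z, Lt.q, Lt.yi, Lt.q, Lt.z, Lt.q, Lt.y, Lt.q, Lt.z, Lt.yi, Lt.yi, Lt.q, Lt.z, Lt.yi, Lt.q, Lt.z, Lt.yi, Lt.z, Lt.y, Lt.z, Lt.q, Lt.y, Lt.z, Lt.q, Lt.y] (H9.TCY.hole_at hinv hr 46 20 false (by decide +kernel)) h
  · exact dp_y_219_s hinv hr hH j u hu h
theorem dp_y_221_s (hinv : ∀ x, g (inv x) = (g x)⁻¹) (hr : ∀ r ∈ rels, (r.map g).prod = 1) (hH : ∀ r ∈ subs, (r.map g).prod ∈ H)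
    (j u : ℕ) (hu : u < M) (h : dp_y_221 j u = true) : Good (fa g) T MG M (cP g H) Lt.y u := by
  unfold dp_y_221 at h
  rcases brec_true h with h | h
  · exact lS_good (T := T) (x := Lt.y) (by decide) hu [Lt.y, Lt.q, Lt.y, Lt.y, Lt.y, Lt.q, Lt.y, Lt.y, Lt.y, Lt.q, Lt.yi, Lt.yi, Lt.yi, Lt.q, Lt.y] (H9.TCY.hole_at hinv hr 30 7 true (by decide +kernel)) h
  · exact lS_good (T := T) (x := Lt.y) (by decide) hu [Lt.y, Lt.q, Lt.z, Lt.y, Lt.y, Lt.z, Lt.q, Lt.y, Lt.y, Lt.y, Lt.q, Lt.z, Lt.y, Lt.y, Lt.z, Lt.q, Lt.y, Lt.y, Lt.y, Lt.q, Lt.z, Lt.y, Lt.y, Lt.z, Lt.q, Lt.y] (H9.TCY.hole_at hinv hr 47 8 false (by decide +kernel)) h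
theorem dp_y_222_s (hinv : ∀ x, g (inv x) = (g x)⁻¹) (hr : ∀ r ∈ rels, (r.map g).prod = 1) (hH : ∀ r ∈ subs, (r.map g).prod ∈ H)
    (j u : ℕ) (hu : u < M) (h : dp_y_222 j u = true) : Good (fa g) T MG M (cP g H) Lt.y u := by
  unfold dp_y_222 at h
  rcases brec_true h with h | h
  · exact lS_good (T := T) (x := Lt.y) (by decide) hu [Lt.q, Lt.z, Lt.q, Lt.yi, Lt.z, Lt.y, Lt.q, Lt.yi, Lt.q, Lt.z, Lt.q, Lt.y, Lt.z, Lt.yi, Lt.q] (H9.TCY.hole_at hinv hr 24 3 false (by decide +kernel)) h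
  · exact lS_good (T := T) (x := Lt.y) (by decide) hu [Lt.y, Lt.y, Lt.q, Lt.y, Lt.y, Lt.y, Lt.q, Lt.y, Lt.y, Lt.y, Lt.q, Lt.yi, Lt.yi, Lt.yi, Lt.q] (H9.TCY.hole_at hinv hr 30 6 true (by decide +kernel)) h
theorem dp_y_223_s (hinv : ∀ x, g (inv x) = (g x)⁻¹) (hr : ∀ r ∈ rels, (r.map g).prod = 1) (hH : ∀ r ∈ subs, (r.map g).prod ∈ H)
    (j u : ℕ) (hu : u < M) (h : dp_y_223 j u = true) : Good (fa g) T MG M (cP g H) Lt.y u := by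
  unfold dp_y_223 at h
  rcases brec_true h with h | h
  · exact dp_y_221_s hinv hr hH j u hu h
  · exact dp_y_222_s hinv hr hH j u hu h
theorem dp_y_224_s (hinv : ∀ x, g (inv x) = (g x)⁻¹) (hr : ∀ r ∈ rels, (r.map g).prod = 1) (hH : ∀ r ∈ subs, (r.map g).prod ∈ H)
    (j u : ℕ) (hu : u < M) (h : dp_y_224 j u = true) : Good (fa g) T MG M (cP g H) Lt.y u := by
  unfold dp_y_224 at h
  rcases brec_true h with h | h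
  · exact dp_y_220_s hinv hr hH j u hu h
  · exact dp_y_223_s hinv hr hH j u hu h
theorem dp_y_225_s (hinv : ∀ x, g (inv x) = (g x)⁻¹) (hr : ∀ r ∈ rels, (r.map g).prod = 1) (hH : ∀ r ∈ subs, (r.map g).prod ∈ H)
    (j u : ℕ) (hu : u < M) (h : dp_y_225 j u = true) : Good (fa g) T MG M (cP g H) Lt.y u := by
  unfold dp_y_225 at h
  rcases brec_true h with h | h
  · exact lS_good (T := T) (x := Lt.y) (by decide) hu [Lt.y, Lt.y, Lt.q, Lt.z, Lt.y, Lt.y, Lt.z, Lt.q, Lt.y, Lt.y, Lt.y, Lt.q, Lt.z, Lt.y, Lt.y, Lt.z, Lt.q, Lt.y, Lt.y, Lt.y, Lt.q, Lt.z, Lt.y, Lt.y, Lt.z, Lt.q] (H9.TCY.hole_at hinv hr 47 7 false (by decide +kernel)) h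
  · exact lS_good (T := T) (x := Lt.y) (by decide) hu [Lt.q, Lt.y, Lt.y, Lt.q, Lt.y, Lt.q, Lt.yi, Lt.yi, Lt.q, Lt.yi, Lt.yi, Lt.yi, Lt.q, Lt.y, Lt.q] (H9.TCY.hole_at hinv hr 32 7 false (by decide +kernel)) h
theorem dp_y_226_s (hinv : ∀ x, g (inv x) = (g x)⁻¹) (hr : ∀ r ∈ rels, (r.map g).prod = 1) (hH : ∀ r ∈ subs, (r.map g).prod ∈ H)
    (j u : ℕ) (hu : u < M) (h : dp_y_226 j u = true) : Good (fa g) T MG M (cP g H) Lt.y u := by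
  unfold dp_y_226 at h
  rcases brec_true h with h | h
  · exact lF_good (T := T) (x := Lt.y) (by decide) [Lt.y, Lt.y, Lt.q, Lt.z, Lt.y, Lt.y, Lt.z, Lt.q, Lt.y, Lt.y, Lt.y, Lt.q, Lt.z, Lt.y, Lt.y, Lt.z, Lt.q, Lt.y, Lt.y, Lt.y, Lt.q, Lt.z, Lt.y, Lt.y, Lt.z, Lt.q] (H9.TCY.hole_at hinv hr 47 7 false (by decide +kernel)) h
  · exact lS_good (T := T) (x := Lt.y) (by decide) hu [Lt.q, Lt.yi, Lt.yi, Lt.yi, Lt.q, Lt.yi, Lt.yi, Lt.q, Lt.y, Lt.q, Lt.y, Lt.y, Lt.q, Lt.y, Lt.q] (H9.TCY.hole_at hinv hr 31 15 false (by decide +kernel)) h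
theorem dp_y_227_s (hinv : ∀ x, g (inv x) = (g x)⁻¹) (hr : ∀ r ∈ rels, (r.map g).prod = 1) (hH : ∀ r ∈ subs, (r.map g).prod ∈ H)
    (j u : ℕ) (hu : u < M) (h : dp_y_227 j u = true) : Good (fa g) T MG M (cP g H) Lt.y u := by
  unfold dp_y_227 at h
  rcases brec_true h with h | h
  · exact dp_y_225_s hinv hr hH j u hu h
  · exact dp_y_226_s hinv hr hH j u hu h
theorem dp_y_228_s (hinv : ∀ x, g (inv x) = (g x)⁻¹) (hr : ∀ r ∈ rels, (r.map g).prod = 1) (hH : ∀ r ∈ subs, (r.map g).prod ∈ H)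
    (j u : ℕ) (hu : u < M) (h : dp_y_228 j u = true) : Good (fa g) T MG M (cP g H) Lt.y u := by
  unfold dp_y_228 at h
  rcases brec_true h with h | h
  · exact lS_good (T := T) (x := Lt.y) (by decide) hu [Lt.y, Lt.y, Lt.q, Lt.y, Lt.y, Lt.y, Lt.q, Lt.yi, Lt.yi, Lt.yi, Lt.q, Lt.y, Lt.y, Lt.y, Lt.q] (H9.TCY.hole_at hinv hr 30 10 true (by decide +kernel)) h
  · exact lS_good (T := T) (x := Lt.y) (by decide) hu [Lt.q, Lt.yi, Lt.yi, Lt.q, Lt.yi, Lt.yi, Lt.yi, Lt.q, Lt.y, Lt.q, Lt.y, Lt.q, Lt.y, Lt.y, Lt.q] (H9.TCY.hole_at hinv hr 32 12 false (by decide +kernel)) h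
theorem dp_y_229_s (hinv : ∀ x, g (inv x) = (g x)⁻¹) (hr : ∀ r ∈ rels, (r.map g).prod = 1) (hH : ∀ r ∈ subs, (r.map g).prod ∈ H)
    (j u : ℕ) (hu : u < M) (h : dp_y_229 j u = true) : Good (fa g) T MG M (cP g H) Lt.y u := by
  unfold dp_y_229 at h
  rcases brec_true h with h | h
  · exact lS_good (T := T) (x := Lt.y) (by decide) hu [Lt.y, Lt.y, Lt.q, Lt.y, Lt.y, Lt.q, Lt.yi, Lt.q, Lt.yi, Lt.yi, Lt.q, Lt.yi, Lt.q, Lt.yi, Lt.q] (H9.TCY.hole_at hinv hr 32 14 true (by decide +kernel)) h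
  · exact lF_good (T := T) (x := Lt.y) (by decide) [Lt.y, Lt.q, Lt.yi, Lt.yi, Lt.yi, Lt.q, Lt.y, Lt.y, Lt.y, Lt.q, Lt.y, Lt.y, Lt.y, Lt.q, Lt.y] (H9.TCY.hole_at hinv hr 30 15 true (by decide +kernel)) h
theorem dp_y_230_s (hinv : ∀ x, g (inv x) = (g x)⁻¹) (hr : ∀ r ∈ rels, (r.map g).prod = 1) (hH : ∀ r ∈ subs, (r.map g).prod ∈ H)
    (j u : ℕ) (hu : u < M) (h : dp_y_230 j u = true) : Good (fa g) T MG M (cP g H) Lt.y u := by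
  unfold dp_y_230 at h
  rcases brec_true h with h | h
  · exact dp_y_228_s hinv hr hH j u hu h
  · exact dp_y_229_s hinv hr hH j u hu h
theorem dp_y_231_s (hinv : ∀ x, g (inv x) = (g x)⁻¹) (hr : ∀ r ∈ rels, (r.map g).prod = 1) (hH : ∀ r ∈ subs, (r.map g).prod ∈ H)
    (j u : ℕ) (hu : u < M) (h : dp_y_231 j u = true) : Good (fa g) T MG M (cP g H) Lt.y u := by
  unfold dp_y_231 at h
  rcases brec_true h with h | h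
  · exact dp_y_227_s hinv hr hH j u hu h
  · exact dp_y_230_s hinv hr hH j u hu h
theorem dp_y_232_s (hinv : ∀ x, g (inv x) = (g x)⁻¹) (hr : ∀ r ∈ rels, (r.map g).prod = 1) (hH : ∀ r ∈ subs, (r.map g).prod ∈ H)
    (j u : ℕ) (hu : u < M) (h : dp_y_232 j u = true) : Good (fa g) T MG M (cP g H) Lt.y u := by
  unfold dp_y_232 at h
  rcases brec_true h with h | h
  · exact dp_y_224_s hinv hr hH j u hu h
  · exact dp_y_231_s hinv hr hH j u hu h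
theorem dp_y_233_s (hinv : ∀ x, g (inv x) = (g x)⁻¹) (hr : ∀ r ∈ rels, (r.map g).prod = 1) (hH : ∀ r ∈ subs, (r.map g).prod ∈ H)
    (j u : ℕ) (hu : u < M) (h : dp_y_233 j u = true) : Good (fa g) T MG M (cP g H) Lt.y u := by
  unfold dp_y_233 at h
  rcases brec_true h with h | h
  · exact lS_good (T := T) (x := Lt.y) (by decide) hu [Lt.v, Lt.q, Lt.z, Lt.q, Lt.z, Lt.yi, Lt.z, Lt.q, Lt.z, Lt.q, Lt.v] (H9.TCY.hole_at hinv hr 13 0 false (by decide +kernel)) h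
  · exact lS_good (T := T) (x := Lt.y) (by decide) hu [Lt.y, Lt.q, Lt.y, Lt.y, Lt.y, Lt.q, Lt.yi, Lt.yi, Lt.yi, Lt.q, Lt.y, Lt.y, Lt.y, Lt.q, Lt.y] (H9.TCY.hole_at hinv hr 30 11 true (by decide +kernel)) h
theorem dp_y_234_s (hinv : ∀ x, g (inv x) = (g x)⁻¹) (hr : ∀ r ∈ rels, (r.map g).prod = 1) (hH : ∀ r ∈ subs, (r.map g).prod ∈ H)
    (j u : ℕ) (hu : u < M) (h : dp_y_234 j u = true) : Good (fa g) T MG M (cP g H) Lt.y u := by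
  unfold dp_y_234 at h
  rcases brec_true h with h | h
  · exact lS_good (T := T) (x := Lt.y) (by decide) hu [Lt.z, Lt.q, Lt.y, Lt.z, Lt.q, Lt.y, Lt.y, Lt.y, Lt.z, Lt.q, Lt.y, Lt.z, Lt.q, Lt.y, Lt.y, Lt.y, Lt.z, Lt.q, Lt.y, Lt.z, Lt.q, Lt.y, Lt.y, Lt.y, Lt.z, Lt.q, Lt.y, Lt.z, Lt.q, Lt.y, Lt.y] (H9.TCY.hole_at hinv hr 48 0 false (by decide +kernel)) h
  · exact lF_good (T := T) (x := Lt.y) (by decide) [Lt.z, Lt.q, Lt.y, Lt.y, Lt.y, Lt.z, Lt.q, Lt.y, Lt.z, Lt.q, Lt.y, Lt.y, Lt.y, Lt.z, Lt.q, Lt.y, Lt.z, Lt.q, Lt.y, Lt.y, Lt.y, Lt.z, Lt.q, Lt.y, Lt.z, Lt.q, Lt.y, Lt.y, Lt.y, Lt.z, Lt.q] (H9.TCY.hole_at hinv hr 48 3 false (by decide +kernel)) h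
theorem dp_y_235_s (hinv : ∀ x, g (inv x) = (g x)⁻¹) (hr : ∀ r ∈ rels, (r.map g).prod = 1) (hH : ∀ r ∈ subs, (r.map g).prod ∈ H)
    (j u : ℕ) (hu : u < M) (h : dp_y_235 j u = true) : Good (fa g) T MG M (cP g H) Lt.y u := by
  unfold dp_y_235 at h
  rcases brec_true h with h | h
  · exact lS_good (T := T) (x := Lt.y) (by decide) hu [Lt.q, Lt.y, Lt.y, Lt.y, Lt.q, Lt.yi, Lt.yi, Lt.yi, Lt.q, Lt.y, Lt.y, Lt.y, Lt.q, Lt.y, Lt.y] (H9.TCY.hole_at hinv hr 30 12 true (by decide +kernel)) h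
  · exact dp_y_234_s hinv hr hH j u hu h
theorem dp_y_236_s (hinv : ∀ x, g (inv x) = (g x)⁻¹) (hr : ∀ r ∈ rels, (r.map g).prod = 1) (hH : ∀ r ∈ subs, (r.map g).prod ∈ H)
    (j u : ℕ) (hu : u < M) (h : dp_y_236 j u = true) : Good (fa g) T MG M (cP g H) Lt.y u := by
  unfold dp_y_236 at h
  rcases brec_true h with h | h
  · exact dp_y_233_s hinv hr hH j u hu h
  · exact dp_y_235_s hinv hr hH j u hu h
theorem dp_y_237_s (hinv : ∀ x, g (inv x) = (g x)⁻¹) (hr : ∀ r ∈ rels, (r.map g).prod = 1) (hH : ∀ r ∈ subs, (r.map g).prod ∈ H)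
    (j u : ℕ) (hu : u < M) (h : dp_y_237 j u = true) : Good (fa g) T MG M (cP g H) Lt.y u := by
  unfold dp_y_237 at h
  rcases brec_true h with h | h
  · exact lS_good (T := T) (x := Lt.y) (by decide) hu [Lt.y, Lt.z, Lt.q, Lt.y, Lt.z, Lt.q, Lt.y, Lt.y, Lt.y, Lt.z, Lt.q, Lt.y, Lt.z, Lt.q, Lt.y, Lt.y, Lt.y, Lt.z, Lt.q, Lt.y, Lt.z, Lt.q, Lt.y, Lt.y, Lt.y, Lt.z, Lt.q, Lt.y, Lt.z, Lt.q, Lt.y] (H9.TCY.hole_at hinv hr 48 7 false (by decide +kernel)) h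
  · exact lF_good (T := T) (x := Lt.y) (by decide) [Lt.z, Lt.q, Lt.y, Lt.z, Lt.q, Lt.y, Lt.y, Lt.y, Lt.z, Lt.q, Lt.y, Lt.z, Lt.q, Lt.y, Lt.y, Lt.y, Lt.z, Lt.q, Lt.y, Lt.z, Lt.q, Lt.y, Lt.y, Lt.y, Lt.z, Lt.q, Lt.y, Lt.z, Lt.q, Lt.y, Lt.y] (H9.TCY.hole_at hinv hr 48 0 false (by decide +kernel)) h
theorem dp_y_238_s (hinv : ∀ x, g (inv x) = (g x)⁻¹) (hr : ∀ r ∈ rels, (r.map g).prod = 1) (hH : ∀ r ∈ subs, (r.map g).prod ∈ H)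
    (j u : ℕ) (hu : u < M) (h : dp_y_238 j u = true) : Good (fa g) T MG M (cP g H) Lt.y u := by
  unfold dp_y_238 at h
  rcases brec_true h with h | h
  · exact lF_good (T := T) (x := Lt.y) (by decide) [Lt.z, Lt.q, Lt.y, Lt.z, Lt.q, Lt.y, Lt.y, Lt.z, Lt.q, Lt.yi, Lt.q, Lt.z, Lt.q, Lt.y, Lt.q, Lt.z, Lt.yi, Lt.yi, Lt.q, Lt.z, Lt.yi, Lt.q, Lt.z, Lt.yi, Lt.z] (H9.TCY.hole_at hinv hr 46 13 false (by decide +kernel)) h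
  · exact lS_good (T := T) (x := Lt.y) (by decide) hu [Lt.z, Lt.q, Lt.y, Lt.y, Lt.y, Lt.z, Lt.q, Lt.y, Lt.z, Lt.q, Lt.y, Lt.y, Lt.y, Lt.z, Lt.q, Lt.y, Lt.z, Lt.q, Lt.y, Lt.y, Lt.y, Lt.z, Lt.q, Lt.y, Lt.z, Lt.q, Lt.y, Lt.y, Lt.y, Lt.z, Lt.q] (H9.TCY.hole_at hinv hr 48 3 false (by decide +kernel)) h
theorem dp_y_239_s (hinv : ∀ x, g (inv x) = (g x)⁻¹) (hr : ∀ r ∈ rels, (r.map g).prod = 1) (hH : ∀ r ∈ subs, (r.map g).prod ∈ H)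
    (j u : ℕ) (hu : u < M) (h : dp_y_239 j u = true) : Good (fa g) T MG M (cP g H) Lt.y u := by
  unfold dp_y_239 at h
  rcases brec_true h with h | h
  · exact lS_good (T := T) (x := Lt.y) (by decide) hu [Lt.q, Lt.yi, Lt.z, Lt.y, Lt.q, Lt.z, Lt.q, Lt.yi, Lt.q, Lt.y, Lt.z, Lt.yi, Lt.q, Lt.z, Lt.q] (H9.TCY.hole_at hinv hr 24 6 true (by decide +kernel)) h
  · exact dp_y_238_s hinv hr hH j u hu h
theorem dp_y_240_s (hinv : ∀ x, g (inv x) = (g x)⁻¹) (hr : ∀ r ∈ rels, (r.map g).prod = 1) (hH : ∀ r ∈ subs, (r.map g).prod ∈ H)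
    (j u : ℕ) (hu : u < M) (h : dp_y_240 j u = true) : Good (fa g) T MG M (cP g H) Lt.y u := by
  unfold dp_y_240 at h
  rcases brec_true h with h | h
  · exact dp_y_237_s hinv hr hH j u hu h
  · exact dp_y_239_s hinv hr hH j u hu h
theorem dp_y_241_s (hinv : ∀ x, g (inv x) = (g x)⁻¹) (hr : ∀ r ∈ rels, (r.map g).prod = 1) (hH : ∀ r ∈ subs, (r.map g).prod ∈ H)
    (j u : ℕ) (hu : u < M) (h : dp_y_241 j u = true) : Good (fa g) T MG M (cP g H) Lt.y u := by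
  unfold dp_y_241 at h
  rcases brec_true h with h | h
  · exact dp_y_236_s hinv hr hH j u hu h
  · exact dp_y_240_s hinv hr hH j u hu h
theorem dp_y_242_s (hinv : ∀ x, g (inv x) = (g x)⁻¹) (hr : ∀ r ∈ rels, (r.map g).prod = 1) (hH : ∀ r ∈ subs, (r.map g).prod ∈ H)
    (j u : ℕ) (hu : u < M) (h : dp_y_242 j u = true) : Good (fa g) T MG M (cP g H) Lt.y u := by
  unfold dp_y_242 at h
  rcases brec_true h with h | h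
  · exact lF_good (T := T) (x := Lt.y) (by decide) [Lt.y, Lt.z, Lt.q, Lt.y, Lt.z, Lt.q, Lt.y, Lt.y, Lt.y, Lt.z, Lt.q, Lt.y, Lt.z, Lt.q, Lt.y, Lt.y, Lt.y, Lt.z, Lt.q, Lt.y, Lt.z, Lt.q, Lt.y, Lt.y, Lt.y, Lt.z, Lt.q, Lt.y, Lt.z, Lt.q, Lt.y] (H9.TCY.hole_at hinv hr 48 7 false (by decide +kernel)) h
  · exact lS_good (T := T) (x := Lt.y) (by decide) hu [Lt.q, Lt.y, Lt.q, Lt.y, Lt.y, Lt.q, Lt.y, Lt.q, Lt.yi, Lt.yi, Lt.q, Lt.yi, Lt.yi, Lt.yi, Lt.q] (H9.TCY.hole_at hinv hr 32 5 false (by decide +kernel)) h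
theorem dp_y_243_s (hinv : ∀ x, g (inv x) = (g x)⁻¹) (hr : ∀ r ∈ rels, (r.map g).prod = 1) (hH : ∀ r ∈ subs, (r.map g).prod ∈ H)
    (j u : ℕ) (hu : u < M) (h : dp_y_243 j u = true) : Good (fa g) T MG M (cP g H) Lt.y u := by
  unfold dp_y_243 at h
  rcases brec_true h with h | h
  · exact lF_good (T := T) (x := Lt.y) (by decide) [Lt.q, Lt.z, Lt.y, Lt.y, Lt.z, Lt.q, Lt.y, Lt.y, Lt.y, Lt.q, Lt.z, Lt.y, Lt.y, Lt.z, Lt.q, Lt.y, Lt.y, Lt.y, Lt.q, Lt.z, Lt.y, Lt.y, Lt.z, Lt.q, Lt.y, Lt.y] (H9.TCY.hole_at hinv hr 47 0 false (by decide +kernel)) h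
  · exact dp_y_242_s hinv hr hH j u hu h
theorem dp_y_244_s (hinv : ∀ x, g (inv x) = (g x)⁻¹) (hr : ∀ r ∈ rels, (r.map g).prod = 1) (hH : ∀ r ∈ subs, (r.map g).prod ∈ H)
    (j u : ℕ) (hu : u < M) (h : dp_y_244 j u = true) : Good (fa g) T MG M (cP g H) Lt.y u := by
  unfold dp_y_244 at h
  rcases brec_true h with h | h
  · exact lS_good (T := T) (x := Lt.y) (by decide) hu [Lt.z, Lt.q, Lt.z, Lt.yi, Lt.z, Lt.q, Lt.z, Lt.y, Lt.z, Lt.q, Lt.z, Lt.yi, Lt.z, Lt.q, Lt.z] (H9.TCY.hole_at hinv hr 25 5 false (by decide +kernel)) h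
  · exact lS_good (T := T) (x := Lt.y) (by decide) hu [Lt.z, Lt.q, Lt.y, Lt.z, Lt.q, Lt.y, Lt.y, Lt.z, Lt.q, Lt.yi, Lt.q, Lt.z, Lt.q, Lt.y, Lt.q, Lt.z, Lt.yi, Lt.yi, Lt.q, Lt.z, Lt.yi, Lt.q, Lt.z, Lt.yi, Lt.z] (H9.TCY.hole_at hinv hr 46 13 false (by decide +kernel)) h
theorem dp_y_245_s (hinv : ∀ x, g (inv x) = (g x)⁻¹) (hr : ∀ r ∈ rels, (r.map g).prod = 1) (hH : ∀ r ∈ subs, (r.map g).prod ∈ H)
    (j u : ℕ) (hu : u < M) (h : dp_y_245 j u = true) : Good (fa g) T MG M (cP g H) Lt.y u := by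
  unfold dp_y_245 at h
  rcases brec_true h with h | h
  · exact lS_good (T := T) (x := Lt.y) (by decide) hu [Lt.y, Lt.y, Lt.q, Lt.yi, Lt.yi, Lt.yi, Lt.q, Lt.y, Lt.y, Lt.y, Lt.q, Lt.y, Lt.y, Lt.y, Lt.q] (H9.TCY.hole_at hinv hr 30 14 true (by decide +kernel)) h
  · exact dp_y_244_s hinv hr hH j u hu h
theorem dp_y_246_s (hinv : ∀ x, g (inv x) = (g x)⁻¹) (hr : ∀ r ∈ rels, (r.map g).prod = 1) (hH : ∀ r ∈ subs, (r.map g).prod ∈ H)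
    (j u : ℕ) (hu : u < M) (h : dp_y_246 j u = true) : Good (fa g) T MG M (cP g H) Lt.y u := by
  unfold dp_y_246 at h
  rcases brec_true h with h | h
  · exact dp_y_243_s hinv hr hH j u hu h
  · exact dp_y_245_s hinv hr hH j u hu h
theorem dp_y_247_s (hinv : ∀ x, g (inv x) = (g x)⁻¹) (hr : ∀ r ∈ rels, (r.map g).prod = 1) (hH : ∀ r ∈ subs, (r.map g).prod ∈ H)
    (j u : ℕ) (hu : u < M) (h : dp_y_247 j u = true) : Good (fa g) T MG M (cP g H) Lt.y u := by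
  unfold dp_y_247 at h
  rcases brec_true h with h | h
  · exact lS_good (T := T) (x := Lt.y) (by decide) hu [Lt.q, Lt.yi, Lt.yi, Lt.yi, Lt.q, Lt.y, Lt.y, Lt.y, Lt.q, Lt.y, Lt.y, Lt.y, Lt.q, Lt.y, Lt.y] (H9.TCY.hole_at hinv hr 30 0 true (by decide +kernel)) h
  · exact lF_good (T := T) (x := Lt.y) (by decide) [Lt.q, Lt.z, Lt.yi, Lt.yi, Lt.q, Lt.z, Lt.yi, Lt.q, Lt.z, Lt.yi, Lt.z, Lt.y, Lt.z, Lt.q, Lt.y, Lt.z, Lt.q, Lt.y, Lt.y, Lt.z, Lt.q, Lt.yi, Lt.q, Lt.z, Lt.q] (H9.TCY.hole_at hinv hr 46 1 false (by decide +kernel)) h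
theorem dp_y_248_s (hinv : ∀ x, g (inv x) = (g x)⁻¹) (hr : ∀ r ∈ rels, (r.map g).prod = 1) (hH : ∀ r ∈ subs, (r.map g).prod ∈ H)
    (j u : ℕ) (hu : u < M) (h : dp_y_248 j u = true) : Good (fa g) T MG M (cP g H) Lt.y u := by
  unfold dp_y_248 at h
  rcases brec_true h with h | h
  · exact lS_good (T := T) (x := Lt.y) (by decide) hu [Lt.y, Lt.y, Lt.z, Lt.q, Lt.y, Lt.z, Lt.q, Lt.y, Lt.y, Lt.y, Lt.z, Lt.q, Lt.y, Lt.z, Lt.q, Lt.y, Lt.y, Lt.y, Lt.z, Lt.q, Lt.y, Lt.z, Lt.q, Lt.y, Lt.y, Lt.y, Lt.z, Lt.q, Lt.y, Lt.z, Lt.q] (H9.TCY.hole_at hinv hr 48 6 false (by decide +kernel)) h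
  · exact dp_y_247_s hinv hr hH j u hu h
theorem dp_y_249_s (hinv : ∀ x, g (inv x) = (g x)⁻¹) (hr : ∀ r ∈ rels, (r.map g).prod = 1) (hH : ∀ r ∈ subs, (r.map g).prod ∈ H)
    (j u : ℕ) (hu : u < M) (h : dp_y_249 j u = true) : Good (fa g) T MG M (cP g H) Lt.y u := by
  unfold dp_y_249 at h
  rcases brec_true h with h | h
  · exact lF_good (T := T) (x := Lt.y) (by decide) [Lt.y, Lt.y, Lt.z, Lt.q, Lt.y, Lt.z, Lt.q, Lt.y, Lt.y, Lt.y, Lt.z, Lt.q, Lt.y, Lt.z, Lt.q, Lt.y, Lt.y, Lt.y, Lt.z, Lt.q, Lt.y, Lt.z, Lt.q, Lt.y, Lt.y, Lt.y, Lt.z, Lt.q, Lt.y, Lt.z, Lt.q] (H9.TCY.hole_at hinv hr 48 6 false (by decide +kernel)) h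
  · exact lS_good (T := T) (x := Lt.y) (by decide) hu [Lt.q, Lt.z, Lt.yi, Lt.yi, Lt.q, Lt.z, Lt.yi, Lt.q, Lt.z, Lt.yi, Lt.z, Lt.y, Lt.z, Lt.q, Lt.y, Lt.z, Lt.q, Lt.y, Lt.y, Lt.z, Lt.q, Lt.yi, Lt.q, Lt.z, Lt.q] (H9.TCY.hole_at hinv hr 46 1 false (by decide +kernel)) h
theorem dp_y_250_s (hinv : ∀ x, g (inv x) = (g x)⁻¹) (hr : ∀ r ∈ rels, (r.map g).prod = 1) (hH : ∀ r ∈ subs, (r.map g).prod ∈ H)
    (j u : ℕ) (hu : u < M) (h : dp_y_250 j u = true) : Good (fa g) T MG M (cP g H) Lt.y u := by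
  unfold dp_y_250 at h
  rcases brec_true h with h | h
  · exact lS_good (T := T) (x := Lt.y) (by decide) hu [Lt.y, Lt.y, Lt.z, Lt.q, Lt.y, Lt.z, Lt.q, Lt.y, Lt.z, Lt.q, Lt.z, Lt.yi, Lt.q, Lt.z, Lt.yi, Lt.q, Lt.z, Lt.yi, Lt.yi, Lt.yi, Lt.z, Lt.y, Lt.y, Lt.y, Lt.z, Lt.q, Lt.y, Lt.z, Lt.q, Lt.y, Lt.z, Lt.q, Lt.yi, Lt.q, Lt.z, Lt.yi, Lt.q, Lt.z, Lt.yi, Lt.yi, Lt.yi, Lt.z, Lt.y, Lt.y, Lt.y, Lt.z, Lt.q, Lt.y, Lt.z, Lt.q, Lt.y, Lt.z, Lt.q, Lt.yi, Lt.q, Lt.z, Lt.yi, Lt.q, Lt.z, Lt.yi, Lt.yi, Lt.yi, Lt.z] (H9.TCY.hole_at hinv hr 49 54 false (by decide +kernel)) h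
  · exact lS_good (T := T) (x := Lt.y) (by decide) hu [Lt.y, Lt.z, Lt.q, Lt.y, Lt.z, Lt.q, Lt.y, Lt.z, Lt.q, Lt.yi, Lt.q, Lt.z, Lt.yi, Lt.q, Lt.z, Lt.yi, Lt.yi, Lt.yi, Lt.z, Lt.y, Lt.y, Lt.y, Lt.z, Lt.q, Lt.y, Lt.z, Lt.q, Lt.y, Lt.z, Lt.q, Lt.z, Lt.yi, Lt.q, Lt.z, Lt.yi, Lt.q, Lt.z, Lt.yi, Lt.yi, Lt.yi, Lt.z, Lt.y, Lt.y, Lt.y, Lt.z, Lt.q, Lt.y, Lt.z, Lt.q, Lt.y, Lt.z, Lt.q, Lt.yi, Lt.q, Lt.z, Lt.yi, Lt.q, Lt.z, Lt.yi, Lt.yi, Lt.yi, Lt.z, Lt.y] (H9.TCY.hole_at hinv hr 49 34 false (by decide +kernel)) h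
theorem dp_y_251_s (hinv : ∀ x, g (inv x) = (g x)⁻¹) (hr : ∀ r ∈ rels, (r.map g).prod = 1) (hH : ∀ r ∈ subs, (r.map g).prod ∈ H)
    (j u : ℕ) (hu : u < M) (h : dp_y_251 j u = true) : Good (fa g) T MG M (cP g H) Lt.y u := by
  unfold dp_y_251 at h
  rcases brec_true h with h | h
  · exact dp_y_249_s hinv hr hH j u hu h
  · exact dp_y_250_s hinv hr hH j u hu h
theorem dp_y_252_s (hinv : ∀ x, g (inv x) = (g x)⁻¹) (hr : ∀ r ∈ rels, (r.map g).prod = 1) (hH : ∀ r ∈ subs, (r.map g).prod ∈ H)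
    (j u : ℕ) (hu : u < M) (h : dp_y_252 j u = true) : Good (fa g) T MG M (cP g H) Lt.y u := by
  unfold dp_y_252 at h
  rcases brec_true h with h | h
  · exact dp_y_248_s hinv hr hH j u hu h
  · exact dp_y_251_s hinv hr hH j u hu h
theorem dp_y_253_s (hinv : ∀ x, g (inv x) = (g x)⁻¹) (hr : ∀ r ∈ rels, (r.map g).prod = 1) (hH : ∀ r ∈ subs, (r.map g).prod ∈ H)
    (j u : ℕ) (hu : u < M) (h : dp_y_253 j u = true) : Good (fa g) T MG M (cP g H) Lt.y u := by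
  unfold dp_y_253 at h
  rcases brec_true h with h | h
  · exact lS_good (T := T) (x := Lt.y) (by decide) hu [Lt.y, Lt.y, Lt.z, Lt.q, Lt.y, Lt.z, Lt.q, Lt.y, Lt.z, Lt.q, Lt.yi, Lt.q, Lt.z, Lt.yi, Lt.q, Lt.z, Lt.yi, Lt.yi, Lt.yi, Lt.z, Lt.y, Lt.y, Lt.y, Lt.z, Lt.q, Lt.y, Lt.z, Lt.q, Lt.y, Lt.z, Lt.q, Lt.yi, Lt.q, Lt.z, Lt.yi, Lt.q, Lt.z, Lt.yi, Lt.yi, Lt.yi, Lt.z, Lt.y, Lt.y, Lt.y, Lt.z, Lt.q, Lt.y, Lt.z, Lt.q, Lt.y, Lt.z, Lt.q, Lt.z, Lt.yi, Lt.q, Lt.z, Lt.yi, Lt.q, Lt.z, Lt.yi, Lt.yi, Lt.yi, Lt.z] (H9.TCY.hole_at hinv hr 49 12 false (by decide +kernel)) h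
  · exact lS_good (T := T) (x := Lt.y) (by decide) hu [Lt.y, Lt.y, Lt.z, Lt.q, Lt.y, Lt.z, Lt.q, Lt.y, Lt.q, Lt.z, Lt.yi, Lt.q, Lt.z, Lt.yi, Lt.q, Lt.z, Lt.yi, Lt.yi, Lt.yi, Lt.z, Lt.y, Lt.y, Lt.y, Lt.z, Lt.q, Lt.y, Lt.z, Lt.q, Lt.y, Lt.q, Lt.z, Lt.yi, Lt.q, Lt.z, Lt.yi, Lt.q, Lt.z, Lt.yi, Lt.yi, Lt.yi, Lt.z, Lt.y, Lt.y, Lt.y, Lt.z, Lt.q, Lt.y, Lt.z, Lt.q, Lt.y, Lt.z, Lt.q, Lt.z, Lt.yi, Lt.q, Lt.z, Lt.yi, Lt.q, Lt.z, Lt.yi, Lt.yi, Lt.yi, Lt.z] (H9.TCY.hole_at hinv hr 49 13 true (by decide +kernel)) h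
theorem dp_y_254_s (hinv : ∀ x, g (inv x) = (g x)⁻¹) (hr : ∀ r ∈ rels, (r.map g).prod = 1) (hH : ∀ r ∈ subs, (r.map g).prod ∈ H)
    (j u : ℕ) (hu : u < M) (h : dp_y_254 j u = true) : Good (fa g) T MG M (cP g H) Lt.y u := by
  unfold dp_y_254 at h
  rcases brec_true h with h | h
  · exact lS_good (T := T) (x := Lt.y) (by decide) hu [Lt.y, Lt.y, Lt.z, Lt.q, Lt.y, Lt.z, Lt.q, Lt.y, Lt.z, Lt.q, Lt.yi, Lt.q, Lt.z, Lt.yi, Lt.q, Lt.z, Lt.yi, Lt.yi, Lt.yi, Lt.z, Lt.y, Lt.y, Lt.y, Lt.z, Lt.q, Lt.y, Lt.z, Lt.q, Lt.y, Lt.z, Lt.q, Lt.z, Lt.yi, Lt.q, Lt.z, Lt.yi, Lt.q, Lt.z, Lt.yi, Lt.yi, Lt.yi, Lt.z, Lt.y, Lt.y, Lt.y, Lt.z, Lt.q, Lt.y, Lt.z, Lt.q, Lt.y, Lt.z, Lt.q, Lt.yi, Lt.q, Lt.z, Lt.yi, Lt.q, Lt.z, Lt.yi, Lt.yi, Lt.yi, Lt.z] (H9.TCY.hole_at hinv hr 49 33 false (by decide +kernel)) h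
  · exact dp_y_253_s hinv hr hH j u hu h
theorem dp_y_255_s (hinv : ∀ x, g (inv x) = (g x)⁻¹) (hr : ∀ r ∈ rels, (r.map g).prod = 1) (hH : ∀ r ∈ subs, (r.map g).prod ∈ H)
    (j u : ℕ) (hu : u < M) (h : dp_y_255 j u = true) : Good (fa g) T MG M (cP g H) Lt.y u := by
  unfold dp_y_255 at h
  rcases brec_true h with h | h
  · exact lS_good (T := T) (x := Lt.y) (by decide) hu [Lt.y, Lt.z, Lt.q, Lt.y, Lt.z, Lt.q, Lt.y, Lt.z, Lt.q, Lt.yi, Lt.q, Lt.z, Lt.yi, Lt.q, Lt.z, Lt.yi, Lt.yi, Lt.yi, Lt.z, Lt.y, Lt.y, Lt.y, Lt.z, Lt.q, Lt.y, Lt.z, Lt.q, Lt.y, Lt.z, Lt.q, Lt.yi, Lt.q, Lt.z, Lt.yi, Lt.q, Lt.z, Lt.yi, Lt.yi, Lt.yi, Lt.z, Lt.y, Lt.y, Lt.y, Lt.z, Lt.q, Lt.y, Lt.z, Lt.q, Lt.y, Lt.z, Lt.q, Lt.z, Lt.yi, Lt.q, Lt.z, Lt.yi, Lt.q, Lt.z, Lt.yi, Lt.yi, Lt.yi, Lt.z, Lt.y] (H9.TCY.hole_at hinv hr 49 13 false (by decide +kernel)) h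
  · exact lS_good (T := T) (x := Lt.y) (by decide) hu [Lt.z, Lt.q, Lt.y, Lt.z, Lt.q, Lt.y, Lt.z, Lt.q, Lt.yi, Lt.q, Lt.z, Lt.yi, Lt.q, Lt.z, Lt.yi, Lt.yi, Lt.yi, Lt.z, Lt.y, Lt.y, Lt.y, Lt.z, Lt.q, Lt.y, Lt.z, Lt.q, Lt.y, Lt.z, Lt.q, Lt.yi, Lt.q, Lt.z, Lt.yi, Lt.q, Lt.z, Lt.yi, Lt.yi, Lt.yi, Lt.z, Lt.y, Lt.y, Lt.y, Lt.z, Lt.q, Lt.y, Lt.z, Lt.q, Lt.y, Lt.z, Lt.q, Lt.z, Lt.yi, Lt.q, Lt.z, Lt.yi, Lt.q, Lt.z, Lt.yi, Lt.yi, Lt.yi, Lt.z, Lt.y, Lt.y] (H9.TCY.hole_at hinv hr 49 14 false (by decide +kernel)) h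
theorem dp_y_256_s (hinv : ∀ x, g (inv x) = (g x)⁻¹) (hr : ∀ r ∈ rels, (r.map g).prod = 1) (hH : ∀ r ∈ subs, (r.map g).prod ∈ H)
    (j u : ℕ) (hu : u < M) (h : dp_y_256 j u = true) : Good (fa g) T MG M (cP g H) Lt.y u := by
  unfold dp_y_256 at h
  rcases brec_true h with h | h
  · exact lS_good (T := T) (x := Lt.y) (by decide) hu [Lt.y, Lt.q, Lt.yi, Lt.yi, Lt.yi, Lt.q, Lt.y, Lt.y, Lt.y, Lt.q, Lt.y, Lt.y, Lt.y, Lt.q, Lt.y] (H9.TCY.hole_at hinv hr 30 15 true (by decide +kernel)) h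
  · exact lF_good (T := T) (x := Lt.y) (by decide) [Lt.y, Lt.y, Lt.z, Lt.q, Lt.y, Lt.z, Lt.q, Lt.y, Lt.z, Lt.q, Lt.yi, Lt.q, Lt.z, Lt.yi, Lt.q, Lt.z, Lt.yi, Lt.yi, Lt.yi, Lt.z, Lt.y, Lt.y, Lt.y, Lt.z, Lt.q, Lt.y, Lt.z, Lt.q, Lt.y, Lt.z, Lt.q, Lt.yi, Lt.q, Lt.z, Lt.yi, Lt.q, Lt.z, Lt.yi, Lt.yi, Lt.yi, Lt.z, Lt.y, Lt.y, Lt.y, Lt.z, Lt.q, Lt.y, Lt.z, Lt.q, Lt.y, Lt.z, Lt.q, Lt.z, Lt.yi, Lt.q, Lt.z, Lt.yi, Lt.q, Lt.z, Lt.yi, Lt.yi, Lt.yi, Lt.z] (H9.TCY.hole_at hinv hr 49 12 false (by decide +kernel)) h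
theorem dp_y_257_s (hinv : ∀ x, g (inv x) = (g x)⁻¹) (hr : ∀ r ∈ rels, (r.map g).prod = 1) (hH : ∀ r ∈ subs, (r.map g).prod ∈ H)
    (j u : ℕ) (hu : u < M) (h : dp_y_257 j u = true) : Good (fa g) T MG M (cP g H) Lt.y u := by
  unfold dp_y_257 at h
  rcases brec_true h with h | h
  · exact lF_good (T := T) (x := Lt.y) (by decide) [Lt.y, Lt.y, Lt.z, Lt.q, Lt.y, Lt.z, Lt.q, Lt.y, Lt.z, Lt.q, Lt.yi, Lt.q, Lt.z, Lt.yi, Lt.q, Lt.z, Lt.yi, Lt.yi, Lt.yi, Lt.z, Lt.y, Lt.y, Lt.y, Lt.z, Lt.q, Lt.y, Lt.z, Lt.q, Lt.y, Lt.z, Lt.q, Lt.z, Lt.yi, Lt.q, Lt.z, Lt.yi, Lt.q, Lt.z, Lt.yi, Lt.yi, Lt.yi, Lt.z, Lt.y, Lt.y, Lt.y, Lt.z, Lt.q, Lt.y, Lt.z, Lt.q, Lt.y, Lt.z, Lt.q, Lt.yi, Lt.q, Lt.z, Lt.yi, Lt.q, Lt.z, Lt.yi, Lt.yi, Lt.yi, Lt.z] (H9.TCY.hole_at hinv hr 49 33 false (by decide +kernel)) h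
  · exact dp_y_256_s hinv hr hH j u hu h
theorem dp_y_258_s (hinv : ∀ x, g (inv x) = (g x)⁻¹) (hr : ∀ r ∈ rels, (r.map g).prod = 1) (hH : ∀ r ∈ subs, (r.map g).prod ∈ H)
    (j u : ℕ) (hu : u < M) (h : dp_y_258 j u = true) : Good (fa g) T MG M (cP g H) Lt.y u := by
  unfold dp_y_258 at h
  rcases brec_true h with h | h
  · exact dp_y_255_s hinv hr hH j u hu h
  · exact dp_y_257_s hinv hr hH j u hu h
theorem dp_y_259_s (hinv : ∀ x, g (inv x) = (g x)⁻¹) (hr : ∀ r ∈ rels, (r.map g).prod = 1) (hH : ∀ r ∈ subs, (r.map g).prod ∈ H)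
    (j u : ℕ) (hu : u < M) (h : dp_y_259 j u = true) : Good (fa g) T MG M (cP g H) Lt.y u := by
  unfold dp_y_259 at h
  rcases brec_true h with h | h
  · exact dp_y_254_s hinv hr hH j u hu h
  · exact dp_y_258_s hinv hr hH j u hu h
theorem dp_y_260_s (hinv : ∀ x, g (inv x) = (g x)⁻¹) (hr : ∀ r ∈ rels, (r.map g).prod = 1) (hH : ∀ r ∈ subs, (r.map g).prod ∈ H)
    (j u : ℕ) (hu : u < M) (h : dp_y_260 j u = true) : Good (fa g) T MG M (cP g H) Lt.y u := by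
  unfold dp_y_260 at h
  rcases brec_true h with h | h
  · exact lS_good (T := T) (x := Lt.y) (by decide) hu [Lt.z, Lt.q, Lt.y, Lt.z, Lt.q, Lt.yi, Lt.q, Lt.z, Lt.yi, Lt.q, Lt.z, Lt.yi, Lt.yi, Lt.yi, Lt.z, Lt.y, Lt.y, Lt.y, Lt.z, Lt.q, Lt.y, Lt.z, Lt.q, Lt.y, Lt.z, Lt.q, Lt.z, Lt.yi, Lt.q, Lt.z, Lt.yi, Lt.q, Lt.z, Lt.yi, Lt.yi, Lt.yi, Lt.z, Lt.y, Lt.y, Lt.y, Lt.z, Lt.q, Lt.y, Lt.z, Lt.q, Lt.y, Lt.z, Lt.q, Lt.yi, Lt.q, Lt.z, Lt.yi, Lt.q, Lt.z, Lt.yi, Lt.yi, Lt.yi, Lt.z, Lt.y, Lt.y, Lt.y, Lt.z, Lt.q] (H9.TCY.hole_at hinv hr 49 38 false (by decide +kernel)) h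
  · exact lS_good (T := T) (x := Lt.y) (by decide) hu [Lt.y, Lt.z, Lt.q, Lt.y, Lt.z, Lt.q, Lt.y, Lt.z, Lt.q, Lt.z, Lt.yi, Lt.q, Lt.z, Lt.yi, Lt.q, Lt.z, Lt.yi, Lt.yi, Lt.yi, Lt.z, Lt.y, Lt.y, Lt.y, Lt.z, Lt.q, Lt.y, Lt.z, Lt.q, Lt.y, Lt.z, Lt.q, Lt.yi, Lt.q, Lt.z, Lt.yi, Lt.q, Lt.z, Lt.yi, Lt.yi, Lt.yi, Lt.z, Lt.y, Lt.y, Lt.y, Lt.z, Lt.q, Lt.y, Lt.z, Lt.q, Lt.y, Lt.z, Lt.q, Lt.yi, Lt.q, Lt.z, Lt.yi, Lt.q, Lt.z, Lt.yi, Lt.yi, Lt.yi, Lt.z, Lt.y] (H9.TCY.hole_at hinv hr 49 55 false (by decide +kernel)) h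
theorem dp_y_261_s (hinv : ∀ x, g (inv x) = (g x)⁻¹) (hr : ∀ r ∈ rels, (r.map g).prod = 1) (hH : ∀ r ∈ subs, (r.map g).prod ∈ H)
    (j u : ℕ) (hu : u < M) (h : dp_y_261 j u = true) : Good (fa g) T MG M (cP g H) Lt.y u := by
  unfold dp_y_261 at h
  rcases brec_true h with h | h
  · exact lS_good (T := T) (x := Lt.y) (by decide) hu [Lt.y, Lt.y, Lt.z, Lt.q, Lt.y, Lt.z, Lt.q, Lt.y, Lt.q, Lt.z, Lt.yi, Lt.q, Lt.z, Lt.yi, Lt.q, Lt.z, Lt.yi, Lt.yi, Lt.yi, Lt.z, Lt.y, Lt.y, Lt.y, Lt.z, Lt.q, Lt.y, Lt.z, Lt.q, Lt.y, Lt.z, Lt.q, Lt.z, Lt.yi, Lt.q, Lt.z, Lt.yi, Lt.q, Lt.z, Lt.yi, Lt.yi, Lt.yi, Lt.z, Lt.y, Lt.y, Lt.y, Lt.z, Lt.q, Lt.y, Lt.z, Lt.q, Lt.y, Lt.q, Lt.z, Lt.yi, Lt.q, Lt.z, Lt.yi, Lt.q, Lt.z, Lt.yi, Lt.yi, Lt.yi, Lt.z] (H9.TCY.hole_at hinv hr 49 34 true (by decide +kernel)) h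
  · exact dp_y_260_s hinv hr hH j u hu h
theorem dp_y_262_s (hinv : ∀ x, g (inv x) = (g x)⁻¹) (hr : ∀ r ∈ rels, (r.map g).prod = 1) (hH : ∀ r ∈ subs, (r.map g).prod ∈ H)
    (j u : ℕ) (hu : u < M) (h : dp_y_262 j u = true) : Good (fa g) T MG M (cP g H) Lt.y u := by
  unfold dp_y_262 at h
  rcases brec_true h with h | h
  · exact lS_good (T := T) (x := Lt.y) (by decide) hu [Lt.y, Lt.y, Lt.z, Lt.q, Lt.y, Lt.z, Lt.q, Lt.y, Lt.z, Lt.q, Lt.z, Lt.yi, Lt.q, Lt.z, Lt.yi, Lt.q, Lt.z, Lt.yi, Lt.yi, Lt.yi, Lt.z, Lt.y, Lt.y, Lt.y, Lt.z, Lt.q, Lt.y, Lt.z, Lt.q, Lt.y, Lt.q, Lt.z, Lt.yi, Lt.q, Lt.z, Lt.yi, Lt.q, Lt.z, Lt.yi, Lt.yi, Lt.yi, Lt.z, Lt.y, Lt.y, Lt.y, Lt.z, Lt.q, Lt.y, Lt.z, Lt.q, Lt.y, Lt.q, Lt.z, Lt.yi, Lt.q, Lt.z, Lt.yi, Lt.q, Lt.z, Lt.yi, Lt.yi, Lt.yi, Lt.z] (H9.TCY.hole_at hinv hr 49 55 true (by decide +kernel)) h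
  · exact lS_good (T := T) (x := Lt.y) (by decide) hu [Lt.y, Lt.z, Lt.q, Lt.y, Lt.z, Lt.q, Lt.y, Lt.q, Lt.z, Lt.yi, Lt.q, Lt.z, Lt.yi, Lt.q, Lt.z, Lt.yi, Lt.yi, Lt.yi, Lt.z, Lt.y, Lt.y, Lt.y, Lt.z, Lt.q, Lt.y, Lt.z, Lt.q, Lt.y, Lt.q, Lt.z, Lt.yi, Lt.q, Lt.z, Lt.yi, Lt.q, Lt.z, Lt.yi, Lt.yi, Lt.yi, Lt.z, Lt.y, Lt.y, Lt.y, Lt.z, Lt.q, Lt.y, Lt.z, Lt.q, Lt.y, Lt.z, Lt.q, Lt.z, Lt.yi, Lt.q, Lt.z, Lt.yi, Lt.q, Lt.z, Lt.yi, Lt.yi, Lt.yi, Lt.z, Lt.y] (H9.TCY.hole_at hinv hr 49 14 true (by decide +kernel)) h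
theorem dp_y_263_s (hinv : ∀ x, g (inv x) = (g x)⁻¹) (hr : ∀ r ∈ rels, (r.map g).prod = 1) (hH : ∀ r ∈ subs, (r.map g).prod ∈ H)
    (j u : ℕ) (hu : u < M) (h : dp_y_263 j u = true) : Good (fa g) T MG M (cP g H) Lt.y u := by
  unfold dp_y_263 at h
  rcases brec_true h with h | h
  · exact lS_good (T := T) (x := Lt.y) (by decide) hu [Lt.q, Lt.z, Lt.yi, Lt.q, Lt.z, Lt.yi, Lt.q, Lt.z, Lt.yi, Lt.yi, Lt.yi, Lt.z, Lt.y, Lt.y, Lt.y, Lt.z, Lt.q, Lt.y, Lt.z, Lt.q, Lt.y, Lt.q, Lt.z, Lt.yi, Lt.q, Lt.z, Lt.yi, Lt.q, Lt.z, Lt.yi, Lt.yi, Lt.yi, Lt.z, Lt.y, Lt.y, Lt.y, Lt.z, Lt.q, Lt.y, Lt.z, Lt.q, Lt.y, Lt.z, Lt.q, Lt.z, Lt.yi, Lt.q, Lt.z, Lt.yi, Lt.q, Lt.z, Lt.yi, Lt.yi, Lt.yi, Lt.z, Lt.y, Lt.y, Lt.y, Lt.z, Lt.q, Lt.y, Lt.z, Lt.q] (H9.TCY.hole_at hinv hr 49 21 true (by decide +kernel)) h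
  · exact lF_good (T := T) (x := Lt.y) (by decide) [Lt.y, Lt.z, Lt.q, Lt.y, Lt.z, Lt.q, Lt.y, Lt.z, Lt.q, Lt.yi, Lt.q, Lt.z, Lt.yi, Lt.q, Lt.z, Lt.yi, Lt.yi, Lt.yi, Lt.z, Lt.y, Lt.y, Lt.y, Lt.z, Lt.q, Lt.y, Lt.z, Lt.q, Lt.y, Lt.z, Lt.q, Lt.z, Lt.yi, Lt.q, Lt.z, Lt.yi, Lt.q, Lt.z, Lt.yi, Lt.yi, Lt.yi, Lt.z, Lt.y, Lt.y, Lt.y, Lt.z, Lt.q, Lt.y, Lt.z, Lt.q, Lt.y, Lt.z, Lt.q, Lt.yi, Lt.q, Lt.z, Lt.yi, Lt.q, Lt.z, Lt.yi, Lt.yi, Lt.yi, Lt.z, Lt.y] (H9.TCY.hole_at hinv hr 49 34 false (by decide +kernel)) h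
theorem dp_y_264_s (hinv : ∀ x, g (inv x) = (g x)⁻¹) (hr : ∀ r ∈ rels, (r.map g).prod = 1) (hH : ∀ r ∈ subs, (r.map g).prod ∈ H)
    (j u : ℕ) (hu : u < M) (h : dp_y_264 j u = true) : Good (fa g) T MG M (cP g H) Lt.y u := by
  unfold dp_y_264 at h
  rcases brec_true h with h | h
  · exact dp_y_262_s hinv hr hH j u hu h
  · exact dp_y_263_s hinv hr hH j u hu h
theorem dp_y_265_s (hinv : ∀ x, g (inv x) = (g x)⁻¹) (hr : ∀ r ∈ rels, (r.map g).prod = 1) (hH : ∀ r ∈ subs, (r.map g).prod ∈ H)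
    (j u : ℕ) (hu : u < M) (h : dp_y_265 j u = true) : Good (fa g) T MG M (cP g H) Lt.y u := by
  unfold dp_y_265 at h
  rcases brec_true h with h | h
  · exact dp_y_261_s hinv hr hH j u hu h
  · exact dp_y_264_s hinv hr hH j u hu h
theorem dp_y_266_s (hinv : ∀ x, g (inv x) = (g x)⁻¹) (hr : ∀ r ∈ rels, (r.map g).prod = 1) (hH : ∀ r ∈ subs, (r.map g).prod ∈ H)
    (j u : ℕ) (hu : u < M) (h : dp_y_266 j u = true) : Good (fa g) T MG M (cP g H) Lt.y u := by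
  unfold dp_y_266 at h
  rcases brec_true h with h | h
  · exact lH_good (T := T) (x := Lt.y) (by decide) [] [] (by rw [show cP g H 0 = _ from cc_zero]; exact sub_rel hinv (hH _ (by decide))) h
  · exact lS_good (T := T) (x := Lt.y) (by decide) hu [Lt.z, Lt.q, Lt.y, Lt.z, Lt.q, Lt.y, Lt.z, Lt.q, Lt.z, Lt.yi, Lt.q, Lt.z, Lt.yi, Lt.q, Lt.z, Lt.yi, Lt.yi, Lt.yi, Lt.z, Lt.y, Lt.y, Lt.y, Lt.z, Lt.q, Lt.y, Lt.z, Lt.q, Lt.y, Lt.z, Lt.q, Lt.yi, Lt.q, Lt.z, Lt.yi, Lt.q, Lt.z, Lt.yi, Lt.yi, Lt.yi, Lt.z, Lt.y, Lt.y, Lt.y, Lt.z, Lt.q, Lt.y, Lt.z, Lt.q, Lt.y, Lt.z, Lt.q, Lt.yi, Lt.q, Lt.z, Lt.yi, Lt.q, Lt.z, Lt.yi, Lt.yi, Lt.yi, Lt.z, Lt.y, Lt.y] (H9.TCY.hole_at hinv hr 49 56 false (by decide +kernel)) h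
theorem dp_y_267_s (hinv : ∀ x, g (inv x) = (g x)⁻¹) (hr : ∀ r ∈ rels, (r.map g).prod = 1) (hH : ∀ r ∈ subs, (r.map g).prod ∈ H)
    (j u : ℕ) (hu : u < M) (h : dp_y_267 j u = true) : Good (fa g) T MG M (cP g H) Lt.y u := by
  unfold dp_y_267 at h
  rcases brec_true h with h | h
  · exact lS_good (T := T) (x := Lt.y) (by decide) hu [Lt.z, Lt.q, Lt.y, Lt.z, Lt.q, Lt.y, Lt.q, Lt.z, Lt.yi, Lt.q, Lt.z, Lt.yi, Lt.q, Lt.z, Lt.yi, Lt.yi, Lt.yi, Lt.z, Lt.y, Lt.y, Lt.y, Lt.z, Lt.q, Lt.y, Lt.z, Lt.q, Lt.y, Lt.q, Lt.z, Lt.yi, Lt.q, Lt.z, Lt.yi, Lt.q, Lt.z, Lt.yi, Lt.yi, Lt.yi, Lt.z, Lt.y, Lt.y, Lt.y, Lt.z, Lt.q, Lt.y, Lt.z, Lt.q, Lt.y, Lt.z, Lt.q, Lt.z, Lt.yi, Lt.q, Lt.z, Lt.yi, Lt.q, Lt.z, Lt.yi, Lt.yi, Lt.yi, Lt.z, Lt.y, Lt.y] (H9.TCY.hole_at hinv hr 49 15 true (by decide +kernel)) h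
  · exact dp_y_266_s hinv hr hH j u hu h
theorem dp_y_268_s (hinv : ∀ x, g (inv x) = (g x)⁻¹) (hr : ∀ r ∈ rels, (r.map g).prod = 1) (hH : ∀ r ∈ subs, (r.map g).prod ∈ H)
    (j u : ℕ) (hu : u < M) (h : dp_y_268 j u = true) : Good (fa g) T MG M (cP g H) Lt.y u := by
  unfold dp_y_268 at h
  rcases brec_true h with h | h
  · exact lS_good (T := T) (x := Lt.y) (by decide) hu [Lt.z, Lt.q, Lt.y, Lt.z, Lt.q, Lt.yi, Lt.q, Lt.z, Lt.yi, Lt.q, Lt.z, Lt.yi, Lt.yi, Lt.yi, Lt.z, Lt.y, Lt.y, Lt.y, Lt.z, Lt.q, Lt.y, Lt.z, Lt.q, Lt.y, Lt.z, Lt.q, Lt.yi, Lt.q, Lt.z, Lt.yi, Lt.q, Lt.z, Lt.yi, Lt.yi, Lt.yi, Lt.z, Lt.y, Lt.y, Lt.y, Lt.z, Lt.q, Lt.y, Lt.z, Lt.q, Lt.y, Lt.z, Lt.q, Lt.z, Lt.yi, Lt.q, Lt.z, Lt.yi, Lt.q, Lt.z, Lt.yi, Lt.yi, Lt.yi, Lt.z, Lt.y, Lt.y, Lt.y, Lt.z, Lt.q] (H9.TCY.hole_at hinv hr 49 17 false (by decide +kernel)) h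
  · exact lF_good (T := T) (x := Lt.y) (by decide) [Lt.y, Lt.y, Lt.z, Lt.q, Lt.y, Lt.z, Lt.q, Lt.y, Lt.z, Lt.q, Lt.z, Lt.yi, Lt.q, Lt.z, Lt.yi, Lt.q, Lt.z, Lt.yi, Lt.yi, Lt.yi, Lt.z, Lt.y, Lt.y, Lt.y, Lt.z, Lt.q, Lt.y, Lt.z, Lt.q, Lt.y, Lt.z, Lt.q, Lt.yi, Lt.q, Lt.z, Lt.yi, Lt.q, Lt.z, Lt.yi, Lt.yi, Lt.yi, Lt.z, Lt.y, Lt.y, Lt.y, Lt.z, Lt.q, Lt.y, Lt.z, Lt.q, Lt.y, Lt.z, Lt.q, Lt.yi, Lt.q, Lt.z, Lt.yi, Lt.q, Lt.z, Lt.yi, Lt.yi, Lt.yi, Lt.z] (H9.TCY.hole_at hinv hr 49 54 false (by decide +kernel)) h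
theorem dp_y_269_s (hinv : ∀ x, g (inv x) = (g x)⁻¹) (hr : ∀ r ∈ rels, (r.map g).prod = 1) (hH : ∀ r ∈ subs, (r.map g).prod ∈ H)
    (j u : ℕ) (hu : u < M) (h : dp_y_269 j u = true) : Good (fa g) T MG M (cP g H) Lt.y u := by
  unfold dp_y_269 at h
  rcases brec_true h with h | h
  · exact lS_good (T := T) (x := Lt.y) (by decide) hu [Lt.z, Lt.q, Lt.yi, Lt.q, Lt.z, Lt.yi, Lt.q, Lt.z, Lt.yi, Lt.yi, Lt.yi, Lt.z, Lt.y, Lt.y, Lt.y, Lt.z, Lt.q, Lt.y, Lt.z, Lt.q, Lt.y, Lt.z, Lt.q, Lt.z, Lt.yi, Lt.q, Lt.z, Lt.yi, Lt.q, Lt.z, Lt.yi, Lt.yi, Lt.yi, Lt.z, Lt.y, Lt.y, Lt.y, Lt.z, Lt.q, Lt.y, Lt.z, Lt.q, Lt.y, Lt.z, Lt.q, Lt.yi, Lt.q, Lt.z, Lt.yi, Lt.q, Lt.z, Lt.yi, Lt.yi, Lt.yi, Lt.z, Lt.y, Lt.y, Lt.y, Lt.z, Lt.q, Lt.y, Lt.z, Lt.q] (H9.TCY.hole_at hinv hr 49 41 false (by decide +kernel)) h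
  · exact lS_good (T := T) (x := Lt.y) (by decide) hu [Lt.z, Lt.q, Lt.y, Lt.z, Lt.q, Lt.y, Lt.z, Lt.q, Lt.z, Lt.yi, Lt.q, Lt.z, Lt.yi, Lt.q, Lt.z, Lt.yi, Lt.yi, Lt.yi, Lt.z, Lt.y, Lt.y, Lt.y, Lt.z, Lt.q, Lt.y, Lt.z, Lt.q, Lt.y, Lt.q, Lt.z, Lt.yi, Lt.q, Lt.z, Lt.yi, Lt.q, Lt.z, Lt.yi, Lt.yi, Lt.yi, Lt.z, Lt.y, Lt.y, Lt.y, Lt.z, Lt.q, Lt.y, Lt.z, Lt.q, Lt.y, Lt.q, Lt.z, Lt.yi, Lt.q, Lt.z, Lt.yi, Lt.q, Lt.z, Lt.yi, Lt.yi, Lt.yi, Lt.z, Lt.y, Lt.y] (H9.TCY.hole_at hinv hr 49 57 true (by decide +kernel)) h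
theorem dp_y_270_s (hinv : ∀ x, g (inv x) = (g x)⁻¹) (hr : ∀ r ∈ rels, (r.map g).prod = 1) (hH : ∀ r ∈ subs, (r.map g).prod ∈ H)
    (j u : ℕ) (hu : u < M) (h : dp_y_270 j u = true) : Good (fa g) T MG M (cP g H) Lt.y u := by
  unfold dp_y_270 at h
  rcases brec_true h with h | h
  · exact lS_good (T := T) (x := Lt.y) (by decide) hu [Lt.z, Lt.q, Lt.yi, Lt.q, Lt.z, Lt.yi, Lt.q, Lt.z, Lt.yi, Lt.yi, Lt.yi, Lt.z, Lt.y, Lt.y, Lt.y, Lt.z, Lt.q, Lt.y, Lt.z, Lt.q, Lt.y, Lt.z, Lt.q, Lt.yi, Lt.q, Lt.z, Lt.yi, Lt.q, Lt.z, Lt.yi, Lt.yi, Lt.yi, Lt.z, Lt.y, Lt.y, Lt.y, Lt.z, Lt.q, Lt.y, Lt.z, Lt.q, Lt.y, Lt.z, Lt.q, Lt.z, Lt.yi, Lt.q, Lt.z, Lt.yi, Lt.q, Lt.z, Lt.yi, Lt.yi, Lt.yi, Lt.z, Lt.y, Lt.y, Lt.y, Lt.z, Lt.q, Lt.y, Lt.z, Lt.q] (H9.TCY.hole_at hinv hr 49 20 false (by decide +kernel)) h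
  · exact dp_y_269_s hinv hr hH j u hu h
theorem dp_y_271_s (hinv : ∀ x, g (inv x) = (g x)⁻¹) (hr : ∀ r ∈ rels, (r.map g).prod = 1) (hH : ∀ r ∈ subs, (r.map g).prod ∈ H)
    (j u : ℕ) (hu : u < M) (h : dp_y_271 j u = true) : Good (fa g) T MG M (cP g H) Lt.y u := by
  unfold dp_y_271 at h
  rcases brec_true h with h | h
  · exact dp_y_268_s hinv hr hH j u hu h
  · exact dp_y_270_s hinv hr hH j u hu h
theorem dp_y_272_s (hinv : ∀ x, g (inv x) = (g x)⁻¹) (hr : ∀ r ∈ rels, (r.map g).prod = 1) (hH : ∀ r ∈ subs, (r.map g).prod ∈ H)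
    (j u : ℕ) (hu : u < M) (h : dp_y_272 j u = true) : Good (fa g) T MG M (cP g H) Lt.y u := by
  unfold dp_y_272 at h
  rcases brec_true h with h | h
  · exact dp_y_267_s hinv hr hH j u hu h
  · exact dp_y_271_s hinv hr hH j u hu h
theorem dp_y_273_s (hinv : ∀ x, g (inv x) = (g x)⁻¹) (hr : ∀ r ∈ rels, (r.map g).prod = 1) (hH : ∀ r ∈ subs, (r.map g).prod ∈ H)
    (j u : ℕ) (hu : u < M) (h : dp_y_273 j u = true) : Good (fa g) T MG M (cP g H) Lt.y u := by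
  unfold dp_y_273 at h
  rcases brec_true h with h | h
  · exact lF_good (T := T) (x := Lt.y) (by decide) [Lt.z, Lt.q, Lt.y, Lt.z, Lt.q, Lt.y, Lt.q, Lt.z, Lt.yi, Lt.q, Lt.z, Lt.yi, Lt.q, Lt.z, Lt.yi, Lt.yi, Lt.yi, Lt.z, Lt.y, Lt.y, Lt.y, Lt.z, Lt.q, Lt.y, Lt.z, Lt.q, Lt.y, Lt.q, Lt.z, Lt.yi, Lt.q, Lt.z, Lt.yi, Lt.q, Lt.z, Lt.yi, Lt.yi, Lt.yi, Lt.z, Lt.y, Lt.y, Lt.y, Lt.z, Lt.q, Lt.y, Lt.z, Lt.q, Lt.y, Lt.z, Lt.q, Lt.z, Lt.yi, Lt.q, Lt.z, Lt.yi, Lt.q, Lt.z, Lt.yi, Lt.yi, Lt.yi, Lt.z, Lt.y, Lt.y] (H9.TCY.hole_at hinv hr 49 15 true (by decide +kernel)) h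
  · exact lF_good (T := T) (x := Lt.y) (by decide) [Lt.y, Lt.z, Lt.q, Lt.y, Lt.z, Lt.q, Lt.y, Lt.q, Lt.z, Lt.yi, Lt.q, Lt.z, Lt.yi, Lt.q, Lt.z, Lt.yi, Lt.yi, Lt.yi, Lt.z, Lt.y, Lt.y, Lt.y, Lt.z, Lt.q, Lt.y, Lt.z, Lt.q, Lt.y, Lt.q, Lt.z, Lt.yi, Lt.q, Lt.z, Lt.yi, Lt.q, Lt.z, Lt.yi, Lt.yi, Lt.yi, Lt.z, Lt.y, Lt.y, Lt.y, Lt.z, Lt.q, Lt.y, Lt.z, Lt.q, Lt.y, Lt.z, Lt.q, Lt.z, Lt.yi, Lt.q, Lt.z, Lt.yi, Lt.q, Lt.z, Lt.yi, Lt.yi, Lt.yi, Lt.z, Lt.y] (H9.TCY.hole_at hinv hr 49 14 true (by decide +kernel)) h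
theorem dp_y_274_s (hinv : ∀ x, g (inv x) = (g x)⁻¹) (hr : ∀ r ∈ rels, (r.map g).prod = 1) (hH : ∀ r ∈ subs, (r.map g).prod ∈ H)
    (j u : ℕ) (hu : u < M) (h : dp_y_274 j u = true) : Good (fa g) T MG M (cP g H) Lt.y u := by
  unfold dp_y_274 at h
  rcases brec_true h with h | h
  · exact lS_good (T := T) (x := Lt.y) (by decide) hu [Lt.y, Lt.z, Lt.q, Lt.y, Lt.z, Lt.q, Lt.y, Lt.z, Lt.q, Lt.z, Lt.yi, Lt.q, Lt.z, Lt.yi, Lt.q, Lt.z, Lt.yi, Lt.yi, Lt.yi, Lt.z, Lt.y, Lt.y, Lt.y, Lt.z, Lt.q, Lt.y, Lt.z, Lt.q, Lt.y, Lt.q, Lt.z, Lt.yi, Lt.q, Lt.z, Lt.yi, Lt.q, Lt.z, Lt.yi, Lt.yi, Lt.yi, Lt.z, Lt.y, Lt.y, Lt.y, Lt.z, Lt.q, Lt.y, Lt.z, Lt.q, Lt.y, Lt.q, Lt.z, Lt.yi, Lt.q, Lt.z, Lt.yi, Lt.q, Lt.z, Lt.yi, Lt.yi, Lt.yi, Lt.z, Lt.y] (H9.TCY.hole_at hinv hr 49 56 true (by decide +kernel)) h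
  · exact lF_good (T := T) (x := Lt.y) (by decide) [Lt.y, Lt.z, Lt.q, Lt.y, Lt.z, Lt.q, Lt.y, Lt.q, Lt.z, Lt.yi, Lt.q, Lt.z, Lt.yi, Lt.q, Lt.z, Lt.yi, Lt.yi, Lt.yi, Lt.z, Lt.y, Lt.y, Lt.y, Lt.z, Lt.q, Lt.y, Lt.z, Lt.q, Lt.y, Lt.z, Lt.q, Lt.z, Lt.yi, Lt.q, Lt.z, Lt.yi, Lt.q, Lt.z, Lt.yi, Lt.yi, Lt.yi, Lt.z, Lt.y, Lt.y, Lt.y, Lt.z, Lt.q, Lt.y, Lt.z, Lt.q, Lt.y, Lt.q, Lt.z, Lt.yi, Lt.q, Lt.z, Lt.yi, Lt.q, Lt.z, Lt.yi, Lt.yi, Lt.yi, Lt.z, Lt.y] (H9.TCY.hole_at hinv hr 49 35 true (by decide +kernel)) h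
theorem dp_y_275_s (hinv : ∀ x, g (inv x) = (g x)⁻¹) (hr : ∀ r ∈ rels, (r.map g).prod = 1) (hH : ∀ r ∈ subs, (r.map g).prod ∈ H)
    (j u : ℕ) (hu : u < M) (h : dp_y_275 j u = true) : Good (fa g) T MG M (cP g H) Lt.y u := by
  unfold dp_y_275 at h
  rcases brec_true h with h | h
  · exact dp_y_273_s hinv hr hH j u hu h
  · exact dp_y_274_s hinv hr hH j u hu h
theorem dp_y_276_s (hinv : ∀ x, g (inv x) = (g x)⁻¹) (hr : ∀ r ∈ rels, (r.map g).prod = 1) (hH : ∀ r ∈ subs, (r.map g).prod ∈ H)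
    (j u : ℕ) (hu : u < M) (h : dp_y_276 j u = true) : Good (fa g) T MG M (cP g H) Lt.y u := by
  unfold dp_y_276 at h
  rcases brec_true h with h | h
  · exact lF_good (T := T) (x := Lt.y) (by decide) [Lt.q, Lt.z, Lt.yi, Lt.q, Lt.z, Lt.yi, Lt.q, Lt.z, Lt.yi, Lt.yi, Lt.yi, Lt.z, Lt.y, Lt.y, Lt.y, Lt.z, Lt.q, Lt.y, Lt.z, Lt.q, Lt.y, Lt.q, Lt.z, Lt.yi, Lt.q, Lt.z, Lt.yi, Lt.q, Lt.z, Lt.yi, Lt.yi, Lt.yi, Lt.z, Lt.y, Lt.y, Lt.y, Lt.z, Lt.q, Lt.y, Lt.z, Lt.q, Lt.y, Lt.z, Lt.q, Lt.z, Lt.yi, Lt.q, Lt.z, Lt.yi, Lt.q, Lt.z, Lt.yi, Lt.yi, Lt.yi, Lt.z, Lt.y, Lt.y, Lt.y, Lt.z, Lt.q, Lt.y, Lt.z, Lt.q] (H9.TCY.hole_at hinv hr 49 21 true (by decide +kernel)) h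
  · exact lF_good (T := T) (x := Lt.y) (by decide) [Lt.y, Lt.y, Lt.z, Lt.q, Lt.y, Lt.z, Lt.q, Lt.y, Lt.q, Lt.z, Lt.yi, Lt.q, Lt.z, Lt.yi, Lt.q, Lt.z, Lt.yi, Lt.yi, Lt.yi, Lt.z, Lt.y, Lt.y, Lt.y, Lt.z, Lt.q, Lt.y, Lt.z, Lt.q, Lt.y, Lt.q, Lt.z, Lt.yi, Lt.q, Lt.z, Lt.yi, Lt.q, Lt.z, Lt.yi, Lt.yi, Lt.yi, Lt.z, Lt.y, Lt.y, Lt.y, Lt.z, Lt.q, Lt.y, Lt.z, Lt.q, Lt.y, Lt.z, Lt.q, Lt.z, Lt.yi, Lt.q, Lt.z, Lt.yi, Lt.q, Lt.z, Lt.yi, Lt.yi, Lt.yi, Lt.z] (H9.TCY.hole_at hinv hr 49 13 true (by decide +kernel)) h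
theorem dp_y_277_s (hinv : ∀ x, g (inv x) = (g x)⁻¹) (hr : ∀ r ∈ rels, (r.map g).prod = 1) (hH : ∀ r ∈ subs, (r.map g).prod ∈ H)
    (j u : ℕ) (hu : u < M) (h : dp_y_277 j u = true) : Good (fa g) T MG M (cP g H) Lt.y u := by
  unfold dp_y_277 at h
  rcases brec_true h with h | h
  · exact lS_good (T := T) (x := Lt.y) (by decide) hu [Lt.y, Lt.z, Lt.q, Lt.y, Lt.z, Lt.q, Lt.y, Lt.q, Lt.z, Lt.yi, Lt.q, Lt.z, Lt.yi, Lt.q, Lt.z, Lt.yi, Lt.yi, Lt.yi, Lt.z, Lt.y, Lt.y, Lt.y, Lt.z, Lt.q, Lt.y, Lt.z, Lt.q, Lt.y, Lt.z, Lt.q, Lt.z, Lt.yi, Lt.q, Lt.z, Lt.yi, Lt.q, Lt.z, Lt.yi, Lt.yi, Lt.yi, Lt.z, Lt.y, Lt.y, Lt.y, Lt.z, Lt.q, Lt.y, Lt.z, Lt.q, Lt.y, Lt.q, Lt.z, Lt.yi, Lt.q, Lt.z, Lt.yi, Lt.q, Lt.z, Lt.yi, Lt.yi, Lt.yi, Lt.z, Lt.y] (H9.TCY.hole_at hinv hr 49 35 true (by decide +kernel)) h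
  · exact lF_good (T := T) (x := Lt.y) (by decide) [Lt.z, Lt.q, Lt.y, Lt.z, Lt.q, Lt.y, Lt.z, Lt.q, Lt.z, Lt.yi, Lt.q, Lt.z, Lt.yi, Lt.q, Lt.z, Lt.yi, Lt.yi, Lt.yi, Lt.z, Lt.y, Lt.y, Lt.y, Lt.z, Lt.q, Lt.y, Lt.z, Lt.q, Lt.y, Lt.z, Lt.q, Lt.yi, Lt.q, Lt.z, Lt.yi, Lt.q, Lt.z, Lt.yi, Lt.yi, Lt.yi, Lt.z, Lt.y, Lt.y, Lt.y, Lt.z, Lt.q, Lt.y, Lt.z, Lt.q, Lt.y, Lt.z, Lt.q, Lt.yi, Lt.q, Lt.z, Lt.yi, Lt.q, Lt.z, Lt.yi, Lt.yi, Lt.yi, Lt.z, Lt.y, Lt.y] (H9.TCY.hole_at hinv hr 49 56 false (by decide +kernel)) h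
theorem dp_y_278_s (hinv : ∀ x, g (inv x) = (g x)⁻¹) (hr : ∀ r ∈ rels, (r.map g).prod = 1) (hH : ∀ r ∈ subs, (r.map g).prod ∈ H)
    (j u : ℕ) (hu : u < M) (h : dp_y_278 j u = true) : Good (fa g) T MG M (cP g H) Lt.y u := by
  unfold dp_y_278 at h
  rcases brec_true h with h | h
  · exact lS_good (T := T) (x := Lt.y) (by decide) hu [Lt.z, Lt.q, Lt.y, Lt.q, Lt.z, Lt.yi, Lt.q, Lt.z, Lt.yi, Lt.q, Lt.z, Lt.yi, Lt.yi, Lt.yi, Lt.z, Lt.y, Lt.y, Lt.y, Lt.z, Lt.q, Lt.y, Lt.z, Lt.q, Lt.y, Lt.q, Lt.z, Lt.yi, Lt.q, Lt.z, Lt.yi, Lt.q, Lt.z, Lt.yi, Lt.yi, Lt.yi, Lt.z, Lt.y, Lt.y, Lt.y, Lt.z, Lt.q, Lt.y, Lt.z, Lt.q, Lt.y, Lt.z, Lt.q, Lt.z, Lt.yi, Lt.q, Lt.z, Lt.yi, Lt.q, Lt.z, Lt.yi, Lt.yi, Lt.yi, Lt.z, Lt.y, Lt.y, Lt.y, Lt.z, Lt.q] (H9.TCY.hole_at hinv hr 49 18 true (by decide +kernel)) h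
  · exact dp_y_277_s hinv hr hH j u hu h
theorem dp_y_279_s (hinv : ∀ x, g (inv x) = (g x)⁻¹) (hr : ∀ r ∈ rels, (r.map g).prod = 1) (hH : ∀ r ∈ subs, (r.map g).prod ∈ H)
    (j u : ℕ) (hu : u < M) (h : dp_y_279 j u = true) : Good (fa g) T MG M (cP g H) Lt.y u := by
  unfold dp_y_279 at h
  rcases brec_true h with h | h
  · exact dp_y_276_s hinv hr hH j u hu h
  · exact dp_y_278_s hinv hr hH j u hu h
theorem dp_y_280_s (hinv : ∀ x, g (inv x) = (g x)⁻¹) (hr : ∀ r ∈ rels, (r.map g).prod = 1) (hH : ∀ r ∈ subs, (r.map g).prod ∈ H)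
    (j u : ℕ) (hu : u < M) (h : dp_y_280 j u = true) : Good (fa g) T MG M (cP g H) Lt.y u := by
  unfold dp_y_280 at h
  rcases brec_true h with h | h
  · exact dp_y_275_s hinv hr hH j u hu h
  · exact dp_y_279_s hinv hr hH j u hu h
theorem dp_y_281_s (hinv : ∀ x, g (inv x) = (g x)⁻¹) (hr : ∀ r ∈ rels, (r.map g).prod = 1) (hH : ∀ r ∈ subs, (r.map g).prod ∈ H)
    (j u : ℕ) (hu : u < M) (h : dp_y_281 j u = true) : Good (fa g) T MG M (cP g H) Lt.y u := by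
  unfold dp_y_281 at h
  rcases brec_true h with h | h
  · exact dp_y_272_s hinv hr hH j u hu h
  · exact dp_y_280_s hinv hr hH j u hu h
theorem dp_y_282_s (hinv : ∀ x, g (inv x) = (g x)⁻¹) (hr : ∀ r ∈ rels, (r.map g).prod = 1) (hH : ∀ r ∈ subs, (r.map g).prod ∈ H)
    (j u : ℕ) (hu : u < M) (h : dp_y_282 j u = true) : Good (fa g) T MG M (cP g H) Lt.y u := by
  unfold dp_y_282 at h
  rcases brec_true h with h | h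
  · exact dp_y_265_s hinv hr hH j u hu h
  · exact dp_y_281_s hinv hr hH j u hu h
theorem dp_y_283_s (hinv : ∀ x, g (inv x) = (g x)⁻¹) (hr : ∀ r ∈ rels, (r.map g).prod = 1) (hH : ∀ r ∈ subs, (r.map g).prod ∈ H)
    (j u : ℕ) (hu : u < M) (h : dp_y_283 j u = true) : Good (fa g) T MG M (cP g H) Lt.y u := by
  unfold dp_y_283 at h
  rcases brec_true h with h | h
  · exact dp_y_259_s hinv hr hH j u hu h
  · exact dp_y_282_s hinv hr hH j u hu h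
theorem dp_y_284_s (hinv : ∀ x, g (inv x) = (g x)⁻¹) (hr : ∀ r ∈ rels, (r.map g).prod = 1) (hH : ∀ r ∈ subs, (r.map g).prod ∈ H)
    (j u : ℕ) (hu : u < M) (h : dp_y_284 j u = true) : Good (fa g) T MG M (cP g H) Lt.y u := by
  unfold dp_y_284 at h
  rcases brec_true h with h | h
  · exact dp_y_252_s hinv hr hH j u hu h
  · exact dp_y_283_s hinv hr hH j u hu h
theorem dp_y_285_s (hinv : ∀ x, g (inv x) = (g x)⁻¹) (hr : ∀ r ∈ rels, (r.map g).prod = 1) (hH : ∀ r ∈ subs, (r.map g).prod ∈ H)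
    (j u : ℕ) (hu : u < M) (h : dp_y_285 j u = true) : Good (fa g) T MG M (cP g H) Lt.y u := by
  unfold dp_y_285 at h
  rcases brec_true h with h | h
  · exact dp_y_246_s hinv hr hH j u hu h
  · exact dp_y_284_s hinv hr hH j u hu h
theorem dp_y_286_s (hinv : ∀ x, g (inv x) = (g x)⁻¹) (hr : ∀ r ∈ rels, (r.map g).prod = 1) (hH : ∀ r ∈ subs, (r.map g).prod ∈ H)
    (j u : ℕ) (hu : u < M) (h : dp_y_286 j u = true) : Good (fa g) T MG M (cP g H) Lt.y u := by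
  unfold dp_y_286 at h
  rcases brec_true h with h | h
  · exact dp_y_241_s hinv hr hH j u hu h
  · exact dp_y_285_s hinv hr hH j u hu h
theorem dp_y_287_s (hinv : ∀ x, g (inv x) = (g x)⁻¹) (hr : ∀ r ∈ rels, (r.map g).prod = 1) (hH : ∀ r ∈ subs, (r.map g).prod ∈ H)
    (j u : ℕ) (hu : u < M) (h : dp_y_287 j u = true) : Good (fa g) T MG M (cP g H) Lt.y u := by
  unfold dp_y_287 at h
  rcases brec_true h with h | h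
  · exact dp_y_232_s hinv hr hH j u hu h
  · exact dp_y_286_s hinv hr hH j u hu h
theorem dp_y_288_s (hinv : ∀ x, g (inv x) = (g x)⁻¹) (hr : ∀ r ∈ rels, (r.map g).prod = 1) (hH : ∀ r ∈ subs, (r.map g).prod ∈ H)
    (j u : ℕ) (hu : u < M) (h : dp_y_288 j u = true) : Good (fa g) T MG M (cP g H) Lt.y u := by
  unfold dp_y_288 at h
  rcases brec_true h with h | h
  · exact dp_y_218_s hinv hr hH j u hu h
  · exact dp_y_287_s hinv hr hH j u hu h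
theorem dp_y_289_s (hinv : ∀ x, g (inv x) = (g x)⁻¹) (hr : ∀ r ∈ rels, (r.map g).prod = 1) (hH : ∀ r ∈ subs, (r.map g).prod ∈ H)
    (j u : ℕ) (hu : u < M) (h : dp_y_289 j u = true) : Good (fa g) T MG M (cP g H) Lt.y u := by
  unfold dp_y_289 at h
  rcases brec_true h with h | h
  · exact dp_y_197_s hinv hr hH j u hu h
  · exact dp_y_288_s hinv hr hH j u hu h
theorem dp_y_290_s (hinv : ∀ x, g (inv x) = (g x)⁻¹) (hr : ∀ r ∈ rels, (r.map g).prod = 1) (hH : ∀ r ∈ subs, (r.map g).prod ∈ H)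
    (j u : ℕ) (hu : u < M) (h : dp_y_290 j u = true) : Good (fa g) T MG M (cP g H) Lt.y u := by
  unfold dp_y_290 at h
  rcases brec_true h with h | h
  · exact dp_y_167_s hinv hr hH j u hu h
  · exact dp_y_289_s hinv hr hH j u hu h
theorem dp_y_291_s (hinv : ∀ x, g (inv x) = (g x)⁻¹) (hr : ∀ r ∈ rels, (r.map g).prod = 1) (hH : ∀ r ∈ subs, (r.map g).prod ∈ H)
    (j u : ℕ) (hu : u < M) (h : dp_y_291 j u = true) : Good (fa g) T MG M (cP g H) Lt.y u := by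
  unfold dp_y_291 at h
  rcases brec_true h with h | h
  · exact dp_y_126_s hinv hr hH j u hu h
  · exact dp_y_290_s hinv hr hH j u hu h
theorem dp_y_292_s (hinv : ∀ x, g (inv x) = (g x)⁻¹) (hr : ∀ r ∈ rels, (r.map g).prod = 1) (hH : ∀ r ∈ subs, (r.map g).prod ∈ H)
    (j u : ℕ) (hu : u < M) (h : dp_y_292 j u = true) : Good (fa g) T MG M (cP g H) Lt.y u := by
  unfold dp_y_292 at h
  rcases brec_true h with h | h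
  · exact dp_y_76_s hinv hr hH j u hu h
  · exact dp_y_291_s hinv hr hH j u hu h
theorem dp_y_293_s (hinv : ∀ x, g (inv x) = (g x)⁻¹) (hr : ∀ r ∈ rels, (r.map g).prod = 1) (hH : ∀ r ∈ subs, (r.map g).prod ∈ H)
    (j u : ℕ) (hu : u < M) (h : dp_y_293 j u = true) : Good (fa g) T MG M (cP g H) Lt.y u := by
  unfold dp_y_293 at h
  rcases brec_true h with h | h
  · exact dp_y_27_s hinv hr hH j u hu h
  · exact dp_y_292_s hinv hr hH j u hu h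
theorem dp_y_294_s (hinv : ∀ x, g (inv x) = (g x)⁻¹) (hr : ∀ r ∈ rels, (r.map g).prod = 1) (hH : ∀ r ∈ subs, (r.map g).prod ∈ H)
    (j u : ℕ) (hu : u < M) (h : dp_y_294 j u = true) : Good (fa g) T MG M (cP g H) Lt.y u := by
  unfold dp_y_294 at h
  rcases brec_true h with h | h
  · exact dp_y_8_s hinv hr hH j u hu h
  · exact dp_y_293_s hinv hr hH j u hu h
theorem dp_y_295_s (hinv : ∀ x, g (inv x) = (g x)⁻¹) (hr : ∀ r ∈ rels, (r.map g).prod = 1) (hH : ∀ r ∈ subs, (r.map g).prod ∈ H)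
    (j u : ℕ) (hu : u < M) (h : dp_y_295 j u = true) : Good (fa g) T MG M (cP g H) Lt.y u := by
  unfold dp_y_295 at h
  rcases brec_true h with h | h
  · exact dp_y_0_s hinv hr hH j u hu h
  · exact dp_y_294_s hinv hr hH j u hu h
theorem dp_y_296_s (hinv : ∀ x, g (inv x) = (g x)⁻¹) (hr : ∀ r ∈ rels, (r.map g).prod = 1) (hH : ∀ r ∈ subs, (r.map g).prod ∈ H)
    (j u : ℕ) (hu : u < M) (h : dp_y_296 j u = true) : Good (fa g) T MG M (cP g H) Lt.y u := by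
  unfold dp_y_296 at h
  rcases brec_true h with h | h
  · exact lF3_good (T := T) (x := Lt.y) (by decide) .v .yi .v (H9.TCY.hole_at hinv hr 6 3 false (by decide +kernel)) h
  · exact dp_y_295_s hinv hr hH j u hu h
theorem snd_y (hinv : ∀ x, g (inv x) = (g x)⁻¹) (hr : ∀ r ∈ rels, (r.map g).prod = 1) (hH : ∀ r ∈ subs, (r.map g).prod ∈ H)
    (j u : ℕ) (hu : u < M) (h : disp_y j u = true) : Good (fa g) T MG M (cP g H) Lt.y u := by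
  unfold disp_y at h
  rcases brec_true h with h | h
  · rcases brec_true h with h | h
    · exact lF1_good (T := T) (x := Lt.y) (by decide) .yi (H9.TCY.hole_at hinv hr 50 1 false (by decide +kernel)) h
    · exact lDef_good (T := T) (x := Lt.y) (by decide) rfl h
  · rcases brec_true h with h | h
    · exact lPar_good (T := T) (x := Lt.y) (x' := Lt.yi) (by decide) rfl (inv_rel hinv _ _ rfl) h
    · exact dp_y_296_s hinv hr hH j u hu h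
theorem snc_y (hinv : ∀ x, g (inv x) = (g x)⁻¹) (hr : ∀ r ∈ rels, (r.map g).prod = 1) (hH : ∀ r ∈ subs, (r.map g).prod ∈ H)
    (j u : ℕ) (hu : u < M) (h : chk_y j u = true) : (T Lt.y u < A ∧ Good (fa g) T MG M (cP g H) Lt.y u) ∨ (A ≤ T Lt.y u ∧ MG u < A) := by
  unfold chk_y at h
  cases hb : Nat.ble A (T_y u) with
  | true => rw [hb] at h; exact Or.inr ⟨le_of_ble hb, le_of_ble h⟩
  | false => rw [hb] at h; exact Or.inl ⟨lt_of_ble_false hb, snd_y hinv hr hH j u hu h⟩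
end
end H9.HN.TCHN
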